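import Cfsg.Agent.Lib.SuzOutW
import Cfsg.Agent.Lib.PresBridge
import Cfsg.Agent.TcData.Suz.Common

/-!
# `Out` of the Suzuki group: the presentation
-/

set_option autoImplicit false
set_option maxRecDepth 100000

namespace Cfsg.Agent.Lib.SuzOutP

noncomputable section

open Cfsg.Agent.Lib.PermChain Cfsg.Agent.Lib.ProgChain Cfsg.Agent.Lib.ProgBits Cfsg.Agent.Lib.SparseDfs
  Cfsg.Agent.Lib.SparseDfs2 Cfsg.Agent.Lib.SparseDfs3 Cfsg.Agent.Lib.SuzPTab Cfsg.Agent.Lib.SuzPMain
  Cfsg.Agent.Lib.SuzOutL Cfsg.Agent.Lib.SuzOutT Cfsg.Agent.Lib.SuzOutW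
open Cfsg.Spor Cfsg.Spor.Suz Cfsg.Agent.TcData.Suz

/-- the generators as words in the letters -/
def wA : Cfsg.Spor.Suz.Gen → List ℕ
  | .a => [121, 97, 157, 146, 169, 171, 176, 179, 179]
  | .b => [152, 140, 160, 176, 180, 182]
  | .c => [138, 136, 167, 175, 179, 179]
  | .d => [116, 124, 157, 143, 162, 173, 171, 176, 180]
  | .e => [133, 105, 140, 162, 173, 171, 176, 179, 179, 182]
  | .f => [112, 108, 92, 153, 145, 166, 160, 171, 171, 179, 179, 180, 182]
  | .g => [16, 13, 96, 102, 153, 139, 170, 159, 171, 180, 182]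

/-- the images of the generators by the outer automorphism -/
def wB : Cfsg.Spor.Suz.Gen → List ℕ
  | .a => [125, 97, 137, 168, 163, 173, 179, 182]
  | .b => [133, 93, 145, 138, 167, 182]
  | .c => [104, 103, 140, 136, 162, 175, 176, 179, 179]
  | .d => [123, 128, 137, 137, 168, 158, 171, 179, 179, 180, 182]
  | .e => [94, 92, 147, 136, 169, 176, 180, 182]
  | .f => [103, 92, 156, 137, 166, 171, 171, 179, 182]
  | .g => [20, 4, 114, 119, 136, 143, 163, 159, 171, 179]

/-- `x` in terms of the generators -/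
def vx : List Cfsg.Spor.Suz.Gen := [.e, .d, .c, .b, .d, .c, .b, .a, .b, .f, .b, .c, .d, .e, .d, .c, .d, .b, .c, .d, .b, .c, .b, .a]
/-- `f` in terms of the generators -/
def vf : List Cfsg.Spor.Suz.Gen := [.b, .d, .e, .f, .b, .c, .d, .c, .b, .a, .b, .c, .d, .e, .c, .d, .c, .b, .f, .c, .d, .e, .a, .b]

theorem invA : ∀ x, eqW (wA x ++ wA x) [] = true := by intro x; cases x <;> decide +kernel
theorem invB : ∀ x, eqW (wB x ++ wB x) [] = true := by intro x; cases x <;> decide +kernel
theorem cA : ∀ x ∈ nodesL, ∀ y ∈ nodesL,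
    eqW (PresBridge.expand wA ((FreeGroup.of x * FreeGroup.of y) ^ coxLabel edges x y).toWord) [] = true := by decide +kernel
theorem cB : ∀ x ∈ nodesL, ∀ y ∈ nodesL,
    eqW (PresBridge.expand wB ((FreeGroup.of x * FreeGroup.of y) ^ coxLabel edges x y).toWord) [] = true := by decide +kernel
theorem eA : ∀ r ∈ extra, eqW (PresBridge.expand wA r.toWord) [] = true := by decide +kernel
theorem eB : ∀ r ∈ extra, eqW (PresBridge.expand wB r.toWord) [] = true := by decide +kernel

theorem vxA : eqW (vx.flatMap wA) wx = true := by decide +kernel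
theorem vfA : eqW (vf.flatMap wA) wf = true := by decide +kernel
theorem vxB : eqW (vx.flatMap wB) (List.flatten (List.replicate 2 wx)) = true := by decide +kernel
theorem vfB : eqW (vf.flatMap wB) wf = true := by decide +kernel

end

end Cfsg.Agent.Lib.SuzOutP
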