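import Cfsg.Agent.Lib.SuzOutS
import Cfsg.Agent.Lib.SuzOutP
import Cfsg.Agent.TcData.Suz.Fin
import Cfsg.Agent.Lib.OutNorm2

/-!
# `Out` of the Suzuki group has order 2
-/

set_option autoImplicit false
set_option maxRecDepth 100000

namespace Cfsg.Agent.Lib.SuzOutM

open Cfsg Cfsg.Agent.Lib.PermChain Cfsg.Agent.Lib.ProgChain Cfsg.Agent.Lib.ProgBits Cfsg.Agent.Lib.SparseDfs
  Cfsg.Agent.Lib.SparseDfs2 Cfsg.Agent.Lib.SparseDfs3 Cfsg.Agent.Lib.SuzPTab Cfsg.Agent.Lib.SuzPMain
  Cfsg.Agent.Lib.SuzOutL Cfsg.Agent.Lib.SuzOutT Cfsg.Agent.Lib.SuzOutW Cfsg.Agent.Lib.SuzOutS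
  Cfsg.Agent.Lib.SuzOutP
  Cfsg.Agent.Lib.OutNorm Cfsg.Agent.Lib.OutNorm2

theorem rep_x1 : RepW WW MM (prodW g wx1) x1T := rep_of_tabW chk_x1T
theorem rep_f2 : RepW WW MM (prodW g wf2) f2T := rep_of_tabW chk_f2T
theorem rep_f22 : RepW WW MM (prodW g (wf2 ++ wf2)) f22T := rep_of_tabW chk_f22T
theorem rep_f23 : RepW WW MM (prodW g (wf2 ++ wf2 ++ wf2)) f23T := rep_of_tabW chk_f23T
theorem rep_x2 : RepW WW MM (prodW g wx2) x2T := rep_of_tabW chk_x2T
theorem rep_x2e : RepW WW MM (prodW g (wx2 ++ wx2)) x2eT := rep_of_tabW chk_x2eT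
theorem rep_y2 : RepW WW MM (prodW g wy2) y2T := rep_of_tabW chk_y2T

/-- a fixed point of a table is on the list -/
theorem fix_of_comm {y X₁ X₂ : Equiv.Perm (Fin 1782)} (hc : y * X₁ = X₂ * y) {b : Fin 1782} (hb : X₁ b = b) :
    X₂ (y b) = y b := by
  have h1 := congrArg (fun z : Equiv.Perm (Fin 1782) => z b) hc
  simp only [Equiv.Perm.mul_apply] at h1
  rw [hb] at h1
  exact h1.symm

/-- conjugation of a word -/
theorem conj_of_chk {a b c : List ℕ} (h : eqW (c ++ a) (b ++ c) = true) :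
    prodW g c * prodW g a = prodW g b * prodW g c := by
  have := eq_of_eqW h
  simpa [prodW_append] using this

/-! ### the centralizer of `x` -/

theorem x1_eq : prodW g wx1 = prodW g wc1 * prodW g wx * (prodW g wc1)⁻¹ := by
  rw [conj_of_chk c1_x, mul_inv_cancel_right]

theorem x1_fix0 : prodW g wx1 0 = 0 := by
  apply Fin.ext
  rw [rep_x1]
  decide +kernel

theorem cent_x {y : Equiv.Perm (Fin 1782)} (hy : y ∈ GG) (hc : y * prodW g wx = prodW g wx * y) :
    ∃ k : ℕ, y = prodW g wx ^ k := by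
  set c := prodW g wc1 with hcd
  set y' := c * y * c⁻¹ with hy'd
  have hy' : y' ∈ GG := GG.mul_mem (GG.mul_mem (mem_word _) hy) (GG.inv_mem (mem_word _))
  have hc' : y' * prodW g wx1 = prodW g wx1 * y' := by
    rw [x1_eq, ← hcd, hy'd]
    calc c * y * c⁻¹ * (c * prodW g wx * c⁻¹) = c * (y * prodW g wx) * c⁻¹ := by group
      _ = c * (prodW g wx * y) * c⁻¹ := by rw [hc]
      _ = _ := by group
  have h0 : y' 0 = 0 := by
    have h1 := fix_of_comm hc' x1_fix0
    have h2 := fix_x1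
    simp only [List.all_eq_true, List.mem_range, Bool.or_eq_true, Bool.not_eq_true'] at h2
    rcases h2 (y' 0).val (y' 0).isLt with h3 | h3
    · rw [← rep_x1, h1] at h3
      simp at h3
    · exact Fin.ext (Nat.eq_of_beq_eq_true h3)
  have hH : y' ∈ HH0 := by
    show y' ∈ grp g 92 2
    rw [lev0.2.stab]
    exact ⟨hy', h0⟩
  have hsat : ∀ eqs ∈ Ex, ∀ e ∈ eqs, SatE WW MM y' e := by
    intro eqs he e hee
    obtain ⟨h1, h2⟩ := chkEx eqs he e hee
    obtain ⟨t, p, q⟩ := e
    simp only at h1 h2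
    subst h1
    exact satE_of_comm hc' (fun hp hq => Fin.ext (by rw [rep_x1]; exact h2)) rep_x1
  obtain ⟨L, hL, ht⟩ := dfs_H chainH testX okx hH hsat dX
  have hb := eqB_of hbase hL rep_x1 rep_x1 hc'
  simp only [testX, hb, Bool.not_true, Bool.false_or, List.any_eq_true, powsX, List.mem_map, List.mem_range] at ht
  obtain ⟨A, ⟨k, -, rfl⟩, hag⟩ := ht
  have h1 : y' = prodW g wx1 ^ k :=
    eq_of_agree' hy' (GG.pow_mem (mem_word _) k) hL (repL_pow rep_x1 k) hag
  refine ⟨k, ?_⟩
  rw [x1_eq, ← hcd, conj_pow] at h1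
  calc y = c⁻¹ * (c * y * c⁻¹) * c := by group
    _ = c⁻¹ * (c * prodW g wx ^ k * c⁻¹) * c := by rw [← hy'd, h1]
    _ = prodW g wx ^ k := by group

/-! ### the frame of `f` -/

theorem f2_eq : prodW g wf2 = prodW g wc2 * prodW g wf * (prodW g wc2)⁻¹ := by
  rw [conj_of_chk c2_f, mul_inv_cancel_right]
theorem x2_eq : prodW g wx2 = prodW g wc2 * prodW g wx * (prodW g wc2)⁻¹ := by
  rw [conj_of_chk c2_x, mul_inv_cancel_right]
theorem y2_eq : prodW g wy2 = prodW g wc2 * prodW g wy * (prodW g wc2)⁻¹ := by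
  rw [conj_of_chk c2_y, mul_inv_cancel_right]

theorem f2_fix0 : prodW g wf2 0 = 0 := by
  apply Fin.ext
  rw [rep_f2]
  decide +kernel

theorem f22_mul : prodW g (wf2 ++ wf2) = prodW g wf2 * prodW g wf2 := prodW_append _ _ _
theorem f23_mul : prodW g (wf2 ++ wf2 ++ wf2) = prodW g wf2 * prodW g wf2 * prodW g wf2 := by
  simp only [prodW_append]
theorem x2e_mul : prodW g (wx2 ++ wx2) = prodW g wx2 ^ 2 := by
  simp only [prodW_append]
  rw [pow_two]

/-- the possible images of `0` -/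
theorem img0_f2 {y : Equiv.Perm (Fin 1782)} (hc : y * prodW g wf2 = prodW g wf2 * y) :
    y 0 = 0 ∨ (y 0).val ∈ Uq.map Prod.fst := by
  have h1 := fix_of_comm hc f2_fix0
  have h2 := fix_f2
  simp only [List.all_eq_true, List.mem_range, Bool.or_eq_true, Bool.not_eq_true'] at h2
  rcases h2 (y 0).val (y 0).isLt with (h3 | h3) | h3
  · rw [← rep_f2, h1] at h3
    simp at h3
  · exact Or.inl (Fin.ext (Nat.eq_of_beq_eq_true h3))
  · exact Or.inr (by simpa using h3)

/-- the starts of the search -/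
theorem dfs_starts {y : Equiv.Perm (Fin 1782)} (hy : y ∈ GG) (test : List ℕ → Bool) {Es : List (List Eqn)}
    (hok : eqsOK [] LsH Es = true) (hsat : ∀ eqs ∈ Es, ∀ e ∈ eqs, SatE WW MM y e)
    (h0 : y 0 = 0 ∨ (y 0).val ∈ Uq.map Prod.fst)
    (hd0 : dfsE WW MM test LsH Es [] = true) (hd1 : Uq.all (fun q => dfsE WW MM test LsH Es [q.2]) = true) :
    ∃ L, RepL WW MM y L ∧ test L = true := by
  rcases h0 with h | h
  · apply dfs_H chainH test hok _ hsat hd0
    show y ∈ grp g 92 2
    rw [lev0.2.stab]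
    exact ⟨hy, h⟩
  · obtain ⟨q, hq, hq2⟩ := List.mem_map.mp h
    have hU := (List.all_eq_true.mp chkUq) q hq
    have hT : RepW WW MM (prodW g (tw0 (y 0).val)) q.2 := by
      rw [← hq2]
      exact rep_of_tabW hU
    exact dfs_top lev0.2 chainH test hok hy hsat hT ((List.all_eq_true.mp hd1) q hq)

/-- elements commuting with the frame of `f` satisfy the equations -/
theorem sat_f {d' : Equiv.Perm (Fin 1782)} (hc1 : d' * prodW g wf2 = prodW g wf2 * d') :
    ∀ eqs ∈ Ef, ∀ e ∈ eqs, SatE WW MM d' e := by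
  have hc22 : d' * prodW g (wf2 ++ wf2) = prodW g (wf2 ++ wf2) * d' := by
    rw [f22_mul, ← mul_assoc, hc1, mul_assoc, hc1, mul_assoc]
  have hc23 : d' * prodW g (wf2 ++ wf2 ++ wf2) = prodW g (wf2 ++ wf2 ++ wf2) * d' := by
    rw [f23_mul, ← f22_mul, ← mul_assoc, hc22, mul_assoc, hc1, mul_assoc]
  intro eqs he e hee
  obtain ⟨h3, h4⟩ := chkEf eqs he e hee
  obtain ⟨t, p, q⟩ := e
  simp only at h3 h4
  rcases h3 with rfl | rfl | rfl
  · exact satE_of_comm hc1 (fun hp hq => Fin.ext (by rw [rep_f2]; exact h4)) rep_f2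
  · exact satE_of_comm hc22 (fun hp hq => Fin.ext (by rw [rep_f22]; exact h4)) rep_f22
  · exact satE_of_comm hc23 (fun hp hq => Fin.ext (by rw [rep_f23]; exact h4)) rep_f23

/-- no element commutes with `f` and multiplies `x` by the exponent -/
theorem no_twist {d : Equiv.Perm (Fin 1782)} (hd : d ∈ GG) (h1 : d * prodW g wf = prodW g wf * d)
    (h2 : d * prodW g wx = prodW g wx ^ 2 * d) : False := by
  set c := prodW g wc2 with hcd
  set d' := c * d * c⁻¹ with hd'd
  have hd' : d' ∈ GG := GG.mul_mem (GG.mul_mem (mem_word _) hd) (GG.inv_mem (mem_word _))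
  have hc1 : d' * prodW g wf2 = prodW g wf2 * d' := by
    rw [f2_eq, ← hcd, hd'd]
    calc c * d * c⁻¹ * (c * prodW g wf * c⁻¹) = c * (d * prodW g wf) * c⁻¹ := by group
      _ = c * (prodW g wf * d) * c⁻¹ := by rw [h1]
      _ = _ := by group
  have hc2 : d' * prodW g wx2 = prodW g (wx2 ++ wx2) * d' := by
    rw [x2e_mul, x2_eq, ← hcd, hd'd, conj_pow]
    calc c * d * c⁻¹ * (c * prodW g wx * c⁻¹) = c * (d * prodW g wx) * c⁻¹ := by group
      _ = c * (prodW g wx ^ 2 * d) * c⁻¹ := by rw [h2]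
      _ = _ := by group
  obtain ⟨L, hL, ht⟩ := dfs_starts hd' testT okf (sat_f hc1) (img0_f2 hc1) dT0 dT1
  have hb1 := eqB_of hbase hL rep_f2 rep_f2 hc1
  have hb2 := eqB_of hbase hL rep_x2 rep_x2e hc2
  simp [testT, hb1, hb2] at ht

/-! ### the rigidity -/

/-- the element `x` of the group -/
noncomputable def xG : GG := ⟨prodW g wx, mem_word _⟩
/-- the element `f` of the group -/
noncomputable def fG : GG := ⟨prodW g wf, mem_word _⟩
/-- the element `y` of the group -/
noncomputable def yG : GG := ⟨prodW g wy, mem_word _⟩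

theorem wS_mem {F : Subgroup (Equiv.Perm (Fin 1782))} (hx : prodW g wx ∈ F) (hf : prodW g wf ∈ F) (hy : prodW g wy ∈ F) (e : ℕ) :
    prodW g (wS e) ∈ F := by
  have hxi : prodW g wxi = (prodW g wx)⁻¹ := by
    have h1 := eq_of_eqW xi_chk
    rw [prodW_append] at h1
    exact eq_inv_of_mul_eq_one_left (by simpa [prodW] using h1)
  have hfi : prodW g wfi = (prodW g wf)⁻¹ := by
    have h1 := eq_of_eqW fi_chk
    rw [prodW_append] at h1
    exact eq_inv_of_mul_eq_one_left (by simpa [prodW] using h1)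
  have h5 : e = 0 ∨ e = 1 ∨ e = 2 ∨ e = 3 ∨ e = 4 ∨ 5 ≤ e := by omega
  rcases h5 with rfl | rfl | rfl | rfl | rfl | h5
  · exact hx
  · show prodW g wxi ∈ F
    rw [hxi]; exact F.inv_mem hx
  · exact hf
  · show prodW g wfi ∈ F
    rw [hfi]; exact F.inv_mem hf
  · exact hy
  · have : wS e = [] := by
      simp only [wS]
      exact List.getD_eq_default _ _ (by simpa using h5)
    rw [this]
    exact F.one_mem

theorem G_le {F : Subgroup (Equiv.Perm (Fin 1782))} (hx : prodW g wx ∈ F) (hf : prodW g wf ∈ F) (hy : prodW g wy ∈ F) :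
    GG ≤ F := by
  have hw : ∀ w : List ℕ, prodW g (w.flatMap wS) ∈ F := by
    intro w
    rw [← prodG_flatMap]
    apply Subgroup.list_prod_mem
    intro a ha
    obtain ⟨e, -, rfl⟩ := List.mem_map.mp ha
    exact wS_mem hx hf hy e
  unfold GG grp genOf
  rw [Subgroup.closure_le]
  rintro z ⟨e, he, rfl⟩
  have he2 : e < 2 := by
    have := List.mem_range'_1.mp he
    omega
  have h0 : g 0 = prodW g (wl0.flatMap wS) := by
    rw [eq_of_eqW hl0]; simp [prodW]
  have h1 : g 1 = prodW g (wl1.flatMap wS) := by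
    rw [eq_of_eqW hl1]; simp [prodW]
  interval_cases e
  · rw [h0]; exact hw _
  · rw [h1]; exact hw _

theorem hgen (β : MulAut GG) (h1 : β xG = xG) (h2 : β fG = fG) (h3 : β yG = yG) : β = 1 := by
  let F : Subgroup GG := MonoidHom.eqLocus β.toMonoidHom (MonoidHom.id GG)
  have hF : GG ≤ F.map GG.subtype := by
    apply G_le
    · exact ⟨xG, h1, rfl⟩
    · exact ⟨fG, h2, rfl⟩
    · exact ⟨yG, h3, rfl⟩
  refine MulEquiv.ext fun z => ?_
  obtain ⟨z', hz', hzz⟩ := hF z.2
  have h4 : z' = z := Subtype.ext hzz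
  subst h4
  exact hz'

theorem fix_y (β : MulAut GG) (h1 : β xG = xG) (h2 : β fG = fG) : β yG = yG := by
  set z := β yG with hz
  -- the relations of the three elements
  have hP : ∀ r ∈ Rs, prodG (sel3 (prodW g wx) (prodW g wf) (prodW g wy)) r = 1 := by
    intro r hr
    have h3 := eq_of_eqW ((List.all_eq_true.mp rels_y) r hr)
    rw [← prodG_flatMap] at h3
    have h4 : (fun e => prodW g (sel3 wx wf wy e)) = sel3 (prodW g wx) (prodW g wf) (prodW g wy) := by
      funext e
      exact sel3_map _ _ _ _ _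
    rw [h4] at h3
    simpa [prodW] using h3
  have hG : ∀ r ∈ Rs, prodG (sel3 xG fG yG) r = 1 := by
    intro r hr
    apply Subtype.ext
    have h3 := map_prodG GG.subtype (sel3 xG fG yG) r
    have h4 : (fun e => GG.subtype (sel3 xG fG yG e)) = sel3 (prodW g wx) (prodW g wf) (prodW g wy) := by
      funext e
      exact sel3_map _ _ _ _ _
    rw [h4, hP r hr] at h3
    exact h3
  have hZ : ∀ r ∈ Rs, prodG (sel3 xG fG z) r = 1 := by
    intro r hr
    have h3 := map_prodG β.toMonoidHom (sel3 xG fG yG) r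
    have h4 : (fun e => β.toMonoidHom (sel3 xG fG yG e)) = sel3 xG fG z := by
      funext e
      have := sel3_map β.toMonoidHom xG fG yG e
      rw [this]
      show sel3 (β xG) (β fG) (β yG) e = _
      rw [h1, h2]
    rw [h4, hG r hr, map_one] at h3
    exact h3.symm
  set Z : Equiv.Perm (Fin 1782) := (z : Equiv.Perm (Fin 1782)) with hZd
  have hZmem : Z ∈ GG := z.2
  have hZP : ∀ r ∈ Rs, prodG (sel3 (prodW g wx) (prodW g wf) Z) r = 1 := by
    intro r hr
    have h3 := map_prodG GG.subtype (sel3 xG fG z) r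
    have h4 : (fun e => GG.subtype (sel3 xG fG z e)) = sel3 (prodW g wx) (prodW g wf) Z := by
      funext e
      exact sel3_map _ _ _ _ _
    rw [h4, hZ r hr, map_one] at h3
    exact h3.symm
  -- commutation with `f`
  have hff : Z * prodW g wf = prodW g wf * Z := by
    have h3 : yG * fG = fG * yG := by
      apply Subtype.ext
      have h4 := eq_of_eqW y_f
      simp only [PermChain.prodW_append] at h4
      exact h4
    have h4 := congrArg β h3
    simp only [map_mul, h2] at h4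
    exact congrArg Subtype.val h4
  -- the frame
  set c := prodW g wc2 with hcd
  set z' := c * Z * c⁻¹ with hz'd
  have hz' : z' ∈ GG := GG.mul_mem (GG.mul_mem (mem_word _) hZmem) (GG.inv_mem (mem_word _))
  have hc1 : z' * prodW g wf2 = prodW g wf2 * z' := by
    rw [f2_eq, ← hcd, hz'd]
    calc c * Z * c⁻¹ * (c * prodW g wf * c⁻¹)
        = c * (Z * prodW g wf) * c⁻¹ := by group
      _ = c * (prodW g wf * Z) * c⁻¹ := by rw [hff]
      _ = _ := by group
  obtain ⟨L, hL, ht⟩ := dfs_starts hz' testY okf (sat_f hc1) (img0_f2 hc1) dY0 dY1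
  have hb := eqB_of hbase hL rep_f2 rep_f2 hc1
  -- the relations in the frame
  have hrel : Rs.all (fun R' => baseL.all fun b => Nat.beq (evalLet WW MM (sel3 [x2T] [f2T] L) R' b) b) = true := by
    rw [List.all_eq_true]
    intro r hr
    have hS : ∀ e, RepL WW MM (sel3 (prodW g wx2) (prodW g wf2) z' e) (sel3 [x2T] [f2T] L e) := by
      intro e
      unfold sel3
      split_ifs
      · exact repL_of_repW rep_x2
      · exact repL_of_repW rep_f2
      · exact hL
    refine relsOK_of hS hbase ?_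
    have h3 : (fun e => c * sel3 (prodW g wx) (prodW g wf) Z e * c⁻¹) = sel3 (prodW g wx2) (prodW g wf2) z' := by
      funext e
      unfold sel3
      split_ifs
      · rw [x2_eq]
      · rw [f2_eq]
      · rfl
    have h4 := prodG_conj c (sel3 (prodW g wx) (prodW g wf) Z) r
    rw [h3, hZP r hr] at h4
    have h5 : prodG (sel3 (prodW g wx2) (prodW g wf2) z') r = 1 := by simpa using h4
    exact h5
  simp only [testY, hb, hrel, Bool.not_true, Bool.false_or] at ht
  have h3 : z' = prodW g wy2 := eq_of_agree' hz' (mem_word _) hL (repL_of_repW rep_y2) ht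
  apply Subtype.ext
  show Z = prodW g wy
  rw [y2_eq, ← hcd, hz'd] at h3
  have h4 : c * Z = c * prodW g wy := by
    have h5 := congrArg (· * c) h3
    simpa using h5
  exact mul_left_cancel h4

/-! ### the normal form -/

theorem prodW_rep (w : List ℕ) (k : ℕ) : prodW g (List.flatten (List.replicate k w)) = prodW g w ^ k := by
  induction k with
  | zero => simp [prodW]
  | succ k ih => rw [List.replicate_succ, List.flatten_cons, PermChain.prodW_append, ih, pow_succ']

theorem x_pow : prodW g wx ^ 13 = 1 := by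
  rw [← prodW_rep, eq_of_eqW x_ord]
  rfl

theorem x_ne : prodW g wx ≠ 1 := ne_one_of_moved rep_lT x_moved.1 135 (by norm_num) x_moved.2

theorem f_x_P : prodW g wf * prodW g wx * (prodW g wf)⁻¹ = prodW g wx ^ 4 := by
  rw [mul_inv_eq_iff_eq_mul]
  have h1 := eq_of_eqW f_x
  simp only [PermChain.prodW_append] at h1
  rw [h1, prodW_rep]

theorem hnf (α : MulAut GG) : ∃ c : GG, ((MulAut.conj c * α) xG = xG ∨ (MulAut.conj c * α) xG = xG ^ 2) ∧
    (MulAut.conj c * α) fG = fG := by
  have : Fact (Nat.Prime 13) := ⟨by norm_num⟩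
  obtain ⟨c, e, he, h1, h2⟩ := normal_form2 (p := 13) (a := 4) (b := 9) [1, 2] (x := xG) (f := fG) (by decide)
    (by rw [cardH0]; norm_num)
    (orderOf_eq_prime (Subtype.ext x_pow) fun h => x_ne (congrArg Subtype.val h))
    (Subtype.ext f_x_P)
    (by
      intro k hk
      have harith : ∀ r : Fin 13, r.val ≠ 0 → ∃ j : Fin 6, ∃ e ∈ [1, 2], (r.val * 4 ^ j.val) % 13 = e % 13 := by
        decide
      have hk' : k % 13 ≠ 0 := fun h => hk (Nat.dvd_of_mod_eq_zero h)
      obtain ⟨j, e, he, hj⟩ := harith ⟨k % 13, Nat.mod_lt _ (by norm_num)⟩ hk'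
      simp only at hj
      exact ⟨j.val, e, he, ((Nat.mod_modEq k 13).mul_right _).symm.trans hj⟩)
    (by decide)
    (by
      intro y hy
      obtain ⟨k, hk⟩ := cent_x y.2 (congrArg Subtype.val hy)
      exact ⟨k, Subtype.ext hk⟩)
    α
  refine ⟨c, ?_, h2⟩
  simp only [List.mem_cons, List.not_mem_nil, or_false] at he
  rcases he with rfl | rfl
  · left
    simpa using h1
  · right
    exact h1

/-! ### the outer automorphism -/

section bridge

open Cfsg.Spor Cfsg.Spor.Suz Cfsg.Agent.TcData.Suz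

theorem simpleSuz : IsSimpleGroup Cfsg.Spor.Suz := Cfsg.Agent.TcData.Suz.Fin.final.1
theorem cardSuz : Nat.card Cfsg.Spor.Suz = 448345497600 := Cfsg.Agent.TcData.Suz.Fin.final.2

/-- an element of the presented group by a list of generators -/
noncomputable def elt (v : List Cfsg.Spor.Suz.Gen) : Cfsg.Spor.Suz := (v.map PresentedGroup.of).prod

theorem map_elt (φ : Cfsg.Spor.Suz →* Equiv.Perm (Fin 1782)) (w : Cfsg.Spor.Suz.Gen → List ℕ)
    (h : ∀ x, φ (PresentedGroup.of x) = prodW g (w x)) (v : List Cfsg.Spor.Suz.Gen) :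
    φ (elt v) = prodW g (v.flatMap w) := by
  induction v with
  | nil => simp [elt, prodW]
  | cons a v ih =>
    have h1 : elt (a :: v) = PresentedGroup.of a * elt v := by simp [elt]
    rw [h1, map_mul, ih, h, List.flatMap_cons, PermChain.prodW_append]

/-- the equivalence attached to a map of the generators -/
theorem exists_equiv (w : Cfsg.Spor.Suz.Gen → List ℕ)
    (hinv : ∀ x, eqW (w x ++ w x) [] = true)
    (hc : ∀ x ∈ nodesL, ∀ y ∈ nodesL,
      eqW (PresBridge.expand w ((FreeGroup.of x * FreeGroup.of y) ^ coxLabel edges x y).toWord) [] = true)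
    (he : ∀ r ∈ extra, eqW (PresBridge.expand w r.toWord) [] = true)
    {v : List Cfsg.Spor.Suz.Gen} {u : List ℕ} (hv : eqW (v.flatMap w) u = true) (hu : prodW g u ≠ 1) :
    ∃ ψ : Cfsg.Spor.Suz ≃* GG, ∀ (v' : List Cfsg.Spor.Suz.Gen), ((ψ (elt v') : GG) : Equiv.Perm (Fin 1782)) =
      prodW g (v'.flatMap w) := by
  obtain ⟨φ, hφ⟩ := PresBridge.exists_hom (edges := edges) (extra := extra) g w nodesL hnodes
    (fun x => one_of_eqW (hinv x)) (fun x hx y hy => one_of_eqW (hc x hx y hy)) (fun r hr => one_of_eqW (he r hr))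
  have hm : ∀ z, φ z ∈ GG := PresBridge.map_mem φ GG fun x => by
    rw [hφ]
    exact mem_word _
  let φ' : Cfsg.Spor.Suz →* GG := φ.codRestrict GG hm
  have hz : φ' (elt v) ≠ 1 := by
    intro h
    have h1 := congrArg Subtype.val h
    have h2 : φ (elt v) = 1 := h1
    rw [map_elt φ w hφ, eq_of_eqW hv] at h2
    exact hu h2
  have hb : Function.Bijective φ' := PresBridge.bijective_of_simple simpleSuz (by rw [cardH0, cardSuz]) φ' hz
  refine ⟨MulEquiv.ofBijective φ' hb, fun v' => ?_⟩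
  show φ (elt v') = _
  exact map_elt φ w hφ v'

theorem exists_sigma : ∃ σ : MulAut GG, σ xG = xG ^ 2 ∧ σ fG = fG := by
  obtain ⟨ψA, hA⟩ := exists_equiv wA invA cA eA vxA x_ne
  have hu3 : prodW g (List.flatten (List.replicate 2 wx)) ≠ 1 := by
    intro h
    rw [prodW_rep] at h
    have h2 : orderOf (prodW g wx) = 13 := by
      have : Fact (Nat.Prime 13) := ⟨by norm_num⟩
      exact orderOf_eq_prime x_pow x_ne
    have h3 := orderOf_dvd_of_pow_eq_one h
    rw [h2] at h3
    omega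
  obtain ⟨ψB, hB⟩ := exists_equiv wB invB cB eB vxB hu3
  have hA1 : ψA (elt vx) = xG := Subtype.ext ((hA vx).trans (eq_of_eqW vxA))
  have hA2 : ψA (elt vf) = fG := Subtype.ext ((hA vf).trans (eq_of_eqW vfA))
  have hA1' : ψA.symm xG = elt vx := by rw [← hA1, MulEquiv.symm_apply_apply]
  have hA2' : ψA.symm fG = elt vf := by rw [← hA2, MulEquiv.symm_apply_apply]
  refine ⟨ψA.symm.trans ψB, ?_, ?_⟩
  · show ψB (ψA.symm xG) = _
    rw [hA1']
    apply Subtype.ext
    rw [hB vx, eq_of_eqW vxB, prodW_rep]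
    rfl
  · show ψB (ψA.symm fG) = _
    rw [hA2']
    apply Subtype.ext
    rw [hB vf, eq_of_eqW vfB]
    rfl

end bridge

theorem sigma_notMem (σ : MulAut GG) (h1 : σ xG = xG ^ 2) (h2 : σ fG = fG) : σ ∉ Inn GG := by
  rintro ⟨c, rfl⟩
  simp only [MulAut.conj_apply] at h1 h2
  apply no_twist c.2
  · have h3 : (c : Equiv.Perm (Fin 1782)) * prodW g wf * (c : Equiv.Perm (Fin 1782))⁻¹ = prodW g wf :=
      congrArg Subtype.val h2
    rw [mul_inv_eq_iff_eq_mul] at h3
    exact h3
  · have h3 : (c : Equiv.Perm (Fin 1782)) * prodW g wx * (c : Equiv.Perm (Fin 1782))⁻¹ = prodW g wx ^ 2 :=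
      congrArg Subtype.val h1
    rw [mul_inv_eq_iff_eq_mul] at h3
    exact h3

/-- The order of `Out` of the group on 2058 points. -/
theorem card_out_G : Nat.card (Out GG) = 2 := by
  obtain ⟨σ, h1, h2⟩ := exists_sigma
  exact card_out_eq_two' hnf (fun β h3 h4 => hgen β h3 h4 (fix_y β h3 h4)) σ h1 h2 (sigma_notMem σ h1 h2)

/-- The order of `Out(He)`. -/
theorem card_out_Suz : Nat.card (Out Cfsg.Spor.Suz) = 2 := by
  obtain ⟨ψ, -⟩ := exists_equiv wA invA cA eA vxA x_ne
  rw [card_out_congr ψ]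
  exact card_out_G

end Cfsg.Agent.Lib.SuzOutM
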