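import Cfsg.Agent.Lib.SuzOutW

/-!
# `Out` of the Suzuki group: the searches
-/

set_option autoImplicit false
set_option maxRecDepth 100000

namespace Cfsg.Agent.Lib.SuzOutS

noncomputable section

open Cfsg.Agent.Lib.PermChain Cfsg.Agent.Lib.ProgChain Cfsg.Agent.Lib.ProgBits Cfsg.Agent.Lib.SparseDfs
  Cfsg.Agent.Lib.SparseDfs2 Cfsg.Agent.Lib.SparseDfs3 Cfsg.Agent.Lib.SuzPTab Cfsg.Agent.Lib.SuzPMain
  Cfsg.Agent.Lib.SuzOutL Cfsg.Agent.Lib.SuzOutT Cfsg.Agent.Lib.SuzOutW

theorem dX : dfsE WW MM testX LsH Ex [] = true := by decide +kernel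
theorem dT0 : dfsE WW MM testT LsH Ef [] = true := by decide +kernel
theorem dT1 : Uq.all (fun q => dfsE WW MM testT LsH Ef [q.2]) = true := by decide +kernel
theorem dY0 : dfsE WW MM testY LsH Ef [] = true := by decide +kernel
theorem dY1 : Uq.all (fun q => dfsE WW MM testY LsH Ef [q.2]) = true := by decide +kernel

end

end Cfsg.Agent.Lib.SuzOutS
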