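import Cfsg.Agent.Lib.SuzPTab

set_option autoImplicit false
set_option maxRecDepth 100000
set_option Elab.async false

namespace Cfsg.Agent.Lib.SuzPSt0

open Cfsg.Agent.Lib.ChainCert Cfsg.Agent.Lib.ProgBits Cfsg.Agent.Lib.ProgChain Cfsg.Agent.Lib.PermChain Cfsg.Agent.Lib.TcBits
open Cfsg.Agent.Lib.SuzPTab

theorem st0_6_0 : allR (guard Pst0 (nat_lit 3564)) 6 (nat_lit 0) = true := by decide +kernel
theorem st0_6_64 : allR (guard Pst0 (nat_lit 3564)) 6 (nat_lit 64) = true := by decide +kernel
theorem st0_6_128 : allR (guard Pst0 (nat_lit 3564)) 6 (nat_lit 128) = true := by decide +kernel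
theorem st0_6_192 : allR (guard Pst0 (nat_lit 3564)) 6 (nat_lit 192) = true := by decide +kernel
theorem st0_6_256 : allR (guard Pst0 (nat_lit 3564)) 6 (nat_lit 256) = true := by decide +kernel
theorem st0_6_320 : allR (guard Pst0 (nat_lit 3564)) 6 (nat_lit 320) = true := by decide +kernel
theorem st0_6_384 : allR (guard Pst0 (nat_lit 3564)) 6 (nat_lit 384) = true := by decide +kernel
theorem st0_6_448 : allR (guard Pst0 (nat_lit 3564)) 6 (nat_lit 448) = true := by decide +kernel
theorem st0_6_512 : allR (guard Pst0 (nat_lit 3564)) 6 (nat_lit 512) = true := by decide +kernel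
theorem st0_6_576 : allR (guard Pst0 (nat_lit 3564)) 6 (nat_lit 576) = true := by decide +kernel
theorem st0_6_640 : allR (guard Pst0 (nat_lit 3564)) 6 (nat_lit 640) = true := by decide +kernel
theorem st0_6_704 : allR (guard Pst0 (nat_lit 3564)) 6 (nat_lit 704) = true := by decide +kernel
theorem st0_6_768 : allR (guard Pst0 (nat_lit 3564)) 6 (nat_lit 768) = true := by decide +kernel
theorem st0_6_832 : allR (guard Pst0 (nat_lit 3564)) 6 (nat_lit 832) = true := by decide +kernel
theorem st0_6_896 : allR (guard Pst0 (nat_lit 3564)) 6 (nat_lit 896) = true := by decide +kernel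
theorem st0_6_960 : allR (guard Pst0 (nat_lit 3564)) 6 (nat_lit 960) = true := by decide +kernel
theorem st0_6_1024 : allR (guard Pst0 (nat_lit 3564)) 6 (nat_lit 1024) = true := by decide +kernel
theorem st0_6_1088 : allR (guard Pst0 (nat_lit 3564)) 6 (nat_lit 1088) = true := by decide +kernel
theorem st0_6_1152 : allR (guard Pst0 (nat_lit 3564)) 6 (nat_lit 1152) = true := by decide +kernel
theorem st0_6_1216 : allR (guard Pst0 (nat_lit 3564)) 6 (nat_lit 1216) = true := by decide +kernel
theorem st0_6_1280 : allR (guard Pst0 (nat_lit 3564)) 6 (nat_lit 1280) = true := by decide +kernel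
theorem st0_6_1344 : allR (guard Pst0 (nat_lit 3564)) 6 (nat_lit 1344) = true := by decide +kernel
theorem st0_6_1408 : allR (guard Pst0 (nat_lit 3564)) 6 (nat_lit 1408) = true := by decide +kernel
theorem st0_6_1472 : allR (guard Pst0 (nat_lit 3564)) 6 (nat_lit 1472) = true := by decide +kernel
theorem st0_6_1536 : allR (guard Pst0 (nat_lit 3564)) 6 (nat_lit 1536) = true := by decide +kernel
theorem st0_6_1600 : allR (guard Pst0 (nat_lit 3564)) 6 (nat_lit 1600) = true := by decide +kernel
theorem st0_6_1664 : allR (guard Pst0 (nat_lit 3564)) 6 (nat_lit 1664) = true := by decide +kernel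
theorem st0_6_1728 : allR (guard Pst0 (nat_lit 3564)) 6 (nat_lit 1728) = true := by decide +kernel
theorem st0_6_1792 : allR (guard Pst0 (nat_lit 3564)) 6 (nat_lit 1792) = true := by decide +kernel
theorem st0_6_1856 : allR (guard Pst0 (nat_lit 3564)) 6 (nat_lit 1856) = true := by decide +kernel
theorem st0_6_1920 : allR (guard Pst0 (nat_lit 3564)) 6 (nat_lit 1920) = true := by decide +kernel
theorem st0_6_1984 : allR (guard Pst0 (nat_lit 3564)) 6 (nat_lit 1984) = true := by decide +kernel
theorem st0_6_2048 : allR (guard Pst0 (nat_lit 3564)) 6 (nat_lit 2048) = true := by decide +kernel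
theorem st0_6_2112 : allR (guard Pst0 (nat_lit 3564)) 6 (nat_lit 2112) = true := by decide +kernel
theorem st0_6_2176 : allR (guard Pst0 (nat_lit 3564)) 6 (nat_lit 2176) = true := by decide +kernel
theorem st0_6_2240 : allR (guard Pst0 (nat_lit 3564)) 6 (nat_lit 2240) = true := by decide +kernel
theorem st0_6_2304 : allR (guard Pst0 (nat_lit 3564)) 6 (nat_lit 2304) = true := by decide +kernel
theorem st0_6_2368 : allR (guard Pst0 (nat_lit 3564)) 6 (nat_lit 2368) = true := by decide +kernel
theorem st0_6_2432 : allR (guard Pst0 (nat_lit 3564)) 6 (nat_lit 2432) = true := by decide +kernel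
theorem st0_6_2496 : allR (guard Pst0 (nat_lit 3564)) 6 (nat_lit 2496) = true := by decide +kernel
theorem st0_6_2560 : allR (guard Pst0 (nat_lit 3564)) 6 (nat_lit 2560) = true := by decide +kernel
theorem st0_6_2624 : allR (guard Pst0 (nat_lit 3564)) 6 (nat_lit 2624) = true := by decide +kernel
theorem st0_6_2688 : allR (guard Pst0 (nat_lit 3564)) 6 (nat_lit 2688) = true := by decide +kernel
theorem st0_6_2752 : allR (guard Pst0 (nat_lit 3564)) 6 (nat_lit 2752) = true := by decide +kernel
theorem st0_6_2816 : allR (guard Pst0 (nat_lit 3564)) 6 (nat_lit 2816) = true := by decide +kernel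
theorem st0_6_2880 : allR (guard Pst0 (nat_lit 3564)) 6 (nat_lit 2880) = true := by decide +kernel
theorem st0_6_2944 : allR (guard Pst0 (nat_lit 3564)) 6 (nat_lit 2944) = true := by decide +kernel
theorem st0_6_3008 : allR (guard Pst0 (nat_lit 3564)) 6 (nat_lit 3008) = true := by decide +kernel
theorem st0_6_3072 : allR (guard Pst0 (nat_lit 3564)) 6 (nat_lit 3072) = true := by decide +kernel
theorem st0_6_3136 : allR (guard Pst0 (nat_lit 3564)) 6 (nat_lit 3136) = true := by decide +kernel
theorem st0_6_3200 : allR (guard Pst0 (nat_lit 3564)) 6 (nat_lit 3200) = true := by decide +kernel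
theorem st0_6_3264 : allR (guard Pst0 (nat_lit 3564)) 6 (nat_lit 3264) = true := by decide +kernel
theorem st0_6_3328 : allR (guard Pst0 (nat_lit 3564)) 6 (nat_lit 3328) = true := by decide +kernel
theorem st0_6_3392 : allR (guard Pst0 (nat_lit 3564)) 6 (nat_lit 3392) = true := by decide +kernel
theorem st0_6_3456 : allR (guard Pst0 (nat_lit 3564)) 6 (nat_lit 3456) = true := by decide +kernel
theorem st0_6_3520 : allR (guard Pst0 (nat_lit 3564)) 6 (nat_lit 3520) = true := by decide +kernel
theorem st0_6_3584 : allR (guard Pst0 (nat_lit 3564)) 6 (nat_lit 3584) = true := by decide +kernel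
theorem st0_6_3648 : allR (guard Pst0 (nat_lit 3564)) 6 (nat_lit 3648) = true := by decide +kernel
theorem st0_6_3712 : allR (guard Pst0 (nat_lit 3564)) 6 (nat_lit 3712) = true := by decide +kernel
theorem st0_6_3776 : allR (guard Pst0 (nat_lit 3564)) 6 (nat_lit 3776) = true := by decide +kernel
theorem st0_6_3840 : allR (guard Pst0 (nat_lit 3564)) 6 (nat_lit 3840) = true := by decide +kernel
theorem st0_6_3904 : allR (guard Pst0 (nat_lit 3564)) 6 (nat_lit 3904) = true := by decide +kernel
theorem st0_6_3968 : allR (guard Pst0 (nat_lit 3564)) 6 (nat_lit 3968) = true := by decide +kernel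
theorem st0_6_4032 : allR (guard Pst0 (nat_lit 3564)) 6 (nat_lit 4032) = true := by decide +kernel
theorem st0_7_0 : allR (guard Pst0 (nat_lit 3564)) 7 (nat_lit 0) = true := allR_join (mid := nat_lit 64) rfl st0_6_0 st0_6_64
theorem st0_7_128 : allR (guard Pst0 (nat_lit 3564)) 7 (nat_lit 128) = true := allR_join (mid := nat_lit 192) rfl st0_6_128 st0_6_192
theorem st0_7_256 : allR (guard Pst0 (nat_lit 3564)) 7 (nat_lit 256) = true := allR_join (mid := nat_lit 320) rfl st0_6_256 st0_6_320
theorem st0_7_384 : allR (guard Pst0 (nat_lit 3564)) 7 (nat_lit 384) = true := allR_join (mid := nat_lit 448) rfl st0_6_384 st0_6_448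
theorem st0_7_512 : allR (guard Pst0 (nat_lit 3564)) 7 (nat_lit 512) = true := allR_join (mid := nat_lit 576) rfl st0_6_512 st0_6_576
theorem st0_7_640 : allR (guard Pst0 (nat_lit 3564)) 7 (nat_lit 640) = true := allR_join (mid := nat_lit 704) rfl st0_6_640 st0_6_704
theorem st0_7_768 : allR (guard Pst0 (nat_lit 3564)) 7 (nat_lit 768) = true := allR_join (mid := nat_lit 832) rfl st0_6_768 st0_6_832
theorem st0_7_896 : allR (guard Pst0 (nat_lit 3564)) 7 (nat_lit 896) = true := allR_join (mid := nat_lit 960) rfl st0_6_896 st0_6_960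
theorem st0_7_1024 : allR (guard Pst0 (nat_lit 3564)) 7 (nat_lit 1024) = true := allR_join (mid := nat_lit 1088) rfl st0_6_1024 st0_6_1088
theorem st0_7_1152 : allR (guard Pst0 (nat_lit 3564)) 7 (nat_lit 1152) = true := allR_join (mid := nat_lit 1216) rfl st0_6_1152 st0_6_1216
theorem st0_7_1280 : allR (guard Pst0 (nat_lit 3564)) 7 (nat_lit 1280) = true := allR_join (mid := nat_lit 1344) rfl st0_6_1280 st0_6_1344
theorem st0_7_1408 : allR (guard Pst0 (nat_lit 3564)) 7 (nat_lit 1408) = true := allR_join (mid := nat_lit 1472) rfl st0_6_1408 st0_6_1472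
theorem st0_7_1536 : allR (guard Pst0 (nat_lit 3564)) 7 (nat_lit 1536) = true := allR_join (mid := nat_lit 1600) rfl st0_6_1536 st0_6_1600
theorem st0_7_1664 : allR (guard Pst0 (nat_lit 3564)) 7 (nat_lit 1664) = true := allR_join (mid := nat_lit 1728) rfl st0_6_1664 st0_6_1728
theorem st0_7_1792 : allR (guard Pst0 (nat_lit 3564)) 7 (nat_lit 1792) = true := allR_join (mid := nat_lit 1856) rfl st0_6_1792 st0_6_1856
theorem st0_7_1920 : allR (guard Pst0 (nat_lit 3564)) 7 (nat_lit 1920) = true := allR_join (mid := nat_lit 1984) rfl st0_6_1920 st0_6_1984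
theorem st0_7_2048 : allR (guard Pst0 (nat_lit 3564)) 7 (nat_lit 2048) = true := allR_join (mid := nat_lit 2112) rfl st0_6_2048 st0_6_2112
theorem st0_7_2176 : allR (guard Pst0 (nat_lit 3564)) 7 (nat_lit 2176) = true := allR_join (mid := nat_lit 2240) rfl st0_6_2176 st0_6_2240
theorem st0_7_2304 : allR (guard Pst0 (nat_lit 3564)) 7 (nat_lit 2304) = true := allR_join (mid := nat_lit 2368) rfl st0_6_2304 st0_6_2368
theorem st0_7_2432 : allR (guard Pst0 (nat_lit 3564)) 7 (nat_lit 2432) = true := allR_join (mid := nat_lit 2496) rfl st0_6_2432 st0_6_2496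
theorem st0_7_2560 : allR (guard Pst0 (nat_lit 3564)) 7 (nat_lit 2560) = true := allR_join (mid := nat_lit 2624) rfl st0_6_2560 st0_6_2624
theorem st0_7_2688 : allR (guard Pst0 (nat_lit 3564)) 7 (nat_lit 2688) = true := allR_join (mid := nat_lit 2752) rfl st0_6_2688 st0_6_2752
theorem st0_7_2816 : allR (guard Pst0 (nat_lit 3564)) 7 (nat_lit 2816) = true := allR_join (mid := nat_lit 2880) rfl st0_6_2816 st0_6_2880
theorem st0_7_2944 : allR (guard Pst0 (nat_lit 3564)) 7 (nat_lit 2944) = true := allR_join (mid := nat_lit 3008) rfl st0_6_2944 st0_6_3008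
theorem st0_7_3072 : allR (guard Pst0 (nat_lit 3564)) 7 (nat_lit 3072) = true := allR_join (mid := nat_lit 3136) rfl st0_6_3072 st0_6_3136
theorem st0_7_3200 : allR (guard Pst0 (nat_lit 3564)) 7 (nat_lit 3200) = true := allR_join (mid := nat_lit 3264) rfl st0_6_3200 st0_6_3264
theorem st0_7_3328 : allR (guard Pst0 (nat_lit 3564)) 7 (nat_lit 3328) = true := allR_join (mid := nat_lit 3392) rfl st0_6_3328 st0_6_3392
theorem st0_7_3456 : allR (guard Pst0 (nat_lit 3564)) 7 (nat_lit 3456) = true := allR_join (mid := nat_lit 3520) rfl st0_6_3456 st0_6_3520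
theorem st0_7_3584 : allR (guard Pst0 (nat_lit 3564)) 7 (nat_lit 3584) = true := allR_join (mid := nat_lit 3648) rfl st0_6_3584 st0_6_3648
theorem st0_7_3712 : allR (guard Pst0 (nat_lit 3564)) 7 (nat_lit 3712) = true := allR_join (mid := nat_lit 3776) rfl st0_6_3712 st0_6_3776
theorem st0_7_3840 : allR (guard Pst0 (nat_lit 3564)) 7 (nat_lit 3840) = true := allR_join (mid := nat_lit 3904) rfl st0_6_3840 st0_6_3904
theorem st0_7_3968 : allR (guard Pst0 (nat_lit 3564)) 7 (nat_lit 3968) = true := allR_join (mid := nat_lit 4032) rfl st0_6_3968 st0_6_4032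
theorem st0_8_0 : allR (guard Pst0 (nat_lit 3564)) 8 (nat_lit 0) = true := allR_join (mid := nat_lit 128) rfl st0_7_0 st0_7_128
theorem st0_8_256 : allR (guard Pst0 (nat_lit 3564)) 8 (nat_lit 256) = true := allR_join (mid := nat_lit 384) rfl st0_7_256 st0_7_384
theorem st0_8_512 : allR (guard Pst0 (nat_lit 3564)) 8 (nat_lit 512) = true := allR_join (mid := nat_lit 640) rfl st0_7_512 st0_7_640
theorem st0_8_768 : allR (guard Pst0 (nat_lit 3564)) 8 (nat_lit 768) = true := allR_join (mid := nat_lit 896) rfl st0_7_768 st0_7_896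
theorem st0_8_1024 : allR (guard Pst0 (nat_lit 3564)) 8 (nat_lit 1024) = true := allR_join (mid := nat_lit 1152) rfl st0_7_1024 st0_7_1152
theorem st0_8_1280 : allR (guard Pst0 (nat_lit 3564)) 8 (nat_lit 1280) = true := allR_join (mid := nat_lit 1408) rfl st0_7_1280 st0_7_1408
theorem st0_8_1536 : allR (guard Pst0 (nat_lit 3564)) 8 (nat_lit 1536) = true := allR_join (mid := nat_lit 1664) rfl st0_7_1536 st0_7_1664
theorem st0_8_1792 : allR (guard Pst0 (nat_lit 3564)) 8 (nat_lit 1792) = true := allR_join (mid := nat_lit 1920) rfl st0_7_1792 st0_7_1920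
theorem st0_8_2048 : allR (guard Pst0 (nat_lit 3564)) 8 (nat_lit 2048) = true := allR_join (mid := nat_lit 2176) rfl st0_7_2048 st0_7_2176
theorem st0_8_2304 : allR (guard Pst0 (nat_lit 3564)) 8 (nat_lit 2304) = true := allR_join (mid := nat_lit 2432) rfl st0_7_2304 st0_7_2432
theorem st0_8_2560 : allR (guard Pst0 (nat_lit 3564)) 8 (nat_lit 2560) = true := allR_join (mid := nat_lit 2688) rfl st0_7_2560 st0_7_2688
theorem st0_8_2816 : allR (guard Pst0 (nat_lit 3564)) 8 (nat_lit 2816) = true := allR_join (mid := nat_lit 2944) rfl st0_7_2816 st0_7_2944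
theorem st0_8_3072 : allR (guard Pst0 (nat_lit 3564)) 8 (nat_lit 3072) = true := allR_join (mid := nat_lit 3200) rfl st0_7_3072 st0_7_3200
theorem st0_8_3328 : allR (guard Pst0 (nat_lit 3564)) 8 (nat_lit 3328) = true := allR_join (mid := nat_lit 3456) rfl st0_7_3328 st0_7_3456
theorem st0_8_3584 : allR (guard Pst0 (nat_lit 3564)) 8 (nat_lit 3584) = true := allR_join (mid := nat_lit 3712) rfl st0_7_3584 st0_7_3712
theorem st0_8_3840 : allR (guard Pst0 (nat_lit 3564)) 8 (nat_lit 3840) = true := allR_join (mid := nat_lit 3968) rfl st0_7_3840 st0_7_3968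
theorem st0_9_0 : allR (guard Pst0 (nat_lit 3564)) 9 (nat_lit 0) = true := allR_join (mid := nat_lit 256) rfl st0_8_0 st0_8_256
theorem st0_9_512 : allR (guard Pst0 (nat_lit 3564)) 9 (nat_lit 512) = true := allR_join (mid := nat_lit 768) rfl st0_8_512 st0_8_768
theorem st0_9_1024 : allR (guard Pst0 (nat_lit 3564)) 9 (nat_lit 1024) = true := allR_join (mid := nat_lit 1280) rfl st0_8_1024 st0_8_1280
theorem st0_9_1536 : allR (guard Pst0 (nat_lit 3564)) 9 (nat_lit 1536) = true := allR_join (mid := nat_lit 1792) rfl st0_8_1536 st0_8_1792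
theorem st0_9_2048 : allR (guard Pst0 (nat_lit 3564)) 9 (nat_lit 2048) = true := allR_join (mid := nat_lit 2304) rfl st0_8_2048 st0_8_2304
theorem st0_9_2560 : allR (guard Pst0 (nat_lit 3564)) 9 (nat_lit 2560) = true := allR_join (mid := nat_lit 2816) rfl st0_8_2560 st0_8_2816
theorem st0_9_3072 : allR (guard Pst0 (nat_lit 3564)) 9 (nat_lit 3072) = true := allR_join (mid := nat_lit 3328) rfl st0_8_3072 st0_8_3328
theorem st0_9_3584 : allR (guard Pst0 (nat_lit 3564)) 9 (nat_lit 3584) = true := allR_join (mid := nat_lit 3840) rfl st0_8_3584 st0_8_3840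
theorem st0_10_0 : allR (guard Pst0 (nat_lit 3564)) 10 (nat_lit 0) = true := allR_join (mid := nat_lit 512) rfl st0_9_0 st0_9_512
theorem st0_10_1024 : allR (guard Pst0 (nat_lit 3564)) 10 (nat_lit 1024) = true := allR_join (mid := nat_lit 1536) rfl st0_9_1024 st0_9_1536
theorem st0_10_2048 : allR (guard Pst0 (nat_lit 3564)) 10 (nat_lit 2048) = true := allR_join (mid := nat_lit 2560) rfl st0_9_2048 st0_9_2560
theorem st0_10_3072 : allR (guard Pst0 (nat_lit 3564)) 10 (nat_lit 3072) = true := allR_join (mid := nat_lit 3584) rfl st0_9_3072 st0_9_3584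
theorem st0_11_0 : allR (guard Pst0 (nat_lit 3564)) 11 (nat_lit 0) = true := allR_join (mid := nat_lit 1024) rfl st0_10_0 st0_10_1024
theorem st0_11_2048 : allR (guard Pst0 (nat_lit 3564)) 11 (nat_lit 2048) = true := allR_join (mid := nat_lit 3072) rfl st0_10_2048 st0_10_3072
theorem st0_12_0 : allR (guard Pst0 (nat_lit 3564)) 12 (nat_lit 0) = true := allR_join (mid := nat_lit 2048) rfl st0_11_0 st0_11_2048
theorem st0_all : ∀ i, i < (nat_lit 3564) → Pst0 i = true := of_guard (k := 12) (by norm_num) st0_12_0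

end Cfsg.Agent.Lib.SuzPSt0
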