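import Cfsg.Agent.Lib.SuzPTab

set_option autoImplicit false
set_option maxRecDepth 100000
set_option Elab.async false

namespace Cfsg.Agent.Lib.SuzPSt1

open Cfsg.Agent.Lib.ChainCert Cfsg.Agent.Lib.ProgBits Cfsg.Agent.Lib.ProgChain Cfsg.Agent.Lib.PermChain Cfsg.Agent.Lib.TcBits
open Cfsg.Agent.Lib.SuzPTab

theorem st1_8_0 : allR (guard Pst1 (nat_lit 3564)) 8 (nat_lit 0) = true := by decide +kernel
theorem st1_8_256 : allR (guard Pst1 (nat_lit 3564)) 8 (nat_lit 256) = true := by decide +kernel
theorem st1_8_512 : allR (guard Pst1 (nat_lit 3564)) 8 (nat_lit 512) = true := by decide +kernel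
theorem st1_8_768 : allR (guard Pst1 (nat_lit 3564)) 8 (nat_lit 768) = true := by decide +kernel
theorem st1_8_1024 : allR (guard Pst1 (nat_lit 3564)) 8 (nat_lit 1024) = true := by decide +kernel
theorem st1_8_1280 : allR (guard Pst1 (nat_lit 3564)) 8 (nat_lit 1280) = true := by decide +kernel
theorem st1_8_1536 : allR (guard Pst1 (nat_lit 3564)) 8 (nat_lit 1536) = true := by decide +kernel
theorem st1_8_1792 : allR (guard Pst1 (nat_lit 3564)) 8 (nat_lit 1792) = true := by decide +kernel
theorem st1_8_2048 : allR (guard Pst1 (nat_lit 3564)) 8 (nat_lit 2048) = true := by decide +kernel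
theorem st1_8_2304 : allR (guard Pst1 (nat_lit 3564)) 8 (nat_lit 2304) = true := by decide +kernel
theorem st1_8_2560 : allR (guard Pst1 (nat_lit 3564)) 8 (nat_lit 2560) = true := by decide +kernel
theorem st1_8_2816 : allR (guard Pst1 (nat_lit 3564)) 8 (nat_lit 2816) = true := by decide +kernel
theorem st1_8_3072 : allR (guard Pst1 (nat_lit 3564)) 8 (nat_lit 3072) = true := by decide +kernel
theorem st1_8_3328 : allR (guard Pst1 (nat_lit 3564)) 8 (nat_lit 3328) = true := by decide +kernel
theorem st1_8_3584 : allR (guard Pst1 (nat_lit 3564)) 8 (nat_lit 3584) = true := by decide +kernel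
theorem st1_8_3840 : allR (guard Pst1 (nat_lit 3564)) 8 (nat_lit 3840) = true := by decide +kernel
theorem st1_9_0 : allR (guard Pst1 (nat_lit 3564)) 9 (nat_lit 0) = true := allR_join (mid := nat_lit 256) rfl st1_8_0 st1_8_256
theorem st1_9_512 : allR (guard Pst1 (nat_lit 3564)) 9 (nat_lit 512) = true := allR_join (mid := nat_lit 768) rfl st1_8_512 st1_8_768
theorem st1_9_1024 : allR (guard Pst1 (nat_lit 3564)) 9 (nat_lit 1024) = true := allR_join (mid := nat_lit 1280) rfl st1_8_1024 st1_8_1280
theorem st1_9_1536 : allR (guard Pst1 (nat_lit 3564)) 9 (nat_lit 1536) = true := allR_join (mid := nat_lit 1792) rfl st1_8_1536 st1_8_1792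
theorem st1_9_2048 : allR (guard Pst1 (nat_lit 3564)) 9 (nat_lit 2048) = true := allR_join (mid := nat_lit 2304) rfl st1_8_2048 st1_8_2304
theorem st1_9_2560 : allR (guard Pst1 (nat_lit 3564)) 9 (nat_lit 2560) = true := allR_join (mid := nat_lit 2816) rfl st1_8_2560 st1_8_2816
theorem st1_9_3072 : allR (guard Pst1 (nat_lit 3564)) 9 (nat_lit 3072) = true := allR_join (mid := nat_lit 3328) rfl st1_8_3072 st1_8_3328
theorem st1_9_3584 : allR (guard Pst1 (nat_lit 3564)) 9 (nat_lit 3584) = true := allR_join (mid := nat_lit 3840) rfl st1_8_3584 st1_8_3840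
theorem st1_10_0 : allR (guard Pst1 (nat_lit 3564)) 10 (nat_lit 0) = true := allR_join (mid := nat_lit 512) rfl st1_9_0 st1_9_512
theorem st1_10_1024 : allR (guard Pst1 (nat_lit 3564)) 10 (nat_lit 1024) = true := allR_join (mid := nat_lit 1536) rfl st1_9_1024 st1_9_1536
theorem st1_10_2048 : allR (guard Pst1 (nat_lit 3564)) 10 (nat_lit 2048) = true := allR_join (mid := nat_lit 2560) rfl st1_9_2048 st1_9_2560
theorem st1_10_3072 : allR (guard Pst1 (nat_lit 3564)) 10 (nat_lit 3072) = true := allR_join (mid := nat_lit 3584) rfl st1_9_3072 st1_9_3584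
theorem st1_11_0 : allR (guard Pst1 (nat_lit 3564)) 11 (nat_lit 0) = true := allR_join (mid := nat_lit 1024) rfl st1_10_0 st1_10_1024
theorem st1_11_2048 : allR (guard Pst1 (nat_lit 3564)) 11 (nat_lit 2048) = true := allR_join (mid := nat_lit 3072) rfl st1_10_2048 st1_10_3072
theorem st1_12_0 : allR (guard Pst1 (nat_lit 3564)) 12 (nat_lit 0) = true := allR_join (mid := nat_lit 2048) rfl st1_11_0 st1_11_2048
theorem st1_all : ∀ i, i < (nat_lit 3564) → Pst1 i = true := of_guard (k := 12) (by norm_num) st1_12_0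

end Cfsg.Agent.Lib.SuzPSt1
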