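import Cfsg.Agent.Lib.SuzPChk
import Cfsg.Agent.Lib.SuzPSt0
import Cfsg.Agent.Lib.SuzPSt1
import Cfsg.Agent.Lib.SuzPSt2
import Cfsg.Agent.Lib.SuzPSt3
import Cfsg.Agent.Lib.SuzPSt4
import Cfsg.Agent.Lib.SuzPSt5
import Cfsg.Agent.Lib.SuzPSt6
import Cfsg.Agent.Lib.SuzPSt7
import Cfsg.Agent.Lib.SuzPSt8

set_option autoImplicit false
set_option maxRecDepth 100000
set_option linter.unusedSectionVars false

/-! Generated file: the chain and the order of the group. -/

namespace Cfsg.Agent.Lib.SuzPMain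

open Cfsg.Agent.Lib.ChainCert Cfsg.Agent.Lib.ProgBits Cfsg.Agent.Lib.ProgChain Cfsg.Agent.Lib.PermChain Cfsg.Agent.Lib.TcBits
open Cfsg.Agent.Lib.SuzPTab
open Cfsg.Agent.Lib.SuzPChk Cfsg.Agent.Lib.SuzPSt0 Cfsg.Agent.Lib.SuzPSt1 Cfsg.Agent.Lib.SuzPSt2 Cfsg.Agent.Lib.SuzPSt3 Cfsg.Agent.Lib.SuzPSt4 Cfsg.Agent.Lib.SuzPSt5 Cfsg.Agent.Lib.SuzPSt6 Cfsg.Agent.Lib.SuzPSt7 Cfsg.Agent.Lib.SuzPSt8

theorem hN : nat_lit 2048 = 2 ^ 11 := by norm_num
theorem hM : M = 2 ^ 1782 - 1 := by decide +kernel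
theorem hR : R = repU 2048 11 := by decide +kernel
theorem hY : Y = yId 11 := by decide +kernel
theorem htot : ∀ e, 184 ≤ e → pr e = [] := by
  intro e he
  rw [pr, show Nat.ble ((nat_lit 184)) e = true from Nat.ble_eq_true_of_le he]
  rfl

/-- the context -/
theorem ctx : Ctx 1782 11 pr R Y :=
  ctx_mk' (N := (nat_lit 2048)) (M := M) (tot := 184) (by norm_num) hN hM hR hY let_all htot

/-- the letters -/
noncomputable abbrev g : ℕ → Equiv.Perm (Fin 1782) := lp pr 1782

theorem hOb8 : Om8.testBit 1 = true := by decide +kernel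
theorem hroot8 : tw8 1 = [] := by decide +kernel
theorem lev8 : (∀ e, 182 ≤ e → g e ∈ grp g 182 2) ∧
    Level (grp g 182 2) (grp g 184 0) ⟨1, by norm_num⟩
      (fun p => prodW g (tw8 p.val)) (orbF 1782 Om8) :=
  level_bundle ctx (lo := 182) (ns := 2) (hi := 184) (ns' := 0) (b := 1) (Om := Om8) (tw := tw8) (st := stE8) (der := derT) (wA := certA) (wB := certB) (by norm_num)
    der8_all cert8_all fix8_all img8_all hOb8 hroot8 st8_all (letters_bottom ctx htot)
theorem cOm8 : (orbF 1782 Om8).card = 2 := by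
  rw [card_orbF]; decide +kernel
theorem hOb7 : Om7.testBit 67 = true := by decide +kernel
theorem hroot7 : tw7 67 = [] := by decide +kernel
theorem lev7 : (∀ e, 180 ≤ e → g e ∈ grp g 180 2) ∧
    Level (grp g 180 2) (grp g 182 2) ⟨67, by norm_num⟩
      (fun p => prodW g (tw7 p.val)) (orbF 1782 Om7) :=
  level_bundle ctx (lo := 180) (ns := 2) (hi := 182) (ns' := 2) (b := 67) (Om := Om7) (tw := tw7) (st := stE7) (der := derT) (wA := certA) (wB := certB) (by norm_num)
    der7_all cert7_all fix7_all img7_all hOb7 hroot7 st7_all (lev8).1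
theorem cOm7 : (orbF 1782 Om7).card = 2 := by
  rw [card_orbF]; decide +kernel
theorem hOb6 : Om6.testBit 602 = true := by decide +kernel
theorem hroot6 : tw6 602 = [] := by decide +kernel
theorem lev6 : (∀ e, 178 ≤ e → g e ∈ grp g 178 2) ∧
    Level (grp g 178 2) (grp g 180 2) ⟨602, by norm_num⟩
      (fun p => prodW g (tw6 p.val)) (orbF 1782 Om6) :=
  level_bundle ctx (lo := 178) (ns := 2) (hi := 180) (ns' := 2) (b := 602) (Om := Om6) (tw := tw6) (st := stE6) (der := derT) (wA := certA) (wB := certB) (by norm_num)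
    der6_all cert6_all fix6_all img6_all hOb6 hroot6 st6_all (lev7).1
theorem cOm6 : (orbF 1782 Om6).card = 3 := by
  rw [card_orbF]; decide +kernel
theorem hOb5 : Om5.testBit 676 = true := by decide +kernel
theorem hroot5 : tw5 676 = [] := by decide +kernel
theorem lev5 : (∀ e, 176 ≤ e → g e ∈ grp g 176 2) ∧
    Level (grp g 176 2) (grp g 178 2) ⟨676, by norm_num⟩
      (fun p => prodW g (tw5 p.val)) (orbF 1782 Om5) :=
  level_bundle ctx (lo := 176) (ns := 2) (hi := 178) (ns' := 2) (b := 676) (Om := Om5) (tw := tw5) (st := stE5) (der := derT) (wA := certA) (wB := certB) (by norm_num)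
    der5_all cert5_all fix5_all img5_all hOb5 hroot5 st5_all (lev6).1
theorem cOm5 : (orbF 1782 Om5).card = 2 := by
  rw [card_orbF]; decide +kernel
theorem hOb4 : Om4.testBit 1279 = true := by decide +kernel
theorem hroot4 : tw4 1279 = [] := by decide +kernel
theorem lev4 : (∀ e, 171 ≤ e → g e ∈ grp g 171 2) ∧
    Level (grp g 171 2) (grp g 176 2) ⟨1279, by norm_num⟩
      (fun p => prodW g (tw4 p.val)) (orbF 1782 Om4) :=
  level_bundle ctx (lo := 171) (ns := 2) (hi := 176) (ns' := 2) (b := 1279) (Om := Om4) (tw := tw4) (st := stE4) (der := derT) (wA := certA) (wB := certB) (by norm_num)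
    der4_all cert4_all fix4_all img4_all hOb4 hroot4 st4_all (lev5).1
theorem cOm4 : (orbF 1782 Om4).card = 7 := by
  rw [card_orbF]; decide +kernel
theorem hOb3 : Om3.testBit 203 = true := by decide +kernel
theorem hroot3 : tw3 203 = [] := by decide +kernel
theorem lev3 : (∀ e, 158 ≤ e → g e ∈ grp g 158 2) ∧
    Level (grp g 158 2) (grp g 171 2) ⟨203, by norm_num⟩
      (fun p => prodW g (tw3 p.val)) (orbF 1782 Om3) :=
  level_bundle ctx (lo := 158) (ns := 2) (hi := 171) (ns' := 2) (b := 203) (Om := Om3) (tw := tw3) (st := stE3) (der := derT) (wA := certA) (wB := certB) (by norm_num)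
    der3_all cert3_all fix3_all img3_all hOb3 hroot3 st3_all (lev4).1
theorem cOm3 : (orbF 1782 Om3).card = 36 := by
  rw [card_orbF]; decide +kernel
theorem hOb2 : Om2.testBit 142 = true := by decide +kernel
theorem hroot2 : tw2 142 = [] := by decide +kernel
theorem lev2 : (∀ e, 136 ≤ e → g e ∈ grp g 136 2) ∧
    Level (grp g 136 2) (grp g 158 2) ⟨142, by norm_num⟩
      (fun p => prodW g (tw2 p.val)) (orbF 1782 Om2) :=
  level_bundle ctx (lo := 136) (ns := 2) (hi := 158) (ns' := 2) (b := 142) (Om := Om2) (tw := tw2) (st := stE2) (der := derT) (wA := certA) (wB := certB) (by norm_num)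
    der2_all cert2_all fix2_all img2_all hOb2 hroot2 st2_all (lev3).1
theorem cOm2 : (orbF 1782 Om2).card = 100 := by
  rw [card_orbF]; decide +kernel
theorem hOb1 : Om1.testBit 135 = true := by decide +kernel
theorem hroot1 : tw1 135 = [] := by decide +kernel
theorem lev1 : (∀ e, 92 ≤ e → g e ∈ grp g 92 2) ∧
    Level (grp g 92 2) (grp g 136 2) ⟨135, by norm_num⟩
      (fun p => prodW g (tw1 p.val)) (orbF 1782 Om1) :=
  level_bundle ctx (lo := 92) (ns := 2) (hi := 136) (ns' := 2) (b := 135) (Om := Om1) (tw := tw1) (st := stE1) (der := derT) (wA := certA) (wB := certB) (by norm_num)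
    der1_all cert1_all fix1_all img1_all hOb1 hroot1 st1_all (lev2).1
theorem cOm1 : (orbF 1782 Om1).card = 416 := by
  rw [card_orbF]; decide +kernel
theorem hOb0 : Om0.testBit 0 = true := by decide +kernel
theorem hroot0 : tw0 0 = [] := by decide +kernel
theorem lev0 : (∀ e, 0 ≤ e → g e ∈ grp g 0 2) ∧
    Level (grp g 0 2) (grp g 92 2) ⟨0, by norm_num⟩
      (fun p => prodW g (tw0 p.val)) (orbF 1782 Om0) :=
  level_bundle ctx (lo := 0) (ns := 2) (hi := 92) (ns' := 2) (b := 0) (Om := Om0) (tw := tw0) (st := stE0) (der := derT) (wA := certA) (wB := certB) (by norm_num)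
    der0_all cert0_all fix0_all img0_all hOb0 hroot0 st0_all (lev1).1
theorem cOm0 : (orbF 1782 Om0).card = 1782 := by
  rw [card_orbF]; decide +kernel
theorem cardH9 : Nat.card (grp g 184 0) = 1 := by
  rw [grp_zero]; simp
theorem cardH8 : Nat.card (grp g 182 2) = 2 := by
  rw [(lev8).2.card, cOm8, cardH9]
theorem cardH7 : Nat.card (grp g 180 2) = 4 := by
  rw [(lev7).2.card, cOm7, cardH8]
theorem cardH6 : Nat.card (grp g 178 2) = 12 := by
  rw [(lev6).2.card, cOm6, cardH7]
theorem cardH5 : Nat.card (grp g 176 2) = 24 := by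
  rw [(lev5).2.card, cOm5, cardH6]
theorem cardH4 : Nat.card (grp g 171 2) = 168 := by
  rw [(lev4).2.card, cOm4, cardH5]
theorem cardH3 : Nat.card (grp g 158 2) = 6048 := by
  rw [(lev3).2.card, cOm3, cardH4]
theorem cardH2 : Nat.card (grp g 136 2) = 604800 := by
  rw [(lev2).2.card, cOm2, cardH3]
theorem cardH1 : Nat.card (grp g 92 2) = 251596800 := by
  rw [(lev1).2.card, cOm1, cardH2]
theorem cardH0 : Nat.card (grp g 0 2) = 448345497600 := by
  rw [(lev0).2.card, cOm0, cardH1]

theorem hOm : Om0 = 2 ^ 1782 - 1 := by decide +kernel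
theorem hsz : ∀ c, c < 3 → cntB (fun i => Nat.beq (colT i) c) 1782 = szT c := by decide +kernel
theorem hsums : ∀ S ∈ (Finset.range 3).powerset, 0 ∈ S →
      (∑ c ∈ S, szT c) ∣ 1782 → (∑ c ∈ S, szT c) = 1 ∨ (∑ c ∈ S, szT c) = 1782 := by decide +kernel
theorem hb0 : colT 0 = 0 := by decide +kernel
/-- the conjugating word -/
def Wc : List ℕ := [39, 0, 94, 93, 149, 145, 160, 159, 176, 179, 180, 182]
theorem hconj : ProgBits.wChk R Y pr (Wc ++ [0]) (1 :: Wc) = true := by decide +kernel
theorem hap : ProgBits.wChk R Y pr (List.replicate 11 0) [] = true := by decide +kernel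
theorem huv : ptChk pr [0] 1537 0 = true := by decide +kernel

/-- the group is simple -/
theorem simple_top : IsSimpleGroup (grp g 0 2) :=
  simple_bundle ctx (lo1 := 92) (ns1 := 2) (r := 3) (p := 11) (b := 0) (by norm_num)
    (lev0).2 hOm (lev0).1 (lev1).1 tree_all colc_all hb0 hsz hsums (by norm_num)
    (by rw [cardH1]; norm_num) hconj hap (u := ⟨0, by norm_num⟩) (v := ⟨1537, by norm_num⟩) huv
    (by decide)

end Cfsg.Agent.Lib.SuzPMain
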