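import Cfsg.Agent.Lib.TwTor32F
import Cfsg.Agent.Lib.Chev.OrdE8
import Cfsg.Agent.Lib.Chev.TorusCard

/-!
# The cyclic torus of order `Φ₃₀(q)` of `E₈(q)`
-/

set_option autoImplicit false
set_option linter.unusedSectionVars false
set_option linter.unusedVariables false
set_option linter.unusedSimpArgs false

namespace Cfsg.Agent.Lib.TwTorE832

open Cfsg Cfsg.Lie Cfsg.Agent.Lib.Chev Matrix Cfsg.Agent.Lib.ChevFix Cfsg.Agent.Lib.TwTor32
open Polynomial

theorem hFE : Full TabE8.T TabE8.X RootE8T.R chevE8 := ⟨RelE8.checks, RootE8.checks⟩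

/-- The transposed inverse of the Cartan matrix. -/
def invC : Fin chevE8.rank → Fin chevE8.rank → ℤ := fun k j =>
  (![![4, 5, 7, 10, 8, 6, 4, 2], ![5, 8, 10, 15, 12, 9, 6, 3], ![7, 10, 14, 20, 16, 12, 8, 4], ![10, 15, 20, 30, 24, 18, 12, 6], ![8, 12, 16, 24, 20, 15, 10, 5], ![6, 9, 12, 18, 15, 12, 8, 4], ![4, 6, 8, 12, 10, 8, 6, 3], ![2, 3, 4, 6, 5, 4, 3, 2]] : Fin 8 → Fin 8 → ℤ) j k

theorem invC_spec1 : ∀ k i : Fin chevE8.rank,
    ∑ j : Fin chevE8.rank, invC k j * chevE8.cartan i (chevE8.simple j) = if i = k then 1 else 0 := by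
  decide +kernel

theorem invC_spec2 : ∀ k j : Fin chevE8.rank,
    ∑ i : Fin chevE8.rank, invC i k * chevE8.cartan i (chevE8.simple j) = if j = k then 1 else 0 := by
  decide +kernel

theorem phi15 : cyclotomic 15 ℤ = X^8 - X^7 + X^5 - X^4 + X^3 - X + 1 := by
  have h : expand ℤ 5 (cyclotomic 3 ℤ) = cyclotomic 15 ℤ * cyclotomic 3 ℤ :=
    cyclotomic_expand_eq_cyclotomic_mul (p := 5) (n := 3) Nat.prime_five (by norm_num) ℤ
  have h3 : cyclotomic 3 ℤ = X^2 + X + 1 := by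
    rw [cyclotomic_three]
  rw [h3] at h
  have hne : (X^2 + X + 1 : ℤ[X]) ≠ 0 := by
    rw [← h3]; exact cyclotomic_ne_zero 3 ℤ
  apply mul_right_cancel₀ hne
  rw [← h]
  simp only [map_add, map_pow, expand_X, map_one]
  ring

theorem phi30 : cyclotomic 30 ℤ = X^8 + X^7 - X^5 - X^4 - X^3 + X + 1 := by
  have h : expand ℤ 2 (cyclotomic 15 ℤ) = cyclotomic 30 ℤ * cyclotomic 15 ℤ :=
    cyclotomic_expand_eq_cyclotomic_mul (p := 2) (n := 15) Nat.prime_two (by norm_num) ℤ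
  rw [phi15] at h
  have hne : (X^8 - X^7 + X^5 - X^4 + X^3 - X + 1 : ℤ[X]) ≠ 0 := by
    rw [← phi15]; exact cyclotomic_ne_zero 15 ℤ
  apply mul_right_cancel₀ hne
  rw [← h]
  simp only [map_add, map_sub, map_pow, expand_X, map_one]
  ring

theorem card_Wk : Nat.card ↥(hFE.Wk Set.univ) = 696729600 := by
  classical
  have h := OrdE8.poin_univ hFE 1
  unfold Full.poin at h
  simp only [one_pow, Finset.sum_const, smul_eq_mul, mul_one] at h
  rw [Nat.card_eq_fintype_card, Fintype.card_subtype]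
  have e : (Finset.univ.filter fun σ : Equiv.Perm (Fin chevE8.nroots) => σ ∈ hFE.Wk Set.univ) =
      (Finset.univ.filter fun σ : Equiv.Perm (Fin chevE8.nroots) => σ ∈ hFE.Wk Set.univ) := rfl
  convert h using 1

theorem no_small {p : ℕ} (hdec : ∀ x : ZMod p, x^8+x^7-x^5-x^4-x^3+x+1 ≠ 0) (q m : ℕ)
    (hm : (m : ℤ) = (q : ℤ)^8 + (q : ℤ)^7 - (q : ℤ)^5 - (q : ℤ)^4 - (q : ℤ)^3 + q + 1) : ¬ p ∣ m := by
  intro hd
  have h0 : (m : ZMod p) = 0 := (ZMod.natCast_eq_zero_iff _ _).2 hd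
  apply hdec (q : ZMod p)
  have h1 := congrArg (Int.cast : ℤ → ZMod p) hm
  push_cast at h1
  rw [← h1, h0]

theorem cast_m (q : ℕ) (hq : 2 ≤ q) :
    ((q ^ 8 + q ^ 7 - q ^ 5 - q ^ 4 - q ^ 3 + q + 1 : ℕ) : ℤ) =
      (q : ℤ)^8 + (q : ℤ)^7 - (q : ℤ)^5 - (q : ℤ)^4 - (q : ℤ)^3 + q + 1 := by
  have h1 : q ^ 5 ≤ q ^ 7 := Nat.pow_le_pow_right (by omega) (by omega)
  have h2 : q ^ 3 ≤ q ^ 4 := Nat.pow_le_pow_right (by omega) (by omega)
  have h3 : 2 * q ^ 4 ≤ q ^ 8 := by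
    have h4 : 2 ≤ q ^ 4 := by
      calc 2 ≤ q := hq
        _ = q ^ 1 := (pow_one q).symm
        _ ≤ q ^ 4 := Nat.pow_le_pow_right (by omega) (by omega)
    calc 2 * q ^ 4 ≤ q ^ 4 * q ^ 4 := Nat.mul_le_mul_right _ h4
      _ = q ^ 8 := by ring
  obtain ⟨M, hM⟩ : ∃ M, M = q ^ 8 + q ^ 7 - q ^ 5 - q ^ 4 - q ^ 3 + q + 1 := ⟨_, rfl⟩
  rw [← hM]
  have h5 : M + q ^ 5 + q ^ 4 + q ^ 3 = q ^ 8 + q ^ 7 + q + 1 := by
    omega
  have h6 := congrArg (Nat.cast : ℕ → ℤ) h5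
  push_cast at h6
  linarith

/-- The index of the torus is prime to primes dividing `Q - 1`, apart from `2`, `3`, `5`, `7`. -/
theorem idx_not_dvd {K : Type*} [Field K] [Fintype K] {r : ℕ} (hr : r.Prime) (hr2 : r ≠ 2) (hr3 : r ≠ 3)
    (hr5 : r ≠ 5) (hr7 : r ≠ 7) (hQ : r ∣ Fintype.card K - 1) :
    ¬ r ∣ ((chevE8.diagonalSubgroup K).subgroupOf (chevE8.group K)).index := by
  classical
  have h1 := OrdE8.card_group (F := K) hFE
  have h2 := Full.torus_card_E8 (F := K) hFE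
  have hle : chevE8.diagonalSubgroup K ≤ chevE8.group K :=
    fun x hx => hFE.c.monomial_le_group (hFE.c.diagonal_le_monomial hx)
  have h3 : Nat.card ↥((chevE8.diagonalSubgroup K).subgroupOf (chevE8.group K)) =
      Nat.card ↥(chevE8.diagonalSubgroup K) :=
    Nat.card_congr (Subgroup.subgroupOfEquivOfLe hle).toEquiv
  have h4 := Subgroup.card_mul_index ((chevE8.diagonalSubgroup K).subgroupOf (chevE8.group K))
  rw [h3, h1] at h4
  rw [one_mul] at h2
  rw [h2] at h4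
  obtain ⟨u, hu⟩ : ∃ u, Fintype.card K = u + 1 := ⟨Fintype.card K - 1, (Nat.sub_add_cancel Fintype.card_pos).symm⟩
  have hu0 : 0 < u := by
    have := Fintype.one_lt_card (α := K)
    omega
  rw [hu] at h4 hQ
  simp only [Nat.add_sub_cancel] at h4 hQ
  have S : ∀ d, (u + 1) ^ d - 1 = (∑ i ∈ Finset.range d, (u + 1) ^ i) * u := by
    intro d
    rw [← geom_sum_mul_add u d]
    simp
  set idx := ((chevE8.diagonalSubgroup K).subgroupOf (chevE8.group K)).index with hidx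
  rw [S, S, S, S, S, S, S, S] at h4
  have h6 : idx = (u + 1) ^ 120 * (∑ i ∈ Finset.range 2, (u + 1) ^ i) * (∑ i ∈ Finset.range 8, (u + 1) ^ i) *
      (∑ i ∈ Finset.range 12, (u + 1) ^ i) * (∑ i ∈ Finset.range 14, (u + 1) ^ i) *
      (∑ i ∈ Finset.range 18, (u + 1) ^ i) * (∑ i ∈ Finset.range 20, (u + 1) ^ i) *
      (∑ i ∈ Finset.range 24, (u + 1) ^ i) * (∑ i ∈ Finset.range 30, (u + 1) ^ i) := by
    have h7 : 0 < u ^ chevE8.rank := pow_pos hu0 _
    apply Nat.eq_of_mul_eq_mul_left h7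
    rw [h4]
    show _ = u ^ 8 * _
    ring
  intro hd
  haveI := Fact.mk hr
  have hu0' : (u : ZMod r) = 0 := (ZMod.natCast_eq_zero_iff u r).2 hQ
  have h7 : (idx : ZMod r) = 0 := (ZMod.natCast_eq_zero_iff _ _).2 hd
  rw [h6] at h7
  push_cast at h7
  simp only [hu0', zero_add, one_pow, Finset.sum_const, Finset.card_range, nsmul_eq_mul, mul_one, one_mul] at h7
  have h8 : ((696729600 : ℕ) : ZMod r) = 0 := by
    push_cast at h7 ⊢
    rw [← h7]
    norm_num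
  have h9 : r ∣ 2 ^ 14 * 3 ^ 5 * 5 ^ 2 * 7 := (ZMod.natCast_eq_zero_iff _ _).1 h8
  rcases (Nat.Prime.dvd_mul hr).1 h9 with h | h
  · rcases (Nat.Prime.dvd_mul hr).1 h with h | h
    · rcases (Nat.Prime.dvd_mul hr).1 h with h | h
      · exact hr2 ((Nat.prime_dvd_prime_iff_eq hr Nat.prime_two).1 (hr.dvd_of_dvd_pow h))
      · exact hr3 ((Nat.prime_dvd_prime_iff_eq hr Nat.prime_three).1 (hr.dvd_of_dvd_pow h))
    · exact hr5 ((Nat.prime_dvd_prime_iff_eq hr Nat.prime_five).1 (hr.dvd_of_dvd_pow h))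
  · exact hr7 ((Nat.prime_dvd_prime_iff_eq hr (by norm_num)).1 h)

/-- The fixed field. -/
theorem mem_range_of_fixed {F K : Type*} [Field F] [Fintype F] [Field K] [Fintype K] [Algebra F K] {x : K}
    (h : x ^ Fintype.card F = x) : ∃ y, algebraMap F K y = x := by
  classical
  set q := Fintype.card F with hq
  have hq2 : 1 < q := Fintype.one_lt_card
  have hne : (Polynomial.X ^ q - Polynomial.X : Polynomial K) ≠ 0 := FiniteField.X_pow_card_sub_X_ne_zero K hq2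
  set R := (Polynomial.X ^ q - Polynomial.X : Polynomial K).roots.toFinset with hR
  have hRcard : R.card ≤ q := by
    calc R.card ≤ Multiset.card (Polynomial.X ^ q - Polynomial.X : Polynomial K).roots := Multiset.toFinset_card_le _
      _ ≤ (Polynomial.X ^ q - Polynomial.X : Polynomial K).natDegree := Polynomial.card_roots' _
      _ = q := FiniteField.X_pow_card_sub_X_natDegree_eq K hq2
  have hmem : ∀ u : K, u ∈ R ↔ u ^ q = u := by
    intro u
    simp only [hR, Multiset.mem_toFinset, Polynomial.mem_roots hne, Polynomial.IsRoot.def, Polynomial.eval_sub,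
      Polynomial.eval_pow, Polynomial.eval_X, sub_eq_zero]
  have hsub : (Finset.univ.image (algebraMap F K)) ⊆ R := by
    intro u hu
    obtain ⟨y, -, rfl⟩ := Finset.mem_image.1 hu
    rw [hmem, ← map_pow, hq, FiniteField.pow_card]
  have hcard : (Finset.univ.image (algebraMap F K)).card = q := by
    rw [Finset.card_image_of_injective _ (algebraMap F K).injective, Finset.card_univ]
  have heq := Finset.eq_of_subset_of_card_le hsub (by rw [hcard]; exact hRcard)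
  have hx : x ∈ R := (hmem x).2 h
  rw [← heq] at hx
  obtain ⟨y, -, rfl⟩ := Finset.mem_image.1 hx
  exact ⟨y, rfl⟩

/-- **The main theorem**, given the extension of degree thirty. -/
theorem core {F K : Type*} [Field F] [Fintype F] [Field K] [Fintype K] [Algebra F K] (q : ℕ)
    (hFq : Fintype.card F = q) (hKq : Fintype.card K = q ^ 30) :
    ∃ H : Subgroup ↥(chevE8.group F), IsCyclic ↥H ∧ Nat.card ↥H = q ^ 8 + q ^ 7 - q ^ 5 - q ^ 4 - q ^ 3 + q + 1 ∧
      Subgroup.centralizer (H : Set ↥(chevE8.group F)) = H := by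
  classical
  have hq2 : 2 ≤ q := by
    have := Fintype.one_lt_card (α := F)
    omega
  set m := q ^ 8 + q ^ 7 - q ^ 5 - q ^ 4 - q ^ 3 + q + 1 with hm
  have hcast : (m : ℤ) = (q : ℤ)^8 + (q : ℤ)^7 - (q : ℤ)^5 - (q : ℤ)^4 - (q : ℤ)^3 + q + 1 := cast_m q hq2
  have hPq : (m : ℤ) = (cyclotomic 30 ℤ).eval (q : ℤ) := by
    rw [phi30, hcast]
    simp
  obtain ⟨k, hk⟩ := cyclotomic.dvd_X_pow_sub_one 30 ℤ
  have hq30 : 1 ≤ q ^ 30 := Nat.one_le_pow _ _ (by omega)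
  have hm30 : m ∣ q ^ 30 - 1 := by
    have h1 := congrArg (eval (q : ℤ)) hk
    simp only [eval_sub, eval_pow, eval_X, eval_one, eval_mul] at h1
    rw [← hPq] at h1
    have h2 : (m : ℤ) ∣ ((q ^ 30 - 1 : ℕ) : ℤ) := by
      rw [Nat.cast_sub hq30]
      push_cast
      rw [h1]
      exact Dvd.intro _ rfl
    exact_mod_cast h2
  have hm1 : 1 < m := by
    have h1 : (1 : ℤ) < (m : ℤ) := by
      have h2 : ((q : ℤ)) ^ 5 ≤ (q : ℤ) ^ 7 := pow_le_pow_right₀ (by exact_mod_cast (by omega : 1 ≤ q)) (by omega)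
      have h3 : ((q : ℤ)) ^ 3 ≤ (q : ℤ) ^ 4 := pow_le_pow_right₀ (by exact_mod_cast (by omega : 1 ≤ q)) (by omega)
      have h4 : ((q : ℤ)) ^ 4 * 2 ≤ (q : ℤ) ^ 8 := by
        have h5 : (2 : ℤ) ≤ (q : ℤ) ^ 4 := by
          have : (2 : ℤ) ≤ (q : ℤ) := by exact_mod_cast hq2
          nlinarith [pow_le_pow_right₀ (by linarith : (1 : ℤ) ≤ (q : ℤ)) (by omega : 1 ≤ 4)]
        have e : (q : ℤ) ^ 8 = (q : ℤ) ^ 4 * (q : ℤ) ^ 4 := by ring
        rw [e]
        exact mul_le_mul_of_nonneg_left h5 (by positivity)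
      have h6 : (2 : ℤ) ≤ (q : ℤ) := by exact_mod_cast hq2
      rw [hcast]
      linarith
    exact_mod_cast h1
  -- the Frobenius map
  let σ : K ≃+* K := RingEquiv.ofBijective (FiniteField.frobeniusAlgHom F K : K →ₐ[F] K).toRingHom
    (Finite.injective_iff_bijective.1 (RingHom.injective _))
  have hσ : ∀ x : K, σ x = x ^ q := by
    intro x
    show x ^ Fintype.card F = x ^ q
    rw [hFq]
  let f : F →+* K := algebraMap F K
  have hfσ : ∀ b, σ (f b) = f b := by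
    intro b
    rw [hσ, ← map_pow, ← hFq, FiniteField.pow_card]
  have hf : ∀ a : K, σ a = a → ∃ b, f b = a := by
    intro a ha
    rw [hσ, ← hFq] at ha
    exact mem_range_of_fixed ha
  have hdeg : (cyclotomic 30 ℤ).natDegree = chevE8.rank := by
    rw [natDegree_cyclotomic]
    decide
  have hirr : Irreducible ((cyclotomic 30 ℤ).map (Int.castRingHom ℚ)) := by
    rw [map_cyclotomic_int]
    exact cyclotomic.irreducible_rat (by norm_num)
  refine main_generic hFE f σ q hfσ hf hσ invC invC_spec1 invC_spec2 (by decide) ⟨0, by decide⟩ (cyclotomic 30 ℤ) k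
    (cyclotomic.monic 30 ℤ) hirr hdeg 30 hk.symm m hPq hm1 (by rw [hKq]; exact hm30) ?_
  intro ℓ hℓ hd
  have h2 : ℓ ≠ 2 := by
    rintro rfl
    exact no_small (by decide) q m hcast hd
  have h3 : ℓ ≠ 3 := by
    rintro rfl
    exact no_small (by decide) q m hcast hd
  have h5 : ℓ ≠ 5 := by
    rintro rfl
    exact no_small (by decide) q m hcast hd
  have h7 : ℓ ≠ 7 := by
    rintro rfl
    exact no_small (by decide) q m hcast hd
  have hdq : ¬ ℓ ∣ q := by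
    intro h
    have h1 : (ℓ : ℤ) ∣ (q : ℤ) := by exact_mod_cast h
    have h4 : (ℓ : ℤ) ∣ (m : ℤ) := by exact_mod_cast hd
    have h6 : (ℓ : ℤ) ∣ 1 := by
      have e : (1 : ℤ) = (m : ℤ) - (q : ℤ) * ((q : ℤ)^7 + (q : ℤ)^6 - (q : ℤ)^4 - (q : ℤ)^3 - (q : ℤ)^2 + 1) := by
        rw [hcast]
        ring
      rw [e]
      exact dvd_sub h4 (h1.mul_right _)
    have h8 : ℓ ∣ 1 := by exact_mod_cast h6
    exact hℓ.one_lt.ne' (Nat.dvd_one.1 h8)
  refine ⟨?_, ?_, hdq, ?_, ?_⟩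
  · intro h
    have e : (30 : ℕ) = 2 * 3 * 5 := by norm_num
    rw [e] at h
    rcases (Nat.Prime.dvd_mul hℓ).1 h with h | h
    · rcases (Nat.Prime.dvd_mul hℓ).1 h with h | h
      · exact h2 ((Nat.prime_dvd_prime_iff_eq hℓ Nat.prime_two).1 h)
      · exact h3 ((Nat.prime_dvd_prime_iff_eq hℓ Nat.prime_three).1 h)
    · exact h5 ((Nat.prime_dvd_prime_iff_eq hℓ Nat.prime_five).1 h)
  · rw [card_Wk]
    intro h
    have e : (696729600 : ℕ) = 2 ^ 14 * 3 ^ 5 * 5 ^ 2 * 7 := by norm_num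
    rw [e] at h
    rcases (Nat.Prime.dvd_mul hℓ).1 h with h | h
    · rcases (Nat.Prime.dvd_mul hℓ).1 h with h | h
      · rcases (Nat.Prime.dvd_mul hℓ).1 h with h | h
        · exact h2 ((Nat.prime_dvd_prime_iff_eq hℓ Nat.prime_two).1 (hℓ.dvd_of_dvd_pow h))
        · exact h3 ((Nat.prime_dvd_prime_iff_eq hℓ Nat.prime_three).1 (hℓ.dvd_of_dvd_pow h))
      · exact h5 ((Nat.prime_dvd_prime_iff_eq hℓ Nat.prime_five).1 (hℓ.dvd_of_dvd_pow h))
    · exact h7 ((Nat.prime_dvd_prime_iff_eq hℓ (by norm_num)).1 h)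
  · exact idx_not_dvd hℓ h2 h3 h5 h7 (by rw [hKq]; exact hd.trans hm30)
  · rw [OrdE8.card_group (F := F) hFE, hFq]
    exact Dvd.dvd.mul_left (hd.trans hm30) _

end Cfsg.Agent.Lib.TwTorE832
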