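import Mathlib
import Cfsg.Agent.Lib.SylowNum

/-!
# Sylow numbers: M. Hall's product formula.
-/

set_option autoImplicit false
set_option linter.unusedSectionVars false

namespace Cfsg.Agent.Lib.SylowNum2

open Cfsg.Agent.Lib.SylowNum

variable {G : Type*} [Group G] [Finite G] {p : ℕ} [Fact p.Prime]

theorem card_eq_mul_fiber {α β : Type*} [Finite α] [Finite β] (f : α → β) (b₀ : β)
    (h : ∀ b : β, ∃ e : α ≃ α, ∀ a, f a = b₀ ↔ f (e a) = b) :
    Nat.card α = Nat.card β * Nat.card {a // f a = b₀} := by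
  classical
  have := Fintype.ofFinite β
  have h1 : Nat.card α = Nat.card (Σ b : β, {a // f a = b}) :=
    Nat.card_congr (Equiv.sigmaFiberEquiv f).symm
  rw [h1, Nat.card_sigma]
  have h2 : ∀ b : β, Nat.card {a // f a = b} = Nat.card {a // f a = b₀} := by
    intro b
    obtain ⟨e, he⟩ := h b
    refine (Nat.card_congr (Equiv.subtypeEquiv e (fun a => he a))).symm
  simp only [h2, Finset.sum_const, smul_eq_mul, Finset.card_univ, Nat.card_eq_fintype_card]

/-- The image of a Sylow subgroup in a quotient. -/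
noncomputable def mapQ (K : Subgroup G) [K.Normal] (Q : Sylow p G) : Sylow p (G ⧸ K) :=
  Q.mapSurjective (QuotientGroup.mk'_surjective K)

theorem mem_mapQ (K : Subgroup G) [K.Normal] (Q : Sylow p G) (y : G ⧸ K) :
    y ∈ mapQ K Q ↔ ∃ t ∈ Q, (t : G ⧸ K) = y := by
  show y ∈ (Q : Subgroup G).map (QuotientGroup.mk' K) ↔ _
  rw [Subgroup.mem_map]
  rfl

theorem mapQ_smul (K : Subgroup G) [K.Normal] (Q : Sylow p G) (g : G) :
    mapQ K (g • Q) = (g : G ⧸ K) • mapQ K Q := by
  apply Sylow.ext
  ext y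
  show y ∈ mapQ K (g • Q) ↔ y ∈ (g : G ⧸ K) • mapQ K Q
  rw [mem_smul_sylow, mem_mapQ, mem_mapQ]
  constructor
  · rintro ⟨t, ht, rfl⟩
    refine ⟨g⁻¹ * t * g, (mem_smul_sylow Q g t).1 ht, ?_⟩
    simp only [QuotientGroup.mk_mul, QuotientGroup.mk_inv]
  · rintro ⟨t, ht, hte⟩
    refine ⟨g * t * g⁻¹, (conj_mem_smul_sylow Q g t).2 ht, ?_⟩
    rw [QuotientGroup.mk_mul, QuotientGroup.mk_mul, hte, QuotientGroup.mk_inv]
    group

theorem mapQ_eq_iff (K : Subgroup G) [K.Normal] (P Q : Sylow p G) :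
    mapQ K Q = mapQ K P ↔ (Q : Subgroup G) ≤ (P : Subgroup G) ⊔ K := by
  constructor
  · intro h y hy
    have h1 : (y : G ⧸ K) ∈ mapQ K Q := (mem_mapQ K Q _).2 ⟨y, hy, rfl⟩
    rw [h, mem_mapQ] at h1
    obtain ⟨t, ht, hte⟩ := h1
    rw [QuotientGroup.eq] at hte
    have : y = t * (t⁻¹ * y) := by group
    rw [this]
    exact (P : Subgroup G).mul_mem_sup ht hte
  · intro h
    apply sylow_eq_of_le
    intro y hy
    obtain ⟨t, ht, rfl⟩ := (mem_mapQ K Q y).1 hy
    obtain ⟨u, hu, k, hk, e⟩ := Subgroup.mem_sup_of_normal_right.1 (h ht)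
    refine (mem_mapQ K P _).2 ⟨u, hu, ?_⟩
    rw [← e, QuotientGroup.mk_mul, (QuotientGroup.eq_one_iff k).2 hk, mul_one]

/-- First factorization: `n_p(G) = n_p(G/K) · #{Q Sylow : Q ≤ P K}`. -/
theorem card_sylow_eq_quot_mul (K : Subgroup G) [K.Normal] (P : Sylow p G) :
    Nat.card (Sylow p G) = Nat.card (Sylow p (G ⧸ K)) *
      Nat.card {Q : Sylow p G // (Q : Subgroup G) ≤ (P : Subgroup G) ⊔ K} := by
  have h := card_eq_mul_fiber (mapQ (p := p) K) (mapQ K P) (by
    intro b
    obtain ⟨g, hg⟩ := MulAction.exists_smul_eq (G ⧸ K) (mapQ K P) b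
    obtain ⟨g, rfl⟩ := QuotientGroup.mk_surjective g
    refine ⟨MulAction.toPerm g, fun a => ?_⟩
    show _ ↔ mapQ K (g • a) = b
    rw [mapQ_smul, ← hg]
    exact (MulAction.injective (g : G ⧸ K)).eq_iff.symm)
  rw [h]
  congr 1
  exact Nat.card_congr (Equiv.subtypeEquivRight (fun Q => mapQ_eq_iff K P Q))

/-- Sylows of a subgroup containing a Sylow of `G`. -/
theorem card_sylow_subgroup (H : Subgroup G) (P : Sylow p G) (hP : (P : Subgroup G) ≤ H) :
    Nat.card (Sylow p H) = Nat.card {Q : Sylow p G // (Q : Subgroup G) ≤ H} := by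
  let f : {Q : Sylow p G // (Q : Subgroup G) ≤ H} → Sylow p H := fun Q => Q.1.subtype Q.2
  have hinj : Function.Injective f := by
    intro Q₁ Q₂ h
    exact Subtype.ext (Sylow.subtype_injective h)
  have hsurj : Function.Surjective f := by
    intro R
    obtain ⟨h, hh⟩ := MulAction.exists_smul_eq H (P.subtype hP) R
    refine ⟨⟨(h : G) • P, Sylow.smul_le hP h⟩, ?_⟩
    show ((h : G) • P).subtype _ = R
    rw [← hh]
    exact (Sylow.smul_subtype hP h).symm
  exact (Nat.card_congr (Equiv.ofBijective f ⟨hinj, hsurj⟩)).symm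

/-- Quotient by a normal `p`-subgroup does not change the Sylow number. -/
theorem card_sylow_quotient_pgroup (D : Subgroup G) [D.Normal] (hD : IsPGroup p D) :
    Nat.card (Sylow p (G ⧸ D)) = Nat.card (Sylow p G) := by
  have hsurj : Function.Surjective (mapQ (p := p) D) :=
    Sylow.mapSurjective_surjective (QuotientGroup.mk'_surjective D) p
  have hinj : Function.Injective (mapQ (p := p) D) := by
    intro Q₁ Q₂ h
    have h1 := (mapQ_eq_iff D Q₂ Q₁).1 h
    have h2 : D ≤ (Q₂ : Subgroup G) := hD.le_sylow_of_normal Q₂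
    rw [sup_eq_left.2 h2] at h1
    exact sylow_eq_of_le _ _ h1
  exact (Nat.card_congr (Equiv.ofBijective _ ⟨hinj, hsurj⟩)).symm

/-- The Sylow subgroup `Q ∩ K` of the normal subgroup `K`. -/
noncomputable def capK (K : Subgroup G) [K.Normal] (Q : Sylow p G) : Sylow p K :=
  (exists_sylow_subgroupOf K Q).choose

theorem coe_capK (K : Subgroup G) [K.Normal] (Q : Sylow p G) :
    ((capK K Q : Sylow p K) : Subgroup K) = (Q : Subgroup G).subgroupOf K :=
  (exists_sylow_subgroupOf K Q).choose_spec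

theorem mem_capK (K : Subgroup G) [K.Normal] (Q : Sylow p G) (y : K) :
    y ∈ capK K Q ↔ (y : G) ∈ Q := by
  show y ∈ ((capK K Q : Sylow p K) : Subgroup K) ↔ _
  rw [coe_capK, Subgroup.mem_subgroupOf]
  rfl

theorem capK_smul (K : Subgroup G) [K.Normal] (Q : Sylow p G) (k : K) :
    capK K ((k : G) • Q) = k • capK K Q := by
  apply Sylow.ext
  ext y
  show y ∈ capK K ((k : G) • Q) ↔ y ∈ k • capK K Q
  rw [mem_capK, mem_smul_sylow, mem_smul_sylow, mem_capK]
  simp

theorem capK_eq_iff (K : Subgroup G) [K.Normal] (P Q : Sylow p G) :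
    capK K Q = capK K P ↔ (Q : Subgroup G) ⊓ K = (P : Subgroup G) ⊓ K := by
  constructor
  · intro h
    ext y
    simp only [Subgroup.mem_inf]
    constructor
    · rintro ⟨h1, h2⟩
      have : (⟨y, h2⟩ : K) ∈ capK K Q := (mem_capK K Q _).2 h1
      rw [h] at this
      exact ⟨(mem_capK K P _).1 this, h2⟩
    · rintro ⟨h1, h2⟩
      have : (⟨y, h2⟩ : K) ∈ capK K P := (mem_capK K P _).2 h1
      rw [← h] at this
      exact ⟨(mem_capK K Q _).1 this, h2⟩
  · intro h
    apply Sylow.ext
    ext y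
    show y ∈ capK K Q ↔ y ∈ capK K P
    rw [mem_capK, mem_capK]
    have e : ∀ R : Sylow p G, (y : G) ∈ R ↔ (y : G) ∈ (R : Subgroup G) ⊓ K := by
      intro R
      simp only [Subgroup.mem_inf]
      exact ⟨fun h1 => ⟨h1, y.2⟩, fun h1 => h1.1⟩
    rw [e Q, e P, h]

theorem card_inf_eq_card_capK (K : Subgroup G) [K.Normal] (Q : Sylow p G) :
    Nat.card ((Q : Subgroup G) ⊓ K : Subgroup G) = Nat.card (capK K Q) := by
  show _ = Nat.card ((capK K Q : Sylow p K) : Subgroup K)
  rw [coe_capK, ← Subgroup.inf_subgroupOf_right]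
  exact (Nat.card_congr (Subgroup.subgroupOfEquivOfLe (G := G) (H := (Q : Subgroup G) ⊓ K) (K := K) inf_le_right).toEquiv).symm

/-- Second factorization: `#{Q ≤ PK} = n_p(K) · #{Q ≤ PK : Q ∩ K = P ∩ K}`. -/
theorem card_le_sup_eq_mul (K : Subgroup G) [K.Normal] (P : Sylow p G) :
    Nat.card {Q : Sylow p G // (Q : Subgroup G) ≤ (P : Subgroup G) ⊔ K} = Nat.card (Sylow p K) *
      Nat.card {Q : Sylow p G // (Q : Subgroup G) ≤ ((P : Subgroup G) ⊔ K) ⊓
        Subgroup.normalizer (((P : Subgroup G) ⊓ K : Subgroup G) : Set G)} := by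
  set X : Subgroup G := (P : Subgroup G) ⊔ K with hX
  let α := {Q : Sylow p G // (Q : Subgroup G) ≤ X}
  let g : α → Sylow p K := fun a => capK K a.1
  let a₀ : α := ⟨P, le_sup_left⟩
  have hK : K ≤ X := le_sup_right
  have hact : ∀ (k : K) (a : α), (((k : G) • a.1 : Sylow p G) : Subgroup G) ≤ X := by
    intro k a y hy
    have h1 : (k : G)⁻¹ * y * k ∈ X := a.2 ((mem_smul_sylow a.1 (k : G) y).1 hy)
    have h2 : y = (k : G) * ((k : G)⁻¹ * y * k) * (k : G)⁻¹ := by group
    rw [h2]
    exact X.mul_mem (X.mul_mem (hK k.2) h1) (X.inv_mem (hK k.2))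
  have h := card_eq_mul_fiber g (g a₀) (by
    intro b
    obtain ⟨k, hk⟩ := MulAction.exists_smul_eq K (g a₀) b
    let e : α ≃ α :=
      { toFun := fun a => ⟨(k : G) • a.1, hact k a⟩
        invFun := fun a => ⟨((k⁻¹ : K) : G) • a.1, hact k⁻¹ a⟩
        left_inv := by
          intro a
          apply Subtype.ext
          show ((k⁻¹ : K) : G) • (k : G) • a.1 = a.1
          simp
        right_inv := by
          intro a
          apply Subtype.ext
          show (k : G) • ((k⁻¹ : K) : G) • a.1 = a.1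
          simp }
    refine ⟨e, fun a => ?_⟩
    show _ ↔ capK K ((k : G) • a.1) = b
    rw [capK_smul, ← hk]
    exact (MulAction.injective k).eq_iff.symm)
  rw [h]
  congr 1
  -- the fibre
  set D : Subgroup G := (P : Subgroup G) ⊓ K with hD
  set N : Subgroup G := X ⊓ Subgroup.normalizer (D : Set G) with hN
  have hDp : IsPGroup p D := P.isPGroup'.to_le inf_le_left
  have hfib : ∀ Q : Sylow p G, ((Q : Subgroup G) ≤ X ∧ capK K Q = capK K P) ↔ (Q : Subgroup G) ≤ N := by
    intro Q
    constructor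
    · rintro ⟨hQX, hQ⟩
      rw [capK_eq_iff] at hQ
      refine le_inf hQX ?_
      intro y hy
      rw [Subgroup.mem_normalizer_iff]
      intro z
      rw [hD, ← hQ]
      simp only [Subgroup.mem_inf]
      constructor
      · rintro ⟨h1, h2⟩
        exact ⟨(Q : Subgroup G).mul_mem ((Q : Subgroup G).mul_mem hy h1) ((Q : Subgroup G).inv_mem hy),
          ‹K.Normal›.conj_mem z h2 y⟩
      · rintro ⟨h1, h2⟩
        have e : z = y⁻¹ * (y * z * y⁻¹) * y := by group
        constructor
        · rw [e]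
          exact (Q : Subgroup G).mul_mem ((Q : Subgroup G).mul_mem ((Q : Subgroup G).inv_mem hy) h1) hy
        · have := ‹K.Normal›.conj_mem _ h2 y⁻¹
          have e' : y⁻¹ * (y * z * y⁻¹) * y⁻¹⁻¹ = z := by group
          rwa [e'] at this
    · intro hQN
      refine ⟨hQN.trans inf_le_left, ?_⟩
      rw [capK_eq_iff]
      -- D ≤ Q: D is a normal p-subgroup of N
      have hDQ : D ≤ (Q : Subgroup G) := by
        let Q' : Sylow p N := Q.subtype hQN
        let D' : Subgroup N := D.subgroupOf N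
        have hD'n : D'.Normal := by
          constructor
          intro n hn m
          rw [Subgroup.mem_subgroupOf] at hn ⊢
          exact (Subgroup.mem_normalizer_iff.1 (inf_le_right (a := X) m.2) n).1 hn
        have hD'p : IsPGroup p D' := hDp.comap_of_injective N.subtype N.subtype_injective |>.to_le le_rfl
        have h1 := hD'p.le_sylow_of_normal Q'
        intro y hy
        have hyN : y ∈ N := by
          refine Subgroup.mem_inf.2 ⟨?_, ?_⟩
          · exact le_sup_left (a := (P : Subgroup G)) hy.1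
          · rw [Subgroup.mem_normalizer_iff]
            intro z
            have hy' : y ∈ (P : Subgroup G) := hy.1
            have hyK : y ∈ K := hy.2
            simp only [hD, Subgroup.mem_inf]
            constructor
            · rintro ⟨h2, h3⟩
              exact ⟨(P : Subgroup G).mul_mem ((P : Subgroup G).mul_mem hy' h2)
                ((P : Subgroup G).inv_mem hy'), K.mul_mem (K.mul_mem hyK h3) (K.inv_mem hyK)⟩
            · rintro ⟨h2, h3⟩
              have e : z = y⁻¹ * (y * z * y⁻¹) * y := by group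
              rw [e]
              exact ⟨(P : Subgroup G).mul_mem ((P : Subgroup G).mul_mem ((P : Subgroup G).inv_mem hy') h2) hy',
                K.mul_mem (K.mul_mem (K.inv_mem hyK) h3) hyK⟩
        have h2 : (⟨y, hyN⟩ : N) ∈ D' := Subgroup.mem_subgroupOf.2 hy
        have h3 := h1 h2
        rw [Sylow.coe_subtype, Subgroup.mem_subgroupOf] at h3
        exact h3
      -- cardinalities
      have hle : D ≤ (Q : Subgroup G) ⊓ K := le_inf hDQ inf_le_right
      symm
      refine Subgroup.eq_of_le_of_card_ge hle ?_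
      rw [card_inf_eq_card_capK]
      have hDc : Nat.card D = Nat.card (capK K P) := card_inf_eq_card_capK K P
      rw [hDc, Sylow.card_eq_multiplicity, Sylow.card_eq_multiplicity]
  exact Nat.card_congr ((Equiv.subtypeSubtypeEquivSubtypeInter
    (fun Q : Sylow p G => (Q : Subgroup G) ≤ X) (fun Q => capK K Q = capK K P)).trans
    (Equiv.subtypeEquivRight hfib))

/-- **M. Hall's product formula**, with the normaliser not yet divided by `P ∩ K`. -/
theorem card_sylow_hall (K : Subgroup G) [K.Normal] (P : Sylow p G) :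
    Nat.card (Sylow p G) = Nat.card (Sylow p (G ⧸ K)) * Nat.card (Sylow p K) *
      Nat.card (Sylow p ↥(((P : Subgroup G) ⊔ K) ⊓
        Subgroup.normalizer (((P : Subgroup G) ⊓ K : Subgroup G) : Set G))) := by
  rw [card_sylow_eq_quot_mul K P, card_le_sup_eq_mul K P, mul_assoc]
  congr 2
  refine (card_sylow_subgroup _ P ?_).symm
  refine le_inf le_sup_left ?_
  intro y hy
  rw [Subgroup.mem_normalizer_iff]
  intro z
  simp only [Subgroup.mem_inf]
  have hy' : y ∈ (P : Subgroup G) := hy
  constructor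
  · rintro ⟨h1, h2⟩
    exact ⟨(P : Subgroup G).mul_mem ((P : Subgroup G).mul_mem hy' h1) ((P : Subgroup G).inv_mem hy'),
      ‹K.Normal›.conj_mem z h2 y⟩
  · rintro ⟨h1, h2⟩
    have e : z = y⁻¹ * (y * z * y⁻¹) * y := by group
    constructor
    · rw [e]
      exact (P : Subgroup G).mul_mem ((P : Subgroup G).mul_mem ((P : Subgroup G).inv_mem hy') h1) hy'
    · have := ‹K.Normal›.conj_mem _ h2 y⁻¹
      have e' : y⁻¹ * (y * z * y⁻¹) * y⁻¹⁻¹ = z := by group
      rwa [e'] at this

end Cfsg.Agent.Lib.SylowNum2
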