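import Mathlib

/-!
# The theorem of Sylvester and Schur

For `1 ≤ k` and `2 * k ≤ n` the binomial coefficient `n.choose k` has a prime factor `> k`.
This follows Erdős: primes `≤ √n` contribute at most `n` each, larger primes at most themselves,
and primes in `(n / 3, k]` nothing, against lower bounds for `n.choose k`.  The small values are
covered by explicit chains of primes.
-/

set_option autoImplicit false

namespace Cfsg.Agent.Lib.SylvesterSchur

open Nat Finset

/-- A prime `> k` with a multiple in `(n - k, n]` divides `n.choose k`. -/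
theorem dvd_choose_of_window {q n k t : ℕ} (hq : q.Prime) (hk : k < q) (hkn : k ≤ n)
    (h1 : t * q ≤ n) (h2 : n - k < t * q) : q ∣ n.choose k := by
  have hd : q ∣ n.descFactorial k := by
    rw [Nat.descFactorial_eq_prod_range]
    have hi : n - t * q ∈ Finset.range k := by
      rw [Finset.mem_range]; omega
    have h3 : n - (n - t * q) ∣ ∏ i ∈ Finset.range k, (n - i) :=
      Finset.dvd_prod_of_mem (fun i => n - i) hi
    have h4 : n - (n - t * q) = t * q := by omega
    rw [h4] at h3
    exact (Dvd.intro_left t rfl).trans h3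
  rw [Nat.descFactorial_eq_factorial_mul_choose] at hd
  rcases (Nat.Prime.dvd_mul hq).1 hd with h | h
  · exact absurd ((Nat.Prime.dvd_factorial hq).1 h) (by omega)
  · exact h

/-- Primes up to `s`: a crude count. -/
theorem card_primes_le (s : ℕ) : ((Finset.range (s + 1)).filter Nat.Prime).card ≤ s / 3 + 3 := by
  have h : ((Finset.range (s + 1)).filter Nat.Prime).card = Nat.primeCounting' (s + 1) := by
    rw [Nat.primeCounting', Nat.count_eq_card_filter_range]
  rw [h]
  have h7 : Nat.primeCounting' 7 = 3 := by decide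
  by_cases hs : s < 6
  · have : Nat.primeCounting' (s + 1) ≤ Nat.primeCounting' 7 :=
      Nat.monotone_primeCounting' (by omega)
    omega
  · have h1 := Nat.primeCounting'_add_le (a := 6) (k := 7) (by norm_num) (by norm_num) (s - 6)
    have h6 : Nat.totient 6 = 2 := by decide
    rw [h7, h6, show 7 + (s - 6) = s + 1 by omega] at h1
    omega

/-- Upper bound for a binomial coefficient whose prime factors are `≤ √n` or `≤ M`. -/
theorem choose_le_of_smooth {n k M : ℕ} (hkn : k ≤ n) (hn : 0 < n)
    (hsm : ∀ p, p.Prime → p ∣ n.choose k → p ≤ Nat.sqrt n ∨ p ≤ M) :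
    n.choose k ≤ n ^ (Nat.sqrt n / 3 + 3) * 4 ^ M := by
  let f : ℕ → ℕ := fun p => p ^ (n.choose k).factorization p
  have hC : n.choose k ≠ 0 := (Nat.choose_pos hkn).ne'
  have hprod : n.choose k = ∏ p ∈ Finset.range (n + 1), f p :=
    (Nat.prod_pow_factorization_choose n k hkn).symm
  let S := (Finset.range (n + 1)).filter Nat.Prime
  have hS : ∏ p ∈ S, f p = ∏ p ∈ Finset.range (n + 1), f p := by
    refine Finset.prod_filter_of_ne fun p _ h => ?_
    contrapose h
    simp only [f]
    rw [Nat.factorization_eq_zero_of_not_prime _ h, pow_zero]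
  rw [hprod, ← hS, ← Finset.prod_filter_mul_prod_filter_not S (· ≤ Nat.sqrt n)]
  apply Nat.mul_le_mul
  · refine (Finset.prod_le_prod' fun p _ => (?_ : f p ≤ n)).trans ?_
    · exact Nat.pow_factorization_choose_le hn
    rw [Finset.prod_const]
    refine Nat.pow_le_pow_right hn (le_trans (Finset.card_le_card ?_) (card_primes_le (Nat.sqrt n)))
    intro p hp
    simp only [Finset.mem_filter, S, Finset.mem_range] at hp ⊢
    exact ⟨by omega, hp.1.2⟩
  · refine le_trans ?_ (primorial_le_four_pow M)
    unfold primorial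
    have h1 : ∏ p ∈ S.filter (fun p => ¬ p ≤ Nat.sqrt n), f p
        = ∏ p ∈ (S.filter (fun p => ¬ p ≤ Nat.sqrt n)).filter (· ≤ M), f p := by
      symm
      refine Finset.prod_filter_of_ne fun p hp h => ?_
      contrapose h
      have hp' := Finset.mem_filter.1 hp
      have hpp : p.Prime := (Finset.mem_filter.1 hp'.1).2
      have hnd : ¬ p ∣ n.choose k := by
        intro hd
        rcases hsm p hpp hd with h2 | h2
        · exact hp'.2 h2
        · exact h h2
      simp only [f]
      rw [Nat.factorization_eq_zero_of_not_dvd hnd, pow_zero]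
    rw [h1]
    refine (Finset.prod_le_prod' fun p hp => (?_ : f p ≤ p)).trans ?_
    · have hp' := Finset.mem_filter.1 hp
      have hp'' := Finset.mem_filter.1 hp'.1
      have hpp : p.Prime := (Finset.mem_filter.1 hp''.1).2
      have h2 : ¬ p ≤ Nat.sqrt n := hp''.2
      have h3 : n < p ^ 2 := by
        have := Nat.sqrt_lt'.1 (not_le.1 h2)
        exact this
      have h4 := Nat.factorization_choose_le_one (k := k) h3
      calc f p ≤ p ^ 1 := Nat.pow_le_pow_right hpp.pos h4
        _ = p := pow_one p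
    · refine Finset.prod_le_prod_of_subset_of_one_le' ?_ ?_
      · intro p hp
        have hp' := Finset.mem_filter.1 hp
        have hp'' := Finset.mem_filter.1 hp'.1
        have hpp : p.Prime := (Finset.mem_filter.1 hp''.1).2
        simp only [Finset.mem_filter, Finset.mem_range]
        exact ⟨by omega, hpp⟩
      · intro p hp _
        exact (Finset.mem_filter.1 hp).2.one_lt.le

/-- Upper bound for a binomial coefficient with all prime factors `≤ k`: exact count. -/
theorem choose_le_pow_of_smooth {n k : ℕ} (hkn : k ≤ n) (hn : 0 < n)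
    (hsm : ∀ p, p.Prime → p ∣ n.choose k → p ≤ k) :
    n.choose k ≤ n ^ ((Finset.range (k + 1)).filter Nat.Prime).card := by
  let f : ℕ → ℕ := fun p => p ^ (n.choose k).factorization p
  have hprod : n.choose k = ∏ p ∈ Finset.range (n + 1), f p :=
    (Nat.prod_pow_factorization_choose n k hkn).symm
  let S := (Finset.range (k + 1)).filter Nat.Prime
  have hS : ∏ p ∈ S, f p = ∏ p ∈ Finset.range (n + 1), f p := by
    refine Finset.prod_subset ?_ ?_
    · intro p hp
      simp only [S, Finset.mem_filter, Finset.mem_range] at hp ⊢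
      omega
    · intro p _ hp
      by_cases hpp : p.Prime
      · have hnd : ¬ p ∣ n.choose k := by
          intro hd
          have := hsm p hpp hd
          apply hp
          simp only [S, Finset.mem_filter, Finset.mem_range]
          exact ⟨by omega, hpp⟩
        simp only [f]
        rw [Nat.factorization_eq_zero_of_not_dvd hnd, pow_zero]
      · simp only [f]
        rw [Nat.factorization_eq_zero_of_not_prime _ hpp, pow_zero]
  rw [hprod, ← hS]
  refine (Finset.prod_le_prod' fun p _ => (?_ : f p ≤ n)).trans ?_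
  · exact Nat.pow_factorization_choose_le hn
  rw [Finset.prod_const]

/-- `(n / k) ^ k ≤ n.choose k`, multiplied out. -/
theorem pow_le_pow_mul_choose : ∀ (k n : ℕ), k ≤ n → n ^ k ≤ k ^ k * n.choose k
  | 0, n, _ => by simp
  | k + 1, 0, h => by omega
  | k + 1, n + 1, h => by
    have hkn : k ≤ n := by omega
    have ih := pow_le_pow_mul_choose k n hkn
    have h1 := Nat.add_one_mul_choose_eq n k
    have h2 : (n + 1) ^ k ≤ (k + 1) ^ k * n.choose k := by
      rcases Nat.eq_zero_or_pos k with rfl | hk
      · simp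
      · have hkp : 0 < k ^ k := Nat.pow_pos hk
        refine Nat.le_of_mul_le_mul_left ?_ hkp
        calc k ^ k * (n + 1) ^ k = (k * (n + 1)) ^ k := (Nat.mul_pow _ _ _).symm
          _ ≤ ((k + 1) * n) ^ k := Nat.pow_le_pow_left (by nlinarith) k
          _ = (k + 1) ^ k * n ^ k := Nat.mul_pow _ _ _
          _ ≤ (k + 1) ^ k * (k ^ k * n.choose k) := Nat.mul_le_mul_left _ ih
          _ = k ^ k * ((k + 1) ^ k * n.choose k) := by ring
    calc (n + 1) ^ (k + 1) = (n + 1) ^ k * (n + 1) := pow_succ _ _
      _ ≤ ((k + 1) ^ k * n.choose k) * (n + 1) := Nat.mul_le_mul_right _ h2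
      _ = (k + 1) ^ k * ((n + 1) * n.choose k) := by ring
      _ = (k + 1) ^ k * ((n + 1).choose (k + 1) * (k + 1)) := by rw [h1]
      _ = (k + 1) ^ (k + 1) * (n + 1).choose (k + 1) := by ring

/-- Growth of `m.choose k` while `2 * m ≤ 5 * k`. -/
theorem five_mul_choose_le {m k : ℕ} (h1 : k ≤ m) (h2 : 2 * (m + 1) ≤ 5 * k) :
    5 * m.choose k ≤ 3 * (m + 1).choose k := by
  have h := Nat.choose_mul_succ_eq m k
  have hpos : 0 < m + 1 - k := by omega
  refine Nat.le_of_mul_le_mul_right ?_ hpos
  have h3 : 5 * (m + 1 - k) ≤ 3 * (m + 1) := by omega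
  calc 5 * m.choose k * (m + 1 - k) = m.choose k * (5 * (m + 1 - k)) := by ring
    _ ≤ m.choose k * (3 * (m + 1)) := Nat.mul_le_mul_left _ h3
    _ = 3 * (m.choose k * (m + 1)) := by ring
    _ = 3 * (m + 1).choose k * (m + 1 - k) := by rw [h]; ring

theorem five_pow_mul_choose_le (k : ℕ) : ∀ j, 2 * (2 * k + j) ≤ 5 * k →
    5 ^ j * (2 * k).choose k ≤ 3 ^ j * (2 * k + j).choose k
  | 0, _ => by simp
  | j + 1, h => by
    have ih := five_pow_mul_choose_le k j (by omega)
    have h1 := five_mul_choose_le (m := 2 * k + j) (k := k) (by omega) (by omega)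
    calc 5 ^ (j + 1) * (2 * k).choose k = 5 * (5 ^ j * (2 * k).choose k) := by ring
      _ ≤ 5 * (3 ^ j * (2 * k + j).choose k) := Nat.mul_le_mul_left _ ih
      _ = 3 ^ j * (5 * (2 * k + j).choose k) := by ring
      _ ≤ 3 ^ j * (3 * (2 * k + j + 1).choose k) := Nat.mul_le_mul_left _ h1
      _ = 3 ^ (j + 1) * (2 * k + (j + 1)).choose k := by
        rw [show 2 * k + (j + 1) = 2 * k + j + 1 by ring]; ring

theorem four_pow_mul_central_le {n k : ℕ} (h : 2 * k + k / 2 ≤ n) :
    4 ^ (k / 6) * (2 * k).choose k ≤ n.choose k := by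
  set i := k / 6 with hi
  have h1 := five_pow_mul_choose_le k (3 * i) (by omega)
  have h2 : (2 * k + 3 * i).choose k ≤ n.choose k := Nat.choose_le_choose k (by omega)
  have h3 : (0 : ℕ) < 27 ^ i := by positivity
  refine Nat.le_of_mul_le_mul_left ?_ h3
  have h4 : (27 : ℕ) ^ i * 4 ^ i ≤ 5 ^ (3 * i) := by
    rw [← Nat.mul_pow, pow_mul]
    exact Nat.pow_le_pow_left (by norm_num) i
  have h5 : (3 : ℕ) ^ (3 * i) = 27 ^ i := by rw [pow_mul]; norm_num
  calc 27 ^ i * (4 ^ i * (2 * k).choose k) = (27 ^ i * 4 ^ i) * (2 * k).choose k := by ring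
    _ ≤ 5 ^ (3 * i) * (2 * k).choose k := Nat.mul_le_mul_right _ h4
    _ ≤ 3 ^ (3 * i) * (2 * k + 3 * i).choose k := h1
    _ = 27 ^ i * (2 * k + 3 * i).choose k := by rw [h5]
    _ ≤ 27 ^ i * n.choose k := Nat.mul_le_mul_left _ h2


/-- Middle range inequality. -/
theorem ineq_mid {k n : ℕ} (hk : 5000 ≤ k) (hn : n < 16 * k) (hn0 : 0 < n) :
    2 * k * n ^ (Nat.sqrt n / 3 + 3) < 4 ^ (k / 6) := by
  have hkR : (5000 : ℝ) ≤ k := by exact_mod_cast hk
  set x : ℝ := Real.sqrt k with hx
  have hx0 : 0 ≤ x := Real.sqrt_nonneg _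
  have hxx : x ^ 2 = k := Real.sq_sqrt (by positivity)
  have hx70 : 70 ≤ x := by
    by_contra hcon
    push_neg at hcon
    nlinarith
  have hnR : (n : ℝ) < 16 * k := by exact_mod_cast hn
  have hn0R : (0 : ℝ) < n := by exact_mod_cast hn0
  set s := Nat.sqrt n with hs
  set A := s / 3 + 3 with hA
  have hss : (s : ℝ) ^ 2 ≤ n := by
    have : s * s ≤ n := Nat.sqrt_le n
    have h2 : ((s * s : ℕ) : ℝ) ≤ n := by exact_mod_cast this
    push_cast at h2
    nlinarith
  have hs4 : (s : ℝ) ≤ 4 * x := by
    by_contra hcon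
    push_neg at hcon
    nlinarith
  have hAR : (A : ℝ) ≤ 4 / 3 * x + 3 := by
    have h1 : (A : ℝ) ≤ s / 3 + 3 := by
      have h2 : A * 3 ≤ s + 9 := by omega
      have h3 : ((A * 3 : ℕ) : ℝ) ≤ ((s + 9 : ℕ) : ℝ) := by exact_mod_cast h2
      push_cast at h3
      linarith
    linarith
  have hlog2 : Real.log 2 < 0.6931471808 := Real.log_two_lt_d9
  have hlog2' : 0.6931471803 < Real.log 2 := Real.log_two_gt_d9
  -- the logarithm of `4 x`
  have hL : Real.log (4 * x) ≤ 4.5452 + x / 64 := by
    have h1 : Real.log (4 * x / 256) ≤ 4 * x / 256 - 1 :=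
      Real.log_le_sub_one_of_pos (by positivity)
    have h2 : Real.log (4 * x / 256) = Real.log (4 * x) - Real.log 256 := by
      rw [Real.log_div (by positivity) (by norm_num)]
    have h3 : Real.log 256 = 8 * Real.log 2 := by
      rw [show (256 : ℝ) = 2 ^ 8 by norm_num, Real.log_pow]; norm_num
    nlinarith
  have h16 : Real.log (16 * k) = 2 * Real.log (4 * x) := by
    rw [show (16 * (k : ℝ)) = (4 * x) ^ 2 by rw [mul_pow, hxx]; norm_num, Real.log_pow]
    norm_num
  have hlogn : Real.log n ≤ 2 * (4.5452 + x / 64) := by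
    have := Real.log_le_log hn0R hnR.le
    linarith
  have hlog2k : Real.log (2 * k) ≤ 2 * (4.5452 + x / 64) := by
    have h1 : Real.log (2 * k) ≤ Real.log (16 * k) :=
      Real.log_le_log (by positivity) (by linarith)
    linarith
  have hdiv : (k : ℝ) ≤ 6 * ((k / 6 : ℕ) : ℝ) + 5 := by
    have : k ≤ 6 * (k / 6) + 5 := by omega
    exact_mod_cast this
  have hlog4 : Real.log 4 = 2 * Real.log 2 := by
    rw [show (4 : ℝ) = 2 ^ 2 by norm_num, Real.log_pow]; norm_num
  have hLpos : 0 ≤ 4.5452 + x / 64 := by positivity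
  have hkey : Real.log (2 * k) + (A : ℝ) * Real.log n < ((k / 6 : ℕ) : ℝ) * Real.log 4 := by
    have h1 : (A : ℝ) * Real.log n ≤ (4 / 3 * x + 3) * (2 * (4.5452 + x / 64)) := by
      calc (A : ℝ) * Real.log n ≤ (A : ℝ) * (2 * (4.5452 + x / 64)) :=
            mul_le_mul_of_nonneg_left hlogn (by positivity)
        _ ≤ (4 / 3 * x + 3) * (2 * (4.5452 + x / 64)) :=
            mul_le_mul_of_nonneg_right hAR (by positivity)
    have h2 : ((k / 6 : ℕ) : ℝ) * Real.log 4 ≥ ((x ^ 2 - 5) / 6) * 1.386 := by
      have h3 : ((x ^ 2 - 5) / 6) ≤ ((k / 6 : ℕ) : ℝ) := by rw [hxx]; linarith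
      have h4 : (1.386 : ℝ) ≤ Real.log 4 := by rw [hlog4]; linarith
      have h5 : 0 ≤ (x ^ 2 - 5) / 6 := by nlinarith
      calc ((x ^ 2 - 5) / 6) * 1.386 ≤ ((k / 6 : ℕ) : ℝ) * 1.386 :=
            mul_le_mul_of_nonneg_right h3 (by norm_num)
        _ ≤ ((k / 6 : ℕ) : ℝ) * Real.log 4 :=
            mul_le_mul_of_nonneg_left h4 (by positivity)
    nlinarith
  have hlog : Real.log ((2 * k : ℝ) * (n : ℝ) ^ A) < Real.log ((4 : ℝ) ^ (k / 6)) := by
    rw [Real.log_mul (by positivity) (by positivity), Real.log_pow, Real.log_pow]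
    exact hkey
  have hlt := (Real.log_lt_log_iff (by positivity) (by positivity)).1 hlog
  exact_mod_cast hlt

/-- Upper range inequality. -/
theorem ineq_high {k n : ℕ} (hk : 5000 ≤ k) (h16 : 16 * k ≤ n) (h5 : n ^ 5 ≤ k ^ 8) :
    n ^ (Nat.sqrt n / 3 + 3) < 4 ^ k := by
  have hkR : (5000 : ℝ) ≤ k := by exact_mod_cast hk
  have hnR : (80000 : ℝ) ≤ n := by
    have : 80000 ≤ n := by omega
    exact_mod_cast this
  have hn0R : (0 : ℝ) < n := by linarith
  set v : ℝ := Real.sqrt (Real.sqrt (Real.sqrt n)) with hv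
  have hv0 : 0 ≤ v := Real.sqrt_nonneg _
  have h2 : v ^ 2 = Real.sqrt (Real.sqrt n) := Real.sq_sqrt (Real.sqrt_nonneg _)
  have h4 : v ^ 4 = Real.sqrt n := by
    rw [show v ^ 4 = (v ^ 2) ^ 2 by ring, h2]
    exact Real.sq_sqrt (Real.sqrt_nonneg _)
  have h8 : v ^ 8 = n := by
    rw [show v ^ 8 = (v ^ 4) ^ 2 by ring, h4]
    exact Real.sq_sqrt hn0R.le
  have hv4 : 4 ≤ v := by
    by_contra hcon
    push_neg at hcon
    have : v ^ 8 < 4 ^ 8 := pow_lt_pow_left₀ hcon hv0 (by norm_num)
    rw [h8] at this
    norm_num at this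
    linarith
  have hv5 : v ^ 5 ≤ k := by
    have h1 : (v ^ 5) ^ 8 ≤ (k : ℝ) ^ 8 := by
      rw [show (v ^ 5) ^ 8 = (v ^ 8) ^ 5 by ring, h8]
      exact_mod_cast h5
    exact le_of_pow_le_pow_left₀ (by norm_num) (by positivity) h1
  set s := Nat.sqrt n with hs
  set A := s / 3 + 3 with hA
  have hsR : (s : ℝ) ≤ v ^ 4 := by
    rw [h4]
    exact Real.nat_sqrt_le_real_sqrt
  have hAR : (A : ℝ) ≤ v ^ 4 / 3 + 3 := by
    have h1 : (A : ℝ) ≤ s / 3 + 3 := by
      have h2 : A * 3 ≤ s + 9 := by omega
      have h3 : ((A * 3 : ℕ) : ℝ) ≤ ((s + 9 : ℕ) : ℝ) := by exact_mod_cast h2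
      push_cast at h3
      linarith
    linarith
  have hvpos : 0 < v := by linarith
  have hlogv : Real.log v ≤ v / 2.7 := by
    have h1 : Real.log (v / Real.exp 1) ≤ v / Real.exp 1 - 1 :=
      Real.log_le_sub_one_of_pos (by positivity)
    rw [Real.log_div hvpos.ne' (Real.exp_pos 1).ne', Real.log_exp] at h1
    have h3 : v / Real.exp 1 ≤ v / 2.7 := by
      apply div_le_div_of_nonneg_left hv0 (by norm_num)
      have := Real.exp_one_gt_d9
      linarith
    linarith
  have hlogn : Real.log n = 8 * Real.log v := by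
    rw [← h8, Real.log_pow]; norm_num
  have hlog2' : 0.6931471803 < Real.log 2 := Real.log_two_gt_d9
  have hlog4 : Real.log 4 = 2 * Real.log 2 := by
    rw [show (4 : ℝ) = 2 ^ 2 by norm_num, Real.log_pow]; norm_num
  have hv44 : (256 : ℝ) ≤ v ^ 4 := by
    have : (4 : ℝ) ^ 4 ≤ v ^ 4 := pow_le_pow_left₀ (by norm_num) hv4 4
    norm_num at this
    linarith
  have hv55 : 256 * v ≤ v ^ 5 := by
    rw [show v ^ 5 = v ^ 4 * v by ring]
    exact mul_le_mul_of_nonneg_right hv44 hv0
  have hkey : (A : ℝ) * Real.log n < (k : ℝ) * Real.log 4 := by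
    have h1 : (A : ℝ) * Real.log n ≤ (v ^ 4 / 3 + 3) * (8 * (v / 2.7)) := by
      rw [hlogn]
      calc (A : ℝ) * (8 * Real.log v) ≤ (A : ℝ) * (8 * (v / 2.7)) :=
            mul_le_mul_of_nonneg_left (by linarith) (by positivity)
        _ ≤ (v ^ 4 / 3 + 3) * (8 * (v / 2.7)) :=
            mul_le_mul_of_nonneg_right hAR (by positivity)
    have h2 : (v ^ 4 / 3 + 3) * (8 * (v / 2.7)) = 8 / 8.1 * v ^ 5 + 24 / 2.7 * v := by ring
    have h3 : (v ^ 5) * 1.386 ≤ (k : ℝ) * Real.log 4 := by
      have h4 : (1.386 : ℝ) ≤ Real.log 4 := by rw [hlog4]; linarith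
      calc (v ^ 5) * 1.386 ≤ (k : ℝ) * 1.386 := mul_le_mul_of_nonneg_right hv5 (by norm_num)
        _ ≤ (k : ℝ) * Real.log 4 := mul_le_mul_of_nonneg_left h4 (by positivity)
    rw [h2] at h1
    nlinarith
  have hlog : Real.log ((n : ℝ) ^ A) < Real.log ((4 : ℝ) ^ k) := by
    rw [Real.log_pow, Real.log_pow]
    exact hkey
  have hlt := (Real.log_lt_log_iff (by positivity) (by positivity)).1 hlog
  exact_mod_cast hlt

/-- For `k ≥ 72` a smooth binomial coefficient has `n ≤ k ^ (8 / 5)`. -/
theorem n_bound {k n : ℕ} (hk : 72 ≤ k) (h2k : 2 * k ≤ n)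
    (hsm : ∀ p, p.Prime → p ∣ n.choose k → p ≤ k) : n ^ 5 ≤ k ^ 8 := by
  by_contra hcon
  push_neg at hcon
  have hn : 0 < n := by omega
  have h1 := pow_le_pow_mul_choose k n (by omega)
  have h2 := choose_le_pow_of_smooth (by omega) hn hsm
  have h3 : n.choose k ≤ n ^ (k / 3 + 3) :=
    h2.trans (Nat.pow_le_pow_right hn (card_primes_le k))
  set e := k - (k / 3 + 3) with he
  have h4 : n ^ k = n ^ e * n ^ (k / 3 + 3) := by
    rw [← pow_add]; congr 1; omega
  have h5 : n ^ e ≤ k ^ k := by
    have h6 : n ^ e * n ^ (k / 3 + 3) ≤ k ^ k * n ^ (k / 3 + 3) := by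
      rw [← h4]
      exact h1.trans (Nat.mul_le_mul_left _ h3)
    exact Nat.le_of_mul_le_mul_right h6 (Nat.pow_pos hn)
  have he0 : e ≠ 0 := by omega
  have h6 : (k ^ 8) ^ e < (n ^ 5) ^ e := Nat.pow_lt_pow_left hcon he0
  have h7 : (n ^ 5) ^ e ≤ (k ^ k) ^ 5 := by
    rw [show (n ^ 5) ^ e = (n ^ e) ^ 5 by rw [← pow_mul, ← pow_mul, mul_comm]]
    exact Nat.pow_le_pow_left h5 5
  have h8 : k ^ (8 * e) < k ^ (k * 5) := by
    rw [pow_mul, pow_mul]
    exact lt_of_lt_of_le h6 h7
  have h9 : 8 * e < k * 5 := (Nat.pow_lt_pow_iff_right (by omega)).1 h8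
  omega

/-- Trial divisors: the primes below `916`. -/
def trialL : List ℕ :=
  [2, 3, 5, 7, 11, 13, 17, 19, 23, 29, 31, 37, 41, 43, 47, 53, 59, 61, 67, 71, 73, 79, 83, 89, 97, 101, 103, 107, 109, 113, 127, 131, 137, 139, 149, 151, 157, 163, 167, 173, 179, 181, 191, 193, 197, 199, 211, 223, 227, 229, 233, 239, 241, 251, 257, 263, 269, 271, 277, 281, 283, 293, 307, 311, 313, 317, 331, 337, 347, 349, 353, 359, 367, 373, 379, 383, 389, 397, 401, 409, 419, 421, 431, 433, 439, 443, 449, 457, 461, 463, 467, 479, 487, 491, 499, 503, 509, 521, 523, 541, 547, 557, 563, 569, 571, 577, 587, 593, 599, 601, 607, 613, 617, 619, 631, 641, 643, 647, 653, 659, 661, 673, 677, 683, 691, 701, 709, 719, 727, 733, 739, 743, 751, 757, 761, 769, 773, 787, 797, 809, 811, 821, 823, 827, 829, 839, 853, 857, 859, 863, 877, 881, 883, 887, 907, 911]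

/-- Every number below `916` is small, listed, or has a small proper divisor. -/
def trialCheck (m : ℕ) : Bool :=
  Nat.blt m 2 || trialL.contains m ||
    [2, 3, 5, 7, 11, 13, 17, 19, 23, 29].any (fun d => Nat.blt d m && Nat.beq (m % d) 0)

theorem trialCheck_ok : (List.range 916).all trialCheck = true := by decide +kernel

theorem mem_trialL {m : ℕ} (hm : m < 916) (hp : m.Prime) : m ∈ trialL := by
  have h := List.all_eq_true.1 trialCheck_ok m (List.mem_range.2 hm)
  simp only [trialCheck, Bool.or_eq_true, Nat.blt_eq, List.contains_iff_mem, List.any_eq_true,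
    Bool.and_eq_true, Nat.beq_eq] at h
  rcases h with (h | h) | ⟨d, hd, h1, h2⟩
  · exact absurd hp.two_le (by omega)
  · exact h
  · exfalso
    have hdvd : d ∣ m := Nat.dvd_of_mod_eq_zero h2
    have hd1 : d ≠ 1 := by
      rintro rfl
      simp at hd
    rcases (Nat.dvd_prime hp).1 hdvd with h3 | h3
    · exact hd1 h3
    · omega

/-- Trial division. -/
def isP (p : ℕ) : Bool :=
  Nat.ble 2 p && Nat.blt p 837225 && trialL.all (fun d => Nat.ble p d || !(Nat.beq (p % d) 0))

theorem isP_prime {p : ℕ} (h : isP p = true) : p.Prime := by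
  simp only [isP, Bool.and_eq_true, Nat.ble_eq, Nat.blt_eq, List.all_eq_true, Bool.or_eq_true,
    Bool.not_eq_true'] at h
  obtain ⟨⟨h2, hlt⟩, hall⟩ := h
  by_contra hnp
  have hm := Nat.minFac_prime (n := p) (by omega)
  have hsq := Nat.minFac_sq_le_self (by omega) hnp
  have hlt2 : p.minFac < 916 := by
    by_contra hge
    push_neg at hge
    have : 916 ^ 2 ≤ p.minFac ^ 2 := Nat.pow_le_pow_left hge 2
    omega
  have hmem : p.minFac ∈ trialL := mem_trialL hlt2 hm
  rcases hall _ hmem with h3 | h3
  · have h4 : p.minFac ≤ p := Nat.minFac_le (by omega)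
    have h5 : p.minFac = p := by omega
    exact hnp (by rw [← h5]; exact hm)
  · have h4 : p % p.minFac = 0 := Nat.mod_eq_zero_of_dvd (Nat.minFac_dvd p)
    simp only [h4] at h3
    exact absurd h3 (by simp)

/-- A chain of primes with gaps at most `g`, reaching `hi`. -/
def chainOk (g hi : ℕ) : List ℕ → Bool
  | [] => false
  | [a] => isP a && Nat.ble hi a
  | a :: b :: t => isP a && Nat.ble b (a + g) && chainOk g hi (b :: t)

theorem chain_cover {g hi : ℕ} (hg : 0 < g) : ∀ (t : List ℕ) (a : ℕ),
    chainOk g hi (a :: t) = true → ∀ n, a ≤ n → n ≤ hi → ∃ p, p.Prime ∧ p ≤ n ∧ n < p + g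
  | [], a, h, n, h1, h2 => by
    simp only [chainOk, Bool.and_eq_true, Nat.ble_eq] at h
    exact ⟨a, isP_prime h.1, h1, by omega⟩
  | b :: t, a, h, n, h1, h2 => by
    simp only [chainOk, Bool.and_eq_true, Nat.ble_eq] at h
    obtain ⟨⟨h3, h4⟩, h5⟩ := h
    by_cases hnb : n < b
    · exact ⟨a, isP_prime h3, h1, by omega⟩
    · exact chain_cover hg t b h5 n (by omega) h2


def chainA : List ℕ :=
  [139, 211, 283, 353, 421, 491, 563, 631, 701, 773, 839, 911, 983, 1051,
   1123, 1193, 1259, 1327, 1399, 1471, 1543, 1613, 1669, 1741, 1811, 1879, 1951, 2017,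
   2089, 2161, 2221, 2293, 2357, 2423, 2477, 2549, 2621, 2693, 2753, 2819, 2887, 2957,
   3023, 3089, 3137, 3209, 3271, 3343, 3413, 3469, 3541, 3613, 3677, 3739, 3803, 3863,
   3931, 4003, 4073, 4139, 4211, 4283, 4349, 4421, 4493, 4561, 4621, 4691, 4759, 4831,
   4903, 4973, 5039, 5107, 5179, 5237, 5309, 5381, 5449, 5521, 5591, 5659, 5717, 5783,
   5851, 5923, 5987, 6053, 6121, 6173, 6229, 6301, 6373, 6427, 6491, 6563, 6619, 6691,
   6763, 6833, 6899, 6971, 7043, 7109, 7177, 7247, 7309, 7369, 7433, 7499, 7561, 7621,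
   7691, 7759, 7829, 7901, 7963, 8017, 8089, 8161, 8233, 8297, 8369, 8431, 8501, 8573,
   8641, 8713, 8783, 8849, 8893, 8963, 9029, 9091, 9161, 9227, 9293, 9349, 9421, 9491,
   9551, 9623, 9689, 9749, 9817, 9887, 9949, 10009, 10079, 10151, 10223, 10289, 10357, 10429,
   10501, 10567, 10639, 10711, 10781, 10853, 10909, 10979, 11047, 11119, 11177, 11243, 11311, 11383,
   11447, 11519, 11587, 11657, 11719, 11789, 11839, 11909, 11981, 12049, 12119, 12163, 12227, 12289,
   12347, 12413, 12479, 12547, 12619, 12689, 12757, 12829, 12899, 12967, 13037, 13109, 13177, 13249,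
   13313, 13381, 13451, 13523, 13591, 13649, 13721, 13789, 13859, 13931, 13999, 14071, 14143, 14207,
   14251, 14323, 14389, 14461, 14533, 14593, 14657, 14723, 14783, 14851, 14923, 14983, 15053, 15121,
   15193, 15263, 15331, 15401, 15473, 15541, 15607, 15679, 15749, 15817, 15889, 15959, 16007, 16073,
   16141, 16193, 16253, 16319, 16381, 16453, 16519, 16573, 16633, 16703, 16763, 16831, 16903, 16963,
   17033, 17099, 17167, 17239, 17299, 17359, 17431, 17497, 17569, 17627, 17683, 17749, 17807, 17863,
   17929, 17989, 18061, 18133, 18199, 18269, 18341, 18413, 18481, 18553, 18617, 18679, 18749, 18803,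
   18869, 18919, 18979, 19051, 19121, 19183, 19249, 19319, 19391, 19463, 19531, 19603, 19661, 19727,
   19793, 19861, 19927, 19997, 20063, 20129, 20201, 20269, 20341, 20411, 20483, 20551, 20611, 20681,
   20753]

def chainB : List ℕ :=
  [997, 1493, 1993, 2477, 2971, 3469, 3967, 4463, 4957, 5449, 5939, 6427, 6917, 7417,
   7907, 8389, 8887, 9377, 9871, 10369, 10867, 11353, 11839, 12329, 12829, 13327, 13807, 14303,
   14797, 15289, 15787, 16273, 16763, 17257, 17749, 18233, 18731, 19231, 19727, 20219, 20719, 21211,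
   21701, 22193, 22691, 23189, 23689, 24181, 24677, 25171, 25667, 26161, 26647, 27143, 27631, 28123,
   28621, 29101, 29599, 30097, 30593, 31091, 31583, 32083, 32579, 33073, 33569, 34061, 34549, 35027,
   35527, 36017, 36497, 36997, 37493, 37993, 38461, 38959, 39451, 39937, 40433, 40933, 41413, 41911,
   42409, 42901, 43399, 43891, 44389, 44887, 45377, 45869, 46351, 46831, 47317, 47809, 48299, 48799,
   49297, 49789, 50287, 50777, 51263, 51749, 52249, 52747, 53239, 53731, 54217, 54713, 55213, 55711,
   56209, 56701, 57193, 57689, 58189, 58687, 59183, 59671, 60169, 60661, 61153, 61651, 62143, 62639,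
   63131, 63629, 64123, 64621, 65119, 65617, 66109, 66601, 67079, 67579, 68071, 68567, 69067, 69557,
   70051, 70549, 71039, 71537, 72031, 72503, 72997, 73483, 73973, 74471, 74959, 75437, 75937, 76423,
   76919, 77419, 77899, 78367, 78857, 79357, 79847, 80347, 80833, 81331, 81817, 82307, 82799, 83299,
   83791, 84263, 84761, 85259, 85751, 86249, 86743, 87223, 87721, 88211, 88681, 89153, 89653, 90149,
   90647, 91141, 91639, 92119, 92593, 93089, 93581, 94079, 94573, 95071, 95569, 96059, 96557, 97039,
   97523, 98017, 98507, 98999, 99497, 99991, 100483, 100981, 101477, 101977, 102461, 102953, 103451, 103951,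
   104417, 104917, 105407, 105907, 106397, 106877, 107377, 107873, 108359, 108827, 109321, 109819, 110311, 110807,
   111301, 111799, 112297, 112787, 113287, 113783, 114281, 114781, 115279, 115777, 116273, 116747, 117241, 117731,
   118219, 118717, 119191, 119689, 120181, 120677, 121171, 121661, 122149, 122611, 123091, 123583, 124067, 124567,
   125063, 125551, 126047, 126547, 127037, 127529, 128021, 128521, 129011, 129509, 130003, 130489, 130987, 131479,
   131969, 132469, 132967, 133451, 133949, 134443, 134923, 135409, 135899, 136399, 136897, 137393, 137873, 138373,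
   138869, 139369, 139861, 140351, 140839, 141319, 141811, 142297, 142789, 143287, 143779, 144271, 144763, 145259,
   145759, 146249, 146749, 147229, 147727, 148207, 148693, 149183, 149629, 150107, 150607, 151091, 151579, 152077,
   152567, 153067, 153563, 154061, 154543, 155027, 155521, 156019, 156511, 157007, 157489, 157951, 158449, 158941,
   159437, 159937, 160423, 160907, 161407, 161881, 162359, 162859, 163351, 163847, 164341, 164839, 165331, 165829,
   166319, 166807, 167269, 167759, 168253, 168743, 169243, 169733, 170231, 170711, 171203, 171697, 172181, 172681,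
   173177, 173671, 174169, 174659, 175141, 175633, 176129, 176629, 177127, 177623, 178117, 178613, 179111, 179603,
   180097, 180569, 181063, 181553, 182047, 182537, 183037, 183527, 184013, 184511, 184999, 185491, 185987, 186481,
   186959, 187441, 187931, 188431, 188927, 189421, 189913, 190409, 190909, 191353]

def chainC : List ℕ :=
  [3989, 5987, 7963, 9949, 11941, 13933, 15923, 17923, 19919, 21911, 23911, 25903, 27901, 29881,
   31873, 33871, 35869, 37861, 39857, 41851, 43801, 45779, 47779, 49757, 51749, 53731, 55721, 57719,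
   59707, 61703, 63703, 65701, 67699, 69697, 71693, 73693, 75689, 77689, 79687, 81677, 83663, 85661,
   87649, 89633, 91631, 93629, 95629, 97613, 99611, 101611, 103591, 105563, 107563, 109547, 111539, 113539,
   115523, 117517, 119513, 121507, 123503, 125497, 127493, 129491, 131489, 133481, 135479, 137477, 139459, 141443,
   143443, 145441, 147419, 149419, 151397, 153379, 155377, 157363, 159361, 161341, 163337, 165331, 167329, 169327,
   171317, 173309, 175309, 177301, 179287, 181283, 183283, 185267, 187237, 189229, 191227, 193201, 195197, 197161,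
   199153, 201151, 203141, 205141, 207139, 209123, 211097, 213097, 215087, 217081, 219071, 221071, 223063, 225061,
   227053, 229037, 231031, 233021, 235013, 237011, 238991, 240967, 242927, 244901, 246899, 248893, 250889, 252887,
   254887, 256877, 258871, 260863, 262853, 264839, 266839, 268823, 270821, 272813, 274811, 276781, 278767, 280759,
   282713, 284707, 286703, 288697, 290677, 292673, 294673, 296669, 298667, 300667, 302663, 304663, 306661, 308641,
   310627, 312623, 314623, 316621, 318601, 320591, 322591, 324589, 326581, 328579, 330569, 332569, 334561, 336551,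
   338543, 340541, 342527, 344497, 346469, 348463, 350459, 352459, 354451, 356449, 358447, 360439, 362431, 364423,
   366419, 368411, 370411, 372409, 374399, 376399, 378379, 380377, 382373, 384367, 386363, 388363, 390359, 392351,
   394327, 396323, 398323, 400321, 402313, 404309, 406309, 408283, 410281, 412277, 414277, 416263, 418259, 420253,
   422249, 424247, 426233, 428231, 430193, 432167, 434167, 436157, 438143, 440131, 442121, 444121, 446111, 448111,
   450103, 452087, 454079, 456061, 458057, 460051, 462041, 464033, 466033, 468029, 470021, 472019, 474017, 476009,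
   478001, 479971, 481963, 483953, 485941, 487933, 489913, 491899, 493897, 495893, 497873, 499853, 501841, 503827,
   505823, 507821, 509801, 511801, 513781, 515777, 517747, 519737, 521723, 523717, 525713, 527701, 529693, 531689,
   533671, 535669, 537661, 539653, 541631, 543617, 545617, 547609, 549607, 551597, 553591, 555589, 557573, 559571,
   561559, 563551, 565549, 567533, 569533, 571531, 573527, 575513, 577513, 579503, 581491, 583481, 585467, 587467,
   589453, 591443, 593429, 595411, 597409, 599407, 601397, 603391, 605369, 607363, 609361, 611333, 613297, 615289,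
   617273, 619273, 621259, 623221, 625213, 627197, 629177, 631171, 633161, 635149, 637139, 639137, 641131, 643129,
   645097, 647081, 649081, 651071, 653057, 655043, 657029, 659023, 661019, 663007, 664997, 666989, 668989, 670987,
   672983, 674977, 676967, 678959, 680959, 682951, 684949, 686947, 688939, 690929, 692929, 694919, 696907, 698903,
   700897, 702893, 704867, 706847, 708839, 710839, 712837, 714827, 716827, 718813, 720793, 722791, 724783, 726779,
   728771, 730757, 732749, 734743, 736741, 738721, 740717, 742717, 744707, 746677, 748669, 750667, 752651, 754651,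
   756649, 758633, 760621, 762599, 764593, 766583, 768571, 770557, 772537, 774523, 776521, 778513, 780499, 782497,
   784489, 786469, 788467, 790459, 792443, 794413, 796409, 798409, 800407, 802387, 804383, 806383, 808373, 810367,
   812363, 814337, 816329, 818327, 820321, 822317, 824287, 826283, 828277, 830267]

def chainD : List ℕ :=
  [67, 101, 131, 163, 197, 229, 263, 293, 317, 349, 383, 409]

def primesS : List ℕ :=
  [2, 3, 5, 7, 11, 13, 17, 19, 23, 29, 31, 37, 41, 43,
   47, 53, 59, 61, 67, 71, 73, 79, 83, 89, 97, 101, 103, 107,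
   109, 113, 127, 131, 137, 139, 149, 151, 157, 163, 167, 173, 179, 181,
   191, 193, 197, 199, 211, 223, 227, 229]

theorem chainA_ok : chainOk 72 20749 chainA = true := by decide +kernel

theorem chainB_ok : chainOk 500 191118 chainB = true := by decide +kernel

theorem chainC_ok : chainOk 2000 828349 chainC = true := by decide +kernel

theorem chainD_ok : chainOk 34 401 chainD = true := by decide +kernel

theorem primesS_ok : primesS.all isP = true := by decide +kernel

theorem chainD_head : chainD.head? = some 67 := by decide +kernel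

theorem chainA_head : chainA.head? = some 139 := by decide +kernel

theorem chainB_head : chainB.head? = some 997 := by decide +kernel

theorem chainC_head : chainC.head? = some 3989 := by decide +kernel

/-- Small `k`: the exponent count. -/
theorem small_count : ∀ k ∈ List.range' 1 71,
    ((Finset.range (k + 1)).filter Nat.Prime).card < k ∧
      k ^ k < (if k < 34 then 211 else 402) ^ (k - ((Finset.range (k + 1)).filter Nat.Prime).card) := by
  decide +kernel

/-- Small `k`: a prime in the window. -/
def smallWindowB : Bool :=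
  (List.range' 1 33).all fun k => (List.range' (2 * k) (211 - 2 * k)).all fun n =>
    primesS.any fun q => Nat.blt k q && Nat.blt ((n - k) / q) (n / q)

theorem smallWindowB_ok : smallWindowB = true := by decide +kernel

theorem small_window : ∀ k ∈ List.range' 1 33, ∀ n ∈ List.range' (2 * k) (211 - 2 * k),
    ∃ q ∈ primesS, k < q ∧ (n - k) / q < n / q := by
  intro k hk n hn
  have h := smallWindowB_ok
  simp only [smallWindowB, List.all_eq_true, List.any_eq_true, Bool.and_eq_true, Nat.blt_eq] at h
  exact h k hk n hn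

/-- **Sylvester–Schur**: `n.choose k`, `2 * k ≤ n`, has a prime factor larger than `k`. -/
theorem sylvester_schur {n k : ℕ} (hk : 1 ≤ k) (h2k : 2 * k ≤ n) :
    ∃ p, p.Prime ∧ k < p ∧ p ∣ n.choose k := by
  by_contra hcon
  push_neg at hcon
  have hsm : ∀ p, p.Prime → p ∣ n.choose k → p ≤ k := fun p hp hd => by
    by_contra hlt
    exact hcon p hp (by omega) hd
  have hkn : k ≤ n := by omega
  have hn : 0 < n := by omega
  -- a prime in a window of length at most `k` is impossible
  have hwin : ∀ p, p.Prime → p ≤ n → n < p + k → False := by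
    intro p hp h1 h2
    exact hcon p hp (by omega) (dvd_choose_of_window (t := 1) hp (by omega) hkn (by omega) (by omega))
  by_cases h72 : k < 72
  · -- small `k`
    have hk' : k ∈ List.range' 1 71 := by
      rw [List.mem_range'_1]; omega
    obtain ⟨hc, hc'⟩ := small_count k hk'
    set c := ((Finset.range (k + 1)).filter Nat.Prime).card with hcdef
    have hbound : ∀ B : ℕ, k ^ k < B ^ (k - c) → n < B := by
      intro B hB
      by_contra hlarge
      push_neg at hlarge
      have h1 := pow_le_pow_mul_choose k n hkn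
      have h2 := choose_le_pow_of_smooth hkn hn hsm
      have h4 : n ^ k = n ^ (k - c) * n ^ c := by
        rw [← pow_add]; congr 1; omega
      have h5 : n ^ (k - c) ≤ k ^ k := by
        have h6 : n ^ (k - c) * n ^ c ≤ k ^ k * n ^ c := by
          rw [← h4]
          exact h1.trans (Nat.mul_le_mul_left _ h2)
        exact Nat.le_of_mul_le_mul_right h6 (Nat.pow_pos hn)
      have h7 : B ^ (k - c) ≤ n ^ (k - c) := Nat.pow_le_pow_left hlarge _
      omega
    by_cases h34 : k < 34
    · rw [if_pos h34] at hc'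
      have h211 := hbound 211 hc'
      have hk'' : k ∈ List.range' 1 33 := by
        rw [List.mem_range'_1]; omega
      have hn' : n ∈ List.range' (2 * k) (211 - 2 * k) := by
        rw [List.mem_range'_1]; omega
      obtain ⟨q, hq, hkq, hw⟩ := small_window k hk'' n hn'
      have hqp : q.Prime := isP_prime (List.all_eq_true.1 primesS_ok q hq)
      have hq0 : 0 < q := hqp.pos
      refine hcon q hqp hkq (dvd_choose_of_window (t := n / q) hqp hkq hkn
        (Nat.div_mul_le_self n q) ?_)
      exact (Nat.div_lt_iff_lt_mul hq0).1 hw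
    · rw [if_neg h34] at hc'
      have h402 := hbound 402 hc'
      obtain ⟨a, t, hat⟩ : ∃ a t, chainD = a :: t := ⟨_, _, rfl⟩
      have hA := chainD_ok
      have hh := chainD_head
      rw [hat] at hA hh
      simp only [List.head?_cons, Option.some.injEq] at hh
      obtain ⟨p, hp, h1, h2⟩ := chain_cover (by norm_num) t a hA n (by omega) (by omega)
      exact hwin p hp h1 (by omega)
  push_neg at h72
  have h58 := n_bound h72 h2k hsm
  by_cases h500 : k < 500
  · have hlt : n ≤ 20749 := by
      by_contra hlarge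
      push_neg at hlarge
      have h1 : (20750 : ℕ) ^ 5 ≤ n ^ 5 := Nat.pow_le_pow_left (by omega) 5
      have h2 : k ^ 8 ≤ 499 ^ 8 := Nat.pow_le_pow_left (by omega) 8
      have h3 : (499 : ℕ) ^ 8 < 20750 ^ 5 := by norm_num
      omega
    obtain ⟨a, t, hat⟩ : ∃ a t, chainA = a :: t := ⟨_, _, rfl⟩
    have hA := chainA_ok
    have hh := chainA_head
    rw [hat] at hA hh
    simp only [List.head?_cons, Option.some.injEq] at hh
    obtain ⟨p, hp, h1, h2⟩ := chain_cover (by norm_num) t a hA n (by omega) hlt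
    exact hwin p hp h1 (by omega)
  push_neg at h500
  by_cases h2000 : k < 2000
  · have hlt : n ≤ 191118 := by
      by_contra hlarge
      push_neg at hlarge
      have h1 : (191119 : ℕ) ^ 5 ≤ n ^ 5 := Nat.pow_le_pow_left (by omega) 5
      have h2 : k ^ 8 ≤ 1999 ^ 8 := Nat.pow_le_pow_left (by omega) 8
      have h3 : (1999 : ℕ) ^ 8 < 191119 ^ 5 := by norm_num
      omega
    obtain ⟨a, t, hat⟩ : ∃ a t, chainB = a :: t := ⟨_, _, rfl⟩
    have hA := chainB_ok
    have hh := chainB_head
    rw [hat] at hA hh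
    simp only [List.head?_cons, Option.some.injEq] at hh
    obtain ⟨p, hp, h1, h2⟩ := chain_cover (by norm_num) t a hA n (by omega) hlt
    exact hwin p hp h1 (by omega)
  push_neg at h2000
  by_cases h5000 : k < 5000
  · have hlt : n ≤ 828349 := by
      by_contra hlarge
      push_neg at hlarge
      have h1 : (828350 : ℕ) ^ 5 ≤ n ^ 5 := Nat.pow_le_pow_left (by omega) 5
      have h2 : k ^ 8 ≤ 4999 ^ 8 := Nat.pow_le_pow_left (by omega) 8
      have h3 : (4999 : ℕ) ^ 8 < 828350 ^ 5 := by norm_num
      omega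
    obtain ⟨a, t, hat⟩ : ∃ a t, chainC = a :: t := ⟨_, _, rfl⟩
    have hA := chainC_ok
    have hh := chainC_head
    rw [hat] at hA hh
    simp only [List.head?_cons, Option.some.injEq] at hh
    obtain ⟨p, hp, h1, h2⟩ := chain_cover (by norm_num) t a hA n (by omega) hlt
    exact hwin p hp h1 (by omega)
  push_neg at h5000
  -- large `k`
  have hsmk : ∀ p, p.Prime → p ∣ n.choose k → p ≤ Nat.sqrt n ∨ p ≤ k :=
    fun p hp hd => Or.inr (hsm p hp hd)
  set A := Nat.sqrt n / 3 + 3 with hA
  by_cases h16 : 16 * k ≤ n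
  · -- high range
    have h1 := pow_le_pow_mul_choose k n hkn
    have h2 := choose_le_of_smooth hkn hn hsmk
    have h3 : 16 ^ k ≤ n.choose k := by
      have h4 : (16 * k) ^ k ≤ k ^ k * n.choose k :=
        (Nat.pow_le_pow_left h16 k).trans h1
      rw [Nat.mul_pow, mul_comm] at h4
      exact Nat.le_of_mul_le_mul_left h4 (Nat.pow_pos (by omega))
    have h4 : 4 ^ k * 4 ^ k ≤ n ^ A * 4 ^ k := by
      calc 4 ^ k * 4 ^ k = 16 ^ k := by rw [← Nat.mul_pow]
        _ ≤ n.choose k := h3
        _ ≤ n ^ A * 4 ^ k := h2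
    have h5 : 4 ^ k ≤ n ^ A := Nat.le_of_mul_le_mul_right h4 (Nat.pow_pos (by norm_num))
    have h6 := ineq_high h5000 h16 h58
    exact absurd h5 (not_le.2 h6)
  push_neg at h16
  have hmid := ineq_mid h5000 h16 hn
  have hcb : 4 ^ k ≤ 2 * k * (2 * k).choose k := by
    have := Nat.four_pow_le_two_mul_self_mul_centralBinom k (by omega)
    rwa [Nat.centralBinom_eq_two_mul_choose] at this
  by_cases h25 : 2 * k + k / 2 ≤ n
  · have h1 := four_pow_mul_central_le h25
    have h2 := choose_le_of_smooth hkn hn hsmk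
    have h3 : 4 ^ k * 4 ^ (k / 6) ≤ (2 * k * n ^ A) * 4 ^ k := by
      calc 4 ^ k * 4 ^ (k / 6) ≤ (2 * k * (2 * k).choose k) * 4 ^ (k / 6) :=
            Nat.mul_le_mul_right _ hcb
        _ = 2 * k * (4 ^ (k / 6) * (2 * k).choose k) := by ring
        _ ≤ 2 * k * n.choose k := Nat.mul_le_mul_left _ h1
        _ ≤ 2 * k * (n ^ A * 4 ^ k) := Nat.mul_le_mul_left _ h2
        _ = (2 * k * n ^ A) * 4 ^ k := by ring
    have h4 : 4 ^ (k / 6) ≤ 2 * k * n ^ A := by
      rw [mul_comm] at h3
      exact Nat.le_of_mul_le_mul_right h3 (Nat.pow_pos (by norm_num))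
    exact absurd h4 (not_le.2 hmid)
  · push_neg at h25
    -- primes above `n / 3` do not occur
    have hsmM : ∀ p, p.Prime → p ∣ n.choose k → p ≤ Nat.sqrt n ∨ p ≤ n / 3 := by
      intro p hp hd
      by_contra hcon2
      push_neg at hcon2
      have hv := Nat.factorization_choose_of_lt_three_mul (n := n) (k := k) (p := p)
        (by have := hcon2.2; omega) (hsm p hp hd) (by have := hsm p hp hd; omega)
        (by have := hcon2.2; omega)
      have hC : n.choose k ≠ 0 := (Nat.choose_pos hkn).ne'
      have := (hp.dvd_iff_one_le_factorization hC).1 hd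
      omega
    have h2 := choose_le_of_smooth hkn hn hsmM
    have h1 : (2 * k).choose k ≤ n.choose k := Nat.choose_le_choose k h2k
    have hsum : n / 3 + k / 6 ≤ k := by omega
    have h3 : 4 ^ (n / 3) * 4 ^ (k / 6) ≤ (2 * k * n ^ A) * 4 ^ (n / 3) := by
      calc 4 ^ (n / 3) * 4 ^ (k / 6) = 4 ^ (n / 3 + k / 6) := (pow_add _ _ _).symm
        _ ≤ 4 ^ k := Nat.pow_le_pow_right (by norm_num) hsum
        _ ≤ 2 * k * (2 * k).choose k := hcb
        _ ≤ 2 * k * n.choose k := Nat.mul_le_mul_left _ h1
        _ ≤ 2 * k * (n ^ A * 4 ^ (n / 3)) := Nat.mul_le_mul_left _ h2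
        _ = (2 * k * n ^ A) * 4 ^ (n / 3) := by ring
    have h4 : 4 ^ (k / 6) ≤ 2 * k * n ^ A := by
      rw [mul_comm] at h3
      exact Nat.le_of_mul_le_mul_right h3 (Nat.pow_pos (by norm_num))
    exact absurd h4 (not_le.2 hmid)

end Cfsg.Agent.Lib.SylvesterSchur
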