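import Mathlib
import Cfsg.Agent.Lib.SymAut2

set_option autoImplicit false

namespace Cfsg.Agent.Lib.SymS6

open Equiv Cfsg.Agent.Lib.SymAut Cfsg.Agent.Lib.SymAut2

/-- The colouring of the edges of `K₆` by one total of synthemes. -/
def col (i j : Fin 6) : Fin 5 :=
  if i.val = 5 then ⟨j.val % 5, by omega⟩
  else if j.val = 5 then ⟨i.val % 5, by omega⟩
  else ⟨(3 * (i.val + j.val)) % 5, by omega⟩

theorem col_symm (i j : Fin 6) : col i j = col j i := by
  revert i j; decide

/-- The subgroup of `S₆` preserving the 1-factorization: a copy of `PGL₂(5)`. -/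
def H6 : Subgroup (Perm (Fin 6)) where
  carrier := {g | ∀ i j k l : Fin 6, i ≠ j → k ≠ l → (col i j = col k l ↔ col (g i) (g j) = col (g k) (g l))}
  one_mem' := by intro i j k l _ _; simp
  mul_mem' := by
    intro a b ha hb i j k l hij hkl
    rw [hb i j k l hij hkl, ha (b i) (b j) (b k) (b l) (fun h => hij (b.injective h))
      (fun h => hkl (b.injective h))]
    rfl
  inv_mem' := by
    intro a ha i j k l hij hkl
    have := ha (a⁻¹ i) (a⁻¹ j) (a⁻¹ k) (a⁻¹ l) (fun h => hij (a⁻¹.injective h))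
      (fun h => hkl (a⁻¹.injective h))
    simp only [← Perm.mul_apply, mul_inv_cancel, Perm.one_apply] at this
    exact this.symm

/-- The quick test. -/
def H6b (g : Perm (Fin 6)) : Bool :=
  decide (∀ i j k l : Fin 6, i < j → k < l → (col i j = col k l ↔ col (g i) (g j) = col (g k) (g l)))

theorem mem_H6_iff (g : Perm (Fin 6)) : g ∈ H6 ↔ H6b g = true := by
  simp only [H6b, decide_eq_true_eq]
  constructor
  · intro h i j k l hij hkl
    exact h i j k l hij.ne hkl.ne
  · intro h i j k l hij hkl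
    rcases lt_or_gt_of_ne hij with h1 | h1 <;> rcases lt_or_gt_of_ne hkl with h2 | h2
    · exact h i j k l h1 h2
    · have := h i j l k h1 h2
      rwa [col_symm l k, col_symm (g l) (g k)] at this
    · have := h j i k l h1 h2
      rwa [col_symm j i, col_symm (g j) (g i)] at this
    · have := h j i l k h1 h2
      rwa [col_symm j i, col_symm (g j) (g i), col_symm l k, col_symm (g l) (g k)] at this

set_option maxRecDepth 100000 in
theorem card_H6b : (Finset.univ.filter (fun g : Perm (Fin 6) => H6b g = true)).card = 120 := by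
  decide +kernel

theorem card_H6 : Nat.card H6 = 120 := by
  classical
  rw [← card_H6b, Nat.card_eq_fintype_card, Fintype.card_subtype]
  congr 1
  ext g
  simp [mem_H6_iff]

theorem index_H6 : H6.index = 6 := by
  have h := Subgroup.card_mul_index H6
  rw [card_H6, Nat.card_perm] at h
  simp [Nat.factorial] at h
  omega

theorem swap_notMem_H6 (a b : Fin 6) (hab : a ≠ b) : Equiv.swap a b ∉ H6 := by
  rw [mem_H6_iff]
  revert a b
  decide +kernel

section Generic
variable {Ω : Type*} [Fintype Ω] [DecidableEq Ω]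

theorem exists_H2 (h6 : Fintype.card Ω = 6) :
    ∃ H₂ : Subgroup (Perm Ω), H₂.index = 6 ∧ ∀ a b : Ω, a ≠ b → Equiv.swap a b ∉ H₂ := by
  let e : Ω ≃ Fin 6 := Fintype.equivFinOfCardEq h6
  refine ⟨H6.comap (e.permCongrHom).toMonoidHom, ?_, ?_⟩
  · rw [Subgroup.index_comap_of_surjective _ (e.permCongrHom).surjective, index_H6]
  · intro a b hab h
    have h1 : e.permCongrHom (Equiv.swap a b) ∈ H6 := h
    have h2 : e.permCongrHom (Equiv.swap a b) = Equiv.swap (e a) (e b) := by
      exact Equiv.symm_trans_swap_trans a b e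
    rw [h2] at h1
    exact swap_notMem_H6 _ _ (fun h => hab (e.injective h)) h1

variable {Δ Δ₁ Δ₂ : Type*} [Fintype Δ] [DecidableEq Δ] [Fintype Δ₁] [DecidableEq Δ₁]
  [Fintype Δ₂] [DecidableEq Δ₂]

/-- All swaps have the same image type. -/
theorem all_swaps_type (φ : Perm Ω ≃* Perm Δ) {a b : Ω} (hab : a ≠ b)
    (h : (φ (Equiv.swap a b)).cycleType = Multiset.replicate 3 2) {a' b' : Ω} (hab' : a' ≠ b') :
    (φ (Equiv.swap a' b')).cycleType = Multiset.replicate 3 2 := by
  rw [← h, ← Perm.isConj_iff_cycleType_eq]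
  obtain ⟨g, hg⟩ := isConj_iff.1 (Perm.isConj_swap hab' hab)
  rw [isConj_iff]
  refine ⟨φ g, ?_⟩
  rw [← map_inv, ← map_mul, ← map_mul, hg]

theorem cycleType_swap_eq {α : Type*} [Fintype α] [DecidableEq α] {u v : α} (huv : u ≠ v) :
    (Equiv.swap u v).cycleType = Multiset.replicate 1 2 := by
  rw [(Perm.isCycle_swap huv).cycleType, Perm.support_swap huv, Finset.card_pair huv]
  rfl

theorem replicate_ne : (Multiset.replicate 3 2 : Multiset ℕ) ≠ Multiset.replicate 1 2 := by
  intro h
  have := congrArg Multiset.card h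
  simp at this

/-- Two isomorphisms of "outer type" differ by an isomorphism preserving swaps. -/
theorem theta_swaps (h6 : Fintype.card Ω = 6) (h61 : Fintype.card Δ₁ = 6) (h62 : Fintype.card Δ₂ = 6)
    (φ₁ : Perm Ω ≃* Perm Δ₁) (φ₂ : Perm Ω ≃* Perm Δ₂)
    (h₁ : ∀ a b : Ω, a ≠ b → (φ₁ (Equiv.swap a b)).cycleType = Multiset.replicate 3 2)
    (h₂ : ∀ a b : Ω, a ≠ b → (φ₂ (Equiv.swap a b)).cycleType = Multiset.replicate 3 2)
    {u v : Δ₂} (huv : u ≠ v) : ((φ₂.symm.trans φ₁) (Equiv.swap u v)).IsSwap := by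
  have hnt : Nontrivial Ω := by
    rw [← Fintype.one_lt_card_iff_nontrivial]; omega
  obtain ⟨a0, b0, hab0⟩ := exists_pair_ne Ω
  set t := φ₂.symm (Equiv.swap u v) with ht
  have hφt : φ₂ t = Equiv.swap u v := by rw [ht]; simp
  have hne : ∀ {α : Type _} [DecidableEq α] {u v : α}, u ≠ v → Equiv.swap u v ≠ (1 : Perm α) := by
    intro α _ u v huv h
    have : Equiv.swap u v u = u := by rw [h]; rfl
    rw [Equiv.swap_apply_left] at this
    exact huv this.symm
  have ht1 : t ≠ 1 := by
    intro h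
    rw [h, map_one] at hφt
    exact hne huv hφt.symm
  have ht2 : t ^ 2 = 1 := by
    apply φ₂.injective
    rw [map_pow, hφt, pow_two, Equiv.swap_mul_self, map_one]
  have hcent : Nat.card (Subgroup.centralizer {t}) = (6 - 2).factorial * 2 := by
    rw [← card_centralizer_map φ₂ t, hφt, swap_type huv, h62]
  obtain ⟨k, hk1, hk2, hk3, hk4⟩ := involution_type t ht1 ht2
  rw [hcent, h6] at hk4
  have hk : k = 3 := by
    rcases centralizer_numeric 6 k hk1 (by omega) hk4 with h | ⟨-, h⟩
    · exfalso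
      subst h
      obtain ⟨a, b, hab, hts⟩ := isSwap_of_type t hk3
      have h3 := h₂ a b hab
      rw [← hts, hφt, cycleType_swap_eq huv] at h3
      exact replicate_ne h3.symm
    · exact h
  subst hk
  have hw : (φ₂.symm.trans φ₁) (Equiv.swap u v) = φ₁ t := rfl
  rw [hw]
  have hw1 : φ₁ t ≠ 1 := by
    intro h
    exact ht1 (φ₁.injective (by rw [h, map_one]))
  have hw2 : (φ₁ t) ^ 2 = 1 := by rw [← map_pow, ht2, map_one]
  obtain ⟨k', hk1', hk2', hk3', hk4'⟩ := involution_type (φ₁ t) hw1 hw2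
  rw [card_centralizer_map φ₁ t, hcent, h61] at hk4'
  rcases centralizer_numeric 6 k' hk1' (by omega) hk4' with h | ⟨-, h⟩
  · subst h
    exact isSwap_of_type _ hk3'
  · exfalso
    subst h
    have hconj : IsConj (φ₁ t) (φ₁ (Equiv.swap a0 b0)) := by
      rw [Perm.isConj_iff_cycleType_eq, hk3', h₁ a0 b0 hab0]
    obtain ⟨c, hc⟩ := isConj_iff.1 hconj
    obtain ⟨c', rfl⟩ := φ₁.surjective c
    have h7 : c' * t * c'⁻¹ = Equiv.swap a0 b0 := by
      apply φ₁.injective
      rw [map_mul, map_mul, map_inv, hc]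
    have h8 : IsConj t (Equiv.swap a0 b0) := isConj_iff.2 ⟨c', h7⟩
    have h9 := Perm.isConj_iff_cycleType_eq.1 h8
    rw [hk3, cycleType_swap_eq hab0] at h9
    exact replicate_ne h9

/-- A subgroup of index 6 containing no swap: swaps act without fixed points. -/
theorem image_type_of_no_swap (h6 : Fintype.card Ω = 6) (H : Subgroup (Perm Ω)) (hidx : H.index = 6)
    (hno : ∀ a b : Ω, a ≠ b → Equiv.swap a b ∉ H) (hfin : Fintype (Perm Ω ⧸ H))
    (hdec : DecidableEq (Perm Ω ⧸ H)) {a b : Ω} (hab : a ≠ b) :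
    (cosetEquiv (by omega) H (by omega) (Equiv.swap a b)).cycleType = Multiset.replicate 3 2 := by
  have hcard : Fintype.card (Perm Ω ⧸ H) = Fintype.card Ω := by
    rw [h6, ← Nat.card_eq_fintype_card, ← Subgroup.index_eq_card, hidx]
  rcases image_swap_type (cosetEquiv (by omega) H (by omega)) hcard hab with h | ⟨-, h⟩
  · exfalso
    obtain ⟨c, d, hcd, hcdeq⟩ := h
    -- a fixed point
    obtain ⟨e, he⟩ : ∃ e : Perm Ω ⧸ H, e ≠ c ∧ e ≠ d := by
      by_contra hcon
      push Not at hcon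
      have hsub : (Finset.univ : Finset (Perm Ω ⧸ H)) ⊆ {c, d} := by
        intro x _
        by_cases hx : x = c
        · simp [hx]
        · simp [hcon x hx]
      have h1 := Finset.card_le_card hsub
      rw [Finset.card_univ, hcard, h6, Finset.card_pair hcd] at h1
      omega
    obtain ⟨g, rfl⟩ := QuotientGroup.mk_surjective e
    have hfix : cosetEquiv (by omega) H (by omega) (Equiv.swap a b) (g : Perm Ω ⧸ H) = g := by
      rw [hcdeq]
      exact Equiv.swap_apply_of_ne_of_ne he.1 he.2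
    rw [cosetEquiv_apply] at hfix
    have h2 : ((Equiv.swap a b * g : Perm Ω) : Perm Ω ⧸ H) = g := hfix
    rw [QuotientGroup.eq] at h2
    have h3 : (Equiv.swap a b * g)⁻¹ * g = Equiv.swap (g⁻¹ a) (g⁻¹ b) := by
      rw [Equiv.swap_apply_apply, mul_inv_rev, Equiv.swap_inv, inv_inv, mul_assoc]
    rw [h3] at h2
    exact hno _ _ (fun h => hab (g⁻¹.injective h)) h2
  · exact h

/-- The classification of subgroups of index 6 in `S₆`. -/
theorem classify (h6 : Fintype.card Ω = 6) (H₂ : Subgroup (Perm Ω)) (hidx₂ : H₂.index = 6)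
    (hno : ∀ a b : Ω, a ≠ b → Equiv.swap a b ∉ H₂) (H : Subgroup (Perm Ω)) (hidx : H.index = 6) :
    (∃ x : Ω, H = MulAction.stabilizer (Perm Ω) x) ∨
    (∃ d : Perm Ω ⧸ H₂, H = (MulAction.stabilizer (Perm (Perm Ω ⧸ H₂)) d).comap
      (cosetEquiv (by omega) H₂ (by omega)).toMonoidHom) := by
  classical
  let _ : Fintype (Perm Ω ⧸ H) := Fintype.ofFinite _
  let _ : Fintype (Perm Ω ⧸ H₂) := Fintype.ofFinite _
  have hcard : Fintype.card (Perm Ω ⧸ H) = Fintype.card Ω := by
    rw [h6, ← Nat.card_eq_fintype_card, ← Subgroup.index_eq_card, hidx]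
  have hcard₂ : Fintype.card (Perm Ω ⧸ H₂) = Fintype.card Ω := by
    rw [h6, ← Nat.card_eq_fintype_card, ← Subgroup.index_eq_card, hidx₂]
  let φ : Perm Ω ≃* Perm (Perm Ω ⧸ H) := cosetEquiv (by omega) H (by omega)
  let ψ : Perm Ω ≃* Perm (Perm Ω ⧸ H₂) := cosetEquiv (by omega) H₂ (by omega)
  have hcomap : (MulAction.stabilizer (Perm (Perm Ω ⧸ H)) ((1 : Perm Ω) : Perm Ω ⧸ H)).comap
      φ.toMonoidHom = H := comap_cosetEquiv _ H _
  by_cases hall : ∀ a b : Ω, a ≠ b → (φ (Equiv.swap a b)).IsSwap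
  · left
    obtain ⟨x, hx⟩ := comap_stabilizer_eq φ hall hcard (by omega) ((1 : Perm Ω) : Perm Ω ⧸ H)
    exact ⟨x, by rw [← hx, hcomap]⟩
  · right
    push Not at hall
    obtain ⟨a, b, hab, hnot⟩ := hall
    have hty : (φ (Equiv.swap a b)).cycleType = Multiset.replicate 3 2 := by
      rcases image_swap_type φ hcard hab with h | ⟨-, h⟩
      · exact absurd h hnot
      · exact h
    have h₁ : ∀ a' b' : Ω, a' ≠ b' → (φ (Equiv.swap a' b')).cycleType = Multiset.replicate 3 2 :=
      fun a' b' hab' => all_swaps_type φ hab hty hab'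
    have h₂ : ∀ a' b' : Ω, a' ≠ b' → (ψ (Equiv.swap a' b')).cycleType = Multiset.replicate 3 2 :=
      fun a' b' hab' => image_type_of_no_swap h6 H₂ hidx₂ hno _ _ hab'
    let θ : Perm (Perm Ω ⧸ H₂) ≃* Perm (Perm Ω ⧸ H) := ψ.symm.trans φ
    have hθ : ∀ u v : Perm Ω ⧸ H₂, u ≠ v → (θ (Equiv.swap u v)).IsSwap := fun u v huv =>
      theta_swaps h6 (by rw [hcard, h6]) (by rw [hcard₂, h6]) φ ψ h₁ h₂ huv
    obtain ⟨d, hd⟩ := comap_stabilizer_eq θ hθ (by rw [hcard, hcard₂]) (by rw [hcard, h6]; omega)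
      ((1 : Perm Ω) : Perm Ω ⧸ H)
    refine ⟨d, ?_⟩
    rw [← hcomap]
    change _ = (MulAction.stabilizer (Perm (Perm Ω ⧸ H₂)) d).comap ψ.toMonoidHom
    rw [← hd]
    ext g
    simp [θ, Subgroup.mem_comap]

/-- The comap of a point stabilizer along the coset isomorphism is the stabilizer of the coset. -/
theorem comap_eq_stabilizer (h6 : Fintype.card Ω = 6) (H₂ : Subgroup (Perm Ω)) (hidx₂ : H₂.index = 6)
    (d : Perm Ω ⧸ H₂) :
    (MulAction.stabilizer (Perm (Perm Ω ⧸ H₂)) d).comap
      (cosetEquiv (by omega) H₂ (by omega)).toMonoidHom = MulAction.stabilizer (Perm Ω) d := by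
  ext g
  rfl

theorem stabilizer_coset_eq_conj (H₂ : Subgroup (Perm Ω)) (g : Perm Ω) :
    MulAction.stabilizer (Perm Ω) (g : Perm Ω ⧸ H₂) = H₂.map (MulAut.conj g).toMonoidHom := by
  have h1 := MulAction.stabilizer_smul_eq_stabilizer_map_conj (G := Perm Ω) g
    ((1 : Perm Ω) : Perm Ω ⧸ H₂)
  have h2 : g • ((1 : Perm Ω) : Perm Ω ⧸ H₂) = (g : Perm Ω ⧸ H₂) := by
    change ((g * 1 : Perm Ω) : Perm Ω ⧸ H₂) = _
    rw [mul_one]
  rw [h2, MulAction.stabilizer_quotient] at h1
  exact h1

theorem exists_two_other (h6 : Fintype.card Ω = 6) (x : Ω) : ∃ y z : Ω, y ≠ x ∧ z ≠ x ∧ y ≠ z := by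
  have h1 : 1 < (Finset.univ.erase x).card := by
    rw [Finset.card_erase_of_mem (Finset.mem_univ _), Finset.card_univ, h6]
    norm_num
  obtain ⟨y, hy, z, hz, hyz⟩ := Finset.one_lt_card.1 h1
  exact ⟨y, z, (Finset.mem_erase.1 hy).1, (Finset.mem_erase.1 hz).1, hyz⟩

theorem swap_mem_stabilizer {x y z : Ω} (hy : y ≠ x) (hz : z ≠ x) :
    Equiv.swap y z ∈ MulAction.stabilizer (Perm Ω) x :=
  Equiv.swap_apply_of_ne_of_ne hy.symm hz.symm

theorem stabilizer_inj (h6 : Fintype.card Ω = 6) {x y : Ω}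
    (h : MulAction.stabilizer (Perm Ω) x = MulAction.stabilizer (Perm Ω) y) : x = y := by
  by_contra hxy
  have h1 : 2 < (Finset.univ.erase x).card := by
    rw [Finset.card_erase_of_mem (Finset.mem_univ _), Finset.card_univ, h6]
    norm_num
  obtain ⟨z, hz1, hz2⟩ : ∃ z, z ≠ x ∧ z ≠ y := by
    by_contra hcon
    push Not at hcon
    have hsub : (Finset.univ : Finset Ω) ⊆ {x, y} := by
      intro w _
      by_cases hw : w = x
      · simp [hw]
      · simp [hcon w hw]
    have h2 := Finset.card_le_card hsub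
    rw [Finset.card_univ, h6] at h2
    have h3 := Finset.card_le_two (a := x) (b := y)
    omega
  have h2 : Equiv.swap y z ∈ MulAction.stabilizer (Perm Ω) x :=
    swap_mem_stabilizer (Ne.symm hxy) hz1
  rw [h] at h2
  have h3 : Equiv.swap y z y = y := h2
  rw [Equiv.swap_apply_left] at h3
  exact hz2 h3

/-- A point stabilizer is a symmetric group of one degree less. -/
noncomputable def stabEquiv (x : Ω) :
    MulAction.stabilizer (Perm Ω) x ≃* Perm {y : Ω // y ≠ x} where
  toFun g := (g : Perm Ω).subtypePerm (fun y => by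
    have hg : (g : Perm Ω) x = x := g.2
    constructor
    · intro hy h
      apply hy
      rw [h, hg]
    · intro hy h
      apply hy
      apply (g : Perm Ω).injective
      rw [h, hg])
  invFun k := ⟨Perm.ofSubtype k, by
    change Perm.ofSubtype k x = x
    exact Perm.ofSubtype_apply_of_not_mem _ (by simp)⟩
  left_inv g := by
    apply Subtype.ext
    apply Perm.ofSubtype_subtypePerm
    intro y hy h
    apply hy
    rw [h]
    exact g.2
  right_inv k := by
    exact Perm.subtypePerm_ofSubtype k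
  map_mul' a b := by
    ext y
    rfl

theorem iso_perm_five (h6 : Fintype.card Ω = 6) (H : Subgroup (Perm Ω)) (hidx : H.index = 6) :
    Nonempty (H ≃* Perm (Fin 5)) := by
  classical
  let _ : Fintype (Perm Ω ⧸ H) := Fintype.ofFinite _
  have hcard : Fintype.card (Perm Ω ⧸ H) = 6 := by
    rw [← Nat.card_eq_fintype_card, ← Subgroup.index_eq_card, hidx]
  let φ : Perm Ω ≃* Perm (Perm Ω ⧸ H) := cosetEquiv (by omega) H (by omega)
  have hcomap : (MulAction.stabilizer (Perm (Perm Ω ⧸ H)) ((1 : Perm Ω) : Perm Ω ⧸ H)).comap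
      φ.toMonoidHom = H := comap_cosetEquiv _ H _
  set d0 : Perm Ω ⧸ H := ((1 : Perm Ω) : Perm Ω ⧸ H)
  have hmem : ∀ g, φ g ∈ MulAction.stabilizer (Perm (Perm Ω ⧸ H)) d0 ↔ g ∈ H :=
    fun g => SetLike.ext_iff.1 hcomap g
  have hc5 : Fintype.card {y : Perm Ω ⧸ H // y ≠ d0} = 5 := by
    rw [Fintype.card_subtype_compl, Fintype.card_subtype_eq, hcard]
  let e : {y : Perm Ω ⧸ H // y ≠ d0} ≃ Fin 5 := Fintype.equivFinOfCardEq hc5
  let s : H ≃* MulAction.stabilizer (Perm (Perm Ω ⧸ H)) d0 :=
    { toFun := fun h => ⟨φ h.1, (hmem h.1).2 h.2⟩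
      invFun := fun k => ⟨φ.symm k.1, (hmem _).1 (by
        rw [φ.apply_symm_apply]
        exact k.2)⟩
      left_inv := fun h => by
        apply Subtype.ext
        simp
      right_inv := fun k => by
        apply Subtype.ext
        simp
      map_mul' := fun a b => by
        apply Subtype.ext
        simp }
  exact ⟨s.trans ((stabEquiv d0).trans e.permCongrHom)⟩

/-- The map parametrizing all subgroups of index 6. -/
theorem card_index_six (h6 : Fintype.card Ω = 6) :
    Nat.card {H : Subgroup (Perm Ω) // H.index = 6} = 12 := by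
  classical
  obtain ⟨H₂, hidx₂, hno⟩ := exists_H2 h6
  let _ : Fintype (Perm Ω ⧸ H₂) := Fintype.ofFinite _
  have hcard₂ : Fintype.card (Perm Ω ⧸ H₂) = 6 := by
    rw [← Nat.card_eq_fintype_card, ← Subgroup.index_eq_card, hidx₂]
  have hS : ∀ x : Ω, (MulAction.stabilizer (Perm Ω) x).index = 6 := by
    intro x; rw [index_stabilizer_point, h6]
  have hT : ∀ d : Perm Ω ⧸ H₂, (MulAction.stabilizer (Perm Ω) d).index = 6 := by
    intro d
    rw [MulAction.index_stabilizer, MulAction.orbit_eq_univ, Set.ncard_univ,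
      Nat.card_eq_fintype_card, hcard₂]
  let F : Ω ⊕ (Perm Ω ⧸ H₂) → {H : Subgroup (Perm Ω) // H.index = 6} := fun o =>
    match o with
    | Sum.inl x => ⟨MulAction.stabilizer (Perm Ω) x, hS x⟩
    | Sum.inr d => ⟨MulAction.stabilizer (Perm Ω) d, hT d⟩
  have hFbij : Function.Bijective F := by
    constructor
    · rintro (x | d) (y | d') h
      · exact congrArg Sum.inl (stabilizer_inj h6 (congrArg Subtype.val h))
      · exfalso
        have h1 : MulAction.stabilizer (Perm Ω) x = MulAction.stabilizer (Perm Ω) d' :=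
          congrArg Subtype.val h
        obtain ⟨g, rfl⟩ := QuotientGroup.mk_surjective d'
        obtain ⟨u, v, hu, hv, huv⟩ := exists_two_other h6 x
        have h2 := swap_mem_stabilizer hu hv
        rw [h1, stabilizer_coset_eq_conj] at h2
        obtain ⟨k, hk, hk2⟩ := h2
        have h3 : k = Equiv.swap (g⁻¹ u) (g⁻¹ v) := by
          have : k = g⁻¹ * Equiv.swap u v * g := by
            rw [← hk2]; simp [MulAut.conj_apply]; group
          rw [this, Equiv.swap_apply_apply, inv_inv]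
        rw [h3] at hk
        exact hno _ _ (fun h => huv (g⁻¹.injective h)) hk
      · exfalso
        have h1 : MulAction.stabilizer (Perm Ω) y = MulAction.stabilizer (Perm Ω) d :=
          (congrArg Subtype.val h).symm
        obtain ⟨g, rfl⟩ := QuotientGroup.mk_surjective d
        obtain ⟨u, v, hu, hv, huv⟩ := exists_two_other h6 y
        have h2 := swap_mem_stabilizer hu hv
        rw [h1, stabilizer_coset_eq_conj] at h2
        obtain ⟨k, hk, hk2⟩ := h2
        have h3 : k = Equiv.swap (g⁻¹ u) (g⁻¹ v) := by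
          have : k = g⁻¹ * Equiv.swap u v * g := by
            rw [← hk2]; simp [MulAut.conj_apply]; group
          rw [this, Equiv.swap_apply_apply, inv_inv]
        rw [h3] at hk
        exact hno _ _ (fun h => huv (g⁻¹.injective h)) hk
      · have h1 : MulAction.stabilizer (Perm Ω) d = MulAction.stabilizer (Perm Ω) d' :=
          congrArg Subtype.val h
        rw [← comap_eq_stabilizer h6 H₂ hidx₂, ← comap_eq_stabilizer h6 H₂ hidx₂] at h1
        have h2 := Subgroup.comap_injective (cosetEquiv (by omega) H₂ (by omega)).surjective h1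
        have h3 : d = d' := stabilizer_inj hcard₂ h2
        rw [h3]
    · rintro ⟨H, hH⟩
      rcases classify h6 H₂ hidx₂ hno H hH with ⟨x, hx⟩ | ⟨d, hd⟩
      · exact ⟨Sum.inl x, Subtype.ext hx.symm⟩
      · refine ⟨Sum.inr d, Subtype.ext ?_⟩
        change MulAction.stabilizer (Perm Ω) d = H
        rw [hd, comap_eq_stabilizer h6 H₂ hidx₂]
  rw [← Nat.card_congr (Equiv.ofBijective F hFbij), Nat.card_sum, Nat.card_eq_fintype_card,
    Nat.card_eq_fintype_card, h6, hcard₂]

end Generic

end Cfsg.Agent.Lib.SymS6
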