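/-
Explicit Sylow 2-subgroup of `Equiv.Perm (Fin n)`: the permutations that are isometries for the
dyadic ultrametric on `{0, ..., n}` and fix the virtual point `n`.
-/
import Mathlib

set_option autoImplicit false

namespace Cfsg.Agent.Lib.SymSylow2

open Equiv

/-! ### Dyadic distance on the naturals -/

theorem ex_agree (u v : ℕ) : ∃ j, u / 2 ^ j = v / 2 ^ j := by
  refine ⟨u + v, ?_⟩
  have h1 : u < 2 ^ (u + v) := lt_of_le_of_lt (Nat.le_add_right u v) Nat.lt_two_pow_self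
  have h2 : v < 2 ^ (u + v) := lt_of_le_of_lt (Nat.le_add_left v u) Nat.lt_two_pow_self
  rw [Nat.div_eq_of_lt h1, Nat.div_eq_of_lt h2]

/-- Least level at which `u` and `v` lie in the same dyadic block. -/
noncomputable def dist2 (u v : ℕ) : ℕ := by
  classical exact Nat.find (ex_agree u v)

theorem agree_mono {u v j j' : ℕ} (h : u / 2 ^ j = v / 2 ^ j) (hj : j ≤ j') :
    u / 2 ^ j' = v / 2 ^ j' := by
  obtain ⟨d, rfl⟩ := Nat.exists_eq_add_of_le hj
  rw [pow_add, ← Nat.div_div_eq_div_mul, ← Nat.div_div_eq_div_mul, h]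

theorem agree_iff {u v j : ℕ} : u / 2 ^ j = v / 2 ^ j ↔ dist2 u v ≤ j := by
  classical
  unfold dist2
  constructor
  · intro h
    exact Nat.find_min' (ex_agree u v) h
  · intro h
    have := Nat.find_spec (ex_agree u v)
    exact agree_mono this h

theorem dist2_comm (u v : ℕ) : dist2 u v = dist2 v u := by
  apply le_antisymm
  · rw [← agree_iff, eq_comm, agree_iff]
  · rw [← agree_iff, eq_comm, agree_iff]

@[simp] theorem dist2_self (u : ℕ) : dist2 u u = 0 := by
  have : dist2 u u ≤ 0 := by rw [← agree_iff]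
  omega

theorem dist2_eq_zero {u v : ℕ} : dist2 u v = 0 ↔ u = v := by
  constructor
  · intro h
    have : u / 2 ^ 0 = v / 2 ^ 0 := agree_iff.2 (by omega)
    simpa using this
  · rintro rfl; simp

theorem dist2_le_iff {u v j : ℕ} : dist2 u v ≤ j ↔ u / 2 ^ j = v / 2 ^ j := agree_iff.symm

theorem half_of_agree {u v j : ℕ} (h : u / 2 ^ (j + 1) = v / 2 ^ (j + 1)) :
    (u / 2 ^ j) / 2 = (v / 2 ^ j) / 2 := by
  rw [pow_succ, ← Nat.div_div_eq_div_mul, ← Nat.div_div_eq_div_mul] at h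
  exact h

/-- Binary tree: two points at the same positive distance from a third are closer together. -/
theorem dist2_isosceles {a b c d : ℕ} (h1 : dist2 a b = d + 1) (h2 : dist2 a c = d + 1) :
    dist2 b c ≤ d := by
  rw [← agree_iff]
  have e1 : a / 2 ^ (d + 1) = b / 2 ^ (d + 1) := agree_iff.2 (by omega)
  have e2 : a / 2 ^ (d + 1) = c / 2 ^ (d + 1) := agree_iff.2 (by omega)
  have f1 := half_of_agree e1
  have f2 := half_of_agree e2
  have g1 : a / 2 ^ d ≠ b / 2 ^ d := fun h => by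
    have := agree_iff.1 h; omega
  have g2 : a / 2 ^ d ≠ c / 2 ^ d := fun h => by
    have := agree_iff.1 h; omega
  omega

theorem dist2_ultra (u v w : ℕ) : dist2 u w ≤ max (dist2 u v) (dist2 v w) := by
  rw [← agree_iff]
  have h1 : u / 2 ^ (max (dist2 u v) (dist2 v w)) = v / 2 ^ (max (dist2 u v) (dist2 v w)) :=
    agree_iff.2 (le_max_left _ _)
  have h2 : v / 2 ^ (max (dist2 u v) (dist2 v w)) = w / 2 ^ (max (dist2 u v) (dist2 v w)) :=
    agree_iff.2 (le_max_right _ _)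
  exact h1.trans h2

/-- If the distances to a reference point differ, the distance is their maximum. -/
theorem dist2_of_ne {u v n : ℕ} (h : dist2 u n ≠ dist2 v n) :
    dist2 u v = max (dist2 u n) (dist2 v n) := by
  apply le_antisymm
  · have := dist2_ultra u n v
    rwa [dist2_comm n v] at this
  · have h1 := dist2_ultra u v n
    have h2 := dist2_ultra v u n
    rw [dist2_comm v u] at h2
    rcases lt_or_gt_of_ne h with h' | h' <;> simp only [le_max_iff] at * <;> omega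

theorem block_complete {u n k : ℕ} (hu : u ≤ n) (h : u / 2 ^ k ≠ n / 2 ^ k) :
    (u / 2 ^ k + 1) * 2 ^ k ≤ n := by
  have h1 : u / 2 ^ k ≤ n / 2 ^ k := Nat.div_le_div_right hu
  have h2 : u / 2 ^ k + 1 ≤ n / 2 ^ k := by omega
  calc (u / 2 ^ k + 1) * 2 ^ k ≤ (n / 2 ^ k) * 2 ^ k := Nat.mul_le_mul_right _ h2
    _ ≤ n := Nat.div_mul_le_self _ _

/-! ### The subgroup `Q n` -/

/-- Permutations of `Fin n` that preserve all the dyadic agreement relations on `{0, ..., n}` and
fix the virtual point `n`. -/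
def Q (n : ℕ) : Subgroup (Perm (Fin n)) where
  carrier := {σ | (∀ (k : ℕ) (u v : Fin n),
      (σ u).val / 2 ^ k = (σ v).val / 2 ^ k ↔ u.val / 2 ^ k = v.val / 2 ^ k) ∧
    (∀ (k : ℕ) (u : Fin n), (σ u).val / 2 ^ k = n / 2 ^ k ↔ u.val / 2 ^ k = n / 2 ^ k)}
  one_mem' := by simp
  mul_mem' := by
    rintro a b ⟨ha1, ha2⟩ ⟨hb1, hb2⟩
    exact ⟨fun k u v => (ha1 k _ _).trans (hb1 k u v), fun k u => (ha2 k _).trans (hb2 k u)⟩
  inv_mem' := by
    rintro a ⟨ha1, ha2⟩
    refine ⟨fun k u v => ?_, fun k u => ?_⟩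
    · have := ha1 k (a⁻¹ u) (a⁻¹ v)
      rw [show a (a⁻¹ u) = u from by simp, show a (a⁻¹ v) = v from by simp] at this
      exact this.symm
    · have := ha2 k (a⁻¹ u)
      rw [show a (a⁻¹ u) = u from by simp] at this
      exact this.symm

theorem mem_Q_iff {n : ℕ} {σ : Perm (Fin n)} :
    σ ∈ Q n ↔ (∀ (k : ℕ) (u v : Fin n),
      (σ u).val / 2 ^ k = (σ v).val / 2 ^ k ↔ u.val / 2 ^ k = v.val / 2 ^ k) ∧
    (∀ (k : ℕ) (u : Fin n), (σ u).val / 2 ^ k = n / 2 ^ k ↔ u.val / 2 ^ k = n / 2 ^ k) := Iff.rfl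

theorem mem_Q_iff_dist {n : ℕ} {σ : Perm (Fin n)} :
    σ ∈ Q n ↔ (∀ u v : Fin n, dist2 (σ u) (σ v) = dist2 u v) ∧
      (∀ u : Fin n, dist2 (σ u) n = dist2 u n) := by
  rw [mem_Q_iff]
  constructor
  · rintro ⟨h1, h2⟩
    refine ⟨fun u v => ?_, fun u => ?_⟩
    · apply le_antisymm
      · rw [← agree_iff, h1, agree_iff]
      · rw [← agree_iff, ← h1, agree_iff]
    · apply le_antisymm
      · rw [← agree_iff, h2, agree_iff]
      · rw [← agree_iff, ← h2, agree_iff]
  · rintro ⟨h1, h2⟩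
    refine ⟨fun k u v => ?_, fun k u => ?_⟩
    · rw [agree_iff, agree_iff, h1]
    · rw [agree_iff, agree_iff, h2]

/-- An element of `Q n` of odd order is trivial. -/
theorem eq_one_of_odd_order {n : ℕ} {g : Perm (Fin n)} (hg : g ∈ Q n) (hodd : Odd (orderOf g)) :
    g = 1 := by
  by_contra hne
  obtain ⟨x, hx⟩ : ∃ x, g x ≠ x := by
    by_contra h
    push Not at h
    exact hne (Equiv.ext h)
  have hd : dist2 (g x) x ≠ 0 := fun h => hx (Fin.ext (dist2_eq_zero.1 h))
  obtain ⟨k, hk⟩ := Nat.exists_eq_succ_of_ne_zero hd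
  have hstep : ∀ i : ℕ, dist2 ((g ^ i) x) ((g ^ (i + 1)) x) = k + 1 := by
    intro i
    have hgi : g ^ i ∈ Q n := pow_mem hg i
    have := (mem_Q_iff_dist.1 hgi).1 x (g x)
    rw [pow_succ, Perm.mul_apply, this, dist2_comm]
    omega
  let a : ℕ → ℕ := fun i => ((g ^ i) x).val / 2 ^ k
  have hflip : ∀ i, (a (i + 1)) % 2 = (a i + 1) % 2 := by
    intro i
    have h1 : ((g ^ i) x).val / 2 ^ (k + 1) = ((g ^ (i + 1)) x).val / 2 ^ (k + 1) :=
      agree_iff.2 (by rw [hstep i])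
    have h2 : ((g ^ i) x).val / 2 ^ k ≠ ((g ^ (i + 1)) x).val / 2 ^ k := fun h => by
      have := agree_iff.1 h
      rw [hstep i] at this
      omega
    have h3 := half_of_agree h1
    show (((g ^ (i + 1)) x).val / 2 ^ k) % 2 = (((g ^ i) x).val / 2 ^ k + 1) % 2
    omega
  have hall : ∀ i, (a i) % 2 = (a 0 + i) % 2 := by
    intro i
    induction i with
    | zero => simp
    | succ i ih =>
      rw [hflip i]
      omega
  have hr := hall (orderOf g)
  have : a (orderOf g) = a 0 := by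
    show ((g ^ (orderOf g)) x).val / 2 ^ k = ((g ^ 0) x).val / 2 ^ k
    rw [pow_orderOf_eq_one]
    simp
  rw [this] at hr
  obtain ⟨t, ht⟩ := hodd
  omega

theorem Q_isPGroup (n : ℕ) : IsPGroup 2 (Q n) := by
  rw [IsPGroup.iff_orderOf]
  rintro ⟨g, hg⟩
  simp only [Subgroup.orderOf_mk]
  have h0 : orderOf g ≠ 0 := (orderOf_pos g).ne'
  obtain ⟨a, m, hm, hfac⟩ := Nat.exists_eq_two_pow_mul_odd h0
  have hord : orderOf (g ^ 2 ^ a) = m := by
    rw [orderOf_pow' g (by positivity), hfac]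
    have : Nat.gcd (2 ^ a * m) (2 ^ a) = 2 ^ a := Nat.gcd_eq_right (Nat.dvd_mul_right _ _)
    rw [this, Nat.mul_div_cancel_left _ (by positivity)]
  have h1 : g ^ 2 ^ a = 1 := eq_one_of_odd_order (pow_mem hg _) (by rw [hord]; exact hm)
  have hm1 : m = 1 := by rw [← hord, h1, orderOf_one]
  exact ⟨a, by rw [hfac, hm1, mul_one]⟩

/-! ### The block involutions -/

/-- Xor with `c` on the dyadic block `{z | z / 2 ^ k = m}`, identity elsewhere. -/
def tauN (k m c z : ℕ) : ℕ := if z / 2 ^ k = m then z ^^^ c else z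

theorem xor_div_of_lt {k c : ℕ} (hc : c < 2 ^ k) (z : ℕ) : (z ^^^ c) / 2 ^ k = z / 2 ^ k := by
  rw [Nat.xor_div_two_pow, Nat.div_eq_of_lt hc, Nat.xor_zero]

theorem tauN_div {k m c : ℕ} (hc : c < 2 ^ k) (z : ℕ) : tauN k m c z / 2 ^ k = z / 2 ^ k := by
  unfold tauN
  split_ifs
  · exact xor_div_of_lt hc z
  · rfl

theorem tauN_tauN {k m c : ℕ} (hc : c < 2 ^ k) (z : ℕ) : tauN k m c (tauN k m c z) = z := by
  by_cases h : z / 2 ^ k = m
  · have h' : tauN k m c z = z ^^^ c := by simp [tauN, h]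
    have h'' : (z ^^^ c) / 2 ^ k = m := by rw [xor_div_of_lt hc, h]
    rw [h']
    simp [tauN, h'']
  · have h' : tauN k m c z = z := by simp [tauN, h]
    rw [h', h']

theorem xor_div_cancel_iff (c j a b : ℕ) :
    (a ^^^ c) / 2 ^ j = (b ^^^ c) / 2 ^ j ↔ a / 2 ^ j = b / 2 ^ j := by
  rw [Nat.xor_div_two_pow, Nat.xor_div_two_pow]
  constructor
  · intro h
    have := congrArg (· ^^^ (c / 2 ^ j)) h
    simpa [Nat.xor_assoc] using this
  · intro h
    rw [h]

theorem tauN_agree {k m c : ℕ} (hc : c < 2 ^ k) (j u v : ℕ) :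
    tauN k m c u / 2 ^ j = tauN k m c v / 2 ^ j ↔ u / 2 ^ j = v / 2 ^ j := by
  have key : ∀ a b : ℕ, a / 2 ^ k = m → b / 2 ^ k ≠ m →
      ((a ^^^ c) / 2 ^ j = b / 2 ^ j ↔ a / 2 ^ j = b / 2 ^ j) := by
    intro a b ha hb
    rcases le_or_gt k j with hj | hj
    · have hc' : c / 2 ^ j = 0 :=
        Nat.div_eq_of_lt (lt_of_lt_of_le hc (Nat.pow_le_pow_right (by norm_num) hj))
      rw [Nat.xor_div_two_pow, hc', Nat.xor_zero]
    · constructor
      · intro h
        exfalso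
        have := agree_mono h hj.le
        rw [xor_div_of_lt hc, ha] at this
        exact hb this.symm
      · intro h
        exfalso
        have := agree_mono h hj.le
        rw [ha] at this
        exact hb this.symm
  unfold tauN
  by_cases hu : u / 2 ^ k = m <;> by_cases hv : v / 2 ^ k = m
  · simp only [hu, hv, if_true]
    exact xor_div_cancel_iff c j u v
  · simp only [hu, hv, if_true, if_false]
    exact key u v hu hv
  · simp only [hu, hv, if_true, if_false]
    rw [eq_comm, key v u hv hu, eq_comm]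
  · simp only [hu, hv, if_false]

theorem tauN_lt {n k m c : ℕ} (hc : c < 2 ^ k) (hm : (m + 1) * 2 ^ k ≤ n) {z : ℕ} (hz : z < n) :
    tauN k m c z < n := by
  unfold tauN
  split_ifs with h
  · have h1 : (z ^^^ c) / 2 ^ k = m := by rw [xor_div_of_lt hc, h]
    have h2 : z ^^^ c < (m + 1) * 2 ^ k := by
      have := (Nat.div_lt_iff_lt_mul (show 0 < 2 ^ k by positivity) (x := z ^^^ c) (y := m + 1)).1
        (by omega)
      exact this
    omega
  · exact hz

theorem tauN_self_of_le {n k m c : ℕ} (hm : (m + 1) * 2 ^ k ≤ n) : tauN k m c n = n := by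
  have : n / 2 ^ k ≠ m := by
    have h1 : m + 1 ≤ n / 2 ^ k := (Nat.le_div_iff_mul_le (by positivity)).2 hm
    omega
  simp [tauN, this]

/-- `tauN` as a permutation of `Fin n`. -/
def tau (n k m c : ℕ) (hc : c < 2 ^ k) (hm : (m + 1) * 2 ^ k ≤ n) : Perm (Fin n) :=
  Function.Involutive.toPerm
    (fun z : Fin n => (⟨tauN k m c z.val, tauN_lt hc hm z.isLt⟩ : Fin n))
    (fun z => Fin.ext (tauN_tauN hc z.val))

@[simp] theorem tau_val (n k m c : ℕ) (hc : c < 2 ^ k) (hm : (m + 1) * 2 ^ k ≤ n) (z : Fin n) :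
    (tau n k m c hc hm z).val = tauN k m c z.val := rfl

theorem tau_mem_Q (n k m c : ℕ) (hc : c < 2 ^ k) (hm : (m + 1) * 2 ^ k ≤ n) :
    tau n k m c hc hm ∈ Q n := by
  rw [mem_Q_iff]
  refine ⟨fun j u v => ?_, fun j u => ?_⟩
  · simp only [tau_val]
    exact tauN_agree hc j u.val v.val
  · simp only [tau_val]
    have := tauN_agree (m := m) hc j u.val n
    rwa [tauN_self_of_le hm] at this

theorem tau_apply_of_ne {n k m c : ℕ} (hc : c < 2 ^ k) (hm : (m + 1) * 2 ^ k ≤ n) {z : Fin n}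
    (hz : z.val / 2 ^ k ≠ m) : tau n k m c hc hm z = z :=
  Fin.ext (by simp [tauN, hz])

theorem tau_apply_xor {n k m c : ℕ} (hc : c < 2 ^ k) (hm : (m + 1) * 2 ^ k ≤ n) {z : Fin n}
    (hz : z.val / 2 ^ k = m) : (tau n k m c hc hm z).val = z.val ^^^ c := by
  simp [tauN, hz]

/-- There is an element of `Q n` moving `u` to `w` and fixing all the points outside the block
containing `u` and `w`. -/
theorem exists_tau {n k : ℕ} {u w : Fin n} (huw : u.val / 2 ^ k = w.val / 2 ^ k)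
    (hm : (u.val / 2 ^ k + 1) * 2 ^ k ≤ n) :
    ∃ g ∈ Q n, g u = w ∧ ∀ z : Fin n, z.val / 2 ^ k ≠ u.val / 2 ^ k → g z = z := by
  have hc : u.val ^^^ w.val < 2 ^ k := by
    have : (u.val ^^^ w.val) / 2 ^ k = 0 := by
      rw [Nat.xor_div_two_pow, huw, Nat.xor_self]
    exact (Nat.div_eq_zero_iff_lt (by positivity)).1 this
  refine ⟨tau n k _ _ hc hm, tau_mem_Q _ _ _ _ _ _, ?_, fun z hz => tau_apply_of_ne hc hm hz⟩
  apply Fin.ext
  rw [tau_apply_xor hc hm rfl, ← Nat.xor_assoc, Nat.xor_self, Nat.zero_xor]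

/-! ### Blocks -/

theorem ncard_block (n k m : ℕ) (h : (m + 1) * 2 ^ k ≤ n) :
    Set.ncard {z : Fin n | z.val / 2 ^ k = m} = 2 ^ k := by
  have himg : (Fin.val '' {z : Fin n | z.val / 2 ^ k = m}) = Set.Ico (m * 2 ^ k) ((m + 1) * 2 ^ k) := by
    ext x
    simp only [Set.mem_image, Set.mem_ofPred_eq, Set.mem_Ico]
    constructor
    · rintro ⟨z, hz, rfl⟩
      rw [← hz]
      constructor
      · exact Nat.div_mul_le_self _ _
      · exact Nat.lt_mul_of_div_lt (by omega) (by positivity)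
    · rintro ⟨h1, h2⟩
      refine ⟨⟨x, by omega⟩, ?_, rfl⟩
      apply Nat.div_eq_of_lt_le
      · exact h1
      · exact h2
  rw [← Set.ncard_image_of_injective _ Fin.val_injective, himg, Set.ncard_eq_toFinset_card']
  simp only [Set.toFinset_Ico, Nat.card_Ico]
  rw [add_mul, one_mul, Nat.add_sub_cancel_left]

/-! ### Normalizers of subgroups of `Q n` that are rich enough -/

theorem dist2_eq_of_lt {a b c : ℕ} (h : dist2 a b < dist2 b c) : dist2 a c = dist2 b c := by
  apply le_antisymm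
  · have := dist2_ultra a b c
    simp only [le_max_iff] at *
    omega
  · have := dist2_ultra b a c
    rw [dist2_comm b a] at this
    simp only [le_max_iff] at *
    omega

theorem dist2_fin_ne_zero {n : ℕ} (u : Fin n) : dist2 u.val n ≠ 0 := fun h => by
  have := dist2_eq_zero.1 h
  have := u.isLt
  omega

section Key

variable {n : ℕ} {R : Subgroup (Perm (Fin n))}

theorem orb_eq (hR : R ≤ Q n)
    (H1 : ∀ u w : Fin n, dist2 w n = dist2 u n → ∃ g ∈ R, g u = w) (u : Fin n) {k : ℕ}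
    (hk : dist2 u.val n = k + 1) :
    {w : Fin n | ∃ g ∈ R, g u = w} = {w : Fin n | w.val / 2 ^ k = u.val / 2 ^ k} := by
  ext w
  simp only [Set.mem_ofPred_eq]
  constructor
  · rintro ⟨g, hg, rfl⟩
    have h1 := (mem_Q_iff_dist.1 (hR hg)).2 u
    have := dist2_isosceles (a := n) (b := (g u).val) (c := u.val) (d := k)
      (by rw [dist2_comm, h1, hk]) (by rw [dist2_comm, hk])
    exact agree_iff.2 this
  · intro h
    have h1 : dist2 w.val u.val ≤ k := agree_iff.1 h
    exact H1 u w (dist2_eq_of_lt (by omega))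

theorem orb_ncard (hR : R ≤ Q n)
    (H1 : ∀ u w : Fin n, dist2 w n = dist2 u n → ∃ g ∈ R, g u = w) (u : Fin n) {k : ℕ}
    (hk : dist2 u.val n = k + 1) :
    Set.ncard {w : Fin n | ∃ g ∈ R, g u = w} = 2 ^ k := by
  rw [orb_eq hR H1 u hk]
  apply ncard_block
  apply block_complete u.isLt.le
  intro h
  have := agree_iff.1 h
  omega

theorem orb2_eq (hR : R ≤ Q n)
    (H2 : ∀ u v w : Fin n, dist2 v n = dist2 u n → dist2 w n = dist2 u n →
      dist2 u w = dist2 u v → ∃ g ∈ R, g u = u ∧ g v = w)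
    (u v : Fin n) (huv : dist2 v n = dist2 u n) {k : ℕ} (hk : dist2 u.val v.val = k + 1) :
    {w : Fin n | ∃ g ∈ R, g u = u ∧ g v = w} = {w : Fin n | w.val / 2 ^ k = v.val / 2 ^ k} := by
  obtain ⟨e, he⟩ := Nat.exists_eq_succ_of_ne_zero (dist2_fin_ne_zero u)
  have hlev : dist2 u.val v.val ≤ e :=
    dist2_isosceles (a := n) (by rw [dist2_comm, he]) (by rw [dist2_comm, huv, he])
  ext w
  simp only [Set.mem_ofPred_eq]
  constructor
  · rintro ⟨g, hg, hgu, rfl⟩
    have h1 := (mem_Q_iff_dist.1 (hR hg)).1 u v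
    rw [hgu] at h1
    have := dist2_isosceles (a := u.val) (b := (g v).val) (c := v.val) (d := k)
      (by rw [h1, hk]) hk
    exact agree_iff.2 this
  · intro h
    have h1 : dist2 w.val v.val ≤ k := agree_iff.1 h
    have h2 : dist2 w.val n = dist2 v.val n := dist2_eq_of_lt (by omega)
    have h3 : dist2 w.val u.val = dist2 v.val u.val :=
      dist2_eq_of_lt (by rw [dist2_comm v.val u.val]; omega)
    exact H2 u v w huv (h2.trans huv) (by rw [dist2_comm, h3, dist2_comm])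

theorem orb2_ncard (hR : R ≤ Q n)
    (H2 : ∀ u v w : Fin n, dist2 v n = dist2 u n → dist2 w n = dist2 u n →
      dist2 u w = dist2 u v → ∃ g ∈ R, g u = u ∧ g v = w)
    (u v : Fin n) (huv : dist2 v n = dist2 u n) {k : ℕ} (hk : dist2 u.val v.val = k + 1) :
    Set.ncard {w : Fin n | ∃ g ∈ R, g u = u ∧ g v = w} = 2 ^ k := by
  obtain ⟨e, he⟩ := Nat.exists_eq_succ_of_ne_zero (dist2_fin_ne_zero u)
  have hlev : dist2 u.val v.val ≤ e :=
    dist2_isosceles (a := n) (by rw [dist2_comm, he]) (by rw [dist2_comm, huv, he])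
  rw [orb2_eq hR H2 u v huv hk]
  apply ncard_block
  apply block_complete v.isLt.le
  intro h
  have := agree_iff.1 h
  omega

theorem normalizer_le_Q (hR : R ≤ Q n)
    (H1 : ∀ u w : Fin n, dist2 w n = dist2 u n → ∃ g ∈ R, g u = w)
    (H2 : ∀ u v w : Fin n, dist2 v n = dist2 u n → dist2 w n = dist2 u n →
      dist2 u w = dist2 u v → ∃ g ∈ R, g u = u ∧ g v = w) :
    Subgroup.normalizer (R : Set (Perm (Fin n))) ≤ Q n := by
  intro σ hσ
  have hσ' : ∀ h, h ∈ R ↔ σ * h * σ⁻¹ ∈ R := Subgroup.mem_normalizer_iff.1 hσ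
  have hconj : ∀ g ∈ R, σ⁻¹ * g * σ ∈ R := by
    intro g hg
    rw [hσ']
    have : σ * (σ⁻¹ * g * σ) * σ⁻¹ = g := by group
    rwa [this]
  have himg : ∀ u, σ '' {w : Fin n | ∃ g ∈ R, g u = w} = {w : Fin n | ∃ g ∈ R, g (σ u) = w} := by
    intro u
    ext w
    simp only [Set.mem_image, Set.mem_ofPred_eq]
    constructor
    · rintro ⟨_, ⟨g, hg, rfl⟩, rfl⟩
      exact ⟨σ * g * σ⁻¹, (hσ' g).1 hg, by simp⟩
    · rintro ⟨g, hg, rfl⟩
      exact ⟨(σ⁻¹ * g * σ) u, ⟨_, hconj g hg, rfl⟩, by simp⟩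
  have himg2 : ∀ u v, σ '' {w : Fin n | ∃ g ∈ R, g u = u ∧ g v = w} =
      {w : Fin n | ∃ g ∈ R, g (σ u) = σ u ∧ g (σ v) = w} := by
    intro u v
    ext w
    simp only [Set.mem_image, Set.mem_ofPred_eq]
    constructor
    · rintro ⟨_, ⟨g, hg, hgu, rfl⟩, rfl⟩
      exact ⟨σ * g * σ⁻¹, (hσ' g).1 hg, by simp [hgu], by simp⟩
    · rintro ⟨g, hg, hgu, rfl⟩
      refine ⟨(σ⁻¹ * g * σ) v, ⟨_, hconj g hg, ?_, rfl⟩, by simp⟩
      simp [hgu]
  have hlev : ∀ u, dist2 (σ u).val n = dist2 u.val n := by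
    intro u
    obtain ⟨k, hk⟩ := Nat.exists_eq_succ_of_ne_zero (dist2_fin_ne_zero u)
    obtain ⟨k', hk'⟩ := Nat.exists_eq_succ_of_ne_zero (dist2_fin_ne_zero (σ u))
    have h1 := orb_ncard hR H1 u hk
    have h2 := orb_ncard hR H1 (σ u) hk'
    rw [← himg, Set.ncard_image_of_injective _ σ.injective, h1] at h2
    have : k = k' := Nat.pow_right_injective le_rfl h2
    rw [hk, hk', this]
  have hsame : ∀ u v, dist2 v.val n = dist2 u.val n →
      dist2 (σ u).val (σ v).val = dist2 u.val v.val := by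
    intro u v huv
    by_cases he : u = v
    · subst he; simp
    have hne : dist2 u.val v.val ≠ 0 := fun h =>
      he (Fin.ext (dist2_eq_zero.1 h))
    have hne' : dist2 (σ u).val (σ v).val ≠ 0 := fun h =>
      he (σ.injective (Fin.ext (dist2_eq_zero.1 h)))
    obtain ⟨k, hk⟩ := Nat.exists_eq_succ_of_ne_zero hne
    obtain ⟨k', hk'⟩ := Nat.exists_eq_succ_of_ne_zero hne'
    have h1 := orb2_ncard hR H2 u v huv hk
    have h2 := orb2_ncard hR H2 (σ u) (σ v) (by rw [hlev, hlev, huv]) hk'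
    rw [← himg2, Set.ncard_image_of_injective _ σ.injective, h1] at h2
    have : k = k' := Nat.pow_right_injective le_rfl h2
    rw [hk, hk', this]
  rw [mem_Q_iff_dist]
  refine ⟨fun u v => ?_, hlev⟩
  by_cases huv : dist2 v.val n = dist2 u.val n
  · exact hsame u v huv
  · have h1 := dist2_of_ne (u := u.val) (v := v.val) (n := n) (Ne.symm huv)
    have h2 := dist2_of_ne (u := (σ u).val) (v := (σ v).val) (n := n)
      (by rw [hlev, hlev]; exact Ne.symm huv)
    rw [h1, h2, hlev, hlev]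

end Key

/-! ### `Q n` is a Sylow 2-subgroup -/

theorem exists_sylow_of_normalizer_le {G : Type*} [Group G] [Finite G] {p : ℕ} [Fact p.Prime]
    (P : Subgroup G) (hp : IsPGroup p P) (h : Subgroup.normalizer (P : Set G) ≤ P) :
    ∃ S : Sylow p G, (S : Subgroup G) = P := by
  obtain ⟨S, hS⟩ := hp.exists_le_sylow
  refine ⟨S, ?_⟩
  by_contra hne
  have hSp : IsPGroup p (S : Subgroup G) := S.isPGroup'
  have : Group.IsNilpotent (S : Subgroup G) := hSp.isNilpotent
  have hlt : P.subgroupOf (S : Subgroup G) < ⊤ := by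
    rw [lt_top_iff_ne_top]
    intro htop
    apply hne
    apply le_antisymm _ hS
    rwa [Subgroup.subgroupOf_eq_top] at htop
  have hnc := Group.normalizerCondition_of_isNilpotent (G := (S : Subgroup G))
  have hlt2 := hnc _ hlt
  obtain ⟨x, hx1, hx2⟩ := SetLike.exists_of_lt hlt2
  apply hx2
  rw [Subgroup.mem_subgroupOf]
  apply h
  rw [Subgroup.mem_normalizer_iff]
  intro y
  rw [Subgroup.mem_normalizer_iff] at hx1
  constructor
  · intro hy
    have := (hx1 ⟨y, hS hy⟩).1 (by rw [Subgroup.mem_subgroupOf]; exact hy)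
    rw [Subgroup.mem_subgroupOf] at this
    simpa using this
  · intro hy
    have hy' : y ∈ (S : Subgroup G) := by
      have h1 : (x : G) * y * (x : G)⁻¹ ∈ (S : Subgroup G) := hS hy
      have h2 := x.2
      have : y = (x : G)⁻¹ * ((x : G) * y * (x : G)⁻¹) * (x : G) := by group
      rw [this]
      exact mul_mem (mul_mem (inv_mem h2) h1) h2
    have := (hx1 ⟨y, hy'⟩).2 (by rw [Subgroup.mem_subgroupOf]; simpa using hy)
    rw [Subgroup.mem_subgroupOf] at this
    exact this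

/-- `Q n` is transitive on each level. -/
theorem Q_H1 {n : ℕ} (u w : Fin n) (h : dist2 w n = dist2 u n) : ∃ g ∈ Q n, g u = w := by
  obtain ⟨k, hk⟩ := Nat.exists_eq_succ_of_ne_zero (dist2_fin_ne_zero u)
  have h1 : dist2 u.val w.val ≤ k :=
    dist2_isosceles (a := n) (by rw [dist2_comm, hk]) (by rw [dist2_comm, h, hk])
  have h2 : u.val / 2 ^ k = w.val / 2 ^ k := agree_iff.2 h1
  have h3 : u.val / 2 ^ k ≠ n / 2 ^ k := fun h => by
    have := agree_iff.1 h
    omega
  obtain ⟨g, hg, hgu, -⟩ := exists_tau h2 (block_complete u.isLt.le h3)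
  exact ⟨g, hg, hgu⟩

theorem Q_H2 {n : ℕ} (u v w : Fin n) (h1 : dist2 v n = dist2 u n) (h2 : dist2 w n = dist2 u n)
    (h3 : dist2 u w = dist2 u v) : ∃ g ∈ Q n, g u = u ∧ g v = w := by
  by_cases he : dist2 u.val v.val = 0
  · have h4 : u = v := Fin.ext (dist2_eq_zero.1 he)
    have h5 : u = w := Fin.ext (dist2_eq_zero.1 (h3.trans he))
    exact ⟨1, one_mem _, rfl, by rw [← h4, ← h5]; rfl⟩
  obtain ⟨k, hk⟩ := Nat.exists_eq_succ_of_ne_zero he
  obtain ⟨e, he⟩ := Nat.exists_eq_succ_of_ne_zero (dist2_fin_ne_zero u)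
  have hlev : dist2 u.val v.val ≤ e :=
    dist2_isosceles (a := n) (by rw [dist2_comm, he]) (by rw [dist2_comm, h1, he])
  have h6 : v.val / 2 ^ k = w.val / 2 ^ k :=
    agree_iff.2 (dist2_isosceles (a := u.val) hk (by rw [h3, hk]))
  have h7 : v.val / 2 ^ k ≠ n / 2 ^ k := fun h => by
    have := agree_iff.1 h
    omega
  obtain ⟨g, hg, hgv, hfix⟩ := exists_tau h6 (block_complete v.isLt.le h7)
  refine ⟨g, hg, hfix u ?_, hgv⟩
  intro h
  have := agree_iff.1 h
  omega

theorem Q_normalizer_le (n : ℕ) : Subgroup.normalizer ((Q n : Subgroup _) : Set (Perm (Fin n))) ≤ Q n :=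
  normalizer_le_Q le_rfl Q_H1 Q_H2

/-- The explicit Sylow 2-subgroup of `Perm (Fin n)`. -/
theorem exists_sylow_Q (n : ℕ) : ∃ S : Sylow 2 (Perm (Fin n)), (S : Subgroup _) = Q n :=
  exists_sylow_of_normalizer_le _ (Q_isPGroup n) (Q_normalizer_le n)

/-! ### The alternating part -/

/-- `Q n` contains a transposition of `{2 j, 2 j + 1}`. -/
theorem exists_swap_mem_Q {n j : ℕ} (hj : 2 * j + 2 ≤ n) :
    ∃ s ∈ Q n, Perm.sign s = -1 ∧ ∀ z : Fin n, z.val / 2 ≠ j → s z = z := by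
  have hc : (1 : ℕ) < 2 ^ 1 := by norm_num
  have hm : (j + 1) * 2 ^ 1 ≤ n := by omega
  refine ⟨tau n 1 j 1 hc hm, tau_mem_Q _ _ _ _ _ _, ?_, fun z hz => ?_⟩
  · have : tau n 1 j 1 hc hm = swap ⟨2 * j, by omega⟩ ⟨2 * j + 1, by omega⟩ := by
      ext z
      by_cases hz : z.val = 2 * j
      · have h1 : z = ⟨2 * j, by omega⟩ := Fin.ext hz
        rw [h1, swap_apply_left, tau_apply_xor hc hm (by norm_num)]
        exact Nat.xor_one_of_even (by simp)
      by_cases hz' : z.val = 2 * j + 1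
      · have h1 : z = ⟨2 * j + 1, by omega⟩ := Fin.ext hz'
        rw [h1, swap_apply_right, tau_apply_xor hc hm (by norm_num; omega)]
        simp only
        rw [Nat.xor_one_of_odd (by simp)]
        omega
      · rw [swap_apply_of_ne_of_ne (fun h => hz (by rw [h])) (fun h => hz' (by rw [h])),
          tau_apply_of_ne hc hm (by norm_num; omega)]
    rw [this, Perm.sign_swap]
    intro h
    have := congrArg Fin.val h
    simp at this
  · exact tau_apply_of_ne hc hm (by simpa using hz)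

theorem exists_swap_avoiding {n : ℕ} (hn : 6 ≤ n) (a b : Fin n) :
    ∃ s ∈ Q n, Perm.sign s = -1 ∧ s a = a ∧ s b = b := by
  have : ∃ j, j < 3 ∧ a.val / 2 ≠ j ∧ b.val / 2 ≠ j := by
    by_cases h0 : a.val / 2 ≠ 0 ∧ b.val / 2 ≠ 0
    · exact ⟨0, by norm_num, h0⟩
    by_cases h1 : a.val / 2 ≠ 1 ∧ b.val / 2 ≠ 1
    · exact ⟨1, by norm_num, h1⟩
    exact ⟨2, by norm_num, by omega, by omega⟩
  obtain ⟨j, hj, h1, h2⟩ := this
  obtain ⟨s, hs, hsgn, hfix⟩ := exists_swap_mem_Q (n := n) (j := j) (by omega)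
  exact ⟨s, hs, hsgn, hfix a h1, hfix b h2⟩

/-- The even part of `Q n`. -/
def R0 (n : ℕ) : Subgroup (Perm (Fin n)) := Q n ⊓ alternatingGroup (Fin n)

theorem mem_R0_iff {n : ℕ} {g : Perm (Fin n)} : g ∈ R0 n ↔ g ∈ Q n ∧ Perm.sign g = 1 := by
  rw [R0, Subgroup.mem_inf, Perm.mem_alternatingGroup]

theorem fix_parity {n : ℕ} (hn : 6 ≤ n) {g : Perm (Fin n)} (hg : g ∈ Q n) (a b : Fin n) :
    ∃ h ∈ R0 n, ∀ z, (g z = a ∨ g z = b) → h z = g z := by
  rcases Int.units_eq_one_or (Perm.sign g) with h1 | h1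
  · exact ⟨g, mem_R0_iff.2 ⟨hg, h1⟩, fun _ _ => rfl⟩
  · obtain ⟨s, hs, hsgn, hsa, hsb⟩ := exists_swap_avoiding hn a b
    refine ⟨s * g, mem_R0_iff.2 ⟨mul_mem hs hg, by simp [h1, hsgn]⟩, ?_⟩
    rintro z (hz | hz)
    · rw [Perm.mul_apply, hz, hsa]
    · rw [Perm.mul_apply, hz, hsb]

theorem R0_normalizer_le {n : ℕ} (hn : 6 ≤ n) :
    Subgroup.normalizer ((R0 n : Subgroup _) : Set (Perm (Fin n))) ≤ Q n := by
  apply normalizer_le_Q inf_le_left
  · intro u w h
    obtain ⟨g, hg, hgu⟩ := Q_H1 u w h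
    obtain ⟨g', hg', hfix⟩ := fix_parity hn hg w w
    exact ⟨g', hg', by rw [hfix u (Or.inl hgu), hgu]⟩
  · intro u v w h1 h2 h3
    obtain ⟨g, hg, hgu, hgv⟩ := Q_H2 u v w h1 h2 h3
    obtain ⟨g', hg', hfix⟩ := fix_parity hn hg u w
    exact ⟨g', hg', by rw [hfix u (Or.inl hgu), hgu], by rw [hfix v (Or.inr hgv), hgv]⟩

/-- For `n ≥ 6` the Sylow 2-subgroups of the alternating group are self-normalizing. -/
theorem alt_sylow_normalizer_le {n : ℕ} (hn : 6 ≤ n) (S : Sylow 2 (alternatingGroup (Fin n))) :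
    Subgroup.normalizer ((S : Subgroup (alternatingGroup (Fin n))) : Set (alternatingGroup (Fin n)))
      ≤ S := by
  -- `S` is conjugate to the even part of `Q n`
  have hS1 : IsPGroup 2 ((S : Subgroup (alternatingGroup (Fin n))).map
      (alternatingGroup (Fin n)).subtype) := S.isPGroup'.map _
  obtain ⟨T, hT⟩ := hS1.exists_le_sylow
  obtain ⟨Qh, hQh⟩ := exists_sylow_Q n
  obtain ⟨a, ha⟩ := MulAction.exists_smul_eq (Perm (Fin n)) Qh T
  have hTmem : ∀ y : Perm (Fin n), y ∈ T → a⁻¹ * y * a ∈ Q n := by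
    intro y hy
    rw [← ha, ← SetLike.mem_coe, Sylow.coe_smul] at hy
    obtain ⟨z, hz, rfl⟩ := hy
    rw [← hQh]
    have : a⁻¹ * (MulAut.conj a • z) * a = z := by
      simp [MulAut.conj_apply, MulAut.smul_def, mul_assoc]
    rw [this]
    exact hz
  have hsign : ∀ (y : Perm (Fin n)), Perm.sign (a⁻¹ * y * a) = Perm.sign y := by
    intro y
    simp only [map_mul, map_inv]
    rw [mul_comm, ← mul_assoc]
    simp
  -- the candidate subgroup
  let R1 : Subgroup (alternatingGroup (Fin n)) :=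
    { carrier := {y | a⁻¹ * y.val * a ∈ R0 n}
      one_mem' := by
        simp only [Set.mem_ofPred_eq, OneMemClass.coe_one, mul_one, inv_mul_cancel]
        exact one_mem _
      mul_mem' := by
        intro x y hx hy
        have : a⁻¹ * (x * y).val * a = (a⁻¹ * x.val * a) * (a⁻¹ * y.val * a) := by
          simp only [MulMemClass.coe_mul]
          group
        simp only [Set.mem_ofPred_eq] at *
        rw [this]
        exact mul_mem hx hy
      inv_mem' := by
        intro x hx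
        have : a⁻¹ * (x⁻¹).val * a = (a⁻¹ * x.val * a)⁻¹ := by
          simp only [InvMemClass.coe_inv]
          group
        simp only [Set.mem_ofPred_eq] at *
        rw [this]
        exact inv_mem hx }
  have hR1mem : ∀ y : alternatingGroup (Fin n), y ∈ R1 ↔ a⁻¹ * y.val * a ∈ R0 n := fun _ => Iff.rfl
  have hle : (S : Subgroup (alternatingGroup (Fin n))) ≤ R1 := by
    intro y hy
    rw [hR1mem, mem_R0_iff]
    refine ⟨hTmem _ (hT (Subgroup.mem_map_of_mem _ hy)), ?_⟩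
    rw [hsign]
    exact Perm.mem_alternatingGroup.1 y.2
  have hR1p : IsPGroup 2 R1 := by
    rintro ⟨y, hy⟩
    obtain ⟨k, hk⟩ := Q_isPGroup n ⟨a⁻¹ * y.val * a, ((hR1mem y).1 hy |> mem_R0_iff.1).1⟩
    refine ⟨k, ?_⟩
    apply Subtype.ext
    apply Subtype.ext
    have h1 := congrArg Subtype.val hk
    simp only [Subgroup.coe_pow, OneMemClass.coe_one] at h1
    have h2 : a⁻¹ * y.val ^ 2 ^ k * a = 1 := by
      rw [← h1]
      have := conj_pow (a := a⁻¹) (b := y.val) (i := 2 ^ k)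
      simpa using this.symm
    simp only [Subgroup.coe_pow, OneMemClass.coe_one]
    have : y.val ^ 2 ^ k = a * (a⁻¹ * y.val ^ 2 ^ k * a) * a⁻¹ := by group
    rw [this, h2]
    simp
  have hSeq : (S : Subgroup (alternatingGroup (Fin n))) = R1 := (S.is_maximal' hR1p hle).symm
  intro x hx
  rw [hSeq]
  rw [hR1mem, mem_R0_iff]
  have hsgn : Perm.sign (a⁻¹ * x.val * a) = 1 := by
    rw [hsign]
    exact Perm.mem_alternatingGroup.1 x.2
  refine ⟨?_, hsgn⟩
  apply R0_normalizer_le hn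
  apply Subgroup.mem_normalizer_fintype
  intro h hh
  have hh' : h ∈ R0 n := hh
  have hsgnh : Perm.sign (a * h * a⁻¹) = 1 := by
    have h1 := (mem_R0_iff.1 hh').2
    simp only [map_mul, map_inv]
    rw [mul_comm, ← mul_assoc]
    simp [h1]
  let y : alternatingGroup (Fin n) := ⟨a * h * a⁻¹, Perm.mem_alternatingGroup.2 hsgnh⟩
  have hy : y ∈ (S : Subgroup (alternatingGroup (Fin n))) := by
    rw [hSeq, hR1mem]
    have : a⁻¹ * y.val * a = h := by
      show a⁻¹ * (a * h * a⁻¹) * a = h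
      group
    rw [this]
    exact hh'
  have hxy : x * y * x⁻¹ ∈ (S : Subgroup (alternatingGroup (Fin n))) :=
    (Subgroup.mem_normalizer_iff.1 hx y).1 hy
  rw [hSeq, hR1mem] at hxy
  have : a⁻¹ * (x * y * x⁻¹).val * a = (a⁻¹ * x.val * a) * h * (a⁻¹ * x.val * a)⁻¹ := by
    simp only [MulMemClass.coe_mul, InvMemClass.coe_inv]
    show a⁻¹ * (x.val * (a * h * a⁻¹) * x.val⁻¹) * a = _
    group
  rw [this] at hxy
  exact hxy

/-! ### Pronormality -/

/-- Two Sylow subgroups contained in `J` are conjugate in `J`. -/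
theorem exists_conj_in_join {G : Type*} [Group G] [Finite G] {p : ℕ} [Fact p.Prime]
    (S : Sylow p G) (J : Subgroup G) (h1 : (S : Subgroup G) ≤ J) (g : G)
    (h2 : (g • S : Sylow p G) ≤ J) : ∃ j ∈ J, j • S = g • S := by
  obtain ⟨j, hj⟩ := MulAction.exists_smul_eq J (S.subtype h1) ((g • S).subtype h2)
  refine ⟨j, j.2, ?_⟩
  have := Sylow.smul_subtype h1 j
  rw [this] at hj
  exact Sylow.subtype_injective hj

theorem exists_sylow_le_of_not_dvd_index {G : Type*} [Group G] [Finite G] {p : ℕ} [Fact p.Prime]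
    (H : Subgroup G) (h : ¬ p ∣ H.index) : ∃ S : Sylow p G, (S : Subgroup G) ≤ H := by
  classical
  have hp : p.Prime := Fact.out
  obtain ⟨S0⟩ : Nonempty (Sylow p H) := inferInstance
  have hcard : Nat.card ((S0 : Subgroup H).map H.subtype) = p ^ (Nat.card G).factorization p := by
    have h1 : Nat.card ((S0 : Subgroup H).map H.subtype) = Nat.card (S0 : Subgroup H) :=
      Nat.card_congr ((S0 : Subgroup H).equivMapOfInjective _ H.subtype_injective).symm.toEquiv
    rw [h1, Sylow.card_eq_multiplicity, ← H.card_mul_index,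
      Nat.factorization_mul Nat.card_pos.ne' (Subgroup.index_ne_zero_of_finite)]
    simp [Nat.factorization_eq_zero_of_not_dvd h]
  refine ⟨Sylow.ofCard _ hcard, ?_⟩
  rw [Sylow.coe_ofCard]
  exact Subgroup.map_subtype_le _

end Cfsg.Agent.Lib.SymSylow2
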