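import Mathlib

/-!
# A concrete field with eight elements

Elements are `Fin 8`, addition is xor, and multiplication is read from a packed table
(polynomial basis, `x³ + x + 1`).  All axioms are checked by the kernel.
-/

set_option autoImplicit false

namespace Cfsg.Agent.Lib.Sz8

/-- The field with eight elements, on `Fin 8`. -/
def K8 : Type := Fin 8

namespace K8

instance : DecidableEq K8 := inferInstanceAs (DecidableEq (Fin 8))
instance : Fintype K8 := inferInstanceAs (Fintype (Fin 8))

/-- The multiplication table, packed in base 8. -/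
def mulTab : ℕ := 2821848294356612419217921029917578219971947684264937521152

/-- The inverse table, packed in base 8. -/
def invTab : ℕ := 9272648

/-- Addition. -/
def add (a b : K8) : K8 := ⟨Nat.mod (Nat.xor a.1 b.1) 8, Nat.mod_lt _ (by decide)⟩

/-- Multiplication. -/
def mul (a b : K8) : K8 :=
  ⟨Nat.mod (Nat.shiftRight mulTab (Nat.mul 3 (Nat.add (Nat.mul 8 a.1) b.1))) 8,
    Nat.mod_lt _ (by decide)⟩

/-- Inverse, with `0⁻¹ = 0`. -/
def inv (a : K8) : K8 :=
  ⟨Nat.mod (Nat.shiftRight invTab (Nat.mul 3 a.1)) 8, Nat.mod_lt _ (by decide)⟩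

instance : Add K8 := ⟨add⟩
instance : Mul K8 := ⟨mul⟩
instance : Neg K8 := ⟨id⟩
instance : Inv K8 := ⟨inv⟩
instance : Zero K8 := ⟨(⟨0, by decide⟩ : Fin 8)⟩
instance : One K8 := ⟨(⟨1, by decide⟩ : Fin 8)⟩

theorem add_assoc' : ∀ a b c : K8, add (add a b) c = add a (add b c) := by decide +kernel
theorem zero_add' : ∀ a : K8, add (0 : K8) a = a := by decide +kernel
theorem neg_add_cancel' : ∀ a : K8, add a a = (0 : K8) := by decide +kernel
theorem mul_assoc' : ∀ a b c : K8, mul (mul a b) c = mul a (mul b c) := by decide +kernel
theorem mul_comm' : ∀ a b : K8, mul a b = mul b a := by decide +kernel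
theorem one_mul' : ∀ a : K8, mul (1 : K8) a = a := by decide +kernel
theorem mul_inv_cancel' : ∀ a : K8, a ≠ (0 : K8) → mul a (inv a) = (1 : K8) := by decide +kernel
theorem inv_zero' : inv (0 : K8) = (0 : K8) := by decide +kernel
theorem left_distrib' : ∀ a b c : K8, mul a (add b c) = add (mul a b) (mul a c) := by decide +kernel

/-- The field structure. -/
instance instField : Field K8 :=
  Field.ofMinimalAxioms K8 add_assoc' zero_add' neg_add_cancel' mul_assoc' mul_comm' one_mul'
    mul_inv_cancel' inv_zero' left_distrib' ⟨(0 : K8), (1 : K8), by decide⟩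

theorem card_K8 : Fintype.card K8 = 8 := Fintype.card_fin 8

theorem add_def (a b : K8) : a + b = add a b := rfl
theorem mul_def (a b : K8) : a * b = mul a b := rfl
theorem inv_def (a : K8) : a⁻¹ = inv a := rfl

/-- Every element is its own negative. -/
theorem add_self' (a : K8) : a + a = 0 := neg_add_cancel' a

/-- The Frobenius `x ↦ x²`. -/
def fr : K8 →+* K8 where
  toFun a := a * a
  map_one' := by decide +kernel
  map_mul' := by decide +kernel
  map_zero' := by decide +kernel
  map_add' := by decide +kernel

theorem fr_apply (a : K8) : fr a = a * a := rfl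

theorem fr_fr_fr (a : K8) : fr (fr (fr a)) = a := by
  revert a; decide +kernel

/-- `x ↦ x⁴`, the automorphism `θ` with `θ² = fr` used for the Suzuki group. -/
def th : K8 →+* K8 := fr.comp fr

theorem th_apply (a : K8) : th a = fr (fr a) := rfl

end K8

end Cfsg.Agent.Lib.Sz8
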