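import Mathlib
import Cfsg.Agent.Lib.Sz8Field

/-!
# Data for the Suzuki group `Sz(8)` as a group of `4 × 4` matrices

The generators are the matrices `S a b`, the diagonal `T` and the antidiagonal `W`.  We prove that
every element `g` of the generated group `Sz0` satisfies the Suzuki characteristic equation
`g⁴ + A g³ + A⁴ g² + A g + 1 = 0` with `A` the trace of `g`.
-/

set_option autoImplicit false

namespace Cfsg.Agent.Lib.Sz8

open K8

/-- Matrices over the field with eight elements. -/
abbrev Mat := Matrix (Fin 4) (Fin 4) K8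

/-- `x ↦ x⁴`. -/
def th4 (a : K8) : K8 := mul (mul a a) (mul a a)

/-- A field element by its code. -/
def cc (n : ℕ) : K8 := (⟨n % 8, Nat.mod_lt _ (by decide)⟩ : Fin 8)

/-- The matrices of the Sylow 2-subgroup. -/
def Sm (a b : K8) : Mat :=
  Matrix.of ![![1, 0, 0, 0], ![a, 1, 0, 0], ![add (mul a (th4 a)) b, th4 a, 1, 0],
    ![add (add (mul (mul a a) (th4 a)) (mul a b)) (th4 b), b, a, 1]]

/-- The table of the diagonal matrices. -/
def dTab : ℕ := 8758692309373805536358985

/-- The powers of the diagonal matrix. -/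
def Dm (i : Fin 7) : Mat :=
  Matrix.of fun r s => if r = s then cc (dTab >>> (3 * (4 * i.1 + r.1))) else 0

/-- The antidiagonal matrix. -/
def Wm : Mat := Matrix.of ![![0, 0, 0, 1], ![0, 0, 1, 0], ![0, 1, 0, 0], ![1, 0, 0, 0]]

/-- Fast product. -/
def mulF (X g : Mat) : Mat := fun i j =>
  add (add (add (mul (X i 0) (g 0 j)) (mul (X i 1) (g 1 j))) (mul (X i 2) (g 2 j))) (mul (X i 3) (g 3 j))

theorem mulF_eq (X g : Mat) : mulF X g = X * g := by
  ext i j
  simp only [Matrix.mul_apply, Fin.sum_univ_four]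
  rfl

/-- The group law of the matrices `Sm`. -/
theorem Sm_mul (a b c d : K8) : Sm a b * Sm c d = Sm (add a c) (add (add (mul a (th4 c)) b) d) := by
  rw [← mulF_eq]
  revert a b c d
  decide +kernel

theorem Sm_zero : Sm 0 0 = 1 := by decide +kernel

/-- Fast diagonal addition. -/
def addD (X : Mat) (c : K8) : Mat := fun i j => if i = j then add (X i j) c else X i j

theorem addD_eq (X : Mat) (c : K8) : addD X c = X + c • 1 := by
  ext i j
  by_cases h : i = j
  · subst h
    simp only [addD, if_true, Matrix.add_apply, Matrix.smul_apply, Matrix.one_apply_eq, smul_eq_mul,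
      mul_one]
    rfl
  · simp [addD, h, Matrix.one_apply_ne h]

/-- Fast trace. -/
def tr4 (g : Mat) : K8 := add (add (add (g 0 0) (g 1 1)) (g 2 2)) (g 3 3)

theorem tr4_eq (g : Mat) : tr4 g = Matrix.trace g := by
  simp only [Matrix.trace, Matrix.diag_apply, Fin.sum_univ_four]
  rfl

/-- Horner evaluation of the Suzuki polynomial. -/
def FA (g : Mat) : Mat :=
  addD (mulF (addD (mulF (addD (mulF (addD g (tr4 g)) g) (th4 (tr4 g))) g) (tr4 g)) g) 1

/-- Zero test. -/
def isZ (X : Mat) : Bool :=
  (List.finRange 4).all fun i => (List.finRange 4).all fun j => (X i j).1 == 0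

theorem eq_zero_of_isZ {X : Mat} (h : isZ X = true) : X = 0 := by
  ext i j
  have h1 := (List.all_eq_true.mp h) i (List.mem_finRange i)
  have h2 := (List.all_eq_true.mp h1) j (List.mem_finRange j)
  have h3 : (X i j).1 = 0 := by simpa using h2
  exact Fin.ext h3

/-- The Suzuki equation for a matrix. -/
def PP (g : Mat) : Prop :=
  g ^ 4 + Matrix.trace g • g ^ 3 + th4 (Matrix.trace g) • g ^ 2 + Matrix.trace g • g + 1 = 0

theorem PP_of_FA {g : Mat} (h : isZ (FA g) = true) : PP g := by
  have h0 := eq_zero_of_isZ h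
  unfold FA at h0
  simp only [addD_eq, mulF_eq, tr4_eq, one_smul] at h0
  unfold PP
  rw [← h0]
  simp only [add_mul, smul_mul_assoc, one_mul, pow_succ, pow_zero]

theorem PP_S_D : ∀ (a b : K8) (i : Fin 7), isZ (FA (mulF (Sm a b) (Dm i))) = true := by
  decide +kernel

theorem PP_S_D_W : ∀ (a b : K8) (i : Fin 7), isZ (FA (mulF (mulF (Sm a b) (Dm i)) Wm)) = true := by
  decide +kernel

/-- The key table for the Bruhat decomposition: base `8` digits `a₁ b₁ i c₁ d₁`. -/
def keyTab : ℕ :=
  8324155333341672959317205520503420353856976014190413617438574278687314490029158180912406936043043788948727031913024389565432430963132544440392163596031732736770017889643617696695569643593325533494277809171969081141998137086309565498768410402130491760097427798179609926099512961081486376960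

/-- An entry of the key table. -/
def keyE (a b : K8) : ℕ := keyTab >>> (15 * (8 * a.1 + b.1))

def keyA (a b : K8) : K8 := cc (keyE a b)
def keyB (a b : K8) : K8 := cc (keyE a b >>> 3)
def keyI (a b : K8) : Fin 7 := ⟨(keyE a b >>> 6) % 8 % 7, Nat.mod_lt _ (by decide)⟩
def keyC (a b : K8) : K8 := cc (keyE a b >>> 9)
def keyD (a b : K8) : K8 := cc (keyE a b >>> 12)

/-- The Bruhat relation. -/
theorem key_rel : ∀ a b : K8, a ≠ 0 ∨ b ≠ 0 →
    mulF (mulF Wm (Sm a b)) Wm =
      mulF (mulF (mulF (Sm (keyA a b) (keyB a b)) (Dm (keyI a b))) Wm) (Sm (keyC a b) (keyD a b)) := by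
  decide +kernel

theorem Wm_sq : Wm * Wm = 1 := by decide +kernel

theorem Dm_mul_S : ∀ a b : K8, mulF (Dm 1) (Sm a b) = mulF (Sm (mul (cc 5) a) (mul (cc 4) b)) (Dm 1) := by
  decide +kernel

theorem Wm_Dm : mulF Wm (Dm 1) = mulF (Dm 6) Wm := by decide +kernel

theorem Dm_pow : ∀ i : Fin 7, (Dm 1) ^ (i : ℕ) = Dm i := by decide +kernel

theorem Dm_seven : (Dm 1) ^ 7 = 1 := by decide +kernel

theorem Dm_six_one : Dm 6 * Dm 1 = 1 := by decide +kernel

theorem Dm_one_six : Dm 1 * Dm 6 = 1 := by decide +kernel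

end Cfsg.Agent.Lib.Sz8
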