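/-
Multiplicities of characters on abelian subgroups with a free automorphism; weighted counting of
conjugates of a trivial-intersection subgroup.
-/
import Mathlib
import Cfsg.Prelude.Def_Blocks
import Cfsg.Agent.Lib.CharBasic
import Cfsg.Agent.Lib.CharInd
import Cfsg.Agent.Lib.CharCodegP
import Cfsg.Agent.Lib.CharValues
import Cfsg.Agent.Lib.SzTorusG

set_option autoImplicit false
set_option linter.unusedSectionVars false
set_option linter.unusedVariables false
set_option linter.unnecessarySimpa false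
set_option linter.style.haveILetI false

namespace Cfsg.Agent.Lib.SzChar

open Cfsg Cfsg.Agent.Lib.CharBasic Cfsg.Agent.Lib.CharInd Cfsg.Agent.Lib.SzTorus
open scoped ComplexConjugate

section orbit

variable {X : Type*} [DecidableEq X]

theorem sum_dvd_two (π : X → X) (h2 : ∀ x, π (π x) = x) (f : X → ℤ) (hf : ∀ x, f (π x) = f x) :
    ∀ S : Finset X, (∀ x ∈ S, π x ∈ S) → (∀ x ∈ S, π x ≠ x) → (2 : ℤ) ∣ ∑ x ∈ S, f x := by
  intro S
  induction S using Finset.strongInduction with
  | H S ih =>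
    intro hS hfree
    rcases S.eq_empty_or_nonempty with rfl | ⟨x, hx⟩
    · simp
    · have hO : ({x, π x} : Finset X) ⊆ S := by
        intro y hy
        simp only [Finset.mem_insert, Finset.mem_singleton] at hy
        rcases hy with rfl | rfl
        · exact hx
        · exact hS _ hx
      have hss : S \ {x, π x} ⊂ S := by
        refine Finset.sdiff_ssubset hO ?_
        exact ⟨x, by simp⟩
      have h1 := ih _ hss (by
        intro y hy
        simp only [Finset.mem_sdiff, Finset.mem_insert, Finset.mem_singleton, not_or] at hy ⊢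
        refine ⟨hS _ hy.1, ?_, ?_⟩
        · intro h
          apply hy.2.2
          rw [← h, h2]
        · intro h
          apply hy.2.1
          have := congrArg π h
          rwa [h2, h2] at this) (by
        intro y hy
        exact hfree y (Finset.sdiff_subset hy))
      have h3 := Finset.sum_sdiff (f := f) hO
      have h4 : ∑ y ∈ ({x, π x} : Finset X), f y = 2 * f x := by
        rw [Finset.sum_pair (hfree x hx).symm, hf]
        ring
      rw [← h3, h4]
      exact dvd_add h1 (dvd_mul_right _ _)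

theorem sum_dvd_four (π : X → X) (h4 : ∀ x, π (π (π (π x))) = x) (f : X → ℤ)
    (hf : ∀ x, f (π x) = f x) :
    ∀ S : Finset X, (∀ x ∈ S, π x ∈ S) → (∀ x ∈ S, π (π x) ≠ x) → (4 : ℤ) ∣ ∑ x ∈ S, f x := by
  have hinj : Function.Injective π := by
    intro a b hab
    have := congrArg (fun y => π (π (π y))) hab
    simp only [h4] at this
    exact this
  intro S
  induction S using Finset.strongInduction with
  | H S ih =>
    intro hS hfree
    rcases S.eq_empty_or_nonempty with rfl | ⟨x, hx⟩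
    · simp
    · have hx1 := hS _ hx
      have hx2 := hS _ hx1
      have hx3 := hS _ hx2
      have hf2 := hfree x hx
      have hf3 := hfree _ hx1
      have hne1 : π x ≠ x := fun h => hf2 (by rw [h, h])
      have hne2 : π (π (π x)) ≠ x := fun h => hne1 (by
        have := congrArg π h
        rw [h4] at this
        exact this.symm)
      have hne3 : π (π x) ≠ π x := fun h => hne1 (hinj h)
      have hne4 : π (π (π x)) ≠ π (π x) := fun h => hne3 (hinj h)
      have hO : ({x, π x, π (π x), π (π (π x))} : Finset X) ⊆ S := by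
        intro y hy
        simp only [Finset.mem_insert, Finset.mem_singleton] at hy
        rcases hy with rfl | rfl | rfl | rfl <;> assumption
      have hss : S \ {x, π x, π (π x), π (π (π x))} ⊂ S := by
        refine Finset.sdiff_ssubset hO ?_
        exact ⟨x, by simp⟩
      have h1 := ih _ hss (by
        intro y hy
        simp only [Finset.mem_sdiff, Finset.mem_insert, Finset.mem_singleton, not_or] at hy ⊢
        obtain ⟨hyS, hy1, hy2, hy3, hy4⟩ := hy
        refine ⟨hS _ hyS, ?_, ?_, ?_, ?_⟩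
        · intro h
          apply hy4
          have := congrArg (fun z => π (π (π z))) h
          simp only [h4] at this
          exact this
        · intro h
          exact hy1 (hinj h)
        · intro h
          exact hy2 (hinj h)
        · intro h
          exact hy3 (hinj h)) (by
        intro y hy
        exact hfree y (Finset.sdiff_subset hy))
      have h3 := Finset.sum_sdiff (f := f) hO
      have h5 : ∑ y ∈ ({x, π x, π (π x), π (π (π x))} : Finset X), f y = 4 * f x := by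
        have e1 : f (π x) = f x := hf x
        have e2 : f (π (π x)) = f x := by rw [hf, hf]
        have e3 : f (π (π (π x))) = f x := by rw [hf, hf, hf]
        rw [Finset.sum_insert, Finset.sum_insert, Finset.sum_pair hne4.symm, e1, e2, e3]
        · ring
        · simp only [Finset.mem_insert, Finset.mem_singleton, not_or]
          exact ⟨hne3.symm, hf3.symm⟩
        · simp only [Finset.mem_insert, Finset.mem_singleton, not_or]
          exact ⟨hne1.symm, hf2.symm, hne2.symm⟩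
      rw [← h3, h5]
      exact dvd_add h1 (dvd_mul_right _ _)

end orbit

section abelian

variable {H : Type*} [Group H] [Fintype H]

theorem card_irr_of_comm (hc : ∀ a b : H, a * b = b * a) :
    Fintype.card (IrrCharacter H) = Nat.card H := by
  classical
  have h := sum_irr_degree_sq (G := H)
  have h1 : ∀ χ : IrrCharacter H, (χ : H → ℂ) 1 * conj ((χ : H → ℂ) 1) = 1 := by
    intro χ
    rw [Cfsg.Agent.Lib.CharCodegP.irr_one_of_comm hc χ.2]
    simp
  rw [Finset.sum_congr rfl (fun χ _ => h1 χ)] at h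
  simp only [Finset.sum_const, Finset.card_univ, nsmul_eq_mul, mul_one] at h
  exact_mod_cast h

theorem abelian_core (hc : ∀ a b : H, a * b = b * a) {θ : H → ℂ} (hθ : IsCharacter H θ) (b₀ s : ℤ)
    (h1 : θ 1 = ((s + b₀ * Nat.card H : ℤ) : ℂ)) :
    ∃ δ : IrrCharacter H → ℤ, (∀ ψ : IrrCharacter H, classInner θ (ψ : H → ℂ) = ((δ ψ + b₀ : ℤ) : ℂ)) ∧
      ∑ ψ, δ ψ = s ∧
      ((∑ ψ, δ ψ ^ 2 : ℤ) : ℝ) * Nat.card H =
        ∑ x, Complex.normSq (θ x) - Complex.normSq (θ 1) + (s : ℝ) ^ 2 ∧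
      (∀ x : H, x ≠ 1 → θ x = ∑ ψ : IrrCharacter H, ((δ ψ : ℤ) : ℂ) * (ψ : H → ℂ) x) := by
  classical
  obtain ⟨m, hm⟩ := exists_nat_decomp hθ
  have hcard := card_irr_of_comm hc
  have hHne : (Nat.card H : ℝ) ≠ 0 := by
    have : 0 < Nat.card H := Nat.card_pos
    positivity
  have hin : ∀ ψ : IrrCharacter H, classInner θ (ψ : H → ℂ) = (m ψ : ℂ) := by
    intro ψ
    rw [hm]
    exact classInner_nat_decomp m ψ ψ.2
  have hsum : ((∑ ψ, (m ψ : ℤ)) : ℤ) = s + b₀ * Nat.card H := by
    have h2 := congrFun hm 1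
    rw [h1] at h2
    have h3 : (∑ i, m i • (i : H → ℂ)) 1 = ((∑ ψ, (m ψ : ℤ) : ℤ) : ℂ) := by
      rw [Finset.sum_apply]
      push_cast
      refine Finset.sum_congr rfl fun i _ => ?_
      rw [Pi.smul_apply, Cfsg.Agent.Lib.CharCodegP.irr_one_of_comm hc i.2]
      simp
    rw [h3] at h2
    exact_mod_cast h2.symm
  have hnorm : ((∑ ψ, (m ψ : ℤ) ^ 2 : ℤ) : ℝ) * Nat.card H = ∑ x, Complex.normSq (θ x) := by
    have h2 := classInner_nat_decomp_self m
    rw [← hm] at h2
    unfold classInner at h2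
    have h3 : ∀ x : H, θ x * conj (θ x) = ((Complex.normSq (θ x) : ℝ) : ℂ) :=
      fun x => Complex.mul_conj _
    rw [Finset.sum_congr rfl (fun x _ => h3 x), ← Complex.ofReal_sum] at h2
    have hHne' : (Nat.card H : ℂ) ≠ 0 := by exact_mod_cast hHne
    have h4 : ((∑ x, Complex.normSq (θ x) : ℝ) : ℂ) = ((∑ ψ, m ψ ^ 2 : ℕ) : ℂ) * (Nat.card H : ℂ) := by
      rw [← h2]
      field_simp
    have h5 : (∑ x, Complex.normSq (θ x) : ℝ) = ((∑ ψ, m ψ ^ 2 : ℕ) : ℝ) * (Nat.card H : ℝ) := by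
      exact_mod_cast h4
    rw [h5]
    push_cast
    rfl
  refine ⟨fun ψ => (m ψ : ℤ) - b₀, ?_, ?_, ?_, ?_⟩
  · intro ψ
    rw [hin]
    simp
  · rw [Finset.sum_sub_distrib, hsum, Finset.sum_const, Finset.card_univ, hcard]
    simp only [nsmul_eq_mul]
    push_cast
    ring
  · have h3 : (∑ ψ, ((m ψ : ℤ) - b₀) ^ 2 : ℤ) =
        ∑ ψ, (m ψ : ℤ) ^ 2 - 2 * b₀ * (s + b₀ * Nat.card H) + b₀ ^ 2 * Nat.card H := by
      rw [← hsum, Finset.mul_sum]
      have : ∀ ψ : IrrCharacter H, ((m ψ : ℤ) - b₀) ^ 2 =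
          (m ψ : ℤ) ^ 2 - 2 * b₀ * (m ψ : ℤ) + b₀ ^ 2 := fun ψ => by ring
      rw [Finset.sum_congr rfl (fun ψ _ => this ψ), Finset.sum_add_distrib,
        Finset.sum_sub_distrib, Finset.sum_const, Finset.card_univ, hcard]
      simp only [nsmul_eq_mul]
      ring
    rw [h3]
    push_cast
    rw [add_mul, sub_mul]
    have h4 := hnorm
    push_cast at h4
    rw [h4, h1]
    have h5 : Complex.normSq (((s + b₀ * Nat.card H : ℤ) : ℂ)) = ((s : ℝ) + b₀ * Nat.card H) ^ 2 := by
      rw [Complex.normSq_intCast]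
      push_cast
      ring
    rw [h5]
    ring
  · intro x hx
    have h0 : ∑ ψ : IrrCharacter H, (ψ : H → ℂ) x = 0 := by
      have h2 := sum_irr_mul_conj x (1 : H)
      rw [if_neg (fun h => hx (isConj_one_left.1 h))] at h2
      rw [← h2]
      refine Finset.sum_congr rfl fun ψ _ => ?_
      rw [Cfsg.Agent.Lib.CharCodegP.irr_one_of_comm hc ψ.2]
      simp
    have h2 := congrFun hm x
    rw [h2, Finset.sum_apply]
    have h3 : ∀ i : IrrCharacter H, (m i • (i : H → ℂ)) x =
        ((((m i : ℤ) - b₀ : ℤ)) : ℂ) * (i : H → ℂ) x + (b₀ : ℂ) * (i : H → ℂ) x := by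
      intro i
      simp only [Pi.smul_apply, nsmul_eq_mul]
      push_cast
      ring
    rw [Finset.sum_congr rfl (fun i _ => h3 i), Finset.sum_add_distrib, ← Finset.mul_sum, h0]
    simp

/-- Precomposition with an automorphism does not change the multiplicities of an invariant
function. -/
theorem classInner_comp_equiv (α : H ≃* H) {θ ψ : H → ℂ} (hα : ∀ x, θ (α x) = θ x) :
    classInner θ (ψ ∘ α) = classInner θ ψ := by
  unfold classInner
  congr 1
  rw [← Equiv.sum_comp α.toEquiv (fun g => θ g * conj (ψ g))]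
  refine Finset.sum_congr rfl fun x _ => ?_
  simp [hα]

/-- An irreducible character of an abelian group of odd order invariant under inversion is trivial. -/
theorem irr_trivial_of_inv (hc : ∀ a b : H, a * b = b * a) (hodd : Odd (Nat.card H)) {ψ : H → ℂ}
    (hψ : IsIrrCharacter H ψ) (h : ∀ x, ψ x⁻¹ = ψ x) (x : H) : ψ x = 1 := by
  have h1 := Cfsg.Agent.Lib.CharCodegP.irr_one_of_comm hc hψ
  obtain ⟨f, hf⟩ := exists_hom_of_degree_one (IsIrrCharacter.isCharacter hψ) h1
  have h2 : ∀ y : H, f y * f y = 1 := by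
    intro y
    have h3 : f y⁻¹ = f y := by
      apply Units.ext
      rw [← hf, ← hf, h]
    calc f y * f y = f y * f y⁻¹ := by rw [h3]
      _ = 1 := by rw [← map_mul, mul_inv_cancel, map_one]
  obtain ⟨k, hk⟩ := hodd
  have h3 : x = x ^ (k + 1) * x ^ (k + 1) := by
    rw [← pow_add]
    have : k + 1 + (k + 1) = Nat.card H + 1 := by omega
    rw [this, pow_succ, pow_card_eq_one', one_mul]
  rw [hf, h3, map_mul, h2]
  simp

theorem norm_tail_le (hc : ∀ a b : H, a * b = b * a) (δ : IrrCharacter H → ℤ)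
    (S : Finset (IrrCharacter H)) (x : H) :
    ‖∑ ψ ∈ S, ((δ ψ : ℤ) : ℂ) * (ψ : H → ℂ) x‖ ≤ ((∑ ψ ∈ S, δ ψ ^ 2 : ℤ) : ℝ) := by
  refine (norm_sum_le _ _).trans ?_
  push_cast
  refine Finset.sum_le_sum fun ψ _ => ?_
  have h1 := Cfsg.Agent.Lib.CharCodegP.irr_one_of_comm hc ψ.2
  obtain ⟨f, hf⟩ := exists_hom_of_degree_one (IsIrrCharacter.isCharacter ψ.2) h1
  have h2 : ((ψ : H → ℂ) x) ^ Nat.card H = 1 := by
    rw [hf]
    have : (f x) ^ Nat.card H = 1 := by
      rw [← map_pow, pow_card_eq_one', map_one]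
    rw [← Units.val_pow_eq_pow_val, this, Units.val_one]
  have h3 : ‖(ψ : H → ℂ) x‖ = 1 :=
    Cfsg.Agent.Lib.CharValues.norm_eq_one_of_pow_eq_one Nat.card_pos h2
  rw [norm_mul, h3, mul_one, Complex.norm_intCast]
  have h4 := Int.le_self_sq |δ ψ|
  rw [sq_abs] at h4
  exact_mod_cast h4

theorem abelian_four (hc : ∀ a b : H, a * b = b * a) (hodd : Odd (Nat.card H)) {θ : H → ℂ}
    (hθ : IsCharacter H θ) (α : H ≃* H) (hα : ∀ x, α (α x) = x⁻¹) (hθα : ∀ x, θ (α x) = θ x)
    (b₀ s : ℤ) (h1 : θ 1 = ((s + b₀ * Nat.card H : ℤ) : ℂ)) :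
    ∃ d A B : ℤ, 0 ≤ A ∧ (4 : ℤ) ∣ A ∧ (4 : ℤ) ∣ B ∧ |B| ≤ A ∧ s = d + B ∧
      ((d ^ 2 + A : ℤ) : ℝ) * Nat.card H =
        ∑ x, Complex.normSq (θ x) - Complex.normSq (θ 1) + (s : ℝ) ^ 2 ∧
      (∀ x : H, x ≠ 1 → ‖θ x - d‖ ≤ (A : ℝ)) := by
  classical
  obtain ⟨δ, hδ, hs, hn, hv⟩ := abelian_core hc hθ b₀ s h1
  let π : IrrCharacter H → IrrCharacter H := fun ψ =>
    ⟨(ψ : H → ℂ) ∘ α.toMonoidHom, isIrrCharacter_comp_of_surjective _ α.surjective ψ.2⟩
  have hπ : ∀ ψ x, (π ψ : H → ℂ) x = (ψ : H → ℂ) (α x) := fun _ _ => rfl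
  have hπ4 : ∀ ψ, π (π (π (π ψ))) = ψ := by
    intro ψ
    apply Subtype.ext
    funext x
    rw [hπ, hπ, hπ, hπ, hα, hα, inv_inv]
  have hδπ : ∀ ψ, δ (π ψ) = δ ψ := by
    intro ψ
    have h2 := hδ (π ψ)
    have h3 : classInner θ ((π ψ : IrrCharacter H) : H → ℂ) = classInner θ (ψ : H → ℂ) :=
      classInner_comp_equiv α hθα
    rw [h3, hδ ψ] at h2
    have h4 : δ ψ + b₀ = δ (π ψ) + b₀ := by exact_mod_cast h2
    linarith
  let one : IrrCharacter H := ⟨fun _ => 1, isIrrCharacter_one⟩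
  have hπone : π one = one := rfl
  have hfree : ∀ ψ, π (π ψ) = ψ → ψ = one := by
    intro ψ h
    apply Subtype.ext
    funext x
    refine irr_trivial_of_inv hc hodd ψ.2 ?_ x
    intro y
    have h2 := congrFun (congrArg Subtype.val h) y
    rw [hπ, hπ, hα] at h2
    exact h2
  have hinj : Function.Injective π := by
    intro a b hab
    have := congrArg (fun y => π (π (π y))) hab
    simp only [hπ4] at this
    exact this
  let S : Finset (IrrCharacter H) := Finset.univ.erase one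
  have hS : ∀ ψ ∈ S, π ψ ∈ S := by
    intro ψ hψ
    simp only [S, Finset.mem_erase, Finset.mem_univ, and_true] at hψ ⊢
    intro h
    apply hψ
    exact hinj (h.trans hπone.symm)
  have hSf : ∀ ψ ∈ S, π (π ψ) ≠ ψ := by
    intro ψ hψ h
    simp only [S, Finset.mem_erase, Finset.mem_univ, and_true] at hψ
    exact hψ (hfree ψ h)
  have hsplit : ∀ f : IrrCharacter H → ℤ, ∑ ψ, f ψ = f one + ∑ ψ ∈ S, f ψ := fun f =>
    (Finset.add_sum_erase _ f (Finset.mem_univ one)).symm
  refine ⟨δ one, ∑ ψ ∈ S, δ ψ ^ 2, ∑ ψ ∈ S, δ ψ, Finset.sum_nonneg fun _ _ => sq_nonneg _,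
    sum_dvd_four π hπ4 _ (fun ψ => by simp only [hδπ]) S hS hSf,
    sum_dvd_four π hπ4 δ hδπ S hS hSf, ?_, ?_, ?_, ?_⟩
  · refine (Finset.abs_sum_le_sum_abs _ _).trans (Finset.sum_le_sum fun ψ _ => ?_)
    have := Int.le_self_sq |δ ψ|
    rwa [sq_abs] at this
  · rw [← hs, hsplit]
  · rw [← hn, hsplit fun ψ => δ ψ ^ 2]
  · intro x hx
    rw [hv x hx, ← Finset.add_sum_erase _ _ (Finset.mem_univ one)]
    have h2 : ((one : IrrCharacter H) : H → ℂ) x = 1 := rfl
    rw [h2, mul_one, add_sub_cancel_left]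
    exact norm_tail_le hc δ S x

theorem abelian_two (hc : ∀ a b : H, a * b = b * a) (hodd : Odd (Nat.card H)) {θ : H → ℂ}
    (hθ : IsCharacter H θ) (hθα : ∀ x, θ x⁻¹ = θ x)
    (b₀ s : ℤ) (h1 : θ 1 = ((s + b₀ * Nat.card H : ℤ) : ℂ)) :
    ∃ d A B : ℤ, 0 ≤ A ∧ (2 : ℤ) ∣ A ∧ (2 : ℤ) ∣ B ∧ |B| ≤ A ∧ s = d + B ∧
      ((d ^ 2 + A : ℤ) : ℝ) * Nat.card H =
        ∑ x, Complex.normSq (θ x) - Complex.normSq (θ 1) + (s : ℝ) ^ 2 ∧
      (∀ x : H, x ≠ 1 → ‖θ x - d‖ ≤ (A : ℝ)) := by
  classical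
  obtain ⟨δ, hδ, hs, hn, hv⟩ := abelian_core hc hθ b₀ s h1
  have hcomm : ∀ x y : H, (x * y)⁻¹ = x⁻¹ * y⁻¹ := by
    intro x y
    rw [mul_inv_rev, hc]
  let α : H ≃* H :=
    { toFun := fun x => x⁻¹
      invFun := fun x => x⁻¹
      left_inv := fun x => inv_inv x
      right_inv := fun x => inv_inv x
      map_mul' := hcomm }
  have hαx : ∀ x, α x = x⁻¹ := fun _ => rfl
  let π : IrrCharacter H → IrrCharacter H := fun ψ =>
    ⟨(ψ : H → ℂ) ∘ α.toMonoidHom, isIrrCharacter_comp_of_surjective _ α.surjective ψ.2⟩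
  have hπ : ∀ ψ x, (π ψ : H → ℂ) x = (ψ : H → ℂ) (α x) := fun _ _ => rfl
  have hπ2 : ∀ ψ, π (π ψ) = ψ := by
    intro ψ
    apply Subtype.ext
    funext x
    rw [hπ, hπ, hαx, hαx, inv_inv]
  have hδπ : ∀ ψ, δ (π ψ) = δ ψ := by
    intro ψ
    have h2 := hδ (π ψ)
    have h3 : classInner θ ((π ψ : IrrCharacter H) : H → ℂ) = classInner θ (ψ : H → ℂ) :=
      classInner_comp_equiv α hθα
    rw [h3, hδ ψ] at h2
    have h4 : δ ψ + b₀ = δ (π ψ) + b₀ := by exact_mod_cast h2
    linarith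
  let one : IrrCharacter H := ⟨fun _ => 1, isIrrCharacter_one⟩
  have hπone : π one = one := rfl
  have hfree : ∀ ψ, π ψ = ψ → ψ = one := by
    intro ψ h
    apply Subtype.ext
    funext x
    refine irr_trivial_of_inv hc hodd ψ.2 ?_ x
    intro y
    have h2 := congrFun (congrArg Subtype.val h) y
    rw [hπ, hαx] at h2
    exact h2
  have hinj : Function.Injective π := by
    intro a b hab
    have := congrArg π hab
    simpa only [hπ2] using this
  let S : Finset (IrrCharacter H) := Finset.univ.erase one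
  have hS : ∀ ψ ∈ S, π ψ ∈ S := by
    intro ψ hψ
    simp only [S, Finset.mem_erase, Finset.mem_univ, and_true] at hψ ⊢
    intro h
    apply hψ
    exact hinj (h.trans hπone.symm)
  have hSf : ∀ ψ ∈ S, π ψ ≠ ψ := by
    intro ψ hψ h
    simp only [S, Finset.mem_erase, Finset.mem_univ, and_true] at hψ
    exact hψ (hfree ψ h)
  have hsplit : ∀ f : IrrCharacter H → ℤ, ∑ ψ, f ψ = f one + ∑ ψ ∈ S, f ψ := fun f =>
    (Finset.add_sum_erase _ f (Finset.mem_univ one)).symm
  refine ⟨δ one, ∑ ψ ∈ S, δ ψ ^ 2, ∑ ψ ∈ S, δ ψ, Finset.sum_nonneg fun _ _ => sq_nonneg _,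
    sum_dvd_two π hπ2 _ (fun ψ => by simp only [hδπ]) S hS hSf,
    sum_dvd_two π hπ2 δ hδπ S hS hSf, ?_, ?_, ?_, ?_⟩
  · refine (Finset.abs_sum_le_sum_abs _ _).trans (Finset.sum_le_sum fun ψ _ => ?_)
    have := Int.le_self_sq |δ ψ|
    rwa [sq_abs] at this
  · rw [← hs, hsplit]
  · rw [← hn, hsplit fun ψ => δ ψ ^ 2]
  · intro x hx
    rw [hv x hx, ← Finset.add_sum_erase _ _ (Finset.mem_univ one)]
    have h2 : ((one : IrrCharacter H) : H → ℂ) x = 1 := rfl
    rw [h2, mul_one, add_sub_cancel_left]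
    exact norm_tail_le hc δ S x

end abelian

section ucl

variable {G : Type*} [Group G] [Fintype G]

open Classical in
/-- Sum over a set of group elements. -/
noncomputable def sumOn (S : Set G) (f : G → ℝ) : ℝ := ∑ x ∈ Finset.univ.filter (· ∈ S), f x

open Classical in
theorem sumOn_eq_sum_subtype (S : Set G) [Fintype S] (f : G → ℝ) : sumOn S f = ∑ x : S, f x := by
  unfold sumOn
  exact (Finset.sum_subtype _ (by simp) f)

theorem sumOn_union {S T : Set G} (h : Disjoint S T) (f : G → ℝ) :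
    sumOn (S ∪ T) f = sumOn S f + sumOn T f := by
  classical
  unfold sumOn
  rw [← Finset.sum_union]
  · congr 1
    ext x
    simp
  · rw [Finset.disjoint_left]
    intro x hx hx'
    simp only [Finset.mem_filter, Finset.mem_univ, true_and] at hx hx'
    exact Set.disjoint_left.1 h hx hx'

theorem sumOn_const {S : Set G} {f : G → ℝ} {c : ℝ} (h : ∀ x ∈ S, f x = c) :
    sumOn S f = (S.ncard : ℝ) * c := by
  classical
  unfold sumOn
  rw [Finset.sum_congr rfl (fun x hx => h x (by simpa using hx))]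
  simp only [Finset.sum_const, nsmul_eq_mul]
  congr 2
  rw [← Set.ncard_coe_finset]
  congr 1
  ext x
  simp

theorem sumOn_univ (f : G → ℝ) : sumOn Set.univ f = ∑ x, f x := by
  classical
  unfold sumOn
  simp

/-- Weighted counting of the conjugates of a trivial-intersection subgroup. -/
theorem sum_ucl {C : Subgroup G} (hC : IsTI C) [Fintype C] (f : G → ℝ)
    (hf : ∀ g x : G, f (g * x * g⁻¹) = f x) :
    sumOn (ucl C) f * Nat.card (Subgroup.normalizer (C : Set G)) =
      Nat.card G * (∑ y : C, f y - f 1) := by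
  classical
  haveI : Fintype (ucl C) := Fintype.ofFinite _
  let P := G × {y : C // y ≠ 1}
  have hmem : ∀ p : P, p.1 * (p.2.1 : G) * p.1⁻¹ ∈ ucl C := by
    rintro ⟨g, y, hy⟩
    refine ⟨conj_ne_one (fun h => hy (Subtype.ext h)), g⁻¹, ?_⟩
    simpa [mul_assoc] using y.2
  let φ : P → ucl C := fun p => ⟨_, hmem p⟩
  have hfib : ∀ x : ucl C, Fintype.card {p : P // φ p = x} =
      Nat.card (Subgroup.normalizer (C : Set G)) := by
    rintro ⟨x, hx1, g, hg⟩
    rw [← Nat.card_eq_fintype_card]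
    symm
    let y₀ : C := ⟨g * x * g⁻¹, hg⟩
    have hy₀ : (y₀ : G) ≠ 1 := conj_ne_one hx1
    have hny : ∀ n : Subgroup.normalizer (C : Set G), ((n : G)⁻¹ * y₀ * n) ∈ C := by
      intro n
      have h2 := (Subgroup.mem_normalizer_iff.1 (inv_mem n.2) (y₀ : G)).1 y₀.2
      simpa using h2
    refine Nat.card_congr (Equiv.ofBijective
      (fun n => ⟨(g⁻¹ * n, ⟨⟨(n : G)⁻¹ * y₀ * n, hny n⟩, ?_⟩), ?_⟩) ⟨?_, ?_⟩)
    · intro h
      apply hy₀
      have h1 : ((n : G)⁻¹ * y₀ * n) = 1 := congrArg Subtype.val h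
      have h2 : (y₀ : G) = n * ((n : G)⁻¹ * y₀ * n) * (n : G)⁻¹ := by group
      rw [h2, h1]
      group
    · apply Subtype.ext
      change g⁻¹ * n * ((n : G)⁻¹ * y₀ * n) * (g⁻¹ * n)⁻¹ = x
      change g⁻¹ * n * ((n : G)⁻¹ * (g * x * g⁻¹) * n) * (g⁻¹ * n)⁻¹ = x
      group
    · intro a b h
      have h1 := congrArg (fun p => p.1.1) h
      simp only [mul_right_inj] at h1
      exact Subtype.ext h1
    · rintro ⟨⟨k, y, hy⟩, hk⟩
      have hk' : k * (y : G) * k⁻¹ = x := congrArg Subtype.val hk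
      have hy' : (y : G) ≠ 1 := fun h => hy (Subtype.ext h)
      have hn : g * k ∈ Subgroup.normalizer (C : Set G) := by
        apply hC _ (y : G) y.2 hy'
        have : g * k * (y : G) * (g * k)⁻¹ = g * (k * y * k⁻¹) * g⁻¹ := by group
        rw [this, hk']
        exact hg
      refine ⟨⟨g * k, hn⟩, ?_⟩
      apply Subtype.ext
      apply Prod.ext
      · simp
      · apply Subtype.ext
        apply Subtype.ext
        change (g * k)⁻¹ * (g * x * g⁻¹) * (g * k) = y
        rw [← hk']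
        group
  have h1 : ∑ p : P, f (φ p : G) = ∑ x : ucl C, (Nat.card (Subgroup.normalizer (C : Set G)) : ℝ) * f x := by
    rw [← Finset.sum_fiberwise (s := Finset.univ) (g := φ)]
    refine Finset.sum_congr rfl fun x _ => ?_
    have h2 : ∀ p ∈ Finset.univ.filter (fun p => φ p = x), f (φ p : G) = f x := by
      intro p hp
      have : φ p = x := by simpa using hp
      rw [this]
    rw [Finset.sum_congr rfl h2, Finset.sum_const, nsmul_eq_mul, ← hfib x]
    congr 2
    rw [Fintype.card_subtype]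
  have h2 : ∑ p : P, f (φ p : G) = Nat.card G * (∑ y : C, f y - f 1) := by
    have h3 : ∀ p : P, f (φ p : G) = f (p.2.1 : G) := fun p => hf _ _
    rw [Finset.sum_congr rfl (fun p _ => h3 p), Fintype.sum_prod_type]
    simp only [Finset.sum_const, Finset.card_univ, nsmul_eq_mul]
    rw [Nat.card_eq_fintype_card]
    congr 1
    have h4 := Fintype.sum_subtype_add_sum_subtype (fun y : C => y ≠ 1) (fun y : C => f (y : G))
    have h5 : ∑ y : {y : C // ¬ y ≠ 1}, f ((y : C) : G) = f 1 := by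
      have : Unique {y : C // ¬ y ≠ 1} :=
        { default := ⟨1, by simp⟩
          uniq := fun y => Subtype.ext (by simpa using y.2) }
      rw [Fintype.sum_unique]
      have : ((default : {y : C // ¬ y ≠ 1}) : C) = 1 := by
        simpa using (default : {y : C // ¬ y ≠ 1}).2
      rw [this]
      rfl
    rw [h5] at h4
    linarith
  rw [sumOn_eq_sum_subtype, ← h2, h1, Finset.sum_mul]
  exact Finset.sum_congr rfl fun x _ => mul_comm _ _

end ucl

end Cfsg.Agent.Lib.SzChar
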