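/-
The Suzuki group: rational inequalities for the class sums.
-/
import Mathlib

set_option autoImplicit false
set_option linter.unusedSectionVars false
set_option linter.unusedVariables false

namespace Cfsg.Agent.Lib.SzChar

theorem ar_four_z (s : ℝ) (hs : 2 ≤ s) :
    0 < 1 + (s ^ 2 - 1) * 1 / ((2 * s ^ 2) ^ 2 + 1) + ((s ^ 2 + s) / 2) * (2 * s - 1) / ((2 * s ^ 2 - 1) * (2 * s ^ 2 - 2 * s + 1)) + ((s ^ 2 - s) / 2) * (-2 * s - 1) / ((2 * s ^ 2 - 1) * (2 * s ^ 2 + 2 * s + 1)) - 2 * s ^ 2 * (-s) / ((2 * s ^ 2 - 1) * s) := by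
  have hs0 : 0 < s := by linarith
  have hA : 0 < 2 * s ^ 2 - 1 := by nlinarith
  have hB : 0 < 2 * s ^ 2 - 2 * s + 1 := by nlinarith
  have hC : 0 < 2 * s ^ 2 + 2 * s + 1 := by positivity
  have hQ : 0 < (2 * s ^ 2) ^ 2 + 1 := by positivity
  have hT : 0 < (2 * s ^ 2) ^ 2 := by positivity
  have hN : 0 < ((16) * s ^ 9 + (64) * s ^ 11 + (64) * s ^ 13 + (256) * s ^ 15) := by
    obtain ⟨w, hw, rfl⟩ : ∃ w : ℝ, 0 ≤ w ∧ s = w + 2 := ⟨s - 2, by linarith, by ring⟩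
    have e : ((16) * (w + 2) ^ 9 + (64) * (w + 2) ^ 11 + (64) * (w + 2) ^ 13 + (256) * (w + 2) ^ 15) = (9052160 + 67080192 * w + 232300544 * w ^ 2 + 498634752 * w ^ 3 + 741850112 * w ^ 4 + 810229248 * w ^ 5 + 671029760 * w ^ 6 + 429093120 * w ^ 7 + 213582624 * w ^ 8 + 82748176 * w ^ 9 + 24748416 * w ^ 10 + 5611072 * w ^ 11 + 933504 * w ^ 12 + 107584 * w ^ 13 + 7680 * w ^ 14 + 256 * w ^ 15) := by ring
    rw [e]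
    positivity
  have e : 1 + (s ^ 2 - 1) * 1 / ((2 * s ^ 2) ^ 2 + 1) + ((s ^ 2 + s) / 2) * (2 * s - 1) / ((2 * s ^ 2 - 1) * (2 * s ^ 2 - 2 * s + 1)) + ((s ^ 2 - s) / 2) * (-2 * s - 1) / ((2 * s ^ 2 - 1) * (2 * s ^ 2 + 2 * s + 1)) - 2 * s ^ 2 * (-s) / ((2 * s ^ 2 - 1) * s) = ((16) * s ^ 9 + (64) * s ^ 11 + (64) * s ^ 13 + (256) * s ^ 15) / (1 * (((2 * s ^ 2) ^ 2 + 1) * ((2 * s ^ 2) ^ 2) * (2 * s ^ 2 - 1) * (2 * s ^ 2 - 2 * s + 1) * (2 * s ^ 2 + 2 * s + 1) * s)) := by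
    generalize hQe : (2 * s ^ 2) ^ 2 + 1 = Q at hQ ⊢
    generalize hTe : (2 * s ^ 2) ^ 2 = T at hT hQe ⊢
    generalize hAe : 2 * s ^ 2 - 1 = A at hA ⊢
    generalize hBe : 2 * s ^ 2 - 2 * s + 1 = B at hB ⊢
    generalize hCe : 2 * s ^ 2 + 2 * s + 1 = C at hC ⊢
    have hs1 := hs0.ne'
    have hA1 := hA.ne'
    have hB1 := hB.ne'
    have hC1 := hC.ne'
    have hQ1 := hQ.ne'
    have hT1 := hT.ne'
    field_simp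
    subst hQe hAe hBe hCe hTe
    ring
  rw [e]
  exact div_pos hN (by positivity)

theorem ar_K_z (s : ℝ) (hs : 2 ≤ s) :
    0 < 1 + 0 / ((2 * s ^ 2) ^ 2) + 1 * (2 * s ^ 2 - 3) / ((2 * s ^ 2) ^ 2 + 1) := by
  have hs0 : 0 < s := by linarith
  have hA : 0 < 2 * s ^ 2 - 1 := by nlinarith
  have hB : 0 < 2 * s ^ 2 - 2 * s + 1 := by nlinarith
  have hC : 0 < 2 * s ^ 2 + 2 * s + 1 := by positivity
  have hQ : 0 < (2 * s ^ 2) ^ 2 + 1 := by positivity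
  have hT : 0 < (2 * s ^ 2) ^ 2 := by positivity
  have hN : 0 < ((8) * s ^ 5 + (-24) * s ^ 7 + (32) * s ^ 9 + (-64) * s ^ 11 + (128) * s ^ 15) := by
    obtain ⟨w, hw, rfl⟩ : ∃ w : ℝ, 0 ≤ w ∧ s = w + 2 := ⟨s - 2, by linarith, by ring⟩
    have e : ((8) * (w + 2) ^ 5 + (-24) * (w + 2) ^ 7 + (32) * (w + 2) ^ 9 + (-64) * (w + 2) ^ 11 + (128) * (w + 2) ^ 15) = (4076800 + 30800000 * w + 108430208 * w ^ 2 + 236006592 * w ^ 3 + 355245584 * w ^ 4 + 391779368 * w ^ 5 + 327082672 * w ^ 6 + 210528744 * w ^ 7 + 105347136 * w ^ 8 + 40986912 * w ^ 9 + 12298880 * w ^ 10 + 2795456 * w ^ 11 + 465920 * w ^ 12 + 53760 * w ^ 13 + 3840 * w ^ 14 + 128 * w ^ 15) := by ring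
    rw [e]
    positivity
  have e : 1 + 0 / ((2 * s ^ 2) ^ 2) + 1 * (2 * s ^ 2 - 3) / ((2 * s ^ 2) ^ 2 + 1) = ((8) * s ^ 5 + (-24) * s ^ 7 + (32) * s ^ 9 + (-64) * s ^ 11 + (128) * s ^ 15) / (1 * (((2 * s ^ 2) ^ 2 + 1) * ((2 * s ^ 2) ^ 2) * (2 * s ^ 2 - 1) * (2 * s ^ 2 - 2 * s + 1) * (2 * s ^ 2 + 2 * s + 1) * s)) := by
    generalize hQe : (2 * s ^ 2) ^ 2 + 1 = Q at hQ ⊢
    generalize hTe : (2 * s ^ 2) ^ 2 = T at hT hQe ⊢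
    generalize hAe : 2 * s ^ 2 - 1 = A at hA ⊢
    generalize hBe : 2 * s ^ 2 - 2 * s + 1 = B at hB ⊢
    generalize hCe : 2 * s ^ 2 + 2 * s + 1 = C at hC ⊢
    have hs1 := hs0.ne'
    have hA1 := hA.ne'
    have hB1 := hB.ne'
    have hC1 := hC.ne'
    have hQ1 := hQ.ne'
    have hT1 := hT.ne'
    field_simp
    subst hQe hAe hBe hCe hTe
    ring
  rw [e]
  exact div_pos hN (by positivity)

theorem ar_U_z (s : ℝ) (hs : 2 ≤ s) :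
    0 < 1 + 0 / ((2 * s ^ 2) ^ 2) + (2 * s - 1) * (2 * s ^ 2 + 2 * s + 1 - 4) / ((2 * s ^ 2 - 1) * (2 * s ^ 2 - 2 * s + 1)) + 2 * (-s) / ((2 * s ^ 2 - 1) * s) := by
  have hs0 : 0 < s := by linarith
  have hA : 0 < 2 * s ^ 2 - 1 := by nlinarith
  have hB : 0 < 2 * s ^ 2 - 2 * s + 1 := by nlinarith
  have hC : 0 < 2 * s ^ 2 + 2 * s + 1 := by positivity
  have hQ : 0 < (2 * s ^ 2) ^ 2 + 1 := by positivity
  have hT : 0 < (2 * s ^ 2) ^ 2 := by positivity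
  have hN : 0 < ((-8) * s ^ 6 + (-24) * s ^ 7 + (-32) * s ^ 8 + (-64) * s ^ 11 + (-128) * s ^ 12 + (128) * s ^ 14 + (128) * s ^ 15) := by
    obtain ⟨w, hw, rfl⟩ : ∃ w : ℝ, 0 ≤ w ∧ s = w + 2 := ⟨s - 2, by linarith, by ring⟩
    have e : ((-8) * (w + 2) ^ 6 + (-24) * (w + 2) ^ 7 + (-32) * (w + 2) ^ 8 + (-64) * (w + 2) ^ 11 + (-128) * (w + 2) ^ 12 + (128) * (w + 2) ^ 14 + (128) * (w + 2) ^ 15) = (5624320 + 42225664 * w + 147282304 * w ^ 2 + 316778112 * w ^ 3 + 470063072 * w ^ 4 + 509927360 * w ^ 5 + 417890472 * w ^ 6 + 263509480 * w ^ 7 + 128933344 * w ^ 8 + 48961792 * w ^ 9 + 14315136 * w ^ 10 + 3165120 * w ^ 11 + 512384 * w ^ 12 + 57344 * w ^ 13 + 3968 * w ^ 14 + 128 * w ^ 15) := by ring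
    rw [e]
    positivity
  have e : 1 + 0 / ((2 * s ^ 2) ^ 2) + (2 * s - 1) * (2 * s ^ 2 + 2 * s + 1 - 4) / ((2 * s ^ 2 - 1) * (2 * s ^ 2 - 2 * s + 1)) + 2 * (-s) / ((2 * s ^ 2 - 1) * s) = ((-8) * s ^ 6 + (-24) * s ^ 7 + (-32) * s ^ 8 + (-64) * s ^ 11 + (-128) * s ^ 12 + (128) * s ^ 14 + (128) * s ^ 15) / (1 * (((2 * s ^ 2) ^ 2 + 1) * ((2 * s ^ 2) ^ 2) * (2 * s ^ 2 - 1) * (2 * s ^ 2 - 2 * s + 1) * (2 * s ^ 2 + 2 * s + 1) * s)) := by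
    generalize hQe : (2 * s ^ 2) ^ 2 + 1 = Q at hQ ⊢
    generalize hTe : (2 * s ^ 2) ^ 2 = T at hT hQe ⊢
    generalize hAe : 2 * s ^ 2 - 1 = A at hA ⊢
    generalize hBe : 2 * s ^ 2 - 2 * s + 1 = B at hB ⊢
    generalize hCe : 2 * s ^ 2 + 2 * s + 1 = C at hC ⊢
    have hs1 := hs0.ne'
    have hA1 := hA.ne'
    have hB1 := hB.ne'
    have hC1 := hC.ne'
    have hQ1 := hQ.ne'
    have hT1 := hT.ne'
    field_simp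
    subst hQe hAe hBe hCe hTe
    ring
  rw [e]
  exact div_pos hN (by positivity)

theorem ar_V_z (s : ℝ) (hs : 2 ≤ s) :
    0 < 1 + 0 / ((2 * s ^ 2) ^ 2) + (-2 * s - 1) * (2 * s ^ 2 - 2 * s + 1 - 4) / ((2 * s ^ 2 - 1) * (2 * s ^ 2 + 2 * s + 1)) + 2 * (-s) / ((2 * s ^ 2 - 1) * s) := by
  have hs0 : 0 < s := by linarith
  have hA : 0 < 2 * s ^ 2 - 1 := by nlinarith
  have hB : 0 < 2 * s ^ 2 - 2 * s + 1 := by nlinarith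
  have hC : 0 < 2 * s ^ 2 + 2 * s + 1 := by positivity
  have hQ : 0 < (2 * s ^ 2) ^ 2 + 1 := by positivity
  have hT : 0 < (2 * s ^ 2) ^ 2 := by positivity
  have hN : 0 < ((8) * s ^ 6 + (-24) * s ^ 7 + (32) * s ^ 8 + (-64) * s ^ 11 + (128) * s ^ 12 + (-128) * s ^ 14 + (128) * s ^ 15) := by
    obtain ⟨w, hw, rfl⟩ : ∃ w : ℝ, 0 ≤ w ∧ s = w + 2 := ⟨s - 2, by linarith, by ring⟩
    have e : ((8) * (w + 2) ^ 6 + (-24) * (w + 2) ^ 7 + (32) * (w + 2) ^ 8 + (-64) * (w + 2) ^ 11 + (128) * (w + 2) ^ 12 + (-128) * (w + 2) ^ 14 + (128) * (w + 2) ^ 15) = (2496000 + 19225600 * w + 69281920 * w ^ 2 + 154890368 * w ^ 3 + 240169888 * w ^ 4 + 273502336 * w ^ 5 + 236231864 * w ^ 6 + 157538792 * w ^ 7 + 81759776 * w ^ 8 + 33011968 * w ^ 9 + 10282624 * w ^ 10 + 2425792 * w ^ 11 + 419456 * w ^ 12 + 50176 * w ^ 13 + 3712 * w ^ 14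 + 128 * w ^ 15) := by ring
    rw [e]
    positivity
  have e : 1 + 0 / ((2 * s ^ 2) ^ 2) + (-2 * s - 1) * (2 * s ^ 2 - 2 * s + 1 - 4) / ((2 * s ^ 2 - 1) * (2 * s ^ 2 + 2 * s + 1)) + 2 * (-s) / ((2 * s ^ 2 - 1) * s) = ((8) * s ^ 6 + (-24) * s ^ 7 + (32) * s ^ 8 + (-64) * s ^ 11 + (128) * s ^ 12 + (-128) * s ^ 14 + (128) * s ^ 15) / (1 * (((2 * s ^ 2) ^ 2 + 1) * ((2 * s ^ 2) ^ 2) * (2 * s ^ 2 - 1) * (2 * s ^ 2 - 2 * s + 1) * (2 * s ^ 2 + 2 * s + 1) * s)) := by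
    generalize hQe : (2 * s ^ 2) ^ 2 + 1 = Q at hQ ⊢
    generalize hTe : (2 * s ^ 2) ^ 2 = T at hT hQe ⊢
    generalize hAe : 2 * s ^ 2 - 1 = A at hA ⊢
    generalize hBe : 2 * s ^ 2 - 2 * s + 1 = B at hB ⊢
    generalize hCe : 2 * s ^ 2 + 2 * s + 1 = C at hC ⊢
    have hs1 := hs0.ne'
    have hA1 := hA.ne'
    have hB1 := hB.ne'
    have hC1 := hC.ne'
    have hQ1 := hQ.ne'
    have hT1 := hT.ne'
    field_simp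
    subst hQe hAe hBe hCe hTe
    ring
  rw [e]
  exact div_pos hN (by positivity)

theorem ar_four_u (s : ℝ) (hs : 2 ≤ s) :
    0 < 1 + (s ^ 2 - 1) * 1 / ((2 * s ^ 2) ^ 2 + 1) + ((s ^ 2 + s) / 2) * (-1) / ((2 * s ^ 2 - 1) * (2 * s ^ 2 - 2 * s + 1)) + ((s ^ 2 - s) / 2) * (-1) / ((2 * s ^ 2 - 1) * (2 * s ^ 2 + 2 * s + 1)) - 2 * s ^ 2 * 0 / ((2 * s ^ 2 - 1) * s) := by
  have hs0 : 0 < s := by linarith
  have hA : 0 < 2 * s ^ 2 - 1 := by nlinarith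
  have hB : 0 < 2 * s ^ 2 - 2 * s + 1 := by nlinarith
  have hC : 0 < 2 * s ^ 2 + 2 * s + 1 := by positivity
  have hQ : 0 < (2 * s ^ 2) ^ 2 + 1 := by positivity
  have hT : 0 < (2 * s ^ 2) ^ 2 := by positivity
  have hN : 0 < ((-16) * s ^ 7 + (-16) * s ^ 9 + (-32) * s ^ 11 + (-64) * s ^ 13 + (128) * s ^ 15) := by
    obtain ⟨w, hw, rfl⟩ : ∃ w : ℝ, 0 ≤ w ∧ s = w + 2 := ⟨s - 2, by linarith, by ring⟩
    have e : ((-16) * (w + 2) ^ 7 + (-16) * (w + 2) ^ 9 + (-32) * (w + 2) ^ 11 + (-64) * (w + 2) ^ 13 + (128) * (w + 2) ^ 15) = (3594240 + 27644928 * w + 98891264 * w ^ 2 + 218361088 * w ^ 3 + 332976768 * w ^ 4 + 371543232 * w ^ 5 + 313466144 * w ^ 6 + 203662064 * w ^ 7 + 102752736 * w ^ 8 + 40261744 * w ^ 9 + 12153152 * w ^ 10 + 2775520 * w ^ 11 + 464256 * w ^ 12 + 53696 * w ^ 13 + 3840 * w ^ 14 + 128 * w ^ 15) :=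 by ring
    rw [e]
    positivity
  have e : 1 + (s ^ 2 - 1) * 1 / ((2 * s ^ 2) ^ 2 + 1) + ((s ^ 2 + s) / 2) * (-1) / ((2 * s ^ 2 - 1) * (2 * s ^ 2 - 2 * s + 1)) + ((s ^ 2 - s) / 2) * (-1) / ((2 * s ^ 2 - 1) * (2 * s ^ 2 + 2 * s + 1)) - 2 * s ^ 2 * 0 / ((2 * s ^ 2 - 1) * s) = ((-16) * s ^ 7 + (-16) * s ^ 9 + (-32) * s ^ 11 + (-64) * s ^ 13 + (128) * s ^ 15) / (1 * (((2 * s ^ 2) ^ 2 + 1) * ((2 * s ^ 2) ^ 2) * (2 * s ^ 2 - 1) * (2 * s ^ 2 - 2 * s + 1) * (2 * s ^ 2 + 2 * s + 1) * s)) := by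
    generalize hQe : (2 * s ^ 2) ^ 2 + 1 = Q at hQ ⊢
    generalize hTe : (2 * s ^ 2) ^ 2 = T at hT hQe ⊢
    generalize hAe : 2 * s ^ 2 - 1 = A at hA ⊢
    generalize hBe : 2 * s ^ 2 - 2 * s + 1 = B at hB ⊢
    generalize hCe : 2 * s ^ 2 + 2 * s + 1 = C at hC ⊢
    have hs1 := hs0.ne'
    have hA1 := hA.ne'
    have hB1 := hB.ne'
    have hC1 := hC.ne'
    have hQ1 := hQ.ne'
    have hT1 := hT.ne'
    field_simp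
    subst hQe hAe hBe hCe hTe
    ring
  rw [e]
  exact div_pos hN (by positivity)

theorem ar_K_u (s : ℝ) (hs : 2 ≤ s) :
    0 < 1 + 0 / ((2 * s ^ 2) ^ 2) + 1 * (2 * s ^ 2 - 3) / ((2 * s ^ 2) ^ 2 + 1) := by
  have hs0 : 0 < s := by linarith
  have hA : 0 < 2 * s ^ 2 - 1 := by nlinarith
  have hB : 0 < 2 * s ^ 2 - 2 * s + 1 := by nlinarith
  have hC : 0 < 2 * s ^ 2 + 2 * s + 1 := by positivity
  have hQ : 0 < (2 * s ^ 2) ^ 2 + 1 := by positivity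
  have hT : 0 < (2 * s ^ 2) ^ 2 := by positivity
  have hN : 0 < ((8) * s ^ 5 + (-24) * s ^ 7 + (32) * s ^ 9 + (-64) * s ^ 11 + (128) * s ^ 15) := by
    obtain ⟨w, hw, rfl⟩ : ∃ w : ℝ, 0 ≤ w ∧ s = w + 2 := ⟨s - 2, by linarith, by ring⟩
    have e : ((8) * (w + 2) ^ 5 + (-24) * (w + 2) ^ 7 + (32) * (w + 2) ^ 9 + (-64) * (w + 2) ^ 11 + (128) * (w + 2) ^ 15) = (4076800 + 30800000 * w + 108430208 * w ^ 2 + 236006592 * w ^ 3 + 355245584 * w ^ 4 + 391779368 * w ^ 5 + 327082672 * w ^ 6 + 210528744 * w ^ 7 + 105347136 * w ^ 8 + 40986912 * w ^ 9 + 12298880 * w ^ 10 + 2795456 * w ^ 11 + 465920 * w ^ 12 + 53760 * w ^ 13 + 3840 * w ^ 14 + 128 * w ^ 15) := by ring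
    rw [e]
    positivity
  have e : 1 + 0 / ((2 * s ^ 2) ^ 2) + 1 * (2 * s ^ 2 - 3) / ((2 * s ^ 2) ^ 2 + 1) = ((8) * s ^ 5 + (-24) * s ^ 7 + (32) * s ^ 9 + (-64) * s ^ 11 + (128) * s ^ 15) / (1 * (((2 * s ^ 2) ^ 2 + 1) * ((2 * s ^ 2) ^ 2) * (2 * s ^ 2 - 1) * (2 * s ^ 2 - 2 * s + 1) * (2 * s ^ 2 + 2 * s + 1) * s)) := by
    generalize hQe : (2 * s ^ 2) ^ 2 + 1 = Q at hQ ⊢
    generalize hTe : (2 * s ^ 2) ^ 2 = T at hT hQe ⊢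
    generalize hAe : 2 * s ^ 2 - 1 = A at hA ⊢
    generalize hBe : 2 * s ^ 2 - 2 * s + 1 = B at hB ⊢
    generalize hCe : 2 * s ^ 2 + 2 * s + 1 = C at hC ⊢
    have hs1 := hs0.ne'
    have hA1 := hA.ne'
    have hB1 := hB.ne'
    have hC1 := hC.ne'
    have hQ1 := hQ.ne'
    have hT1 := hT.ne'
    field_simp
    subst hQe hAe hBe hCe hTe
    ring
  rw [e]
  exact div_pos hN (by positivity)

theorem ar_U_u (s : ℝ) (hs : 2 ≤ s) :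
    0 < 1 + 0 / ((2 * s ^ 2) ^ 2) + (-1) * (2 * s ^ 2 + 2 * s + 1 - 4) / ((2 * s ^ 2 - 1) * (2 * s ^ 2 - 2 * s + 1)) + 2 * 0 / ((2 * s ^ 2 - 1) * s) := by
  have hs0 : 0 < s := by linarith
  have hA : 0 < 2 * s ^ 2 - 1 := by nlinarith
  have hB : 0 < 2 * s ^ 2 - 2 * s + 1 := by nlinarith
  have hC : 0 < 2 * s ^ 2 + 2 * s + 1 := by positivity
  have hQ : 0 < (2 * s ^ 2) ^ 2 + 1 := by positivity
  have hT : 0 < (2 * s ^ 2) ^ 2 := by positivity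
  have hN : 0 < ((8) * s ^ 5 + (16) * s ^ 6 + (8) * s ^ 7 + (-32) * s ^ 8 + (64) * s ^ 10 + (64) * s ^ 11 + (-128) * s ^ 12 + (-128) * s ^ 13 + (128) * s ^ 15) := by
    obtain ⟨w, hw, rfl⟩ : ∃ w : ℝ, 0 ≤ w ∧ s = w + 2 := ⟨s - 2, by linarith, by ring⟩
    have e : ((8) * (w + 2) ^ 5 + (16) * (w + 2) ^ 6 + (8) * (w + 2) ^ 7 + (-32) * (w + 2) ^ 8 + (64) * (w + 2) ^ 10 + (64) * (w + 2) ^ 11 + (-128) * (w + 2) ^ 12 + (-128) * (w + 2) ^ 13 + (128) * (w + 2) ^ 15) = (2812160 + 22518912 * w + 83494528 * w ^ 2 + 190282944 * w ^ 3 + 298279120 * w ^ 4 + 340855656 * w ^ 5 + 293481088 * w ^ 6 + 193959432 * w ^ 7 + 99241696 * w ^ 8 + 39326720 * w ^ 9 + 11975104 * w ^ 10 + 2752576 * w ^ 11 + 462464 * w ^ 12 + 53632 * w ^ 13 + 3840 * w ^ 14 + 128 * w ^ 15) := by ring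
    rw [e]
    positivity
  have e : 1 + 0 / ((2 * s ^ 2) ^ 2) + (-1) * (2 * s ^ 2 + 2 * s + 1 - 4) / ((2 * s ^ 2 - 1) * (2 * s ^ 2 - 2 * s + 1)) + 2 * 0 / ((2 * s ^ 2 - 1) * s) = ((8) * s ^ 5 + (16) * s ^ 6 + (8) * s ^ 7 + (-32) * s ^ 8 + (64) * s ^ 10 + (64) * s ^ 11 + (-128) * s ^ 12 + (-128) * s ^ 13 + (128) * s ^ 15) / (1 * (((2 * s ^ 2) ^ 2 + 1) * ((2 * s ^ 2) ^ 2) * (2 * s ^ 2 - 1) * (2 * s ^ 2 - 2 * s + 1) * (2 * s ^ 2 + 2 * s + 1) * s)) := by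
    generalize hQe : (2 * s ^ 2) ^ 2 + 1 = Q at hQ ⊢
    generalize hTe : (2 * s ^ 2) ^ 2 = T at hT hQe ⊢
    generalize hAe : 2 * s ^ 2 - 1 = A at hA ⊢
    generalize hBe : 2 * s ^ 2 - 2 * s + 1 = B at hB ⊢
    generalize hCe : 2 * s ^ 2 + 2 * s + 1 = C at hC ⊢
    have hs1 := hs0.ne'
    have hA1 := hA.ne'
    have hB1 := hB.ne'
    have hC1 := hC.ne'
    have hQ1 := hQ.ne'
    have hT1 := hT.ne'
    field_simp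
    subst hQe hAe hBe hCe hTe
    ring
  rw [e]
  exact div_pos hN (by positivity)

theorem ar_V_u (s : ℝ) (hs : 2 ≤ s) :
    0 < 1 + 0 / ((2 * s ^ 2) ^ 2) + (-1) * (2 * s ^ 2 - 2 * s + 1 - 4) / ((2 * s ^ 2 - 1) * (2 * s ^ 2 + 2 * s + 1)) + 2 * 0 / ((2 * s ^ 2 - 1) * s) := by
  have hs0 : 0 < s := by linarith
  have hA : 0 < 2 * s ^ 2 - 1 := by nlinarith
  have hB : 0 < 2 * s ^ 2 - 2 * s + 1 := by nlinarith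
  have hC : 0 < 2 * s ^ 2 + 2 * s + 1 := by positivity
  have hQ : 0 < (2 * s ^ 2) ^ 2 + 1 := by positivity
  have hT : 0 < (2 * s ^ 2) ^ 2 := by positivity
  have hN : 0 < ((8) * s ^ 5 + (-16) * s ^ 6 + (8) * s ^ 7 + (32) * s ^ 8 + (-64) * s ^ 10 + (64) * s ^ 11 + (128) * s ^ 12 + (-128) * s ^ 13 + (128) * s ^ 15) := by
    obtain ⟨w, hw, rfl⟩ : ∃ w : ℝ, 0 ≤ w ∧ s = w + 2 := ⟨s - 2, by linarith, by ring⟩
    have e : ((8) * (w + 2) ^ 5 + (-16) * (w + 2) ^ 6 + (8) * (w + 2) ^ 7 + (32) * (w + 2) ^ 8 + (-64) * (w + 2) ^ 10 + (64) * (w + 2) ^ 11 + (128) * (w + 2) ^ 12 + (-128) * (w + 2) ^ 13 + (128) * (w + 2) ^ 15) = (3744000 + 28214400 * w + 99428480 * w ^ 2 + 217262272 * w ^ 3 + 329068880 * w ^ 4 + 365804008 * w ^ 5 + 308196960 * w ^ 6 + 200325640 * w ^ 7 + 101246240 * w ^ 8 + 39774720 * w ^ 9 + 12042560 * w ^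 10 + 2758720 * w ^ 11 + 462720 * w ^ 12 + 53632 * w ^ 13 + 3840 * w ^ 14 + 128 * w ^ 15) := by ring
    rw [e]
    positivity
  have e : 1 + 0 / ((2 * s ^ 2) ^ 2) + (-1) * (2 * s ^ 2 - 2 * s + 1 - 4) / ((2 * s ^ 2 - 1) * (2 * s ^ 2 + 2 * s + 1)) + 2 * 0 / ((2 * s ^ 2 - 1) * s) = ((8) * s ^ 5 + (-16) * s ^ 6 + (8) * s ^ 7 + (32) * s ^ 8 + (-64) * s ^ 10 + (64) * s ^ 11 + (128) * s ^ 12 + (-128) * s ^ 13 + (128) * s ^ 15) / (1 * (((2 * s ^ 2) ^ 2 + 1) * ((2 * s ^ 2) ^ 2) * (2 * s ^ 2 - 1) * (2 * s ^ 2 - 2 * s + 1) * (2 * s ^ 2 + 2 * s + 1) * s)) := by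
    generalize hQe : (2 * s ^ 2) ^ 2 + 1 = Q at hQ ⊢
    generalize hTe : (2 * s ^ 2) ^ 2 = T at hT hQe ⊢
    generalize hAe : 2 * s ^ 2 - 1 = A at hA ⊢
    generalize hBe : 2 * s ^ 2 - 2 * s + 1 = B at hB ⊢
    generalize hCe : 2 * s ^ 2 + 2 * s + 1 = C at hC ⊢
    have hs1 := hs0.ne'
    have hA1 := hA.ne'
    have hB1 := hB.ne'
    have hC1 := hC.ne'
    have hQ1 := hQ.ne'
    have hT1 := hT.ne'
    field_simp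
    subst hQe hAe hBe hCe hTe
    ring
  rw [e]
  exact div_pos hN (by positivity)

theorem ar_four_K (s : ℝ) (hs : 2 ≤ s) :
    0 < 1 + (s ^ 2 - 1) * (-2) / ((2 * s ^ 2) ^ 2 + 1) + ((s ^ 2 + s) / 2) * 0 / ((2 * s ^ 2 - 1) * (2 * s ^ 2 - 2 * s + 1)) + ((s ^ 2 - s) / 2) * 0 / ((2 * s ^ 2 - 1) * (2 * s ^ 2 + 2 * s + 1)) - 2 * s ^ 2 * 0 / ((2 * s ^ 2 - 1) * s) := by
  have hs0 : 0 < s := by linarith
  have hA : 0 < 2 * s ^ 2 - 1 := by nlinarith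
  have hB : 0 < 2 * s ^ 2 - 2 * s + 1 := by nlinarith
  have hC : 0 < 2 * s ^ 2 + 2 * s + 1 := by positivity
  have hQ : 0 < (2 * s ^ 2) ^ 2 + 1 := by positivity
  have hT : 0 < (2 * s ^ 2) ^ 2 := by positivity
  have hN : 0 < ((-12) * s ^ 5 + (32) * s ^ 7 + (-80) * s ^ 9 + (160) * s ^ 11 + (-128) * s ^ 13 + (128) * s ^ 15) := by
    obtain ⟨w, hw, rfl⟩ : ∃ w : ℝ, 0 ≤ w ∧ s = w + 2 := ⟨s - 2, by linarith, by ring⟩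
    have e : ((-12) * (w + 2) ^ 5 + (32) * (w + 2) ^ 7 + (-80) * (w + 2) ^ 9 + (160) * (w + 2) ^ 11 + (-128) * (w + 2) ^ 13 + (128) * (w + 2) ^ 15) = (3436160 + 26272832 * w + 93810752 * w ^ 2 + 207410208 * w ^ 3 + 317413000 * w ^ 4 + 356009076 * w ^ 5 + 302204864 * w ^ 6 + 197637920 * w ^ 7 + 100369248 * w ^ 8 + 39571760 * w ^ 9 + 12010944 * w ^ 10 + 2755744 * w ^ 11 + 462592 * w ^ 12 + 53632 * w ^ 13 + 3840 * w ^ 14 + 128 * w ^ 15) := by ring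
    rw [e]
    positivity
  have e : 1 + (s ^ 2 - 1) * (-2) / ((2 * s ^ 2) ^ 2 + 1) + ((s ^ 2 + s) / 2) * 0 / ((2 * s ^ 2 - 1) * (2 * s ^ 2 - 2 * s + 1)) + ((s ^ 2 - s) / 2) * 0 / ((2 * s ^ 2 - 1) * (2 * s ^ 2 + 2 * s + 1)) - 2 * s ^ 2 * 0 / ((2 * s ^ 2 - 1) * s) = ((-12) * s ^ 5 + (32) * s ^ 7 + (-80) * s ^ 9 + (160) * s ^ 11 + (-128) * s ^ 13 + (128) * s ^ 15) / (1 * (((2 * s ^ 2) ^ 2 + 1) * ((2 * s ^ 2) ^ 2) * (2 * s ^ 2 - 1) * (2 * s ^ 2 - 2 * s + 1) * (2 * s ^ 2 + 2 * s + 1) * s)) := by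
    generalize hQe : (2 * s ^ 2) ^ 2 + 1 = Q at hQ ⊢
    generalize hTe : (2 * s ^ 2) ^ 2 = T at hT hQe ⊢
    generalize hAe : 2 * s ^ 2 - 1 = A at hA ⊢
    generalize hBe : 2 * s ^ 2 - 2 * s + 1 = B at hB ⊢
    generalize hCe : 2 * s ^ 2 + 2 * s + 1 = C at hC ⊢
    have hs1 := hs0.ne'
    have hA1 := hA.ne'
    have hB1 := hB.ne'
    have hC1 := hC.ne'
    have hQ1 := hQ.ne'
    have hT1 := hT.ne'
    field_simp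
    subst hQe hAe hBe hCe hTe
    ring
  rw [e]
  exact div_pos hN (by positivity)

theorem ar_K_K (s : ℝ) (hs : 2 ≤ s) :
    0 < 1 + 1 / ((2 * s ^ 2) ^ 2) + (-2) * (2 * s ^ 2 - 3) / ((2 * s ^ 2) ^ 2 + 1) := by
  have hs0 : 0 < s := by linarith
  have hA : 0 < 2 * s ^ 2 - 1 := by nlinarith
  have hB : 0 < 2 * s ^ 2 - 2 * s + 1 := by nlinarith
  have hC : 0 < 2 * s ^ 2 + 2 * s + 1 := by positivity
  have hQ : 0 < (2 * s ^ 2) ^ 2 + 1 := by positivity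
  have hT : 0 < (2 * s ^ 2) ^ 2 := by positivity
  have hN : 0 < ((-1) * s ^ 1 + (2) * s ^ 3 + (-36) * s ^ 5 + (88) * s ^ 7 + (-176) * s ^ 9 + (352) * s ^ 11 + (-192) * s ^ 13 + (128) * s ^ 15) := by
    obtain ⟨w, hw, rfl⟩ : ∃ w : ℝ, 0 ≤ w ∧ s = w + 2 := ⟨s - 2, by linarith, by ring⟩
    have e : ((-1) * (w + 2) ^ 1 + (2) * (w + 2) ^ 3 + (-36) * (w + 2) ^ 5 + (88) * (w + 2) ^ 7 + (-176) * (w + 2) ^ 9 + (352) * (w + 2) ^ 11 + (-192) * (w + 2) ^ 13 + (128) * (w + 2) ^ 15) = (3262350 + 24829655 * w + 88587212 * w ^ 2 + 196291298 * w ^ 3 + 301722328 * w ^ 4 + 340411068 * w ^ 5 + 290922192 * w ^ 6 + 191609176 * w ^ 7 + 97985184 * w ^ 8 + 38881744 * w ^ 9 + 11868736 * w ^ 10 + 2735968 * w ^ 11 + 460928 * w ^ 12 + 53568 * w ^ 13 + 3840 * w ^ 14 + 128 * w ^ 15) := by ring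
    rw [e]
    positivity
  have e : 1 + 1 / ((2 * s ^ 2) ^ 2) + (-2) * (2 * s ^ 2 - 3) / ((2 * s ^ 2) ^ 2 + 1) = ((-1) * s ^ 1 + (2) * s ^ 3 + (-36) * s ^ 5 + (88) * s ^ 7 + (-176) * s ^ 9 + (352) * s ^ 11 + (-192) * s ^ 13 + (128) * s ^ 15) / (1 * (((2 * s ^ 2) ^ 2 + 1) * ((2 * s ^ 2) ^ 2) * (2 * s ^ 2 - 1) * (2 * s ^ 2 - 2 * s + 1) * (2 * s ^ 2 + 2 * s + 1) * s)) := by
    generalize hQe : (2 * s ^ 2) ^ 2 + 1 = Q at hQ ⊢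
    generalize hTe : (2 * s ^ 2) ^ 2 = T at hT hQe ⊢
    generalize hAe : 2 * s ^ 2 - 1 = A at hA ⊢
    generalize hBe : 2 * s ^ 2 - 2 * s + 1 = B at hB ⊢
    generalize hCe : 2 * s ^ 2 + 2 * s + 1 = C at hC ⊢
    have hs1 := hs0.ne'
    have hA1 := hA.ne'
    have hB1 := hB.ne'
    have hC1 := hC.ne'
    have hQ1 := hQ.ne'
    have hT1 := hT.ne'
    field_simp
    subst hQe hAe hBe hCe hTe
    ring
  rw [e]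
  exact div_pos hN (by positivity)

theorem ar_U_K (s : ℝ) (hs : 2 ≤ s) :
    0 < 1 + 1 / ((2 * s ^ 2) ^ 2) + 0 * (2 * s ^ 2 + 2 * s + 1 - 4) / ((2 * s ^ 2 - 1) * (2 * s ^ 2 - 2 * s + 1)) + 2 * 0 / ((2 * s ^ 2 - 1) * s) := by
  have hs0 : 0 < s := by linarith
  have hA : 0 < 2 * s ^ 2 - 1 := by nlinarith
  have hB : 0 < 2 * s ^ 2 - 2 * s + 1 := by nlinarith
  have hC : 0 < 2 * s ^ 2 + 2 * s + 1 := by positivity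
  have hQ : 0 < (2 * s ^ 2) ^ 2 + 1 := by positivity
  have hT : 0 < (2 * s ^ 2) ^ 2 := by positivity
  have hN : 0 < ((-1) * s ^ 1 + (2) * s ^ 3 + (-12) * s ^ 5 + (24) * s ^ 7 + (-48) * s ^ 9 + (96) * s ^ 11 + (-64) * s ^ 13 + (128) * s ^ 15) := by
    obtain ⟨w, hw, rfl⟩ : ∃ w : ℝ, 0 ≤ w ∧ s = w + 2 := ⟨s - 2, by linarith, by ring⟩
    have e : ((-1) * (w + 2) ^ 1 + (2) * (w + 2) ^ 3 + (-12) * (w + 2) ^ 5 + (24) * (w + 2) ^ 7 + (-48) * (w + 2) ^ 9 + (96) * (w + 2) ^ 11 + (-64) * (w + 2) ^ 13 + (128) * (w + 2) ^ 15) = (3844750 + 29029975 * w + 102374220 * w ^ 2 + 223617698 * w ^ 3 + 338265544 * w ^ 4 + 375266772 * w ^ 5 + 315337552 * w ^ 6 + 204333336 * w ^ 7 + 102921120 * w ^ 8 + 40289872 * w ^ 9 + 12155968 * w ^ 10 + 2775648 * w ^ 11 + 464256 * w ^ 12 + 53696 * w ^ 13 + 3840 * w ^ 14 + 128 * w ^ 15) := by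 ring
    rw [e]
    positivity
  have e : 1 + 1 / ((2 * s ^ 2) ^ 2) + 0 * (2 * s ^ 2 + 2 * s + 1 - 4) / ((2 * s ^ 2 - 1) * (2 * s ^ 2 - 2 * s + 1)) + 2 * 0 / ((2 * s ^ 2 - 1) * s) = ((-1) * s ^ 1 + (2) * s ^ 3 + (-12) * s ^ 5 + (24) * s ^ 7 + (-48) * s ^ 9 + (96) * s ^ 11 + (-64) * s ^ 13 + (128) * s ^ 15) / (1 * (((2 * s ^ 2) ^ 2 + 1) * ((2 * s ^ 2) ^ 2) * (2 * s ^ 2 - 1) * (2 * s ^ 2 - 2 * s + 1) * (2 * s ^ 2 + 2 * s + 1) * s)) := by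
    generalize hQe : (2 * s ^ 2) ^ 2 + 1 = Q at hQ ⊢
    generalize hTe : (2 * s ^ 2) ^ 2 = T at hT hQe ⊢
    generalize hAe : 2 * s ^ 2 - 1 = A at hA ⊢
    generalize hBe : 2 * s ^ 2 - 2 * s + 1 = B at hB ⊢
    generalize hCe : 2 * s ^ 2 + 2 * s + 1 = C at hC ⊢
    have hs1 := hs0.ne'
    have hA1 := hA.ne'
    have hB1 := hB.ne'
    have hC1 := hC.ne'
    have hQ1 := hQ.ne'
    have hT1 := hT.ne'
    field_simp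
    subst hQe hAe hBe hCe hTe
    ring
  rw [e]
  exact div_pos hN (by positivity)

theorem ar_V_K (s : ℝ) (hs : 2 ≤ s) :
    0 < 1 + 1 / ((2 * s ^ 2) ^ 2) + 0 * (2 * s ^ 2 - 2 * s + 1 - 4) / ((2 * s ^ 2 - 1) * (2 * s ^ 2 + 2 * s + 1)) + 2 * 0 / ((2 * s ^ 2 - 1) * s) := by
  have hs0 : 0 < s := by linarith
  have hA : 0 < 2 * s ^ 2 - 1 := by nlinarith
  have hB : 0 < 2 * s ^ 2 - 2 * s + 1 := by nlinarith
  have hC : 0 < 2 * s ^ 2 + 2 * s + 1 := by positivity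
  have hQ : 0 < (2 * s ^ 2) ^ 2 + 1 := by positivity
  have hT : 0 < (2 * s ^ 2) ^ 2 := by positivity
  have hN : 0 < ((-1) * s ^ 1 + (2) * s ^ 3 + (-12) * s ^ 5 + (24) * s ^ 7 + (-48) * s ^ 9 + (96) * s ^ 11 + (-64) * s ^ 13 + (128) * s ^ 15) := by
    obtain ⟨w, hw, rfl⟩ : ∃ w : ℝ, 0 ≤ w ∧ s = w + 2 := ⟨s - 2, by linarith, by ring⟩
    have e : ((-1) * (w + 2) ^ 1 + (2) * (w + 2) ^ 3 + (-12) * (w + 2) ^ 5 + (24) * (w + 2) ^ 7 + (-48) * (w + 2) ^ 9 + (96) * (w + 2) ^ 11 + (-64) * (w + 2) ^ 13 + (128) * (w + 2) ^ 15) = (3844750 + 29029975 * w + 102374220 * w ^ 2 + 223617698 * w ^ 3 + 338265544 * w ^ 4 + 375266772 * w ^ 5 + 315337552 * w ^ 6 + 204333336 * w ^ 7 + 102921120 * w ^ 8 + 40289872 * w ^ 9 + 12155968 * w ^ 10 + 2775648 * w ^ 11 + 464256 * w ^ 12 + 53696 * w ^ 13 + 3840 * w ^ 14 + 128 * w ^ 15) := by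 ring
    rw [e]
    positivity
  have e : 1 + 1 / ((2 * s ^ 2) ^ 2) + 0 * (2 * s ^ 2 - 2 * s + 1 - 4) / ((2 * s ^ 2 - 1) * (2 * s ^ 2 + 2 * s + 1)) + 2 * 0 / ((2 * s ^ 2 - 1) * s) = ((-1) * s ^ 1 + (2) * s ^ 3 + (-12) * s ^ 5 + (24) * s ^ 7 + (-48) * s ^ 9 + (96) * s ^ 11 + (-64) * s ^ 13 + (128) * s ^ 15) / (1 * (((2 * s ^ 2) ^ 2 + 1) * ((2 * s ^ 2) ^ 2) * (2 * s ^ 2 - 1) * (2 * s ^ 2 - 2 * s + 1) * (2 * s ^ 2 + 2 * s + 1) * s)) := by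
    generalize hQe : (2 * s ^ 2) ^ 2 + 1 = Q at hQ ⊢
    generalize hTe : (2 * s ^ 2) ^ 2 = T at hT hQe ⊢
    generalize hAe : 2 * s ^ 2 - 1 = A at hA ⊢
    generalize hBe : 2 * s ^ 2 - 2 * s + 1 = B at hB ⊢
    generalize hCe : 2 * s ^ 2 + 2 * s + 1 = C at hC ⊢
    have hs1 := hs0.ne'
    have hA1 := hA.ne'
    have hB1 := hB.ne'
    have hC1 := hC.ne'
    have hQ1 := hQ.ne'
    have hT1 := hT.ne'
    field_simp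
    subst hQe hAe hBe hCe hTe
    ring
  rw [e]
  exact div_pos hN (by positivity)

theorem ar_four_U (s : ℝ) (hs : 2 ≤ s) :
    0 < 1 + (s ^ 2 - 1) * 0 / ((2 * s ^ 2) ^ 2 + 1) + ((s ^ 2 + s) / 2) * (-4) / ((2 * s ^ 2 - 1) * (2 * s ^ 2 - 2 * s + 1)) + ((s ^ 2 - s) / 2) * 0 / ((2 * s ^ 2 - 1) * (2 * s ^ 2 + 2 * s + 1)) - 2 * s ^ 2 * 1 / ((2 * s ^ 2 - 1) * s) := by
  have hs0 : 0 < s := by linarith
  have hA : 0 < 2 * s ^ 2 - 1 := by nlinarith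
  have hB : 0 < 2 * s ^ 2 - 2 * s + 1 := by nlinarith
  have hC : 0 < 2 * s ^ 2 + 2 * s + 1 := by positivity
  have hQ : 0 < (2 * s ^ 2) ^ 2 + 1 := by positivity
  have hT : 0 < (2 * s ^ 2) ^ 2 := by positivity
  have hN : 0 < ((-4) * s ^ 5 + (-16) * s ^ 6 + (-16) * s ^ 7 + (-32) * s ^ 8 + (-48) * s ^ 9 + (-96) * s ^ 10 + (-32) * s ^ 11 + (-128) * s ^ 12 + (-128) * s ^ 13 + (-128) * s ^ 14 + (128) * s ^ 15) := by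
    obtain ⟨w, hw, rfl⟩ : ∃ w : ℝ, 0 ≤ w ∧ s = w + 2 := ⟨s - 2, by linarith, by ring⟩
    have e : ((-4) * (w + 2) ^ 5 + (-16) * (w + 2) ^ 6 + (-16) * (w + 2) ^ 7 + (-32) * (w + 2) ^ 8 + (-48) * (w + 2) ^ 9 + (-96) * (w + 2) ^ 10 + (-32) * (w + 2) ^ 11 + (-128) * (w + 2) ^ 12 + (-128) * (w + 2) ^ 13 + (-128) * (w + 2) ^ 14 + (128) * (w + 2) ^ 15) = (324480 + 5809856 * w + 30991808 * w ^ 2 + 88072800 * w ^ 3 + 160668312 * w ^ 4 + 205424636 * w ^ 5 + 193089296 * w ^ 6 + 137062128 * w ^ 7 + 74484736 * w ^ 8 + 31102160 * w ^ 9 + 9922784 * w ^ 10 + 2379744 * w ^ 11 + 415872 * w ^ 12 + 50048 * w ^ 13 + 3712 * w ^ 14 + 128 * w ^ 15) := by ring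
    rw [e]
    positivity
  have e : 1 + (s ^ 2 - 1) * 0 / ((2 * s ^ 2) ^ 2 + 1) + ((s ^ 2 + s) / 2) * (-4) / ((2 * s ^ 2 - 1) * (2 * s ^ 2 - 2 * s + 1)) + ((s ^ 2 - s) / 2) * 0 / ((2 * s ^ 2 - 1) * (2 * s ^ 2 + 2 * s + 1)) - 2 * s ^ 2 * 1 / ((2 * s ^ 2 - 1) * s) = ((-4) * s ^ 5 + (-16) * s ^ 6 + (-16) * s ^ 7 + (-32) * s ^ 8 + (-48) * s ^ 9 + (-96) * s ^ 10 + (-32) * s ^ 11 + (-128) * s ^ 12 + (-128) * s ^ 13 + (-128) * s ^ 14 + (128) * s ^ 15) / (1 * (((2 * s ^ 2) ^ 2 + 1) * ((2 * s ^ 2) ^ 2) * (2 * s ^ 2 - 1) * (2 * s ^ 2 - 2 * s + 1) * (2 * s ^ 2 + 2 * s + 1) * s)) := by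
    generalize hQe : (2 * s ^ 2) ^ 2 + 1 = Q at hQ ⊢
    generalize hTe : (2 * s ^ 2) ^ 2 = T at hT hQe ⊢
    generalize hAe : 2 * s ^ 2 - 1 = A at hA ⊢
    generalize hBe : 2 * s ^ 2 - 2 * s + 1 = B at hB ⊢
    generalize hCe : 2 * s ^ 2 + 2 * s + 1 = C at hC ⊢
    have hs1 := hs0.ne'
    have hA1 := hA.ne'
    have hB1 := hB.ne'
    have hC1 := hC.ne'
    have hQ1 := hQ.ne'
    have hT1 := hT.ne'
    field_simp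
    subst hQe hAe hBe hCe hTe
    ring
  rw [e]
  exact div_pos hN (by positivity)

theorem ar_K_U (s : ℝ) (hs : 2 ≤ s) :
    0 < 1 + (-1) / ((2 * s ^ 2) ^ 2) + 0 * (2 * s ^ 2 - 3) / ((2 * s ^ 2) ^ 2 + 1) := by
  have hs0 : 0 < s := by linarith
  have hA : 0 < 2 * s ^ 2 - 1 := by nlinarith
  have hB : 0 < 2 * s ^ 2 - 2 * s + 1 := by nlinarith
  have hC : 0 < 2 * s ^ 2 + 2 * s + 1 := by positivity
  have hQ : 0 < (2 * s ^ 2) ^ 2 + 1 := by positivity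
  have hT : 0 < (2 * s ^ 2) ^ 2 := by positivity
  have hN : 0 < ((1) * s ^ 1 + (-2) * s ^ 3 + (4) * s ^ 5 + (-8) * s ^ 7 + (-16) * s ^ 9 + (32) * s ^ 11 + (-64) * s ^ 13 + (128) * s ^ 15) := by
    obtain ⟨w, hw, rfl⟩ : ∃ w : ℝ, 0 ≤ w ∧ s = w + 2 := ⟨s - 2, by linarith, by ring⟩
    have e : ((1) * (w + 2) ^ 1 + (-2) * (w + 2) ^ 3 + (4) * (w + 2) ^ 5 + (-8) * (w + 2) ^ 7 + (-16) * (w + 2) ^ 9 + (32) * (w + 2) ^ 11 + (-64) * (w + 2) ^ 13 + (128) * (w + 2) ^ 15) = (3726450 + 28369705 * w + 100699188 * w ^ 2 + 221069086 * w ^ 3 + 335682408 * w ^ 4 + 373436260 * w ^ 5 + 314412432 * w ^ 6 + 203999992 * w ^ 7 + 102837216 * w ^ 8 + 40275824 * w ^ 9 + 12154560 * w ^ 10 + 2775584 * w ^ 11 + 464256 * w ^ 12 + 53696 * w ^ 13 + 3840 * w ^ 14 + 128 * w ^ 15) := by ring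
    rw [e]
    positivity
  have e : 1 + (-1) / ((2 * s ^ 2) ^ 2) + 0 * (2 * s ^ 2 - 3) / ((2 * s ^ 2) ^ 2 + 1) = ((1) * s ^ 1 + (-2) * s ^ 3 + (4) * s ^ 5 + (-8) * s ^ 7 + (-16) * s ^ 9 + (32) * s ^ 11 + (-64) * s ^ 13 + (128) * s ^ 15) / (1 * (((2 * s ^ 2) ^ 2 + 1) * ((2 * s ^ 2) ^ 2) * (2 * s ^ 2 - 1) * (2 * s ^ 2 - 2 * s + 1) * (2 * s ^ 2 + 2 * s + 1) * s)) := by
    generalize hQe : (2 * s ^ 2) ^ 2 + 1 = Q at hQ ⊢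
    generalize hTe : (2 * s ^ 2) ^ 2 = T at hT hQe ⊢
    generalize hAe : 2 * s ^ 2 - 1 = A at hA ⊢
    generalize hBe : 2 * s ^ 2 - 2 * s + 1 = B at hB ⊢
    generalize hCe : 2 * s ^ 2 + 2 * s + 1 = C at hC ⊢
    have hs1 := hs0.ne'
    have hA1 := hA.ne'
    have hB1 := hB.ne'
    have hC1 := hC.ne'
    have hQ1 := hQ.ne'
    have hT1 := hT.ne'
    field_simp
    subst hQe hAe hBe hCe hTe
    ring
  rw [e]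
  exact div_pos hN (by positivity)

theorem ar_U_U (s : ℝ) (hs : 2 ≤ s) :
    0 < 1 + (-1) / ((2 * s ^ 2) ^ 2) + (-4) * (2 * s ^ 2 + 2 * s + 1 - 4) / ((2 * s ^ 2 - 1) * (2 * s ^ 2 - 2 * s + 1)) + 2 * 1 / ((2 * s ^ 2 - 1) * s) := by
  have hs0 : 0 < s := by linarith
  have hA : 0 < 2 * s ^ 2 - 1 := by nlinarith
  have hB : 0 < 2 * s ^ 2 - 2 * s + 1 := by nlinarith
  have hC : 0 < 2 * s ^ 2 + 2 * s + 1 := by positivity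
  have hQ : 0 < (2 * s ^ 2) ^ 2 + 1 := by positivity
  have hT : 0 < (2 * s ^ 2) ^ 2 := by positivity
  have hN : 0 < ((1) * s ^ 1 + (-2) * s ^ 3 + (8) * s ^ 4 + (52) * s ^ 5 + (64) * s ^ 6 + (-8) * s ^ 7 + (-64) * s ^ 8 + (112) * s ^ 9 + (256) * s ^ 10 + (32) * s ^ 11 + (-384) * s ^ 12 + (-320) * s ^ 13 + (128) * s ^ 15) := by
    obtain ⟨w, hw, rfl⟩ : ∃ w : ℝ, 0 ≤ w ∧ s = w + 2 := ⟨s - 2, by linarith, by ring⟩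
    have e : ((1) * (w + 2) ^ 1 + (-2) * (w + 2) ^ 3 + (8) * (w + 2) ^ 4 + (52) * (w + 2) ^ 5 + (64) * (w + 2) ^ 6 + (-8) * (w + 2) ^ 7 + (-64) * (w + 2) ^ 8 + (112) * (w + 2) ^ 9 + (256) * (w + 2) ^ 10 + (32) * (w + 2) ^ 11 + (-384) * (w + 2) ^ 12 + (-320) * (w + 2) ^ 13 + (128) * (w + 2) ^ 15) = (373490 + 6857513 * w + 37296116 * w ^ 2 + 107359966 * w ^ 3 + 197194832 * w ^ 4 + 252457620 * w ^ 5 + 236413392 * w ^ 6 + 166416120 * w ^ 7 + 89301152 * w ^ 8 + 36676592 * w ^ 9 + 11467712 * w ^ 10 + 2686496 * w ^ 11 + 457216 * w ^ 12 + 53440 * w ^ 13 + 3840 * w ^ 14 + 128 * w ^ 15) := by ring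
    rw [e]
    positivity
  have e : 1 + (-1) / ((2 * s ^ 2) ^ 2) + (-4) * (2 * s ^ 2 + 2 * s + 1 - 4) / ((2 * s ^ 2 - 1) * (2 * s ^ 2 - 2 * s + 1)) + 2 * 1 / ((2 * s ^ 2 - 1) * s) = ((1) * s ^ 1 + (-2) * s ^ 3 + (8) * s ^ 4 + (52) * s ^ 5 + (64) * s ^ 6 + (-8) * s ^ 7 + (-64) * s ^ 8 + (112) * s ^ 9 + (256) * s ^ 10 + (32) * s ^ 11 + (-384) * s ^ 12 + (-320) * s ^ 13 + (128) * s ^ 15) / (1 * (((2 * s ^ 2) ^ 2 + 1) * ((2 * s ^ 2) ^ 2) * (2 * s ^ 2 - 1) * (2 * s ^ 2 - 2 * s + 1) * (2 * s ^ 2 + 2 * s + 1) * s)) := by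
    generalize hQe : (2 * s ^ 2) ^ 2 + 1 = Q at hQ ⊢
    generalize hTe : (2 * s ^ 2) ^ 2 = T at hT hQe ⊢
    generalize hAe : 2 * s ^ 2 - 1 = A at hA ⊢
    generalize hBe : 2 * s ^ 2 - 2 * s + 1 = B at hB ⊢
    generalize hCe : 2 * s ^ 2 + 2 * s + 1 = C at hC ⊢
    have hs1 := hs0.ne'
    have hA1 := hA.ne'
    have hB1 := hB.ne'
    have hC1 := hC.ne'
    have hQ1 := hQ.ne'
    have hT1 := hT.ne'
    field_simp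
    subst hQe hAe hBe hCe hTe
    ring
  rw [e]
  exact div_pos hN (by positivity)

theorem ar_V_U (s : ℝ) (hs : 2 ≤ s) :
    0 < 1 + (-1) / ((2 * s ^ 2) ^ 2) + 0 * (2 * s ^ 2 - 2 * s + 1 - 4) / ((2 * s ^ 2 - 1) * (2 * s ^ 2 + 2 * s + 1)) + 2 * 1 / ((2 * s ^ 2 - 1) * s) := by
  have hs0 : 0 < s := by linarith
  have hA : 0 < 2 * s ^ 2 - 1 := by nlinarith
  have hB : 0 < 2 * s ^ 2 - 2 * s + 1 := by nlinarith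
  have hC : 0 < 2 * s ^ 2 + 2 * s + 1 := by positivity
  have hQ : 0 < (2 * s ^ 2) ^ 2 + 1 := by positivity
  have hT : 0 < (2 * s ^ 2) ^ 2 := by positivity
  have hN : 0 < ((1) * s ^ 1 + (-2) * s ^ 3 + (8) * s ^ 4 + (4) * s ^ 5 + (-8) * s ^ 7 + (64) * s ^ 8 + (-16) * s ^ 9 + (32) * s ^ 11 + (128) * s ^ 12 + (-64) * s ^ 13 + (128) * s ^ 15) := by
    obtain ⟨w, hw, rfl⟩ : ∃ w : ℝ, 0 ≤ w ∧ s = w + 2 := ⟨s - 2, by linarith, by ring⟩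
    have e : ((1) * (w + 2) ^ 1 + (-2) * (w + 2) ^ 3 + (8) * (w + 2) ^ 4 + (4) * (w + 2) ^ 5 + (-8) * (w + 2) ^ 7 + (64) * (w + 2) ^ 8 + (-16) * (w + 2) ^ 9 + (32) * (w + 2) ^ 11 + (128) * (w + 2) ^ 12 + (-64) * (w + 2) ^ 13 + (128) * (w + 2) ^ 15) = (4267250 + 31581225 * w + 109464820 * w ^ 2 + 235601758 * w ^ 3 + 351974256 * w ^ 4 + 386441060 * w ^ 5 + 321989008 * w ^ 6 + 207245048 * w ^ 7 + 103851040 * w ^ 8 + 40501104 * w ^ 9 + 12188352 * w ^ 10 + 2778656 * w ^ 11 + 464384 * w ^ 12 + 53696 * w ^ 13 + 3840 * w ^ 14 + 128 * w ^ 15) := by ring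
    rw [e]
    positivity
  have e : 1 + (-1) / ((2 * s ^ 2) ^ 2) + 0 * (2 * s ^ 2 - 2 * s + 1 - 4) / ((2 * s ^ 2 - 1) * (2 * s ^ 2 + 2 * s + 1)) + 2 * 1 / ((2 * s ^ 2 - 1) * s) = ((1) * s ^ 1 + (-2) * s ^ 3 + (8) * s ^ 4 + (4) * s ^ 5 + (-8) * s ^ 7 + (64) * s ^ 8 + (-16) * s ^ 9 + (32) * s ^ 11 + (128) * s ^ 12 + (-64) * s ^ 13 + (128) * s ^ 15) / (1 * (((2 * s ^ 2) ^ 2 + 1) * ((2 * s ^ 2) ^ 2) * (2 * s ^ 2 - 1) * (2 * s ^ 2 - 2 * s + 1) * (2 * s ^ 2 + 2 * s + 1) * s)) := by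
    generalize hQe : (2 * s ^ 2) ^ 2 + 1 = Q at hQ ⊢
    generalize hTe : (2 * s ^ 2) ^ 2 = T at hT hQe ⊢
    generalize hAe : 2 * s ^ 2 - 1 = A at hA ⊢
    generalize hBe : 2 * s ^ 2 - 2 * s + 1 = B at hB ⊢
    generalize hCe : 2 * s ^ 2 + 2 * s + 1 = C at hC ⊢
    have hs1 := hs0.ne'
    have hA1 := hA.ne'
    have hB1 := hB.ne'
    have hC1 := hC.ne'
    have hQ1 := hQ.ne'
    have hT1 := hT.ne'
    field_simp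
    subst hQe hAe hBe hCe hTe
    ring
  rw [e]
  exact div_pos hN (by positivity)

theorem ar_four_V (s : ℝ) (hs : 2 ≤ s) :
    0 < 1 + (s ^ 2 - 1) * 0 / ((2 * s ^ 2) ^ 2 + 1) + ((s ^ 2 + s) / 2) * 0 / ((2 * s ^ 2 - 1) * (2 * s ^ 2 - 2 * s + 1)) + ((s ^ 2 - s) / 2) * (-4) / ((2 * s ^ 2 - 1) * (2 * s ^ 2 + 2 * s + 1)) - 2 * s ^ 2 * (-1) / ((2 * s ^ 2 - 1) * s) := by
  have hs0 : 0 < s := by linarith
  have hA : 0 < 2 * s ^ 2 - 1 := by nlinarith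
  have hB : 0 < 2 * s ^ 2 - 2 * s + 1 := by nlinarith
  have hC : 0 < 2 * s ^ 2 + 2 * s + 1 := by positivity
  have hQ : 0 < (2 * s ^ 2) ^ 2 + 1 := by positivity
  have hT : 0 < (2 * s ^ 2) ^ 2 := by positivity
  have hN : 0 < ((-4) * s ^ 5 + (16) * s ^ 6 + (-16) * s ^ 7 + (32) * s ^ 8 + (-48) * s ^ 9 + (96) * s ^ 10 + (-32) * s ^ 11 + (128) * s ^ 12 + (-128) * s ^ 13 + (128) * s ^ 14 + (128) * s ^ 15) := by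
    obtain ⟨w, hw, rfl⟩ : ∃ w : ℝ, 0 ≤ w ∧ s = w + 2 := ⟨s - 2, by linarith, by ring⟩
    have e : ((-4) * (w + 2) ^ 5 + (16) * (w + 2) ^ 6 + (-16) * (w + 2) ^ 7 + (32) * (w + 2) ^ 8 + (-48) * (w + 2) ^ 9 + (96) * (w + 2) ^ 10 + (-32) * (w + 2) ^ 11 + (128) * (w + 2) ^ 12 + (-128) * (w + 2) ^ 13 + (128) * (w + 2) ^ 14 + (128) * (w + 2) ^ 15) = (5782400 + 42516160 * w + 146047936 * w ^ 2 + 310818400 * w ^ 3 + 458168856 * w ^ 4 + 495360380 * w ^ 5 + 405685040 * w ^ 6 + 256195312 * w ^ 7 + 125748032 * w ^ 8 + 47956944 * w ^ 9 + 14090656 * w ^ 10 + 3131360 * w ^ 11 + 509312 * w ^ 12 + 57216 * w ^ 13 + 3968 * w ^ 14 + 128 * w ^ 15) := by ring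
    rw [e]
    positivity
  have e : 1 + (s ^ 2 - 1) * 0 / ((2 * s ^ 2) ^ 2 + 1) + ((s ^ 2 + s) / 2) * 0 / ((2 * s ^ 2 - 1) * (2 * s ^ 2 - 2 * s + 1)) + ((s ^ 2 - s) / 2) * (-4) / ((2 * s ^ 2 - 1) * (2 * s ^ 2 + 2 * s + 1)) - 2 * s ^ 2 * (-1) / ((2 * s ^ 2 - 1) * s) = ((-4) * s ^ 5 + (16) * s ^ 6 + (-16) * s ^ 7 + (32) * s ^ 8 + (-48) * s ^ 9 + (96) * s ^ 10 + (-32) * s ^ 11 + (128) * s ^ 12 + (-128) * s ^ 13 + (128) * s ^ 14 + (128) * s ^ 15) / (1 * (((2 * s ^ 2) ^ 2 + 1) * ((2 * s ^ 2) ^ 2) * (2 * s ^ 2 - 1) * (2 * s ^ 2 - 2 * s + 1) * (2 * s ^ 2 + 2 * s + 1) * s)) := by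
    generalize hQe : (2 * s ^ 2) ^ 2 + 1 = Q at hQ ⊢
    generalize hTe : (2 * s ^ 2) ^ 2 = T at hT hQe ⊢
    generalize hAe : 2 * s ^ 2 - 1 = A at hA ⊢
    generalize hBe : 2 * s ^ 2 - 2 * s + 1 = B at hB ⊢
    generalize hCe : 2 * s ^ 2 + 2 * s + 1 = C at hC ⊢
    have hs1 := hs0.ne'
    have hA1 := hA.ne'
    have hB1 := hB.ne'
    have hC1 := hC.ne'
    have hQ1 := hQ.ne'
    have hT1 := hT.ne'
    field_simp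
    subst hQe hAe hBe hCe hTe
    ring
  rw [e]
  exact div_pos hN (by positivity)

theorem ar_K_V (s : ℝ) (hs : 2 ≤ s) :
    0 < 1 + (-1) / ((2 * s ^ 2) ^ 2) + 0 * (2 * s ^ 2 - 3) / ((2 * s ^ 2) ^ 2 + 1) := by
  have hs0 : 0 < s := by linarith
  have hA : 0 < 2 * s ^ 2 - 1 := by nlinarith
  have hB : 0 < 2 * s ^ 2 - 2 * s + 1 := by nlinarith
  have hC : 0 < 2 * s ^ 2 + 2 * s + 1 := by positivity
  have hQ : 0 < (2 * s ^ 2) ^ 2 + 1 := by positivity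
  have hT : 0 < (2 * s ^ 2) ^ 2 := by positivity
  have hN : 0 < ((1) * s ^ 1 + (-2) * s ^ 3 + (4) * s ^ 5 + (-8) * s ^ 7 + (-16) * s ^ 9 + (32) * s ^ 11 + (-64) * s ^ 13 + (128) * s ^ 15) := by
    obtain ⟨w, hw, rfl⟩ : ∃ w : ℝ, 0 ≤ w ∧ s = w + 2 := ⟨s - 2, by linarith, by ring⟩
    have e : ((1) * (w + 2) ^ 1 + (-2) * (w + 2) ^ 3 + (4) * (w + 2) ^ 5 + (-8) * (w + 2) ^ 7 + (-16) * (w + 2) ^ 9 + (32) * (w + 2) ^ 11 + (-64) * (w + 2) ^ 13 + (128) * (w + 2) ^ 15) = (3726450 + 28369705 * w + 100699188 * w ^ 2 + 221069086 * w ^ 3 + 335682408 * w ^ 4 + 373436260 * w ^ 5 + 314412432 * w ^ 6 + 203999992 * w ^ 7 + 102837216 * w ^ 8 + 40275824 * w ^ 9 + 12154560 * w ^ 10 + 2775584 * w ^ 11 + 464256 * w ^ 12 + 53696 * w ^ 13 + 3840 * w ^ 14 + 128 * w ^ 15) := by ring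
    rw [e]
    positivity
  have e : 1 + (-1) / ((2 * s ^ 2) ^ 2) + 0 * (2 * s ^ 2 - 3) / ((2 * s ^ 2) ^ 2 + 1) = ((1) * s ^ 1 + (-2) * s ^ 3 + (4) * s ^ 5 + (-8) * s ^ 7 + (-16) * s ^ 9 + (32) * s ^ 11 + (-64) * s ^ 13 + (128) * s ^ 15) / (1 * (((2 * s ^ 2) ^ 2 + 1) * ((2 * s ^ 2) ^ 2) * (2 * s ^ 2 - 1) * (2 * s ^ 2 - 2 * s + 1) * (2 * s ^ 2 + 2 * s + 1) * s)) := by
    generalize hQe : (2 * s ^ 2) ^ 2 + 1 = Q at hQ ⊢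
    generalize hTe : (2 * s ^ 2) ^ 2 = T at hT hQe ⊢
    generalize hAe : 2 * s ^ 2 - 1 = A at hA ⊢
    generalize hBe : 2 * s ^ 2 - 2 * s + 1 = B at hB ⊢
    generalize hCe : 2 * s ^ 2 + 2 * s + 1 = C at hC ⊢
    have hs1 := hs0.ne'
    have hA1 := hA.ne'
    have hB1 := hB.ne'
    have hC1 := hC.ne'
    have hQ1 := hQ.ne'
    have hT1 := hT.ne'
    field_simp
    subst hQe hAe hBe hCe hTe
    ring
  rw [e]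
  exact div_pos hN (by positivity)

theorem ar_U_V (s : ℝ) (hs : 2 ≤ s) :
    0 < 1 + (-1) / ((2 * s ^ 2) ^ 2) + 0 * (2 * s ^ 2 + 2 * s + 1 - 4) / ((2 * s ^ 2 - 1) * (2 * s ^ 2 - 2 * s + 1)) + 2 * (-1) / ((2 * s ^ 2 - 1) * s) := by
  have hs0 : 0 < s := by linarith
  have hA : 0 < 2 * s ^ 2 - 1 := by nlinarith
  have hB : 0 < 2 * s ^ 2 - 2 * s + 1 := by nlinarith
  have hC : 0 < 2 * s ^ 2 + 2 * s + 1 := by positivity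
  have hQ : 0 < (2 * s ^ 2) ^ 2 + 1 := by positivity
  have hT : 0 < (2 * s ^ 2) ^ 2 := by positivity
  have hN : 0 < ((1) * s ^ 1 + (-2) * s ^ 3 + (-8) * s ^ 4 + (4) * s ^ 5 + (-8) * s ^ 7 + (-64) * s ^ 8 + (-16) * s ^ 9 + (32) * s ^ 11 + (-128) * s ^ 12 + (-64) * s ^ 13 + (128) * s ^ 15) := by
    obtain ⟨w, hw, rfl⟩ : ∃ w : ℝ, 0 ≤ w ∧ s = w + 2 := ⟨s - 2, by linarith, by ring⟩
    have e : ((1) * (w + 2) ^ 1 + (-2) * (w + 2) ^ 3 + (-8) * (w + 2) ^ 4 + (4) * (w + 2) ^ 5 + (-8) * (w + 2) ^ 7 + (-64) * (w + 2) ^ 8 + (-16) * (w + 2) ^ 9 + (32) * (w + 2) ^ 11 + (-128) * (w + 2) ^ 12 + (-64) * (w + 2) ^ 13 + (128) * (w + 2) ^ 15) = (3185650 + 25158185 * w + 91933556 * w ^ 2 + 206536414 * w ^ 3 + 319390560 * w ^ 4 + 360431460 * w ^ 5 + 306835856 * w ^ 6 + 200754936 * w ^ 7 + 101823392 * w ^ 8 + 40050544 * w ^ 9 +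 12120768 * w ^ 10 + 2772512 * w ^ 11 + 464128 * w ^ 12 + 53696 * w ^ 13 + 3840 * w ^ 14 + 128 * w ^ 15) := by ring
    rw [e]
    positivity
  have e : 1 + (-1) / ((2 * s ^ 2) ^ 2) + 0 * (2 * s ^ 2 + 2 * s + 1 - 4) / ((2 * s ^ 2 - 1) * (2 * s ^ 2 - 2 * s + 1)) + 2 * (-1) / ((2 * s ^ 2 - 1) * s) = ((1) * s ^ 1 + (-2) * s ^ 3 + (-8) * s ^ 4 + (4) * s ^ 5 + (-8) * s ^ 7 + (-64) * s ^ 8 + (-16) * s ^ 9 + (32) * s ^ 11 + (-128) * s ^ 12 + (-64) * s ^ 13 + (128) * s ^ 15) / (1 * (((2 * s ^ 2) ^ 2 + 1) * ((2 * s ^ 2) ^ 2) * (2 * s ^ 2 - 1) * (2 * s ^ 2 - 2 * s + 1) * (2 * s ^ 2 + 2 * s + 1) * s)) := by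
    generalize hQe : (2 * s ^ 2) ^ 2 + 1 = Q at hQ ⊢
    generalize hTe : (2 * s ^ 2) ^ 2 = T at hT hQe ⊢
    generalize hAe : 2 * s ^ 2 - 1 = A at hA ⊢
    generalize hBe : 2 * s ^ 2 - 2 * s + 1 = B at hB ⊢
    generalize hCe : 2 * s ^ 2 + 2 * s + 1 = C at hC ⊢
    have hs1 := hs0.ne'
    have hA1 := hA.ne'
    have hB1 := hB.ne'
    have hC1 := hC.ne'
    have hQ1 := hQ.ne'
    have hT1 := hT.ne'
    field_simp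
    subst hQe hAe hBe hCe hTe
    ring
  rw [e]
  exact div_pos hN (by positivity)

theorem ar_V_V (s : ℝ) (hs : 2 ≤ s) :
    0 < 1 + (-1) / ((2 * s ^ 2) ^ 2) + (-4) * (2 * s ^ 2 - 2 * s + 1 - 4) / ((2 * s ^ 2 - 1) * (2 * s ^ 2 + 2 * s + 1)) + 2 * (-1) / ((2 * s ^ 2 - 1) * s) := by
  have hs0 : 0 < s := by linarith
  have hA : 0 < 2 * s ^ 2 - 1 := by nlinarith
  have hB : 0 < 2 * s ^ 2 - 2 * s + 1 := by nlinarith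
  have hC : 0 < 2 * s ^ 2 + 2 * s + 1 := by positivity
  have hQ : 0 < (2 * s ^ 2) ^ 2 + 1 := by positivity
  have hT : 0 < (2 * s ^ 2) ^ 2 := by positivity
  have hN : 0 < ((1) * s ^ 1 + (-2) * s ^ 3 + (-8) * s ^ 4 + (52) * s ^ 5 + (-64) * s ^ 6 + (-8) * s ^ 7 + (64) * s ^ 8 + (112) * s ^ 9 + (-256) * s ^ 10 + (32) * s ^ 11 + (384) * s ^ 12 + (-320) * s ^ 13 + (128) * s ^ 15) := by
    obtain ⟨w, hw, rfl⟩ : ∃ w : ℝ, 0 ≤ w ∧ s = w + 2 := ⟨s - 2, by linarith, by ring⟩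
    have e : ((1) * (w + 2) ^ 1 + (-2) * (w + 2) ^ 3 + (-8) * (w + 2) ^ 4 + (52) * (w + 2) ^ 5 + (-64) * (w + 2) ^ 6 + (-8) * (w + 2) ^ 7 + (64) * (w + 2) ^ 8 + (112) * (w + 2) ^ 9 + (-256) * (w + 2) ^ 10 + (32) * (w + 2) ^ 11 + (384) * (w + 2) ^ 12 + (-320) * (w + 2) ^ 13 + (128) * (w + 2) ^ 15) = (3019250 + 23216425 * w + 83500660 * w ^ 2 + 186211934 * w ^ 3 + 287770176 * w ^ 4 + 326241428 * w ^ 5 + 280123728 * w ^ 6 + 185390840 * w ^ 7 + 95291680 * w ^ 8 + 38018032 * w ^ 9 + 11669952 * w ^ 10 + 2704928 * w ^ 11 + 457984 * w ^ 12 + 53440 * w ^ 13 + 3840 * w ^ 14 + 128 * w ^ 15) := by ring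
    rw [e]
    positivity
  have e : 1 + (-1) / ((2 * s ^ 2) ^ 2) + (-4) * (2 * s ^ 2 - 2 * s + 1 - 4) / ((2 * s ^ 2 - 1) * (2 * s ^ 2 + 2 * s + 1)) + 2 * (-1) / ((2 * s ^ 2 - 1) * s) = ((1) * s ^ 1 + (-2) * s ^ 3 + (-8) * s ^ 4 + (52) * s ^ 5 + (-64) * s ^ 6 + (-8) * s ^ 7 + (64) * s ^ 8 + (112) * s ^ 9 + (-256) * s ^ 10 + (32) * s ^ 11 + (384) * s ^ 12 + (-320) * s ^ 13 + (128) * s ^ 15) / (1 * (((2 * s ^ 2) ^ 2 + 1) * ((2 * s ^ 2) ^ 2) * (2 * s ^ 2 - 1) * (2 * s ^ 2 - 2 * s + 1) * (2 * s ^ 2 + 2 * s + 1) * s)) := by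
    generalize hQe : (2 * s ^ 2) ^ 2 + 1 = Q at hQ ⊢
    generalize hTe : (2 * s ^ 2) ^ 2 = T at hT hQe ⊢
    generalize hAe : 2 * s ^ 2 - 1 = A at hA ⊢
    generalize hBe : 2 * s ^ 2 - 2 * s + 1 = B at hB ⊢
    generalize hCe : 2 * s ^ 2 + 2 * s + 1 = C at hC ⊢
    have hs1 := hs0.ne'
    have hA1 := hA.ne'
    have hB1 := hB.ne'
    have hC1 := hC.ne'
    have hQ1 := hQ.ne'
    have hT1 := hT.ne'
    field_simp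
    subst hQe hAe hBe hCe hTe
    ring
  rw [e]
  exact div_pos hN (by positivity)

theorem ar_card_K (s : ℝ) (hs : 2 ≤ s) :
    0 < ((2 * s ^ 2) ^ 2 * ((2 * s ^ 2) ^ 2 + 1) * (2 * s ^ 2 - 1)) * (1 + 1 / ((2 * s ^ 2) ^ 2) + (-2) * (2 * s ^ 2 - 3) / ((2 * s ^ 2) ^ 2 + 1)) - 4 * (2 * s ^ 2 - 1) ^ 2 := by
  have hs0 : 0 < s := by linarith
  have hA : 0 < 2 * s ^ 2 - 1 := by nlinarith
  have hB : 0 < 2 * s ^ 2 - 2 * s + 1 := by nlinarith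
  have hC : 0 < 2 * s ^ 2 + 2 * s + 1 := by positivity
  have hQ : 0 < (2 * s ^ 2) ^ 2 + 1 := by positivity
  have hT : 0 < (2 * s ^ 2) ^ 2 := by positivity
  have hN : 0 < ((20) * s ^ 5 + (-112) * s ^ 7 + (496) * s ^ 9 + (-1600) * s ^ 11 + (3840) * s ^ 13 + (-7936) * s ^ 15 + (12288) * s ^ 17 + (-15360) * s ^ 19 + (15360) * s ^ 21 + (-8192) * s ^ 23 + (4096) * s ^ 25) := by
    obtain ⟨w, hw, rfl⟩ : ∃ w : ℝ, 0 ≤ w ∧ s = w + 2 := ⟨s - 2, by linarith, by ring⟩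
    have e : ((20) * (w + 2) ^ 5 + (-112) * (w + 2) ^ 7 + (496) * (w + 2) ^ 9 + (-1600) * (w + 2) ^ 11 + (3840) * (w + 2) ^ 13 + (-7936) * (w + 2) ^ 15 + (12288) * (w + 2) ^ 17 + (-15360) * (w + 2) ^ 19 + (15360) * (w + 2) ^ 21 + (-8192) * (w + 2) ^ 23 + (4096) * (w + 2) ^ 25) = (94257654400 + 1201364906560 * w + 7356794683456 * w ^ 2 + 28803956506144 * w ^ 3 + 80948012567112 * w ^ 4 + 173776894573908 * w ^ 5 + 296118243827680 * w ^ 6 + 410854766292624 * w ^ 7 + 472422422579424 * w ^ 8 + 455839011058416 * w ^ 9 + 372347401987712 * w ^ 10 + 259022944309696 * w ^ 11 + 154023905246720 * w ^ 12 + 78423383159552 * w ^ 13 + 34186805009920 * w ^ 14 + 12734307950848 * w ^ 15 + 4037246648320 * w ^ 16 + 1082648666112 * w ^ 17 + 243367204864 * w ^ 18 + 45277946880 * w ^ 19 + 6848436224 * w ^ 20 + 820755456 * w ^ 21 + 74989568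 * w ^ 22 + 4907008 * w ^ 23 + 204800 * w ^ 24 + 4096 * w ^ 25) := by ring
    rw [e]
    positivity
  have e : ((2 * s ^ 2) ^ 2 * ((2 * s ^ 2) ^ 2 + 1) * (2 * s ^ 2 - 1)) * (1 + 1 / ((2 * s ^ 2) ^ 2) + (-2) * (2 * s ^ 2 - 3) / ((2 * s ^ 2) ^ 2 + 1)) - 4 * (2 * s ^ 2 - 1) ^ 2 = ((20) * s ^ 5 + (-112) * s ^ 7 + (496) * s ^ 9 + (-1600) * s ^ 11 + (3840) * s ^ 13 + (-7936) * s ^ 15 + (12288) * s ^ 17 + (-15360) * s ^ 19 + (15360) * s ^ 21 + (-8192) * s ^ 23 + (4096) * s ^ 25) / (1 * (((2 * s ^ 2) ^ 2 + 1) * ((2 * s ^ 2) ^ 2) * (2 * s ^ 2 - 1) * (2 * s ^ 2 - 2 * s + 1) * (2 * s ^ 2 + 2 * s + 1) * s)) := by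
    generalize hQe : (2 * s ^ 2) ^ 2 + 1 = Q at hQ ⊢
    generalize hTe : (2 * s ^ 2) ^ 2 = T at hT hQe ⊢
    generalize hAe : 2 * s ^ 2 - 1 = A at hA ⊢
    generalize hBe : 2 * s ^ 2 - 2 * s + 1 = B at hB ⊢
    generalize hCe : 2 * s ^ 2 + 2 * s + 1 = C at hC ⊢
    have hs1 := hs0.ne'
    have hA1 := hA.ne'
    have hB1 := hB.ne'
    have hC1 := hC.ne'
    have hQ1 := hQ.ne'
    have hT1 := hT.ne'
    field_simp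
    subst hQe hAe hBe hCe hTe
    ring
  rw [e]
  exact div_pos hN (by positivity)

theorem ar_card_U (s : ℝ) (hs : 2 ≤ s) :
    0 < ((2 * s ^ 2) ^ 2 * ((2 * s ^ 2) ^ 2 + 1) * (2 * s ^ 2 - 1)) * (1 + (-1) / ((2 * s ^ 2) ^ 2) + (-4) * (2 * s ^ 2 + 2 * s + 1 - 4) / ((2 * s ^ 2 - 1) * (2 * s ^ 2 - 2 * s + 1)) + 2 * 1 / ((2 * s ^ 2 - 1) * s)) - 4 * (2 * s ^ 2 + 2 * s + 1) ^ 2 := by
  have hs0 : 0 < s := by linarith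
  have hA : 0 < 2 * s ^ 2 - 1 := by nlinarith
  have hB : 0 < 2 * s ^ 2 - 2 * s + 1 := by nlinarith
  have hC : 0 < 2 * s ^ 2 + 2 * s + 1 := by positivity
  have hQ : 0 < (2 * s ^ 2) ^ 2 + 1 := by positivity
  have hT : 0 < (2 * s ^ 2) ^ 2 := by positivity
  have hN : 0 < ((12) * s ^ 5 + (64) * s ^ 6 + (112) * s ^ 7 + (-32) * s ^ 8 + (-304) * s ^ 9 + (64) * s ^ 10 + (1152) * s ^ 11 + (640) * s ^ 12 + (-2688) * s ^ 13 + (-3328) * s ^ 14 + (3072) * s ^ 15 + (6656) * s ^ 16 + (-3584) * s ^ 17 + (-13312) * s ^ 18 + (-2048) * s ^ 19 + (14336) * s ^ 20 + (7168) * s ^ 21 + (-12288) * s ^ 22 + (-12288) * s ^ 23 + (4096) * s ^ 25) := by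
    obtain ⟨w, hw, rfl⟩ : ∃ w : ℝ, 0 ≤ w ∧ s = w + 2 := ⟨s - 2, by linarith, by ring⟩
    have e : ((12) * (w + 2) ^ 5 + (64) * (w + 2) ^ 6 + (112) * (w + 2) ^ 7 + (-32) * (w + 2) ^ 8 + (-304) * (w + 2) ^ 9 + (64) * (w + 2) ^ 10 + (1152) * (w + 2) ^ 11 + (640) * (w + 2) ^ 12 + (-2688) * (w + 2) ^ 13 + (-3328) * (w + 2) ^ 14 + (3072) * (w + 2) ^ 15 + (6656) * (w + 2) ^ 16 + (-3584) * (w + 2) ^ 17 + (-13312) * (w + 2) ^ 18 + (-2048) * (w + 2) ^ 19 + (14336) * (w + 2) ^ 20 + (7168) * (w + 2) ^ 21 + (-12288) * (w + 2) ^ 22 + (-12288) * (w + 2) ^ 23 + (4096) * (w + 2) ^ 25) = (8316963200 + 231951878080 * w + 2133767316928 * w ^ 2 + 10921592016608 * w ^ 3 + 37283102943736 * w ^ 4 + 92878522463692 * w ^ 5 + 177997177782880 * w ^ 6 + 271491723432816 * w ^ 7 + 337273041302400 * w ^ 8 + 346837132089808 * w ^ 9 + 298652189085504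 * w ^ 10 + 217052032750720 * w ^ 11 + 133841774941568 * w ^ 12 + 70229722577280 * w ^ 13 + 31384976726784 * w ^ 14 + 11931326712832 * w ^ 15 + 3845907197440 * w ^ 16 + 1045185954304 * w ^ 17 + 237442800640 * w ^ 18 + 44539942912 * w ^ 19 + 6778720256 * w ^ 20 + 816061440 * w ^ 21 + 74788864 * w ^ 22 + 4902912 * w ^ 23 + 204800 * w ^ 24 + 4096 * w ^ 25) := by ring
    rw [e]
    positivity
  have e : ((2 * s ^ 2) ^ 2 * ((2 * s ^ 2) ^ 2 + 1) * (2 * s ^ 2 - 1)) * (1 + (-1) / ((2 * s ^ 2) ^ 2) + (-4) * (2 * s ^ 2 + 2 * s + 1 - 4) / ((2 * s ^ 2 - 1) * (2 * s ^ 2 - 2 * s + 1)) + 2 * 1 / ((2 * s ^ 2 - 1) * s)) - 4 * (2 * s ^ 2 + 2 * s + 1) ^ 2 = ((12) * s ^ 5 + (64) * s ^ 6 + (112) * s ^ 7 + (-32) * s ^ 8 + (-304) * s ^ 9 + (64) * s ^ 10 + (1152) * s ^ 11 + (640) * s ^ 12 + (-2688) * s ^ 13 + (-3328) * s ^ 14 + (3072)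 * s ^ 15 + (6656) * s ^ 16 + (-3584) * s ^ 17 + (-13312) * s ^ 18 + (-2048) * s ^ 19 + (14336) * s ^ 20 + (7168) * s ^ 21 + (-12288) * s ^ 22 + (-12288) * s ^ 23 + (4096) * s ^ 25) / (1 * (((2 * s ^ 2) ^ 2 + 1) * ((2 * s ^ 2) ^ 2) * (2 * s ^ 2 - 1) * (2 * s ^ 2 - 2 * s + 1) * (2 * s ^ 2 + 2 * s + 1) * s)) := by
    generalize hQe : (2 * s ^ 2) ^ 2 + 1 = Q at hQ ⊢
    generalize hTe : (2 * s ^ 2) ^ 2 = T at hT hQe ⊢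
    generalize hAe : 2 * s ^ 2 - 1 = A at hA ⊢
    generalize hBe : 2 * s ^ 2 - 2 * s + 1 = B at hB ⊢
    generalize hCe : 2 * s ^ 2 + 2 * s + 1 = C at hC ⊢
    have hs1 := hs0.ne'
    have hA1 := hA.ne'
    have hB1 := hB.ne'
    have hC1 := hC.ne'
    have hQ1 := hQ.ne'
    have hT1 := hT.ne'
    field_simp
    subst hQe hAe hBe hCe hTe
    ring
  rw [e]
  exact div_pos hN (by positivity)

theorem ar_card_V (s : ℝ) (hs : 2 ≤ s) :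
    0 < ((2 * s ^ 2) ^ 2 * ((2 * s ^ 2) ^ 2 + 1) * (2 * s ^ 2 - 1)) * (1 + (-1) / ((2 * s ^ 2) ^ 2) + (-4) * (2 * s ^ 2 - 2 * s + 1 - 4) / ((2 * s ^ 2 - 1) * (2 * s ^ 2 + 2 * s + 1)) + 2 * (-1) / ((2 * s ^ 2 - 1) * s)) - 4 * (2 * s ^ 2 - 2 * s + 1) ^ 2 := by
  have hs0 : 0 < s := by linarith
  have hA : 0 < 2 * s ^ 2 - 1 := by nlinarith
  have hB : 0 < 2 * s ^ 2 - 2 * s + 1 := by nlinarith
  have hC : 0 < 2 * s ^ 2 + 2 * s + 1 := by positivity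
  have hQ : 0 < (2 * s ^ 2) ^ 2 + 1 := by positivity
  have hT : 0 < (2 * s ^ 2) ^ 2 := by positivity
  have hN : 0 < ((12) * s ^ 5 + (-64) * s ^ 6 + (112) * s ^ 7 + (32) * s ^ 8 + (-304) * s ^ 9 + (-64) * s ^ 10 + (1152) * s ^ 11 + (-640) * s ^ 12 + (-2688) * s ^ 13 + (3328) * s ^ 14 + (3072) * s ^ 15 + (-6656) * s ^ 16 + (-3584) * s ^ 17 + (13312) * s ^ 18 + (-2048) * s ^ 19 + (-14336) * s ^ 20 + (7168) * s ^ 21 + (12288) * s ^ 22 + (-12288) * s ^ 23 + (4096) * s ^ 25) := by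
    obtain ⟨w, hw, rfl⟩ : ∃ w : ℝ, 0 ≤ w ∧ s = w + 2 := ⟨s - 2, by linarith, by ring⟩
    have e : ((12) * (w + 2) ^ 5 + (-64) * (w + 2) ^ 6 + (112) * (w + 2) ^ 7 + (32) * (w + 2) ^ 8 + (-304) * (w + 2) ^ 9 + (-64) * (w + 2) ^ 10 + (1152) * (w + 2) ^ 11 + (-640) * (w + 2) ^ 12 + (-2688) * (w + 2) ^ 13 + (3328) * (w + 2) ^ 14 + (3072) * (w + 2) ^ 15 + (-6656) * (w + 2) ^ 16 + (-3584) * (w + 2) ^ 17 + (13312) * (w + 2) ^ 18 + (-2048) * (w + 2) ^ 19 + (-14336) * (w + 2) ^ 20 + (7168) * (w + 2) ^ 21 + (12288) * (w + 2) ^ 22 + (-12288) * (w + 2) ^ 23 + (4096) * (w + 2) ^ 25) = (87542000000 + 1121741400000 * w + 6901695000000 * w ^ 2 + 27135748620000 * w ^ 3 + 76547859883000 * w ^ 4 + 164896213000140 * w ^ 5 + 281882168266208 * w ^ 6 + 392284068853616 * w ^ 7 + 452385851713984 * w ^ 8 + 437762045358032 * w ^ 9 + 358612774012608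 * w ^ 10 + 250198535085184 * w ^ 11 + 149221777180800 * w ^ 12 + 76211455234432 * w ^ 13 + 33326967829760 * w ^ 14 + 12453760142336 * w ^ 15 + 3961056926208 * w ^ 16 + 1065635324416 * w ^ 17 + 240297411584 * w ^ 18 + 44841572352 * w ^ 19 + 6801399808 * w ^ 20 + 817142784 * w ^ 21 + 74813440 * w ^ 22 + 4902912 * w ^ 23 + 204800 * w ^ 24 + 4096 * w ^ 25) := by ring
    rw [e]
    positivity
  have e : ((2 * s ^ 2) ^ 2 * ((2 * s ^ 2) ^ 2 + 1) * (2 * s ^ 2 - 1)) * (1 + (-1) / ((2 * s ^ 2) ^ 2) + (-4) * (2 * s ^ 2 - 2 * s + 1 - 4) / ((2 * s ^ 2 - 1) * (2 * s ^ 2 + 2 * s + 1)) + 2 * (-1) / ((2 * s ^ 2 - 1) * s)) - 4 * (2 * s ^ 2 - 2 * s + 1) ^ 2 = ((12) * s ^ 5 + (-64) * s ^ 6 + (112) * s ^ 7 + (32) * s ^ 8 + (-304) * s ^ 9 + (-64) * s ^ 10 + (1152) * s ^ 11 + (-640) * s ^ 12 + (-2688) * s ^ 13 + (3328) * s ^ 14 +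 (3072) * s ^ 15 + (-6656) * s ^ 16 + (-3584) * s ^ 17 + (13312) * s ^ 18 + (-2048) * s ^ 19 + (-14336) * s ^ 20 + (7168) * s ^ 21 + (12288) * s ^ 22 + (-12288) * s ^ 23 + (4096) * s ^ 25) / (1 * (((2 * s ^ 2) ^ 2 + 1) * ((2 * s ^ 2) ^ 2) * (2 * s ^ 2 - 1) * (2 * s ^ 2 - 2 * s + 1) * (2 * s ^ 2 + 2 * s + 1) * s)) := by
    generalize hQe : (2 * s ^ 2) ^ 2 + 1 = Q at hQ ⊢
    generalize hTe : (2 * s ^ 2) ^ 2 = T at hT hQe ⊢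
    generalize hAe : 2 * s ^ 2 - 1 = A at hA ⊢
    generalize hBe : 2 * s ^ 2 - 2 * s + 1 = B at hB ⊢
    generalize hCe : 2 * s ^ 2 + 2 * s + 1 = C at hC ⊢
    have hs1 := hs0.ne'
    have hA1 := hA.ne'
    have hB1 := hB.ne'
    have hC1 := hC.ne'
    have hQ1 := hQ.ne'
    have hT1 := hT.ne'
    field_simp
    subst hQe hAe hBe hCe hTe
    ring
  rw [e]
  exact div_pos hN (by positivity)

end Cfsg.Agent.Lib.SzChar
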