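/-
The Suzuki group: counting the tori whose normalizers contain a given 2-element.
-/
import Mathlib
import Cfsg.Agent.Lib.SzSolA

set_option autoImplicit false
set_option linter.unusedSectionVars false
set_option linter.unusedVariables false
set_option linter.unnecessarySimpa false
set_option linter.style.haveILetI false

namespace Cfsg.Agent.Lib.SzTorus

open Cfsg Cfsg.Agent.Lib.SuzukiBasic Cfsg.Agent.Lib.Suzuki Cfsg.Agent.Lib.Suzuki2
  Cfsg.Agent.Lib.Suzuki3 Cfsg.Agent.Lib.Suzuki4 Cfsg.Agent.Lib.SuzukiMax Cfsg.Agent.Lib.SzSub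
open Subgroup
open scoped Pointwise

section general

variable {G : Type*} [Group G]

theorem map_conj_eq_of_mem_normalizer {U : Subgroup G} {g : G} (hg : g ∈ normalizer (U : Set G)) :
    U.map (MulAut.conj g).toMonoidHom = U := by
  ext z
  constructor
  · rintro ⟨w, hw, rfl⟩
    exact (Subgroup.mem_normalizer_iff.1 hg w).1 hw
  · intro hz
    refine ⟨g⁻¹ * z * g, ?_, ?_⟩
    · apply (Subgroup.mem_normalizer_iff.1 hg (g⁻¹ * z * g)).2
      have e : g * (g⁻¹ * z * g) * g⁻¹ = z := by group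
      rw [e]
      exact hz
    · change g * (g⁻¹ * z * g) * g⁻¹ = z
      group

theorem mem_normalizer_map_conj {U : Subgroup G} {k x : G} :
    x ∈ normalizer ((U.map (MulAut.conj k).toMonoidHom : Subgroup G) : Set G) ↔
      k⁻¹ * x * k ∈ normalizer (U : Set G) := by
  rw [← Subgroup.map_equiv_normalizer_eq]
  constructor
  · rintro ⟨w, hw, rfl⟩
    have e : k⁻¹ * ((MulAut.conj k).toMonoidHom w) * k = w := by
      change k⁻¹ * (k * w * k⁻¹) * k = w
      group
    rw [e]
    exact hw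
  · intro h
    refine ⟨_, h, ?_⟩
    change k * (k⁻¹ * x * k) * k⁻¹ = x
    group

theorem conj_orbit_card [Finite G] (T : Set (Subgroup G)) (U₀ : Subgroup G)
    (htr : ∀ U ∈ T, ∃ k : G, U = U₀.map (MulAut.conj k).toMonoidHom)
    (hcl : ∀ k : G, U₀.map (MulAut.conj k).toMonoidHom ∈ T) :
    T.ncard * Nat.card (normalizer (U₀ : Set G)) = Nat.card G := by
  letI : MulAction G (Subgroup G) := MulAction.compHom _ (MulAut.conj : G →* MulAut G)
  have hsm : ∀ (g : G) (U : Subgroup G), g • U = U.map (MulAut.conj g).toMonoidHom := fun _ _ => rfl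
  have horb : MulAction.orbit G U₀ = T := by
    ext U
    constructor
    · rintro ⟨g, rfl⟩
      exact hcl g
    · intro h
      obtain ⟨k, rfl⟩ := htr U h
      exact ⟨k, rfl⟩
  have hst : MulAction.stabilizer G U₀ = normalizer (U₀ : Set G) := by
    ext g
    rw [MulAction.mem_stabilizer_iff, hsm]
    exact ⟨mem_normalizer_of_map_eq, map_conj_eq_of_mem_normalizer⟩
  have h1 := Subgroup.card_mul_index (MulAction.stabilizer G U₀)
  rw [MulAction.index_stabilizer, horb, hst] at h1
  rw [mul_comm]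
  exact h1

theorem double_count [Finite G] (T : Set (Subgroup G)) (U₀ : Subgroup G)
    (htr : ∀ U ∈ T, ∃ k : G, U = U₀.map (MulAut.conj k).toMonoidHom)
    (hcl : ∀ k : G, U₀.map (MulAut.conj k).toMonoidHom ∈ T)
    (C : Set G) (hC : ∀ x ∈ C, ∀ k : G, k * x * k⁻¹ ∈ C) {n : ℕ}
    (hn : ∀ x ∈ C, {U : Subgroup G | U ∈ T ∧ x ∈ normalizer (U : Set G)}.ncard = n) :
    n * C.ncard * Nat.card (normalizer (U₀ : Set G)) =
      Nat.card G * (C ∩ (normalizer (U₀ : Set G) : Set G)).ncard := by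
  classical
  let sC : Finset G := C.toFinite.toFinset
  let sT : Finset (Subgroup G) := T.toFinite.toFinset
  let r : G → Subgroup G → Prop := fun x U => x ∈ normalizer (U : Set G)
  have key := Finset.sum_card_bipartiteAbove_eq_sum_card_bipartiteBelow (s := sC) (t := sT) r
  have hsC : sC.card = C.ncard := (Set.ncard_eq_toFinset_card C).symm
  have hsT : sT.card = T.ncard := (Set.ncard_eq_toFinset_card T).symm
  have hL : ∑ x ∈ sC, (sT.bipartiteAbove r x).card = n * C.ncard := by
    rw [Finset.sum_const_nat (m := n), hsC, mul_comm]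
    intro x hx
    have hx' : x ∈ C := by simpa [sC] using hx
    rw [← hn x hx', ← Set.ncard_coe_finset]
    congr 1
    ext U
    simp [sT, r, Finset.bipartiteAbove]
  have hR : ∑ U ∈ sT, (sC.bipartiteBelow r U).card =
      T.ncard * (C ∩ (normalizer (U₀ : Set G) : Set G)).ncard := by
    rw [Finset.sum_const_nat (m := (C ∩ (normalizer (U₀ : Set G) : Set G)).ncard), hsT]
    intro U hU
    have hU' : U ∈ T := by simpa [sT] using hU
    obtain ⟨k, rfl⟩ := htr U hU'
    rw [← Set.ncard_coe_finset]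
    have hinj : Function.Injective (fun z : G => k * z * k⁻¹) := by
      intro a b hab
      exact mul_left_cancel (mul_right_cancel hab)
    rw [← Set.ncard_image_of_injective (C ∩ (normalizer (U₀ : Set G) : Set G)) hinj]
    congr 1
    ext x
    simp only [Finset.coe_filter, Finset.bipartiteBelow, Set.mem_setOf_eq, sC, r,
      Set.Finite.mem_toFinset, Set.mem_image, Set.mem_inter_iff, SetLike.mem_coe]
    constructor
    · rintro ⟨h1, h2⟩
      refine ⟨k⁻¹ * x * k, ⟨?_, mem_normalizer_map_conj.1 h2⟩, by group⟩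
      have := hC x h1 k⁻¹
      simpa using this
    · rintro ⟨z, ⟨h1, h2⟩, rfl⟩
      refine ⟨hC z h1 k, mem_normalizer_map_conj.2 ?_⟩
      have e : k⁻¹ * (k * z * k⁻¹) * k = z := by group
      rw [e]
      exact h2
  rw [hL, hR] at key
  rw [key, mul_right_comm, conj_orbit_card T U₀ htr hcl]

theorem card_union_family [Finite G] {ι : Type*} [DecidableEq ι] (A : Set G) (s : Finset ι)
    (Y : ι → Set G) (hd : ∀ i ∈ s, ∀ j ∈ s, i ≠ j → Y i ∩ Y j ⊆ A) :
    (A ∪ ⋃ i ∈ s, Y i).ncard = A.ncard + ∑ i ∈ s, (Y i \ A).ncard := by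
  induction s using Finset.induction_on with
  | empty => simp
  | insert a s ha ih =>
    rw [Finset.sum_insert ha]
    have h1 : A ∪ ⋃ i ∈ insert a s, Y i = (A ∪ ⋃ i ∈ s, Y i) ∪ (Y a \ A) := by
      ext z
      simp only [Set.mem_union, Set.mem_iUnion, Finset.mem_insert, exists_prop, Set.mem_diff]
      constructor
      · rintro (h | ⟨i, rfl | hi, hz⟩)
        · exact Or.inl (Or.inl h)
        · by_cases hA : z ∈ A
          · exact Or.inl (Or.inl hA)
          · exact Or.inr ⟨hz, hA⟩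
        · exact Or.inl (Or.inr ⟨i, hi, hz⟩)
      · rintro ((h | ⟨i, hi, hz⟩) | ⟨h, -⟩)
        · exact Or.inl h
        · exact Or.inr ⟨i, Or.inr hi, hz⟩
        · exact Or.inr ⟨a, Or.inl rfl, h⟩
    have hdisj : Disjoint (A ∪ ⋃ i ∈ s, Y i) (Y a \ A) := by
      rw [Set.disjoint_left]
      rintro z (h | h) ⟨h2, h3⟩
      · exact h3 h
      · simp only [Set.mem_iUnion, exists_prop] at h
        obtain ⟨i, hi, hz⟩ := h
        have hia : i ≠ a := by
          rintro rfl
          exact ha hi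
        exact h3 (hd i (Finset.mem_insert_of_mem hi) a (Finset.mem_insert_self _ _) hia ⟨hz, h2⟩)
    rw [h1, Set.ncard_union_eq hdisj (Set.toFinite _) (Set.toFinite _),
      ih (fun i hi j hj => hd i (Finset.mem_insert_of_mem hi) j (Finset.mem_insert_of_mem hj))]
    ring

end general

variable {F : Type*} [Field F] [Fintype F] {m : ℕ} [CharP F 2] [SzHyp F m]

theorem stabilizer_inf_eq : MulAction.stabilizer (Sz F m) (oInf F m) = Binf F m := by
  ext g
  rw [MulAction.mem_stabilizer_iff, mem_Binf']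

theorem card_Binf : Nat.card (Binf F m) = Fintype.card F ^ 2 * (Fintype.card F - 1) := card_stab_inf

theorem card_stab (p : Om F m) :
    Nat.card (MulAction.stabilizer (Sz F m) p) = Fintype.card F ^ 2 * (Fintype.card F - 1) := by
  obtain ⟨k, rfl⟩ := exists_conj_one p
  rw [MulAction.stabilizer_smul_eq_stabilizer_map_conj, card_conj, stabilizer_inf_eq, card_Binf]

/-- The center of `T`, as a subgroup of the whole group. -/
def Zsub (F : Type*) [Field F] [Fintype F] (m : ℕ) [CharP F 2] [SzHyp F m] : Subgroup (Sz F m) where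
  carrier := {g | ∃ b : F, g = tt 0 b}
  one_mem' := ⟨0, tt_zero.symm⟩
  mul_mem' := by
    rintro _ _ ⟨b, rfl⟩ ⟨b', rfl⟩
    refine ⟨b + b', ?_⟩
    rw [tt_mul, add_zero, mul_zero, add_zero]
  inv_mem' := by
    rintro _ ⟨b, rfl⟩
    refine ⟨b + phi m (0 : F) * 0, ?_⟩
    rw [tt_inv]

theorem mem_Zsub {g : Sz F m} : g ∈ Zsub F m ↔ ∃ b : F, g = tt 0 b := Iff.rfl

theorem card_Zsub : Nat.card (Zsub F m) = Fintype.card F := by
  rw [← Nat.card_eq_fintype_card]
  refine (Nat.card_eq_of_bijective (fun b : F => (⟨tt 0 b, b, rfl⟩ : Zsub F m)) ⟨?_, ?_⟩).symm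
  · intro a b hab
    exact (tt_inj (congrArg Subtype.val hab)).2
  · rintro ⟨_, b, rfl⟩
    exact ⟨b, rfl⟩

theorem conj_fix_of_Zsub {g : Sz F m} {b c : F} (hb : b ≠ 0) (hc : c ≠ 0)
    (h : g * tt 0 b * g⁻¹ = tt 0 c) : g • oInf F m = oInf F m := by
  have h1 : (g * tt 0 b * g⁻¹ : Sz F m) • (g • oInf F m) = g • oInf F m := conj_tt_fix g 0 b
  rw [h] at h1
  exact tt_zero_fix hc h1

theorem isTI_Zsub : IsTI (Zsub F m) := by
  rintro g _ ⟨b, rfl⟩ hb1 ⟨c, hc⟩
  have hb : b ≠ 0 := by
    rintro rfl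
    exact hb1 tt_zero
  have hc0 : c ≠ 0 := by
    rintro rfl
    rw [tt_zero] at hc
    exact conj_ne_one hb1 hc
  have hg : g • oInf F m = oInf F m := conj_fix_of_Zsub hb hc0 hc
  obtain ⟨s, t, α, rfl⟩ := stab_inf hg
  rw [Subgroup.mem_normalizer_iff]
  intro z
  constructor
  · rintro ⟨d, rfl⟩
    rw [conj_stab_tt]
    exact ⟨_, rfl⟩
  · rintro ⟨d, hd⟩
    have hinv : (tt s t * hh α : Sz F m)⁻¹ • oInf F m = oInf F m := by
      rw [inv_smul_eq_iff]
      exact hg.symm
    obtain ⟨s', t', α', he⟩ := stab_inf hinv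
    have h2 : z = (tt s t * hh α : Sz F m)⁻¹ * tt 0 d * ((tt s t * hh α : Sz F m)⁻¹)⁻¹ := by
      rw [← hd]
      group
    rw [h2, he, conj_stab_tt]
    exact ⟨_, rfl⟩

theorem normalizer_Zsub : normalizer ((Zsub F m : Subgroup (Sz F m)) : Set (Sz F m)) = Binf F m := by
  ext g
  rw [mem_Binf']
  constructor
  · intro hg
    have h1 : (tt 0 1 : Sz F m) ∈ Zsub F m := ⟨1, rfl⟩
    obtain ⟨c, hc⟩ := (Subgroup.mem_normalizer_iff.1 hg _).1 h1
    have hc0 : c ≠ 0 := by
      rintro rfl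
      rw [tt_zero] at hc
      refine conj_ne_one (g := g) ?_ hc
      intro h
      exact one_ne_zero (tt_eq_one h).2
    exact conj_fix_of_Zsub one_ne_zero hc0 hc
  · intro hg
    obtain ⟨s, t, α, rfl⟩ := stab_inf hg
    exact isTI_Zsub _ (tt 0 1) ⟨1, rfl⟩ (fun h => one_ne_zero (tt_eq_one h).2)
      (by rw [conj_stab_tt]; exact ⟨_, rfl⟩)

theorem ucl_Zsub : ucl (Zsub F m) = {x : Sz F m | orderOf x = 2} := by
  ext x
  rw [mem_ucl, Set.mem_setOf_eq]
  constructor
  · rintro ⟨h1, g, b, hb⟩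
    rw [← orderOf_conj_eq g x, hb]
    apply orderOf_tt_zero
    rintro rfl
    rw [tt_zero] at hb
    exact conj_ne_one h1 hb
  · intro h
    obtain ⟨k, b, hb, rfl⟩ := order_two_rep h
    refine ⟨?_, k⁻¹, b, by group⟩
    intro h1
    rw [h1, orderOf_one] at h
    omega

theorem ucl_Tsub_eq : ucl (Tsub F m) = {x : Sz F m | orderOf x = 2} ∪ {x : Sz F m | orderOf x = 4} := by
  ext x
  rw [mem_ucl, Set.mem_union, Set.mem_setOf_eq, Set.mem_setOf_eq]
  constructor
  · rintro ⟨h1, g, a, b, hb⟩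
    rw [← orderOf_conj_eq g x, hb]
    by_cases ha : a = 0
    · subst ha
      left
      apply orderOf_tt_zero
      rintro rfl
      rw [tt_zero] at hb
      exact conj_ne_one h1 hb
    · exact Or.inr (orderOf_tt_ne ha b)
  · rintro h
    have hne : x ≠ 1 := by
      rintro rfl
      rw [orderOf_one] at h
      omega
    refine ⟨hne, ?_⟩
    rcases h with h | h
    · obtain ⟨k, b, hb, rfl⟩ := order_two_rep h
      exact ⟨k⁻¹, 0, b, by group⟩
    · obtain ⟨k, a, b, hb, rfl⟩ := order_four_rep h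
      exact ⟨k⁻¹, a, b, by group⟩

theorem card_order_two :
    {x : Sz F m | orderOf x = 2}.ncard = (Fintype.card F ^ 2 + 1) * (Fintype.card F - 1) := by
  have h8 := card_F_ge F m
  have h := card_ucl (isTI_Zsub (F := F) (m := m))
  rw [ucl_Zsub, normalizer_Zsub, card_Binf, card_Sz, card_Zsub] at h
  have hpos : 0 < Fintype.card F ^ 2 * (Fintype.card F - 1) := by
    apply Nat.mul_pos (by positivity) (by omega)
  apply Nat.eq_of_mul_eq_mul_right hpos
  rw [h]
  ring

theorem card_order_four :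
    {x : Sz F m | orderOf x = 4}.ncard =
      (Fintype.card F ^ 2 + 1) * (Fintype.card F * (Fintype.card F - 1)) := by
  have h8 := card_F_ge F m
  have h := card_ucl (isTI_Tsub (F := F) (m := m))
  rw [normalizer_Tsub, card_Binf, card_Sz, card_Tsub, ucl_Tsub_eq, Set.ncard_union_eq, card_order_two] at h
  · have hpos : 0 < Fintype.card F ^ 2 * (Fintype.card F - 1) := by
      apply Nat.mul_pos (by positivity) (by omega)
    obtain ⟨d, hd⟩ : ∃ d, Fintype.card F = d + 1 := ⟨Fintype.card F - 1, by omega⟩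
    rw [hd] at h ⊢
    simp only [Nat.add_sub_cancel] at h ⊢
    have h1 : (d + 1) ^ 2 - 1 = d * (d + 2) := by
      have : (d + 1) ^ 2 = d * (d + 2) + 1 := by ring
      rw [this, Nat.add_sub_cancel]
    rw [h1] at h
    have h2 : ((d + 1) ^ 2 + 1) * d + {x : Sz F m | orderOf x = 4}.ncard =
        ((d + 1) ^ 2 + 1) * (d * (d + 2)) := by
      have hpos' : 0 < (d + 1) ^ 2 * d := by
        rw [hd] at hpos
        simpa using hpos
      apply Nat.eq_of_mul_eq_mul_right hpos'
      rw [h]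
      ring
    have h3 : ((d + 1) ^ 2 + 1) * (d * (d + 2)) = ((d + 1) ^ 2 + 1) * d + ((d + 1) ^ 2 + 1) * ((d + 1) * d) := by
      ring
    rw [h3] at h2
    exact Nat.add_left_cancel h2
  · rw [Set.disjoint_left]
    intro x (h1 : orderOf x = 2) (h2 : orderOf x = 4)
    omega

/-- In a torus normalizer the involutions form a coset of the torus. -/
theorem card_invol_inf_of {U : Subgroup (Sz F m)} (hU : IsTorus U) {z₀ : Sz F m}
    (hz₀ : orderOf z₀ = 2) (hz₀N : z₀ ∈ normalizer (U : Set (Sz F m))) :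
    ({x : Sz F m | orderOf x = 2} ∩ (normalizer (U : Set (Sz F m)) : Set (Sz F m))).ncard =
      Nat.card U := by
  have hz2 : z₀ * z₀ = 1 := by
    rw [← pow_two, ← hz₀]
    exact pow_orderOf_eq_one z₀
  have hzinv : z₀⁻¹ = z₀ := inv_eq_of_mul_eq_one_left hz2
  have hinj : Function.Injective (fun u : Sz F m => z₀ * u) := fun a b hab => mul_left_cancel hab
  have hzU : z₀ ∉ U := by
    intro h
    have := hU.odd_orderOf h
    rw [hz₀] at this
    exact absurd this (by decide)
  have hset : {x : Sz F m | orderOf x = 2} ∩ (normalizer (U : Set (Sz F m)) : Set (Sz F m)) =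
      (fun u : Sz F m => z₀ * u) '' (U : Set (Sz F m)) := by
    ext y
    simp only [Set.mem_inter_iff, Set.mem_setOf_eq, SetLike.mem_coe, Set.mem_image]
    constructor
    · rintro ⟨hy, hyN⟩
      refine ⟨z₀⁻¹ * y, ?_, by group⟩
      obtain ⟨w, hw, hw1⟩ := hU.exists_ne_one
      apply hU.centralizer_le hw hw1
      rw [Subgroup.mem_centralizer_singleton_iff]
      -- `y` and `z₀` both invert `w`
      have h1 := invol_inverts hU hy hyN hw
      have h2 := invol_inverts hU hz₀ hz₀N ((U).inv_mem hw)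
      have h3 : y * w = w⁻¹ * y := by
        rw [← h1]
        group
      have h4 : z₀ * w⁻¹ = w * z₀ := by
        rw [inv_inv] at h2
        calc z₀ * w⁻¹ = (z₀ * w⁻¹ * z₀⁻¹) * z₀ := by group
          _ = w * z₀ := by rw [h2]
      rw [hzinv]
      calc z₀ * y * w = z₀ * (y * w) := by group
        _ = z₀ * (w⁻¹ * y) := by rw [h3]
        _ = (z₀ * w⁻¹) * y := by group
        _ = (w * z₀) * y := by rw [h4]
        _ = w * (z₀ * y) := by group
    · rintro ⟨u, hu, rfl⟩
      have hN : z₀ * u ∈ normalizer (U : Set (Sz F m)) :=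
        (normalizer (U : Set (Sz F m))).mul_mem hz₀N (Subgroup.le_normalizer hu)
      refine ⟨?_, hN⟩
      haveI : Fact (Nat.Prime 2) := ⟨Nat.prime_two⟩
      apply orderOf_eq_prime
      · have h1 := invol_inverts hU hz₀ hz₀N hu
        rw [hzinv] at h1
        calc (z₀ * u) ^ 2 = (z₀ * u * z₀) * u := by
              rw [pow_two]; group
          _ = u⁻¹ * u := by rw [h1]
          _ = 1 := by group
      · intro h
        apply hzU
        have : z₀ = u⁻¹ := eq_inv_of_mul_eq_one_left h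
        rw [this]
        exact U.inv_mem hu
  rw [hset, Set.ncard_image_of_injective _ hinj]
  rfl

theorem two_dvd_card_normalizer {U : Subgroup (Sz F m)} (hU : IsTorus U) :
    2 ∣ Nat.card (normalizer (U : Set (Sz F m))) := by
  rcases torus_type hU with ⟨-, h⟩ | ⟨-, h⟩
  · rw [h]
    exact Dvd.intro _ rfl
  · rw [h]
    exact ⟨2 * Nat.card U, by ring⟩

theorem card_invol_inf {U : Subgroup (Sz F m)} (hU : IsTorus U) :
    ({x : Sz F m | orderOf x = 2} ∩ (normalizer (U : Set (Sz F m)) : Set (Sz F m))).ncard =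
      Nat.card U := by
  haveI : Fact (Nat.Prime 2) := ⟨Nat.prime_two⟩
  obtain ⟨⟨z, hzN⟩, hz⟩ := exists_prime_orderOf_dvd_card' 2 (two_dvd_card_normalizer hU)
  have hz' : orderOf z = 2 := (Subgroup.orderOf_mk z hzN).symm.trans hz
  exact card_invol_inf_of hU hz' hzN

theorem card_four_inf {U : Subgroup (Sz F m)} (hU : IsTorus U) :
    ({x : Sz F m | orderOf x = 4} ∩ (normalizer (U : Set (Sz F m)) : Set (Sz F m))).ncard +
      2 * Nat.card U = Nat.card (normalizer (U : Set (Sz F m))) := by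
  have hpart : (normalizer (U : Set (Sz F m)) : Set (Sz F m)) = (U : Set (Sz F m)) ∪
      (({x : Sz F m | orderOf x = 2} ∩ (normalizer (U : Set (Sz F m)) : Set (Sz F m))) ∪
       ({x : Sz F m | orderOf x = 4} ∩ (normalizer (U : Set (Sz F m)) : Set (Sz F m)))) := by
    ext y
    constructor
    · intro h
      rcases orderOf_cases y with h1 | h1 | h1
      · exact Or.inl (hU.mem_of_normalizer h h1)
      · exact Or.inr (Or.inl ⟨h1, h⟩)
      · exact Or.inr (Or.inr ⟨h1, h⟩)
    · rintro (h | h | h)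
      · exact Subgroup.le_normalizer h
      · exact h.2
      · exact h.2
  have hc : Nat.card (normalizer (U : Set (Sz F m))) =
      (normalizer (U : Set (Sz F m)) : Set (Sz F m)).ncard := (Nat.card_coe_set_eq _).symm
  have hcU : Nat.card U = (U : Set (Sz F m)).ncard := (Nat.card_coe_set_eq _).symm
  rw [hc, hcU]
  conv_rhs => rw [hpart]
  have hodd : ∀ y ∈ U, ¬ (orderOf y = 2 ∨ orderOf y = 4) := by
    intro y hy h
    have := hU.odd_orderOf hy
    rcases h with h | h <;> rw [h] at this <;> exact absurd this (by decide)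
  rw [Set.ncard_union_eq, Set.ncard_union_eq, card_invol_inf hU, hcU]
  · ring
  · rw [Set.disjoint_left]
    rintro y ⟨h1, -⟩ ⟨h2, -⟩
    have h1' : orderOf y = 2 := h1
    have h2' : orderOf y = 4 := h2
    omega
  · rw [Set.disjoint_left]
    rintro y hy (⟨h1, -⟩ | ⟨h1, -⟩)
    · exact hodd y hy (Or.inl h1)
    · exact hodd y hy (Or.inr h1)

/-- The number of tori of order `d` whose normalizer contains `x`. -/
noncomputable def nT (x : Sz F m) (d : ℕ) : ℕ :=
  {U : Subgroup (Sz F m) | U ∈ {V : Subgroup (Sz F m) | IsTorus V ∧ Nat.card V = d} ∧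
    x ∈ normalizer (U : Set (Sz F m))}.ncard

theorem nT_conj (x k : Sz F m) (d : ℕ) : nT (k * x * k⁻¹) d = nT x d := by
  unfold nT
  have hinj : Function.Injective (fun U : Subgroup (Sz F m) => U.map (MulAut.conj k).toMonoidHom) :=
    Subgroup.map_injective (MulAut.conj k).injective
  rw [← Set.ncard_image_of_injective {U : Subgroup (Sz F m) | U ∈ {V : Subgroup (Sz F m) | IsTorus V ∧ Nat.card V = d} ∧
    x ∈ normalizer (U : Set (Sz F m))} hinj]
  congr 1
  ext V
  simp only [Set.mem_setOf_eq, Set.mem_image]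
  constructor
  · rintro ⟨⟨h1, h2⟩, h3⟩
    refine ⟨V.map (MulAut.conj k⁻¹).toMonoidHom, ⟨⟨h1.conj _, by rw [card_conj, h2]⟩, ?_⟩, ?_⟩
    · rw [mem_normalizer_map_conj]
      have h4 : k⁻¹⁻¹ * x * k⁻¹ = k * x * k⁻¹ := by rw [inv_inv]
      rw [h4]
      exact h3
    · ext z
      constructor
      · rintro ⟨_, ⟨w, hw, rfl⟩, rfl⟩
        have e : (MulAut.conj k).toMonoidHom ((MulAut.conj k⁻¹).toMonoidHom w) = w := by
          change k * (k⁻¹ * w * k⁻¹⁻¹) * k⁻¹ = w
          group
        rw [e]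
        exact hw
      · intro hz
        refine ⟨(MulAut.conj k⁻¹).toMonoidHom z, ⟨z, hz, rfl⟩, ?_⟩
        change k * (k⁻¹ * z * k⁻¹⁻¹) * k⁻¹ = z
        group
  · rintro ⟨U, ⟨⟨h1, h2⟩, h3⟩, rfl⟩
    refine ⟨⟨h1.conj k, by rw [card_conj, h2]⟩, ?_⟩
    rw [mem_normalizer_map_conj]
    have e : k⁻¹ * (k * x * k⁻¹) * k = x := by group
    rw [e]
    exact h3

theorem nT_inv (x : Sz F m) (d : ℕ) : nT x⁻¹ d = nT x d := by
  unfold nT
  congr 1
  ext U
  simp only [Set.mem_setOf_eq, inv_mem_iff]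

theorem tori_class {U₀ : Subgroup (Sz F m)} (hU₀ : IsTorus U₀) :
    (∀ U ∈ {V : Subgroup (Sz F m) | IsTorus V ∧ Nat.card V = Nat.card U₀},
        ∃ k : Sz F m, U = U₀.map (MulAut.conj k).toMonoidHom) ∧
    (∀ k : Sz F m, U₀.map (MulAut.conj k).toMonoidHom ∈
        {V : Subgroup (Sz F m) | IsTorus V ∧ Nat.card V = Nat.card U₀}) := by
  constructor
  · rintro U ⟨h1, h2⟩
    exact torus_conj hU₀ h1 h2.symm
  · intro k
    exact ⟨hU₀.conj k, card_conj _ _⟩

/-- The count for involutions. -/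
theorem nT_two {x : Sz F m} (hx : orderOf x = 2) {U₀ : Subgroup (Sz F m)} (hU₀ : IsTorus U₀) :
    nT x (Nat.card U₀) * Nat.card (normalizer (U₀ : Set (Sz F m))) =
      Fintype.card F ^ 2 * Nat.card U₀ := by
  have h8 := card_F_ge F m
  obtain ⟨h1, h2⟩ := tori_class hU₀
  have h := double_count _ U₀ h1 h2 {y : Sz F m | orderOf y = 2}
    (by
      intro y hy k
      exact (orderOf_conj_eq k y).trans hy)
    (n := nT x (Nat.card U₀))
    (by
      intro y hy
      obtain ⟨k, rfl⟩ := conj_order_two hx hy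
      exact nT_conj x k _)
  rw [card_order_two, card_invol_inf hU₀, card_Sz] at h
  have hpos : 0 < (Fintype.card F ^ 2 + 1) * (Fintype.card F - 1) :=
    Nat.mul_pos (by positivity) (by omega)
  apply Nat.eq_of_mul_eq_mul_left hpos
  calc (Fintype.card F ^ 2 + 1) * (Fintype.card F - 1) * (nT x (Nat.card U₀) * Nat.card (normalizer (U₀ : Set (Sz F m))))
      = nT x (Nat.card U₀) * ((Fintype.card F ^ 2 + 1) * (Fintype.card F - 1)) * Nat.card (normalizer (U₀ : Set (Sz F m))) := by ring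
    _ = _ := by rw [h]; ring

/-- The count for elements of order four. -/
theorem nT_four {x : Sz F m} (hx : orderOf x = 4) {U₀ : Subgroup (Sz F m)} (hU₀ : IsTorus U₀) :
    nT x (Nat.card U₀) * Nat.card (normalizer (U₀ : Set (Sz F m))) =
      Fintype.card F *
        ({y : Sz F m | orderOf y = 4} ∩ (normalizer (U₀ : Set (Sz F m)) : Set (Sz F m))).ncard := by
  have h8 := card_F_ge F m
  obtain ⟨h1, h2⟩ := tori_class hU₀
  have h := double_count _ U₀ h1 h2 {y : Sz F m | orderOf y = 4}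
    (by
      intro y hy k
      exact (orderOf_conj_eq k y).trans hy)
    (n := nT x (Nat.card U₀))
    (by
      intro y hy
      obtain ⟨k, rfl | rfl⟩ := conj_order_four hx hy
      · exact nT_conj x k _
      · exact (nT_conj x⁻¹ k _).trans (nT_inv x _))
  rw [card_order_four, card_Sz] at h
  have hpos : 0 < (Fintype.card F ^ 2 + 1) * (Fintype.card F * (Fintype.card F - 1)) :=
    Nat.mul_pos (by positivity) (Nat.mul_pos (by omega) (by omega))
  apply Nat.eq_of_mul_eq_mul_left hpos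
  calc (Fintype.card F ^ 2 + 1) * (Fintype.card F * (Fintype.card F - 1)) * (nT x (Nat.card U₀) * Nat.card (normalizer (U₀ : Set (Sz F m))))
      = nT x (Nat.card U₀) * ((Fintype.card F ^ 2 + 1) * (Fintype.card F * (Fintype.card F - 1))) * Nat.card (normalizer (U₀ : Set (Sz F m))) := by ring
    _ = _ := by rw [h]; ring

theorem torus_stab_trivial {U : Subgroup (Sz F m)} (hU : IsTorus U) {x : Sz F m}
    (hxN : x ∈ normalizer (U : Set (Sz F m))) {p : Om F m} (hp : x • p = p)
    (huniq : ∀ p', x • p' = p' → p' = p) {u : Sz F m} (hu : u ∈ U) (hup : u • p = p) : u = 1 := by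
  by_contra hu1
  rcases trichotomy (g := u) with h | h | ⟨r, r', hne, hr, hr'⟩
  · exact h p hup
  · exact h.not_odd hu1 (hU.odd_orderOf hu)
  · have : ∃ p', p' ≠ p ∧ u • p' = p' := by
      rcases dd_fix_only hne (mem_dd.2 ⟨hr, hr'⟩) hu1 hup with rfl | rfl
      · exact ⟨r', hne.symm, hr'⟩
      · exact ⟨r, hne, hr⟩
    obtain ⟨p', hne', hp'⟩ := this
    have hUd : U = dd p p' := eq_dd_of_isTorus hU hu hu1 hne'.symm hup hp'
    rw [hUd] at hxN
    rcases normalizer_dd_cases hne'.symm hxN with ⟨h1, h2⟩ | ⟨h1, h2⟩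
    · exact hne' (huniq p' h2)
    · exact hne' (h1.symm.trans hp)

theorem pow_four_eq_one_of_not_odd {x : Sz F m} (h : ¬ Odd (orderOf x)) :
    orderOf x = 2 ^ 1 ∨ orderOf x = 2 ^ 2 := by
  rcases orderOf_cases x with h1 | h1 | h1
  · exact absurd h1 h
  · exact Or.inl h1
  · exact Or.inr h1

theorem card_inf_stab {U : Subgroup (Sz F m)} (hU : IsTorus U) {x : Sz F m}
    (hxN : x ∈ normalizer (U : Set (Sz F m))) (hnodd : ¬ Odd (orderOf x)) {p : Om F m}
    (hp : x • p = p) (huniq : ∀ p', x • p' = p' → p' = p) :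
    Nat.card (normalizer (U : Set (Sz F m)) ⊓ MulAction.stabilizer (Sz F m) p : Subgroup (Sz F m)) *
      Nat.card U = Nat.card (normalizer (U : Set (Sz F m))) := by
  classical
  haveI : Fact (Nat.Prime 2) := ⟨Nat.prime_two⟩
  set N := normalizer (U : Set (Sz F m)) with hN
  set V := N ⊓ MulAction.stabilizer (Sz F m) p with hV
  have hup : Nat.card V * Nat.card U ≤ Nat.card N := by
    rw [← Nat.card_prod]
    refine Nat.card_le_card_of_injective (fun z : V × U =>
      (⟨z.1.1 * z.2.1, N.mul_mem z.1.2.1 (Subgroup.le_normalizer z.2.2)⟩ : N)) ?_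
    rintro ⟨⟨a, ha⟩, ⟨b, hb⟩⟩ ⟨⟨a', ha'⟩, ⟨b', hb'⟩⟩ h
    have h1 : a * b = a' * b' := congrArg Subtype.val h
    have h2 : a'⁻¹ * a = b' * b⁻¹ := by
      calc a'⁻¹ * a = a'⁻¹ * (a * b) * b⁻¹ := by group
        _ = a'⁻¹ * (a' * b') * b⁻¹ := by rw [h1]
        _ = b' * b⁻¹ := by group
    have hfix : (a'⁻¹ * a : Sz F m) • p = p :=
      (MulAction.stabilizer (Sz F m) p).mul_mem ((MulAction.stabilizer (Sz F m) p).inv_mem ha'.2) ha.2
    have h3 : b' * b⁻¹ = 1 := torus_stab_trivial hU hxN hp huniq (U.mul_mem hb' (U.inv_mem hb))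
      (by rw [← h2]; exact hfix)
    have h4 : a = a' := by
      rw [h3] at h2
      exact (inv_mul_eq_one.1 h2).symm
    have h5 : b' = b := mul_inv_eq_one.1 h3
    subst h4
    subst h5
    rfl
  have hcard : ∃ k : ℕ, Nat.card N = 2 ^ k * Nat.card U := by
    rcases torus_type hU with ⟨-, h⟩ | ⟨-, h⟩
    · exact ⟨1, by rw [h, pow_one]⟩
    · exact ⟨2, by rw [h]; norm_num⟩
  obtain ⟨k, hk⟩ := hcard
  let x' : N := ⟨x, hxN⟩
  have hord : orderOf x' = orderOf x := Subgroup.orderOf_mk x hxN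
  have hH : IsPGroup 2 (Subgroup.zpowers x') := by
    rcases pow_four_eq_one_of_not_odd hnodd with h | h
    · exact IsPGroup.of_card (n := 1) (by rw [Nat.card_zpowers, hord, h])
    · exact IsPGroup.of_card (n := 2) (by rw [Nat.card_zpowers, hord, h])
  obtain ⟨Q, hQ⟩ := hH.exists_le_sylow
  have hQc : 2 ^ k ∣ Nat.card Q := Q.pow_dvd_card_of_pow_dvd_card ⟨Nat.card U, hk⟩
  let R : Subgroup (Sz F m) := (Q : Subgroup N).map N.subtype
  have hRp : IsPGroup 2 R := Q.isPGroup'.map N.subtype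
  obtain ⟨r, hr⟩ := two_group_fix R hRp
  have hxR : x ∈ R := ⟨x', hQ (Subgroup.mem_zpowers x'), rfl⟩
  have hrp : r = p := huniq r (hr x hxR)
  have hRV : R ≤ V := by
    intro a ha
    refine ⟨?_, ?_⟩
    · obtain ⟨b, -, rfl⟩ := ha
      exact b.2
    · rw [← hrp]
      exact hr a ha
  have hRc : Nat.card R = Nat.card Q :=
    (Nat.card_congr (Subgroup.equivMapOfInjective (Q : Subgroup N) N.subtype N.subtype_injective).toEquiv).symm
  have hle : 2 ^ k ≤ Nat.card V := by
    have h1 : 2 ^ k ≤ Nat.card Q := Nat.le_of_dvd Nat.card_pos hQc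
    have h2 : Nat.card R ≤ Nat.card V := Subgroup.card_le_of_le hRV
    omega
  apply le_antisymm hup
  rw [hk]
  exact Nat.mul_le_mul_right _ hle

/-- What the normalizer of a torus adds to the stabilizer of a point. -/
def excess (q d : ℕ) : ℕ := if d = q - 1 then 2 * d - 2 else 4 * d - 4

theorem card_diff_stab {U : Subgroup (Sz F m)} (hU : IsTorus U) {x : Sz F m}
    (hxN : x ∈ normalizer (U : Set (Sz F m))) (hnodd : ¬ Odd (orderOf x)) {p : Om F m}
    (hp : x • p = p) (huniq : ∀ p', x • p' = p' → p' = p) :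
    ((normalizer (U : Set (Sz F m)) : Set (Sz F m)) \ (MulAction.stabilizer (Sz F m) p : Set (Sz F m))).ncard =
      excess (Fintype.card F) (Nat.card U) := by
  have h1 := card_inf_stab hU hxN hnodd hp huniq
  have h2 := Set.ncard_inter_add_ncard_diff_eq_ncard (normalizer (U : Set (Sz F m)) : Set (Sz F m))
    (MulAction.stabilizer (Sz F m) p : Set (Sz F m)) (Set.toFinite _)
  have h3 : ((normalizer (U : Set (Sz F m)) : Set (Sz F m)) ∩ (MulAction.stabilizer (Sz F m) p : Set (Sz F m))).ncard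
      = Nat.card (normalizer (U : Set (Sz F m)) ⊓ MulAction.stabilizer (Sz F m) p : Subgroup (Sz F m)) := by
    rw [← Subgroup.coe_inf]
    exact (Nat.card_coe_set_eq _).symm
  have h4 : (normalizer (U : Set (Sz F m)) : Set (Sz F m)).ncard = Nat.card (normalizer (U : Set (Sz F m))) :=
    (Nat.card_coe_set_eq _).symm
  rw [h3, h4] at h2
  have h5 := hU.five_le
  have h8 := card_F_ge F m
  obtain ⟨q, s, hq, hs, -, hs4, -, -, -, -⟩ := ar_base (hm_of F m)
  subst hs
  unfold excess
  rcases torus_type hU with ⟨h6, h7⟩ | ⟨h6, h7⟩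
  · rw [if_pos h6]
    rw [h7] at h1 h2
    have h9 : Nat.card (normalizer (U : Set (Sz F m)) ⊓ MulAction.stabilizer (Sz F m) p : Subgroup (Sz F m)) = 2 :=
      Nat.eq_of_mul_eq_mul_right (by omega) h1
    rw [h9] at h2
    omega
  · have hne : Nat.card U ≠ Fintype.card F - 1 := by
      omega
    rw [if_neg hne]
    rw [h7] at h1 h2
    have h9 : Nat.card (normalizer (U : Set (Sz F m)) ⊓ MulAction.stabilizer (Sz F m) p : Subgroup (Sz F m)) = 4 :=
      Nat.eq_of_mul_eq_mul_right (by omega) h1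
    rw [h9] at h2
    omega

theorem card_solSet_ty1 {x : Sz F m} (hnodd : ¬ Odd (orderOf x)) :
    (SolSet x).ncard = Fintype.card F ^ 2 * (Fintype.card F - 1) +
      (nT x (Fintype.card F - 1) * (2 * (Fintype.card F - 1) - 2) +
       (nT x (Fintype.card F + 2 ^ (m + 1) + 1) * (4 * (Fintype.card F + 2 ^ (m + 1) + 1) - 4) +
        nT x (Fintype.card F + 1 - 2 ^ (m + 1)) * (4 * (Fintype.card F + 1 - 2 ^ (m + 1)) - 4))) := by
  classical
  obtain ⟨p, hp, huniq⟩ := ty1_of_not_odd hnodd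
  rw [solSet_ty1 hp huniq]
  let A : Set (Subgroup (Sz F m)) := {U | IsTorus U ∧ x ∈ normalizer (U : Set (Sz F m))}
  let t : Finset (Subgroup (Sz F m)) := A.toFinite.toFinset
  have hmem : ∀ U, U ∈ t ↔ IsTorus U ∧ x ∈ normalizer (U : Set (Sz F m)) := by
    intro U
    simp [t, A]
  have hU : ⋃ U ∈ {U : Subgroup (Sz F m) | IsTorus U ∧ x ∈ normalizer (U : Set (Sz F m))},
      (normalizer (U : Set (Sz F m)) : Set (Sz F m)) =
      ⋃ U ∈ t, (normalizer (U : Set (Sz F m)) : Set (Sz F m)) := by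
    ext z
    simp only [Set.mem_iUnion, exists_prop, hmem, Set.mem_setOf_eq]
  rw [hU, card_union_family _ t (fun U => (normalizer (U : Set (Sz F m)) : Set (Sz F m)))]
  · have h1 : (MulAction.stabilizer (Sz F m) p : Set (Sz F m)).ncard =
        Fintype.card F ^ 2 * (Fintype.card F - 1) := by
      rw [← card_stab p]
      exact (Nat.card_coe_set_eq _).symm
    rw [h1]
    congr 1
    have h2 : ∑ U ∈ t, ((normalizer (U : Set (Sz F m)) : Set (Sz F m)) \
        (MulAction.stabilizer (Sz F m) p : Set (Sz F m))).ncard =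
        ∑ U ∈ t, excess (Fintype.card F) (Nat.card U) := by
      apply Finset.sum_congr rfl
      intro U hU
      obtain ⟨h3, h4⟩ := (hmem U).1 hU
      exact card_diff_stab h3 h4 hnodd hp huniq
    rw [h2]
    have h8 := card_F_ge F m
    obtain ⟨q, s, hq, hs, -, hs4, -, -, -, -⟩ := ar_base (hm_of F m)
    subst hs
    let D : Finset ℕ := {Fintype.card F - 1, Fintype.card F + 2 ^ (m + 1) + 1,
      Fintype.card F + 1 - 2 ^ (m + 1)}
    have hD : ∀ U ∈ t, Nat.card U ∈ D := by
      intro U hU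
      obtain ⟨h3, h4⟩ := (hmem U).1 hU
      rcases torus_type h3 with ⟨h6, h7⟩ | ⟨h6 | h6, h7⟩
      · simp only [D, Finset.mem_insert, Finset.mem_singleton]
        exact Or.inl h6
      · simp only [D, Finset.mem_insert, Finset.mem_singleton]
        exact Or.inr (Or.inl h6)
      · have : Nat.card U = Fintype.card F + 1 - 2 ^ (m + 1) := by omega
        simp only [D, Finset.mem_insert, Finset.mem_singleton]
        exact Or.inr (Or.inr this)
    rw [← Finset.sum_fiberwise_of_maps_to hD]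
    have hfib : ∀ d ∈ D, (t.filter (fun U : Subgroup (Sz F m) => Nat.card U = d)).sum
        (fun U : Subgroup (Sz F m) => excess (Fintype.card F) (Nat.card U)) =
        nT x d * excess (Fintype.card F) d := by
      intro d hd
      rw [Finset.sum_congr rfl (g := fun _ => excess (Fintype.card F) d)
        (by
          intro U hU
          rw [(Finset.mem_filter.1 hU).2])]
      rw [Finset.sum_const, smul_eq_mul]
      congr 1
      unfold nT
      rw [← Set.ncard_coe_finset]
      congr 1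
      ext U
      simp only [Finset.coe_filter, Set.mem_setOf_eq, hmem]
      constructor
      · rintro ⟨⟨h1, h2⟩, h3⟩
        exact ⟨⟨h1, h3⟩, h2⟩
      · rintro ⟨⟨h1, h2⟩, h3⟩
        exact ⟨⟨h1, h3⟩, h2⟩
    rw [Finset.sum_congr rfl hfib]
    have hn1 : Fintype.card F - 1 ∉ ({Fintype.card F + 2 ^ (m + 1) + 1, Fintype.card F + 1 - 2 ^ (m + 1)} : Finset ℕ) := by
      simp only [Finset.mem_insert, Finset.mem_singleton]
      omega
    have hn2 : Fintype.card F + 2 ^ (m + 1) + 1 ∉ ({Fintype.card F + 1 - 2 ^ (m + 1)} : Finset ℕ) := by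
      simp only [Finset.mem_singleton]
      omega
    rw [Finset.sum_insert hn1, Finset.sum_insert hn2, Finset.sum_singleton]
    unfold excess
    rw [if_pos rfl, if_neg (by omega), if_neg (by omega)]
  · intro U hU U' hU' hne y hy
    obtain ⟨h3, h4⟩ := (hmem U).1 hU
    obtain ⟨h5, h6⟩ := (hmem U').1 hU'
    exact fix_of_two_tori h3 h5 hne h4 h6 hy.1 hy.2 hp huniq

/-- A torus of each of the three orders. -/
theorem exists_tori (F : Type*) [Field F] [Fintype F] (m : ℕ) [CharP F 2] [SzHyp F m] :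
    (∃ U : Subgroup (Sz F m), IsTorus U ∧ Nat.card U = Fintype.card F - 1 ∧
      Nat.card (normalizer (U : Set (Sz F m))) = 2 * Nat.card U) ∧
    (∃ U : Subgroup (Sz F m), IsTorus U ∧ Nat.card U = Fintype.card F + 2 ^ (m + 1) + 1 ∧
      Nat.card (normalizer (U : Set (Sz F m))) = 4 * Nat.card U) ∧
    (∃ U : Subgroup (Sz F m), IsTorus U ∧ Nat.card U = Fintype.card F + 1 - 2 ^ (m + 1) ∧
      Nat.card (normalizer (U : Set (Sz F m))) = 4 * Nat.card U) := by
  have h8 := card_F_ge F m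
  obtain ⟨q, s, hq, hs, -, hs4, h2s, -, -, -⟩ := ar_base (hm_of F m)
  subst hs
  have hF := card_F (F := F) (m := m)
  refine ⟨?_, ?_, ?_⟩
  · have hne : oInf F m ≠ oZero F m := oZero_ne_inf.symm
    refine ⟨dd (oInf F m) (oZero F m), isTorus_dd hne, card_dd hne, ?_⟩
    rw [card_dd hne, card_normalizer_dd' hne]
  · obtain ⟨x, hx, hc⟩ := exists_fpf_of_card (m := m) (k := Fintype.card F + 2 ^ (m + 1) + 1) (Or.inl rfl)
    exact ⟨cen x, isTorus_cen hx, hc, by rw [card_normalizer_cen hx, mul_comm]⟩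
  · have h1 : Fintype.card F + 1 - 2 ^ (m + 1) + 2 ^ (m + 1) = Fintype.card F + 1 := by
      rw [← hF] at hq
      omega
    obtain ⟨x, hx, hc⟩ := exists_fpf_of_card (m := m) (k := Fintype.card F + 1 - 2 ^ (m + 1)) (Or.inr h1)
    exact ⟨cen x, isTorus_cen hx, hc, by rw [card_normalizer_cen hx, mul_comm]⟩

theorem card_solSet_two {x : Sz F m} (hx : orderOf x = 2) :
    (SolSet x).ncard = Fintype.card F ^ 2 * (4 * Fintype.card F - 3) := by
  have hnodd : ¬ Odd (orderOf x) := by
    rw [hx]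
    decide
  rw [card_solSet_ty1 hnodd]
  have h8 := card_F_ge F m
  obtain ⟨q, s, hq, hs, -, hs4, h2s, -, -, -⟩ := ar_base (hm_of F m)
  have hF := card_F (F := F) (m := m)
  rw [← hF] at hq
  subst hq
  subst hs
  obtain ⟨⟨U₀, hU₀, hc₀, hN₀⟩, ⟨U₁, hU₁, hc₁, hN₁⟩, ⟨U₂, hU₂, hc₂, hN₂⟩⟩ := exists_tori F m
  have h0 := nT_two hx hU₀
  have h1 := nT_two hx hU₁
  have h2 := nT_two hx hU₂
  rw [hN₀] at h0
  rw [hN₁] at h1
  rw [hN₂] at h2
  have e0 : 2 * nT x (Nat.card U₀) = Fintype.card F ^ 2 := by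
    apply Nat.eq_of_mul_eq_mul_right (Nat.card_pos (α := U₀))
    rw [← h0]
    ring
  have e1 : 4 * nT x (Nat.card U₁) = Fintype.card F ^ 2 := by
    apply Nat.eq_of_mul_eq_mul_right (Nat.card_pos (α := U₁))
    rw [← h1]
    ring
  have e2 : 4 * nT x (Nat.card U₂) = Fintype.card F ^ 2 := by
    apply Nat.eq_of_mul_eq_mul_right (Nat.card_pos (α := U₂))
    rw [← h2]
    ring
  rw [hc₀] at e0
  rw [hc₁] at e1
  rw [hc₂] at e2
  generalize Fintype.card F = q at *
  generalize 2 ^ (m + 1) = s at *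
  have a0 : 2 * (q - 1) - 2 = 2 * (q - 2) := by omega
  have a1 : 4 * (q + s + 1) - 4 = 4 * (q + s) := by omega
  have a2 : 4 * (q + 1 - s) - 4 = 4 * (q - s) := by omega
  rw [a0, a1, a2]
  have b0 : nT x (q - 1) * (2 * (q - 2)) = q ^ 2 * (q - 2) := by
    rw [← e0]
    ring
  have b1 : nT x (q + s + 1) * (4 * (q + s)) = q ^ 2 * (q + s) := by
    rw [← e1]
    ring
  have b2 : nT x (q + 1 - s) * (4 * (q - s)) = q ^ 2 * (q - s) := by
    rw [← e2]
    ring
  rw [b0, b1, b2, ← Nat.mul_add, ← Nat.mul_add, ← Nat.mul_add]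
  congr 1
  omega

theorem card_solSet_four {x : Sz F m} (hx : orderOf x = 4) :
    (SolSet x).ncard = Fintype.card F ^ 2 * (Fintype.card F + 3) := by
  have hnodd : ¬ Odd (orderOf x) := by
    rw [hx]
    decide
  rw [card_solSet_ty1 hnodd]
  have h8 := card_F_ge F m
  obtain ⟨q, s, hq, hs, -, hs4, h2s, -, -, -⟩ := ar_base (hm_of F m)
  have hF := card_F (F := F) (m := m)
  rw [← hF] at hq
  subst hq
  subst hs
  obtain ⟨⟨U₀, hU₀, hc₀, hN₀⟩, ⟨U₁, hU₁, hc₁, hN₁⟩, ⟨U₂, hU₂, hc₂, hN₂⟩⟩ := exists_tori F m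
  have h0 := nT_four hx hU₀
  have h1 := nT_four hx hU₁
  have h2 := nT_four hx hU₂
  have c0 := card_four_inf hU₀
  have c1 := card_four_inf hU₁
  have c2 := card_four_inf hU₂
  rw [hN₀] at h0 c0
  rw [hN₁] at h1 c1
  rw [hN₂] at h2 c2
  have d0 : ({y : Sz F m | orderOf y = 4} ∩ (normalizer (U₀ : Set (Sz F m)) : Set (Sz F m))).ncard = 0 := by
    omega
  have d1 : ({y : Sz F m | orderOf y = 4} ∩ (normalizer (U₁ : Set (Sz F m)) : Set (Sz F m))).ncard = 2 * Nat.card U₁ := by
    omega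
  have d2 : ({y : Sz F m | orderOf y = 4} ∩ (normalizer (U₂ : Set (Sz F m)) : Set (Sz F m))).ncard = 2 * Nat.card U₂ := by
    omega
  rw [d0, mul_zero] at h0
  rw [d1] at h1
  rw [d2] at h2
  have e0 : nT x (Nat.card U₀) = 0 := by
    rcases Nat.mul_eq_zero.1 h0 with h | h
    · exact h
    · exfalso
      have := hU₀.five_le
      omega
  have e1 : 2 * nT x (Nat.card U₁) = Fintype.card F := by
    apply Nat.eq_of_mul_eq_mul_right (Nat.mul_pos (by norm_num : 0 < 2) (Nat.card_pos (α := U₁)))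
    calc 2 * nT x (Nat.card U₁) * (2 * Nat.card U₁) = nT x (Nat.card U₁) * (4 * Nat.card U₁) := by ring
      _ = _ := h1
  have e2 : 2 * nT x (Nat.card U₂) = Fintype.card F := by
    apply Nat.eq_of_mul_eq_mul_right (Nat.mul_pos (by norm_num : 0 < 2) (Nat.card_pos (α := U₂)))
    calc 2 * nT x (Nat.card U₂) * (2 * Nat.card U₂) = nT x (Nat.card U₂) * (4 * Nat.card U₂) := by ring
      _ = _ := h2
  rw [hc₀] at e0
  rw [hc₁] at e1
  rw [hc₂] at e2
  rw [e0, zero_mul, zero_add]
  generalize Fintype.card F = q at *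
  generalize 2 ^ (m + 1) = s at *
  have a1 : 4 * (q + s + 1) - 4 = 2 * (2 * (q + s)) := by omega
  have a2 : 4 * (q + 1 - s) - 4 = 2 * (2 * (q - s)) := by omega
  rw [a1, a2]
  have b1 : nT x (q + s + 1) * (2 * (2 * (q + s))) = q * (2 * (q + s)) := by
    calc nT x (q + s + 1) * (2 * (2 * (q + s))) = (2 * nT x (q + s + 1)) * (2 * (q + s)) := by ring
      _ = _ := by rw [e1]
  have b2 : nT x (q + 1 - s) * (2 * (2 * (q - s))) = q * (2 * (q - s)) := by
    calc nT x (q + 1 - s) * (2 * (2 * (q - s))) = (2 * nT x (q + 1 - s)) * (2 * (q - s)) := by ring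
      _ = _ := by rw [e2]
  rw [b1, b2, ← Nat.mul_add]
  have a3 : 2 * (q + s) + 2 * (q - s) = 4 * q := by omega
  rw [a3]
  obtain ⟨d, rfl⟩ : ∃ d, q = d + 1 := ⟨q - 1, by omega⟩
  simp only [Nat.add_sub_cancel]
  ring

theorem card_solSet_ty2 {x : Sz F m} (h1 : x ≠ 1) {p p' : Om F m} (hne : p ≠ p') (hp : x • p = p)
    (hp' : x • p' = p') :
    (SolSet x).ncard = 2 * Fintype.card F ^ 2 * (Fintype.card F - 1) := by
  rw [solSet_ty2 h1 hne hp hp']
  have h8 := card_F_ge F m
  set A : Set (Sz F m) := (MulAction.stabilizer (Sz F m) p : Set (Sz F m)) with hA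
  set B : Set (Sz F m) := (MulAction.stabilizer (Sz F m) p' : Set (Sz F m)) with hB
  set C : Set (Sz F m) := (normalizer ((dd p p' : Subgroup (Sz F m)) : Set (Sz F m)) : Set (Sz F m)) with hC
  set D : Set (Sz F m) := ((dd p p' : Subgroup (Sz F m)) : Set (Sz F m)) with hD
  have cA : A.ncard = Fintype.card F ^ 2 * (Fintype.card F - 1) := by
    rw [← card_stab p]
    exact (Nat.card_coe_set_eq _).symm
  have cB : B.ncard = Fintype.card F ^ 2 * (Fintype.card F - 1) := by
    rw [← card_stab p']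
    exact (Nat.card_coe_set_eq _).symm
  have cC : C.ncard = 2 * (Fintype.card F - 1) := by
    rw [← card_normalizer_dd' hne]
    exact (Nat.card_coe_set_eq _).symm
  have cD : D.ncard = Fintype.card F - 1 := by
    rw [← card_dd hne]
    exact (Nat.card_coe_set_eq _).symm
  have hAB : A ∩ B = D := by
    ext g
    exact (mem_dd (p := p) (p' := p') (g := g)).symm
  have hDC : D ⊆ C := fun g hg => Subgroup.le_normalizer hg
  have h2 := Set.ncard_union_add_ncard_inter A B
  rw [hAB, cA, cB, cD] at h2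
  have hCdiff : C \ (A ∪ B) = C \ D := by
    ext g
    simp only [Set.mem_diff, Set.mem_union]
    constructor
    · rintro ⟨h3, h4⟩
      refine ⟨h3, fun h5 => h4 (Or.inl ?_)⟩
      exact (mem_dd.1 h5).1
    · rintro ⟨h3, h4⟩
      refine ⟨h3, ?_⟩
      rintro (h5 | h5)
      · have h5' : g • p = p := h5
        rcases normalizer_dd_cases hne h3 with ⟨h6, h7⟩ | ⟨h6, h7⟩
        · exact h4 (mem_dd.2 ⟨h6, h7⟩)
        · exact hne (h5'.symm.trans h6)
      · have h5' : g • p' = p' := h5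
        rcases normalizer_dd_cases hne h3 with ⟨h6, h7⟩ | ⟨h6, h7⟩
        · exact h4 (mem_dd.2 ⟨h6, h7⟩)
        · exact hne (h7.symm.trans h5')
  have h3 : A ∪ B ∪ C = (A ∪ B) ∪ (C \ D) := by
    rw [← hCdiff, Set.union_diff_self]
  have h4 : Disjoint (A ∪ B) (C \ D) := by
    rw [← hCdiff]
    exact Set.disjoint_sdiff_right
  have h5 := Set.ncard_diff_add_ncard_of_subset hDC
  rw [cC, cD] at h5
  rw [h3, Set.ncard_union_eq h4]
  have e : 2 * Fintype.card F ^ 2 * (Fintype.card F - 1) =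
      Fintype.card F ^ 2 * (Fintype.card F - 1) + Fintype.card F ^ 2 * (Fintype.card F - 1) := by
    ring
  rw [e]
  omega

theorem ty2_of_dvd {x : Sz F m} (h1 : x ≠ 1) (hd : orderOf x ∣ Fintype.card F - 1) :
    ∃ p p' : Om F m, p ≠ p' ∧ x • p = p ∧ x • p' = p' := by
  have h8 := card_F_ge F m
  have hev := even_card_F F m
  have hoddq : Odd (Fintype.card F - 1) := by
    obtain ⟨c, hc⟩ := hev
    exact ⟨c - 1, by omega⟩
  have hodd : Odd (orderOf x) := Odd.of_dvd_nat hoddq hd
  rcases trichotomy (g := x) with h | h | h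
  · exfalso
    have h2 : orderOf x ∣ Fintype.card F ^ 2 + 1 := by
      have h3 : orderOf x ∣ Nat.card (cen x) := by
        have := Subgroup.orderOf_dvd_natCard (cen x) (self_mem_cen x)
        exact this
      exact h3.trans (card_cen_dvd h)
    have h3 := ar_dvd_two h8 h2 hd
    have h4 : orderOf x = 1 := by
      rcases (Nat.dvd_prime Nat.prime_two).1 h3 with h5 | h5
      · exact h5
      · rw [h5] at hodd
        exact absurd hodd (by decide)
    exact h1 (orderOf_eq_one_iff.1 h4)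
  · exact absurd hodd (h.not_odd h1)
  · exact h

theorem fpf_of_dvd {x : Sz F m} (h1 : x ≠ 1) {c : ℕ} (hd : orderOf x ∣ c)
    (hc : c ∣ Fintype.card F ^ 2 + 1) : Fpf x := by
  have h8 := card_F_ge F m
  have hodd : Odd (orderOf x) := Odd.of_dvd_nat (odd_N F m) (hd.trans hc)
  rcases trichotomy (g := x) with h | h | ⟨p, p', hne, hp, hp'⟩
  · exact h
  · exact absurd hodd (h.not_odd h1)
  · exfalso
    have h2 : orderOf x ∣ Fintype.card F - 1 := by
      rw [← card_dd hne]
      exact Subgroup.orderOf_dvd_natCard (dd p p') (mem_dd.2 ⟨hp, hp'⟩)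
    have h3 := ar_dvd_two h8 (hd.trans hc) h2
    have h4 : orderOf x = 1 := by
      rcases (Nat.dvd_prime Nat.prime_two).1 h3 with h5 | h5
      · exact h5
      · rw [h5] at hodd
        exact absurd hodd (by decide)
    exact h1 (orderOf_eq_one_iff.1 h4)

theorem card_solSet_fpf {x : Sz F m} (hx : Fpf x) : (SolSet x).ncard = 4 * Nat.card (cen x) := by
  rw [solSet_fpf hx, mul_comm, ← card_normalizer_cen hx]
  exact (Nat.card_coe_set_eq _).symm

theorem card_solSet_plus {x : Sz F m} (h1 : x ≠ 1)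
    (hd : orderOf x ∣ 2 ^ (2 * m + 1) + 2 ^ (m + 1) + 1) :
    (SolSet x).ncard = 4 * (2 ^ (2 * m + 1) + 2 ^ (m + 1) + 1) := by
  obtain ⟨q, s, hq, hs, h8, hs4, h2s, hss, -, -⟩ := ar_base (hm_of F m)
  have hF := card_F (F := F) (m := m)
  have hmul := ar_mul h2s hss
  subst hq
  subst hs
  have hx : Fpf x := fpf_of_dvd h1 hd (by rw [hF]; exact Dvd.intro _ hmul)
  rw [card_solSet_fpf hx]
  congr 1
  have hcop := ar_coprime_d (hm_of F m)
  rcases card_cen_eq hx with h | h
  · rw [h, hF]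
  · exfalso
    have h2 : orderOf x ∣ Nat.card (cen x) := Subgroup.orderOf_dvd_natCard (cen x) (self_mem_cen x)
    have h3 : Nat.card (cen x) = 2 ^ (2 * m + 1) - 2 ^ (m + 1) + 1 := by
      rw [hF] at h
      omega
    rw [h3] at h2
    have h4 := Nat.Coprime.eq_one_of_dvd (hcop.coprime_dvd_left hd) h2
    exact h1 (orderOf_eq_one_iff.1 h4)

theorem card_solSet_minus {x : Sz F m} (h1 : x ≠ 1)
    (hd : orderOf x ∣ 2 ^ (2 * m + 1) - 2 ^ (m + 1) + 1) :
    (SolSet x).ncard = 4 * (2 ^ (2 * m + 1) - 2 ^ (m + 1) + 1) := by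
  obtain ⟨q, s, hq, hs, h8, hs4, h2s, hss, -, -⟩ := ar_base (hm_of F m)
  have hF := card_F (F := F) (m := m)
  have hmul := ar_mul h2s hss
  subst hq
  subst hs
  have hx : Fpf x := fpf_of_dvd h1 hd (by rw [hF]; exact Dvd.intro_left _ hmul)
  rw [card_solSet_fpf hx]
  congr 1
  have hcop := ar_coprime_d (hm_of F m)
  rcases card_cen_eq hx with h | h
  · exfalso
    have h2 : orderOf x ∣ Nat.card (cen x) := Subgroup.orderOf_dvd_natCard (cen x) (self_mem_cen x)
    rw [h, hF] at h2
    have h4 := Nat.Coprime.eq_one_of_dvd (hcop.symm.coprime_dvd_left hd) h2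
    exact h1 (orderOf_eq_one_iff.1 h4)
  · rw [hF] at h
    omega

theorem isSolvable_closure_map {G H : Type*} [Group G] [Group H] (e : G ≃* H) (a b : G) :
    Group.IsSolvable (closure ({e a, e b} : Set H)) ↔ Group.IsSolvable (closure ({a, b} : Set G)) := by
  have h1 : closure ({e a, e b} : Set H) = (closure ({a, b} : Set G)).map e.toMonoidHom := by
    rw [MonoidHom.map_closure, Set.image_pair]
    rfl
  rw [h1]
  let f := e.subgroupMap (closure ({a, b} : Set G))
  constructor
  · intro h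
    exact @Group.isSolvable_of_isSolvable_injective _ _ _ _ f.toMonoidHom f.injective h
  · intro h
    exact @Group.isSolvable_of_surjective _ _ _ _ f.toMonoidHom f.surjective h

end Cfsg.Agent.Lib.SzTorus
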