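/-
The Suzuki group: character values on a Sylow 2-subgroup and integrality.
-/
import Mathlib
import Cfsg.Agent.Lib.SzCharA
import Cfsg.Agent.Lib.SzSolB
import Cfsg.Agent.Lib.CharValues

set_option autoImplicit false
set_option linter.unusedSectionVars false
set_option linter.unusedVariables false
set_option linter.unnecessarySimpa false
set_option linter.style.haveILetI false

namespace Cfsg.Agent.Lib.SzChar

open Cfsg Cfsg.Agent.Lib.CharBasic Cfsg.Agent.Lib.CharInd Cfsg.Agent.Lib.SzTorus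
  Cfsg.Agent.Lib.SuzukiBasic Cfsg.Agent.Lib.Suzuki Cfsg.Agent.Lib.Suzuki2
  Cfsg.Agent.Lib.Suzuki3 Cfsg.Agent.Lib.Suzuki4 Cfsg.Agent.Lib.SuzukiMax Cfsg.Agent.Lib.SzSub
open scoped ComplexConjugate

section twoadic

theorem two_adic (m : ℕ) : ∀ M l : ℤ, (2 : ℤ) ^ (2 * m + 1) ∣ M ^ 2 + l ^ 2 →
    ∃ D h : ℤ, M = 2 ^ m * D ∧ l = 2 ^ m * h ∧ (2 : ℤ) ∣ D - h := by
  induction m with
  | zero =>
    intro M l h
    refine ⟨M, l, by simp, by simp, ?_⟩
    have h1 : Even (M ^ 2 + l ^ 2) := by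
      simpa [even_iff_two_dvd] using h
    have h2 : Even (M - l) := by
      rw [Int.even_add, Int.even_pow' two_ne_zero, Int.even_pow' two_ne_zero] at h1
      rw [Int.even_sub]
      exact h1
    exact even_iff_two_dvd.1 h2
  | succ m ih =>
    intro M l h
    have h4 : (4 : ℤ) ∣ M ^ 2 + l ^ 2 := by
      refine Dvd.dvd.trans ?_ h
      refine ⟨2 ^ (2 * m + 1), ?_⟩
      ring
    obtain ⟨x, hx⟩ := h4
    have hM : ∃ k, M = 2 * k := by
      rcases Int.even_or_odd' M with ⟨k, hk | hk⟩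
      · exact ⟨k, hk⟩
      · exfalso
        rcases Int.even_or_odd' l with ⟨j, hj | hj⟩
        · have : 4 * (k ^ 2 + k + j ^ 2) + 1 = 4 * x := by
            rw [← hx, hk, hj]; ring
          omega
        · have : 4 * (k ^ 2 + k + j ^ 2 + j) + 2 = 4 * x := by
            rw [← hx, hk, hj]; ring
          omega
    have hl : ∃ k, l = 2 * k := by
      rcases Int.even_or_odd' l with ⟨k, hk | hk⟩
      · exact ⟨k, hk⟩
      · exfalso
        obtain ⟨j, hj⟩ := hM
        have : 4 * (k ^ 2 + k + j ^ 2) + 1 = 4 * x := by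
          rw [← hx, hk, hj]; ring
        omega
    obtain ⟨M', rfl⟩ := hM
    obtain ⟨l', rfl⟩ := hl
    have h5 : (2 : ℤ) ^ (2 * m + 1) ∣ M' ^ 2 + l' ^ 2 := by
      have h6 : (2 : ℤ) ^ (2 * (m + 1) + 1) = 4 * 2 ^ (2 * m + 1) := by ring
      have h7 : (2 * M') ^ 2 + (2 * l') ^ 2 = 4 * (M' ^ 2 + l' ^ 2) := by ring
      rw [h6, h7] at h
      exact (mul_dvd_mul_iff_left (by norm_num)).1 h
    obtain ⟨D, e, h1, h2, h3⟩ := ih M' l' h5
    refine ⟨D, e, ?_, ?_, h3⟩
    · rw [h1]; ring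
    · rw [h2]; ring

end twoadic

variable {F : Type*} [Field F] [Fintype F] {m : ℕ} [CharP F 2] [SzHyp F m]

section values

theorem char_tt_zero {χ : Sz F m → ℂ} (hχ : IsCharacter (Sz F m) χ) {b : F} (hb : b ≠ 0) :
    χ (tt 0 b) = χ (tt 0 1) := by
  obtain ⟨k, hk⟩ := conj_order_two (orderOf_tt_zero (F := F) (m := m) (one_ne_zero))
    (orderOf_tt_zero (F := F) (m := m) hb)
  rw [hk, char_apply_conj hχ]

theorem char_tt_ne {χ : Sz F m → ℂ} (hχ : IsCharacter (Sz F m) χ) {a : F} (ha : a ≠ 0) (b : F) :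
    χ (tt a b) = χ (tt 1 0) ∨ χ (tt a b) = conj (χ (tt 1 0)) := by
  obtain ⟨k, hk⟩ := conj_order_four (orderOf_tt_ne (F := F) (m := m) (one_ne_zero) 0)
    (orderOf_tt_ne (F := F) (m := m) ha b)
  rcases hk with hk | hk
  · left
    rw [hk, char_apply_conj hχ]
  · right
    rw [hk, char_apply_conj hχ, char_conj_eq_inv hχ]

theorem char_tt_ne_re {χ : Sz F m → ℂ} (hχ : IsCharacter (Sz F m) χ) {a : F} (ha : a ≠ 0) (b : F) :
    (χ (tt a b)).re = (χ (tt 1 0)).re := by
  rcases char_tt_ne hχ ha b with h | h <;> rw [h]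
  simp

theorem char_tt_ne_normSq {χ : Sz F m → ℂ} (hχ : IsCharacter (Sz F m) χ) {a : F} (ha : a ≠ 0) (b : F) :
    Complex.normSq (χ (tt a b)) = Complex.normSq (χ (tt 1 0)) := by
  rcases char_tt_ne hχ ha b with h | h <;> rw [h]
  simp

theorem char_tt_zero_real {χ : Sz F m → ℂ} (hχ : IsCharacter (Sz F m) χ) :
    χ (tt 0 1) = (((χ (tt 0 1)).re : ℝ) : ℂ) := by
  have h1 : conj (χ (tt 0 1)) = χ (tt 0 1) := by
    rw [char_conj_eq_inv hχ, tt_inv]
    congr 2
    simp [phi]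
  exact (Complex.conj_eq_iff_real.1 h1).choose_spec ▸ by simp

theorem char_one_real {χ : Sz F m → ℂ} (hχ : IsCharacter (Sz F m) χ) :
    χ 1 = (((χ 1).re : ℝ) : ℂ) := by
  obtain ⟨d, hd⟩ := isCharacter_one_eq hχ
  rw [hd]
  simp

/-- The fibre sum over a non-central coset of the centre of the Sylow subgroup is real. -/
theorem sum_tt_ne {χ : Sz F m → ℂ} (hχ : IsCharacter (Sz F m) χ) {a : F} (ha : a ≠ 0) :
    ∑ b : F, χ (tt a b) = (Fintype.card F : ℂ) * (((χ (tt 1 0)).re : ℝ) : ℂ) := by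
  have hconj : conj (∑ b : F, χ (tt a b)) = ∑ b : F, χ (tt a b) := by
    rw [map_sum]
    refine Eq.trans ?_ (Equiv.sum_comp (Equiv.addRight (phi m a * a)) (fun b => χ (tt a b)))
    refine Finset.sum_congr rfl fun b _ => ?_
    rw [char_conj_eq_inv hχ, tt_inv]
    rfl
  obtain ⟨r, hr⟩ := Complex.conj_eq_iff_real.1 hconj
  have hre : (∑ b : F, χ (tt a b)).re = (Fintype.card F : ℝ) * (χ (tt 1 0)).re := by
    rw [Complex.re_sum, Finset.sum_congr rfl (fun b _ => char_tt_ne_re hχ ha b)]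
    simp
  rw [hr] at hre ⊢
  simp only [Complex.ofReal_re] at hre
  rw [hre]
  push_cast
  rfl

theorem sum_tt_zero {χ : Sz F m → ℂ} (hχ : IsCharacter (Sz F m) χ) :
    ∑ b : F, χ (tt 0 b) = χ 1 + ((Fintype.card F : ℂ) - 1) * χ (tt 0 1) := by
  classical
  rw [← Finset.add_sum_erase _ _ (Finset.mem_univ (0 : F)), tt_zero]
  congr 1
  rw [Finset.sum_congr rfl (fun b hb => char_tt_zero hχ (Finset.ne_of_mem_erase hb))]
  rw [Finset.sum_const, Finset.card_erase_of_mem (Finset.mem_univ _), Finset.card_univ, nsmul_eq_mul]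
  rw [Nat.cast_sub Fintype.card_pos]
  simp

end values

section sums

/-- Parametrisation of the Sylow subgroup. -/
noncomputable def ttE : F × F ≃ Tsub F m :=
  Equiv.ofBijective (fun p => ttS p.1 p.2)
    ⟨fun p p' h => by
      obtain ⟨h1, h2⟩ := ttS_inj (F := F) (m := m) h
      exact Prod.ext h1 h2,
     fun g => by
      obtain ⟨a, b, rfl⟩ := exists_ttS g
      exact ⟨(a, b), rfl⟩⟩

theorem sum_Tsub {R : Type*} [AddCommMonoid R] [Fintype (Tsub F m)] (f : Sz F m → R) :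
    ∑ y : Tsub F m, f y = ∑ a : F, ∑ b : F, f (tt a b) := by
  rw [← Equiv.sum_comp (ttE (F := F) (m := m)), Fintype.sum_prod_type]
  rfl

/-- The first coordinate. -/
noncomputable def prA (g : Tsub F m) : F := (exists_ttS g).choose

theorem prA_ttS (a b : F) : prA (ttS a b : Tsub F m) = a := by
  obtain ⟨b', hb'⟩ := (exists_ttS (ttS a b : Tsub F m)).choose_spec
  exact (ttS_inj hb').1.symm

/-- A linear character of the Sylow subgroup through its first coordinate. -/
noncomputable def muHom (ψ : AddChar F ℂ) : Tsub F m →* ℂˣ :=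
  MonoidHom.toHomUnits
    { toFun := fun g => ψ (prA g)
      map_one' := by
        rw [← ttS_zero, prA_ttS]
        exact AddChar.map_zero_eq_one ψ
      map_mul' := by
        intro x y
        obtain ⟨a, b, rfl⟩ := exists_ttS x
        obtain ⟨a', b', rfl⟩ := exists_ttS y
        rw [ttS_mul, prA_ttS, prA_ttS, prA_ttS]
        exact AddChar.map_add_eq_mul ψ a a' }

theorem muHom_apply (ψ : AddChar F ℂ) (a b : F) :
    ((muHom ψ (ttS a b : Tsub F m) : ℂˣ) : ℂ) = ψ a := by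
  simp only [muHom, MonoidHom.coe_toHomUnits]
  show ψ (prA _) = _
  rw [prA_ttS]

/-- Parametrisation of the centre of the Sylow subgroup. -/
noncomputable def zzE : F ≃ Zsub F m :=
  Equiv.ofBijective (fun b => ⟨tt 0 b, mem_Zsub.2 ⟨b, rfl⟩⟩)
    ⟨fun b b' h => (tt_inj (F := F) (m := m) (congrArg Subtype.val h)).2,
     fun g => by
      obtain ⟨b, hb⟩ := mem_Zsub.1 g.2
      exact ⟨b, Subtype.ext hb.symm⟩⟩

theorem sum_Zsub {R : Type*} [AddCommMonoid R] [Fintype (Zsub F m)] (f : Sz F m → R) :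
    ∑ y : Zsub F m, f y = ∑ b : F, f (tt 0 b) := by
  rw [← Equiv.sum_comp (zzE (F := F) (m := m))]
  rfl

/-- A linear character of the centre of the Sylow subgroup. -/
noncomputable def lamHom (ψ : AddChar F ℂ) : Zsub F m →* ℂˣ :=
  MonoidHom.toHomUnits
    { toFun := fun g => ψ ((zzE (F := F) (m := m)).symm g)
      map_one' := by
        have h : (1 : Zsub F m) = zzE 0 := Subtype.ext tt_zero.symm
        rw [h, Equiv.symm_apply_apply]
        exact AddChar.map_zero_eq_one ψ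
      map_mul' := by
        intro x y
        obtain ⟨b, rfl⟩ := (zzE (F := F) (m := m)).surjective x
        obtain ⟨b', rfl⟩ := (zzE (F := F) (m := m)).surjective y
        have h : (zzE b * zzE b' : Zsub F m) = zzE (b + b') := by
          apply Subtype.ext
          show (tt 0 b * tt 0 b' : Sz F m) = tt 0 (b + b')
          rw [tt_mul]
          simp [phi]
        rw [h, Equiv.symm_apply_apply, Equiv.symm_apply_apply, Equiv.symm_apply_apply]
        exact AddChar.map_add_eq_mul ψ b b' }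

theorem lamHom_apply (ψ : AddChar F ℂ) (b : F) :
    ((lamHom ψ (zzE b : Zsub F m) : ℂˣ) : ℂ) = ψ b := by
  simp only [lamHom, MonoidHom.coe_toHomUnits]
  show ψ ((zzE (F := F) (m := m)).symm _) = _
  rw [Equiv.symm_apply_apply]

theorem exists_addChar_ne (F : Type*) [Field F] [Fintype F] : ∃ ψ : AddChar F ℂ, ψ ≠ 1 := by
  obtain ⟨ψ, hψ⟩ := (AddChar.exists_apply_ne_zero (α := F) (a := 1)).2 one_ne_zero
  refine ⟨ψ, ?_⟩
  rintro rfl
  exact hψ (by simp)

theorem sum_conj_addChar {ψ : AddChar F ℂ} (hψ : ψ ≠ 1) : ∑ a : F, conj (ψ a) = 0 := by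
  rw [← map_sum, AddChar.sum_eq_zero_of_ne_one hψ, map_zero]

theorem sum_erase_conj_addChar [DecidableEq F] {ψ : AddChar F ℂ} (hψ : ψ ≠ 1) :
    ∑ a ∈ Finset.univ.erase (0 : F), conj (ψ a) = -1 := by
  have h := sum_conj_addChar hψ
  rw [← Finset.add_sum_erase _ _ (Finset.mem_univ (0 : F))] at h
  have h0 : conj (ψ 0) = 1 := by
    rw [AddChar.map_zero_eq_one, map_one]
  rw [h0] at h
  linear_combination h

/-- The double sum over the Sylow subgroup with a weight on the first coordinate. -/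
theorem double_sum {χ : Sz F m → ℂ} (hχ : IsCharacter (Sz F m) χ) (w : F → ℂ) [DecidableEq F] :
    ∑ a : F, ∑ b : F, χ (tt a b) * w a = w 0 * (χ 1 + ((Fintype.card F : ℂ) - 1) * χ (tt 0 1)) +
      (∑ a ∈ Finset.univ.erase (0 : F), w a) *
        ((Fintype.card F : ℂ) * (((χ (tt 1 0)).re : ℝ) : ℂ)) := by
  rw [← Finset.add_sum_erase _ _ (Finset.mem_univ (0 : F))]
  congr 1
  · rw [← Finset.sum_mul, sum_tt_zero hχ, mul_comm]
  · rw [Finset.sum_mul]
    refine Finset.sum_congr rfl fun a ha => ?_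
    rw [← Finset.sum_mul, sum_tt_ne hχ (Finset.ne_of_mem_erase ha), mul_comm]

end sums

section qdata

/-- The integrality equations coming from the Sylow subgroup and its centre. -/
theorem Q_eqs {χ : Sz F m → ℂ} (hχ : IsCharacter (Sz F m) χ) :
    ∃ c₀ c₁ M n : ℕ,
      (Fintype.card F : ℝ) ^ 2 * c₀ = (χ 1).re + ((Fintype.card F : ℝ) - 1) * (χ (tt 0 1)).re +
        ((Fintype.card F : ℝ) - 1) * ((Fintype.card F : ℝ) * (χ (tt 1 0)).re) ∧
      (Fintype.card F : ℝ) ^ 2 * c₁ = (χ 1).re + ((Fintype.card F : ℝ) - 1) * (χ (tt 0 1)).re -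
        (Fintype.card F : ℝ) * (χ (tt 1 0)).re ∧
      (Fintype.card F : ℝ) * M = (χ 1).re - (χ (tt 0 1)).re ∧
      (Fintype.card F : ℝ) ^ 2 * n = (χ 1).re ^ 2 + ((Fintype.card F : ℝ) - 1) * (χ (tt 0 1)).re ^ 2 +
        ((Fintype.card F : ℝ) - 1) * ((Fintype.card F : ℝ) * ((χ (tt 1 0)).re ^ 2 + (χ (tt 1 0)).im ^ 2)) := by
  classical
  letI : Fintype (Tsub F m) := Fintype.ofFinite _
  letI : Fintype (Zsub F m) := Fintype.ofFinite _
  have hqne : (Fintype.card F : ℂ) ≠ 0 := by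
    have : 0 < Fintype.card F := Fintype.card_pos
    exact_mod_cast this.ne'
  have hQcard : (Nat.card (Tsub F m) : ℂ) = (Fintype.card F : ℂ) ^ 2 := by
    rw [card_Tsub]
    push_cast
    rfl
  have hZcard : (Nat.card (Zsub F m) : ℂ) = (Fintype.card F : ℂ) := by
    rw [card_Zsub]
  have hθQ := isCharacter_restrict (Tsub F m) hχ
  have hθZ := isCharacter_restrict (Zsub F m) hχ
  have h1real := char_one_real hχ
  have hzreal := char_tt_zero_real hχ
  obtain ⟨ψ, hψ⟩ := exists_addChar_ne F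
  -- c₀
  obtain ⟨c₀, hc₀⟩ := classInner_char_irr hθQ (isIrrCharacter_one (G := Tsub F m))
  -- c₁
  obtain ⟨c₁, hc₁⟩ := classInner_char_irr hθQ (isIrrCharacter_of_hom (muHom (F := F) (m := m) ψ))
  -- M
  obtain ⟨M, hM⟩ := classInner_char_irr hθZ (isIrrCharacter_of_hom (lamHom (F := F) (m := m) ψ))
  -- n
  obtain ⟨n, hn⟩ := classInner_char_char hθQ hθQ
  refine ⟨c₀, c₁, M, n, ?_, ?_, ?_, ?_⟩
  · unfold classInner at hc₀
    rw [hQcard] at hc₀
    have h2 := double_sum hχ (fun _ => (1 : ℂ))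
    simp only [mul_one] at h2
    rw [sum_Tsub (fun g => χ g * conj (1 : ℂ))] at hc₀
    simp only [map_one, mul_one] at hc₀
    rw [h2] at hc₀
    simp only [Finset.sum_const, Finset.card_erase_of_mem (Finset.mem_univ (0 : F)), Finset.card_univ,
      nsmul_eq_mul, mul_one, one_mul] at hc₀
    rw [Nat.cast_sub Fintype.card_pos, h1real, hzreal] at hc₀
    have hq2 : (Fintype.card F : ℂ) ^ 2 ≠ 0 := pow_ne_zero _ hqne
    field_simp at hc₀
    have h3 : (((Fintype.card F : ℝ) ^ 2 * c₀ : ℝ) : ℂ) = (((χ 1).re + ((Fintype.card F : ℝ) - 1) * (χ (tt 0 1)).re +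
        ((Fintype.card F : ℝ) - 1) * ((Fintype.card F : ℝ) * (χ (tt 1 0)).re) : ℝ) : ℂ) := by
      push_cast
      simp only [Nat.cast_one] at hc₀ ⊢
      linear_combination -hc₀
    exact_mod_cast h3
  · unfold classInner at hc₁
    rw [hQcard] at hc₁
    have h2 := double_sum hχ (fun a => conj (ψ a))
    have h3 : ∑ y : Tsub F m, (χ y) * conj ((muHom (F := F) (m := m) ψ y : ℂˣ) : ℂ) =
        ∑ a : F, ∑ b : F, χ (tt a b) * conj (ψ a) := by
      rw [← Equiv.sum_comp (ttE (F := F) (m := m)), Fintype.sum_prod_type]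
      refine Finset.sum_congr rfl fun a _ => Finset.sum_congr rfl fun b _ => ?_
      show χ (tt a b) * conj ((muHom ψ (ttS a b : Tsub F m) : ℂˣ) : ℂ) = _
      rw [muHom_apply]
    rw [h3, h2, sum_erase_conj_addChar hψ, AddChar.map_zero_eq_one, map_one, one_mul,
      h1real, hzreal] at hc₁
    have hq2 : (Fintype.card F : ℂ) ^ 2 ≠ 0 := pow_ne_zero _ hqne
    field_simp at hc₁
    have h4 : (((Fintype.card F : ℝ) ^ 2 * c₁ : ℝ) : ℂ) = (((χ 1).re + ((Fintype.card F : ℝ) - 1) * (χ (tt 0 1)).re -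
        (Fintype.card F : ℝ) * (χ (tt 1 0)).re : ℝ) : ℂ) := by
      push_cast
      linear_combination -hc₁
    exact_mod_cast h4
  · unfold classInner at hM
    rw [hZcard] at hM
    have h3 : ∑ y : Zsub F m, (χ y) * conj ((lamHom (F := F) (m := m) ψ y : ℂˣ) : ℂ) =
        ∑ b : F, χ (tt 0 b) * conj (ψ b) := by
      rw [← Equiv.sum_comp (zzE (F := F) (m := m))]
      refine Finset.sum_congr rfl fun b _ => ?_
      show χ (tt 0 b) * conj ((lamHom ψ (zzE b : Zsub F m) : ℂˣ) : ℂ) = _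
      rw [lamHom_apply]
    have h4 : ∑ b : F, χ (tt 0 b) * conj (ψ b) = χ 1 - χ (tt 0 1) := by
      rw [← Finset.add_sum_erase _ _ (Finset.mem_univ (0 : F)), tt_zero, AddChar.map_zero_eq_one,
        map_one, mul_one]
      have h5 : ∀ b ∈ Finset.univ.erase (0 : F), χ (tt 0 b) * conj (ψ b) = χ (tt 0 1) * conj (ψ b) :=
        fun b hb => by rw [char_tt_zero hχ (Finset.ne_of_mem_erase hb)]
      rw [Finset.sum_congr rfl h5, ← Finset.mul_sum, sum_erase_conj_addChar hψ]
      ring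
    rw [h3, h4, h1real, hzreal] at hM
    field_simp at hM
    have h6 : (((Fintype.card F : ℝ) * M : ℝ) : ℂ) = (((χ 1).re - (χ (tt 0 1)).re : ℝ) : ℂ) := by
      push_cast
      linear_combination -hM
    exact_mod_cast h6
  · unfold classInner at hn
    rw [hQcard] at hn
    have h2 : ∑ y : Tsub F m, (χ y) * conj (χ y) =
        ((∑ a : F, ∑ b : F, Complex.normSq (χ (tt a b)) : ℝ) : ℂ) := by
      rw [sum_Tsub (fun g => χ g * conj (χ g))]
      push_cast
      refine Finset.sum_congr rfl fun a _ => Finset.sum_congr rfl fun b _ => ?_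
      exact Complex.mul_conj _
    have h3 : (∑ a : F, ∑ b : F, Complex.normSq (χ (tt a b)) : ℝ) =
        (χ 1).re ^ 2 + ((Fintype.card F : ℝ) - 1) * (χ (tt 0 1)).re ^ 2 +
        ((Fintype.card F : ℝ) - 1) * ((Fintype.card F : ℝ) * ((χ (tt 1 0)).re ^ 2 + (χ (tt 1 0)).im ^ 2)) := by
      rw [← Finset.add_sum_erase _ _ (Finset.mem_univ (0 : F)),
        ← Finset.add_sum_erase _ _ (Finset.mem_univ (0 : F)), tt_zero]
      have h4 : ∀ b ∈ Finset.univ.erase (0 : F), Complex.normSq (χ (tt 0 b)) = (χ (tt 0 1)).re ^ 2 := by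
        intro b hb
        rw [char_tt_zero hχ (Finset.ne_of_mem_erase hb), hzreal, Complex.normSq_ofReal]
        simp [sq]
      have h5 : ∀ a ∈ Finset.univ.erase (0 : F), ∑ b : F, Complex.normSq (χ (tt a b)) =
          (Fintype.card F : ℝ) * ((χ (tt 1 0)).re ^ 2 + (χ (tt 1 0)).im ^ 2) := by
        intro a ha
        rw [Finset.sum_congr rfl (fun b _ => char_tt_ne_normSq hχ (Finset.ne_of_mem_erase ha) b),
          Complex.normSq_apply]
        simp only [Finset.sum_const, Finset.card_univ, nsmul_eq_mul]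
        ring
      rw [Finset.sum_congr rfl h4, Finset.sum_congr rfl h5, h1real, Complex.normSq_ofReal]
      simp only [Finset.sum_const, Finset.card_erase_of_mem (Finset.mem_univ (0 : F)), Finset.card_univ,
        nsmul_eq_mul]
      rw [Nat.cast_sub Fintype.card_pos]
      simp only [Complex.ofReal_re, Nat.cast_one]
      ring
    rw [h2, h3] at hn
    have hq2 : (Fintype.card F : ℂ) ^ 2 ≠ 0 := pow_ne_zero _ hqne
    field_simp at hn
    have h6 : (((Fintype.card F : ℝ) ^ 2 * n : ℝ) : ℂ) = (((χ 1).re ^ 2 + ((Fintype.card F : ℝ) - 1) * (χ (tt 0 1)).re ^ 2 +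
        ((Fintype.card F : ℝ) - 1) * ((Fintype.card F : ℝ) * ((χ (tt 1 0)).re ^ 2 + (χ (tt 1 0)).im ^ 2)) : ℝ) : ℂ) := by
      push_cast at hn ⊢
      linear_combination -hn
    exact_mod_cast h6

/-- The imaginary part of a character at an element of order four is an integer. -/
theorem im_int_of_pow_four {G : Type*} [Group G] {χ : G → ℂ} (hχ : IsCharacter G χ) {u : G}
    (hu : u ^ 4 = 1) : ∃ l : ℤ, (χ u).im = l := by
  classical
  obtain ⟨n, ρ, rfl⟩ := hχ
  have h4 : (ρ u) ^ 4 = 1 := by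
    rw [← map_pow, hu, map_one]
  obtain ⟨b, μ, h1, h2⟩ := Cfsg.Agent.Lib.CharValues.exists_eigenbasis (ρ u) (by norm_num) h4
  have h3 : ∀ i, ∃ l : ℤ, (μ i).im = l := by
    intro i
    have h5 : (μ i ^ 2 - 1) * (μ i ^ 2 + 1) = 0 := by
      have := h2 i
      linear_combination this
    rcases mul_eq_zero.1 h5 with h6 | h6
    · have h7 : (μ i - 1) * (μ i + 1) = 0 := by linear_combination h6
      rcases mul_eq_zero.1 h7 with h8 | h8
      · have : μ i = 1 := by linear_combination h8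
        exact ⟨0, by simp [this]⟩
      · have : μ i = -1 := by linear_combination h8
        exact ⟨0, by simp [this]⟩
    · have h7 : (μ i - Complex.I) * (μ i + Complex.I) = 0 := by
        have : Complex.I ^ 2 = -1 := Complex.I_sq
        linear_combination h6 - this
      rcases mul_eq_zero.1 h7 with h8 | h8
      · have : μ i = Complex.I := by linear_combination h8
        exact ⟨1, by simp [this]⟩
      · have : μ i = -Complex.I := by linear_combination h8
        exact ⟨-1, by simp [this]⟩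
  choose l hl using h3
  refine ⟨∑ i, l i, ?_⟩
  have h5 : ρ.character u = ∑ i, μ i := Cfsg.Agent.Lib.CharValues.trace_eq_sum_of_eigenbasis _ b μ h1
  rw [h5, Complex.im_sum]
  push_cast
  exact Finset.sum_congr rfl fun i _ => hl i

theorem tt_pow_four' (a b : F) : (tt a b : Sz F m) ^ 4 = 1 := by
  have h := pow_four_ttS (F := F) (m := m) a b
  have h2 : ((ttS a b : Tsub F m) : Sz F m) ^ 4 = 1 := by
    simpa using congrArg Subtype.val h
  exact h2

end qdata

section qdata2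

/-- The integer data attached to a character. -/
theorem qdata {χ : Sz F m → ℂ} (hχ : IsCharacter (Sz F m) χ) :
    ∃ (c₀ c₁ : ℕ) (E h : ℤ),
      (χ 1).re = c₀ + (2 * (2 : ℝ) ^ (2 * m) - 1) * ((2 * (2 : ℝ) ^ (2 * m) + 1) * c₁ + 2 ^ m * E) ∧
      (χ (tt 0 1)).re = (c₀ : ℝ) - c₁ - 2 ^ m * E ∧
      (χ (tt 1 0)).re = (c₀ : ℝ) - c₁ ∧
      (χ (tt 1 0)).im = 2 ^ m * h ∧
      (2 : ℤ) ∣ E - h := by
  obtain ⟨c₀, c₁, M, n, h1, h2, h3, h4⟩ := Q_eqs hχ
  obtain ⟨l, hl⟩ := im_int_of_pow_four hχ (tt_pow_four' (F := F) (m := m) 1 0)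
  have hq : (Fintype.card F : ℝ) = 2 * (2 : ℝ) ^ (2 * m) := by
    rw [card_F (F := F) (m := m)]
    push_cast
    ring
  set q : ℝ := (Fintype.card F : ℝ) with hqdef
  have hq8 : (8 : ℝ) ≤ q := by
    have := card_F_ge F m
    rw [hqdef]
    exact_mod_cast this
  have hq0 : q ≠ 0 := by linarith
  set a := (χ 1).re
  set b := (χ (tt 0 1)).re
  set gr := (χ (tt 1 0)).re
  set gi := (χ (tt 1 0)).im
  have hgr : gr = (c₀ : ℝ) - c₁ := by
    have : q ^ 2 * (c₀ - c₁) = q ^ 2 * gr := by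
      linear_combination h1 - h2
    exact (mul_left_cancel₀ (pow_ne_zero 2 hq0) this).symm
  have hb : b = a - q * M := by linear_combination h3
  have ha : a = c₀ + (q - 1) * c₁ + (q - 1) * M := by
    have : q * a = q * (c₀ + (q - 1) * c₁ + (q - 1) * M) := by
      rw [hgr, hb] at h2
      linear_combination -h2
    exact mul_left_cancel₀ hq0 this
  have hb' : b = c₀ + (q - 1) * c₁ - M := by rw [hb, ha]; ring
  have hn : q * n = q * (c₀ ^ 2 + (q - 1) * c₁ ^ 2) + (q - 1) * ((M : ℝ) ^ 2 + gi ^ 2) := by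
    have : q * (q * n) = q * (q * (c₀ ^ 2 + (q - 1) * c₁ ^ 2) + (q - 1) * ((M : ℝ) ^ 2 + gi ^ 2)) := by
      rw [ha, hb', hgr] at h4
      linear_combination h4
    exact mul_left_cancel₀ hq0 this
  -- divisibility
  have hqi : ((Fintype.card F : ℤ) : ℝ) = q := by push_cast; rfl
  have hcardm : (Fintype.card F : ℤ) = 2 ^ (2 * m + 1) := by
    rw [card_F (F := F) (m := m)]
    push_cast
    rfl
  have hdvd : (Fintype.card F : ℤ) ∣ (M : ℤ) ^ 2 + l ^ 2 := by
    have h5 : ((Fintype.card F : ℤ) - 1) * ((M : ℤ) ^ 2 + l ^ 2) =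
        (Fintype.card F : ℤ) * ((n : ℤ) - (c₀ ^ 2 + ((Fintype.card F : ℤ) - 1) * c₁ ^ 2)) := by
      have : (((((Fintype.card F : ℤ) - 1) * ((M : ℤ) ^ 2 + l ^ 2) : ℤ)) : ℝ) =
          (((Fintype.card F : ℤ) * ((n : ℤ) - (c₀ ^ 2 + ((Fintype.card F : ℤ) - 1) * c₁ ^ 2)) : ℤ) : ℝ) := by
        push_cast
        rw [← hqdef, ← hl]
        linear_combination -hn
      exact_mod_cast this
    have hcop : IsCoprime (Fintype.card F : ℤ) ((Fintype.card F : ℤ) - 1) :=
      ⟨1, -1, by ring⟩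
    exact hcop.dvd_of_dvd_mul_left ⟨_, h5⟩
  rw [hcardm] at hdvd
  obtain ⟨D, e, hD, he, hpar⟩ := two_adic m _ _ hdvd
  refine ⟨c₀, c₁, D - 2 ^ (m + 1) * c₁, e, ?_, ?_, hgr, ?_, ?_⟩
  · have hMr : (M : ℝ) = 2 ^ m * D := by exact_mod_cast hD
    rw [ha, hMr, hq]
    push_cast
    ring
  · have hMr : (M : ℝ) = 2 ^ m * D := by exact_mod_cast hD
    rw [hb', hMr, hq]
    push_cast
    ring
  · rw [hl, he]
    push_cast
    ring
  · have : D - 2 ^ (m + 1) * (c₁ : ℤ) - e = (D - e) - 2 * (2 ^ m * c₁) := by ring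
    rw [this]
    exact dvd_sub hpar (dvd_mul_right _ _)

end qdata2

end Cfsg.Agent.Lib.SzChar
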