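/-
The Suzuki group: the norm of an irreducible character, and the integer identity governing it.
-/
import Mathlib
import Cfsg.Agent.Lib.SzCharB

set_option autoImplicit false
set_option linter.unusedSectionVars false
set_option linter.unusedVariables false
set_option linter.unnecessarySimpa false
set_option linter.style.haveILetI false

namespace Cfsg.Agent.Lib.SzChar

open Cfsg Cfsg.Agent.Lib.CharBasic Cfsg.Agent.Lib.CharInd Cfsg.Agent.Lib.SzTorus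
  Cfsg.Agent.Lib.SuzukiBasic Cfsg.Agent.Lib.Suzuki Cfsg.Agent.Lib.Suzuki2
  Cfsg.Agent.Lib.Suzuki3 Cfsg.Agent.Lib.Suzuki4 Cfsg.Agent.Lib.SuzukiMax Cfsg.Agent.Lib.SzSub
open scoped ComplexConjugate

/-- The purely arithmetic part of the norm computation. -/
theorem arith_master (s c₀ c₁ E h P₀ P₁ P₂ X₀ X₁ X₂ : ℝ) (hs : 2 ≤ s)
    (hX₀ : X₀ * (2 * (2 * s ^ 2 - 1)) = (2 * s ^ 2) ^ 2 * ((2 * s ^ 2) ^ 2 + 1) * (2 * s ^ 2 - 1) *
      (P₀ * (2 * s ^ 2 - 1) - c₀ ^ 2))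
    (hX₁ : X₁ * (4 * (2 * s ^ 2 + 2 * s + 1)) = (2 * s ^ 2) ^ 2 * ((2 * s ^ 2) ^ 2 + 1) * (2 * s ^ 2 - 1) *
      (P₁ * (2 * s ^ 2 + 2 * s + 1) - (c₀ - 2 * c₁ + E) ^ 2))
    (hX₂ : X₂ * (4 * (2 * s ^ 2 - 2 * s + 1)) = (2 * s ^ 2) ^ 2 * ((2 * s ^ 2) ^ 2 + 1) * (2 * s ^ 2 - 1) *
      (P₂ * (2 * s ^ 2 - 2 * s + 1) - (c₀ - 2 * c₁ - E) ^ 2))
    (hN : (2 * s ^ 2) ^ 2 * ((2 * s ^ 2) ^ 2 + 1) * (2 * s ^ 2 - 1) =
      (c₀ + (2 * s ^ 2 - 1) * ((2 * s ^ 2 + 1) * c₁ + s * E)) ^ 2 +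
      ((2 * s ^ 2) ^ 2 + 1) * (2 * s ^ 2 - 1) * (c₀ - c₁ - s * E) ^ 2 +
      ((2 * s ^ 2) ^ 2 + 1) * (2 * s ^ 2 * (2 * s ^ 2 - 1)) * ((c₀ - c₁) ^ 2 + (s * h) ^ 2) +
      X₀ + X₁ + X₂) :
    2 * P₀ + P₁ + P₂ + 2 * h ^ 2 = 4 := by
  have hq : 0 < 2 * s ^ 2 - 1 := by nlinarith
  have ht₁ : 0 < 2 * s ^ 2 + 2 * s + 1 := by nlinarith
  have ht₂ : 0 < 2 * s ^ 2 - 2 * s + 1 := by nlinarith
  have hmul : (2 * s ^ 2) ^ 2 + 1 = (2 * s ^ 2 + 2 * s + 1) * (2 * s ^ 2 - 2 * s + 1) := by ring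
  have e₀ : X₀ = (2 * s ^ 2) ^ 2 * ((2 * s ^ 2) ^ 2 + 1) / 2 * (P₀ * (2 * s ^ 2 - 1) - c₀ ^ 2) := by
    have : (2 * s ^ 2 - 1) * (2 * X₀) = (2 * s ^ 2 - 1) * ((2 * s ^ 2) ^ 2 * ((2 * s ^ 2) ^ 2 + 1) *
        (P₀ * (2 * s ^ 2 - 1) - c₀ ^ 2)) := by linear_combination hX₀
    have := mul_left_cancel₀ hq.ne' this
    linarith
  have e₁ : X₁ = (2 * s ^ 2) ^ 2 * (2 * s ^ 2 - 2 * s + 1) * (2 * s ^ 2 - 1) / 4 *
      (P₁ * (2 * s ^ 2 + 2 * s + 1) - (c₀ - 2 * c₁ + E) ^ 2) := by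
    have : (2 * s ^ 2 + 2 * s + 1) * (4 * X₁) = (2 * s ^ 2 + 2 * s + 1) * ((2 * s ^ 2) ^ 2 *
        (2 * s ^ 2 - 2 * s + 1) * (2 * s ^ 2 - 1) *
        (P₁ * (2 * s ^ 2 + 2 * s + 1) - (c₀ - 2 * c₁ + E) ^ 2)) := by
      rw [hmul] at hX₁
      linear_combination hX₁
    have := mul_left_cancel₀ ht₁.ne' this
    linarith
  have e₂ : X₂ = (2 * s ^ 2) ^ 2 * (2 * s ^ 2 + 2 * s + 1) * (2 * s ^ 2 - 1) / 4 *
      (P₂ * (2 * s ^ 2 - 2 * s + 1) - (c₀ - 2 * c₁ - E) ^ 2) := by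
    have : (2 * s ^ 2 - 2 * s + 1) * (4 * X₂) = (2 * s ^ 2 - 2 * s + 1) * ((2 * s ^ 2) ^ 2 *
        (2 * s ^ 2 + 2 * s + 1) * (2 * s ^ 2 - 1) *
        (P₂ * (2 * s ^ 2 - 2 * s + 1) - (c₀ - 2 * c₁ - E) ^ 2)) := by
      rw [hmul] at hX₂
      linear_combination hX₂
    have := mul_left_cancel₀ ht₂.ne' this
    linarith
  rw [e₀, e₁, e₂] at hN
  have hs0 : 0 < s := by linarith
  have hNne : (2 * s ^ 2) ^ 2 * ((2 * s ^ 2) ^ 2 + 1) * (2 * s ^ 2 - 1) ≠ 0 :=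
    mul_ne_zero (mul_ne_zero (by positivity) (by positivity)) hq.ne'
  have hfinal : (2 * s ^ 2) ^ 2 * ((2 * s ^ 2) ^ 2 + 1) * (2 * s ^ 2 - 1) * 4 =
      (2 * s ^ 2) ^ 2 * ((2 * s ^ 2) ^ 2 + 1) * (2 * s ^ 2 - 1) * (2 * P₀ + P₁ + P₂ + 2 * h ^ 2) := by
    linear_combination 4 * hN
  exact (mul_left_cancel₀ hNne hfinal).symm

variable {F : Type*} [Field F] [Fintype F] {m : ℕ} [CharP F 2] [SzHyp F m]

section partition

variable [Fintype (Sz F m)]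

theorem sumOn_singleton_one (f : Sz F m → ℝ) : sumOn ({1} : Set (Sz F m)) f = f 1 := by
  rw [sumOn_const (c := f 1) (by
    intro x hx
    rw [Set.mem_singleton_iff.1 hx])]
  simp

theorem disjoint_ucl_of_coprime {C C' : Subgroup (Sz F m)} (hcop : Nat.Coprime (Nat.card C) (Nat.card C')) :
    Disjoint (ucl C) (ucl C') := by
  rw [Set.disjoint_left]
  rintro z ⟨hz1, g, hg⟩ ⟨-, g', hg'⟩
  have h1 := Subgroup.orderOf_dvd_natCard C hg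
  have h2 := Subgroup.orderOf_dvd_natCard C' hg'
  rw [orderOf_conj_eq] at h1 h2
  have h3 := Nat.eq_one_of_dvd_coprimes hcop h1 h2
  exact hz1 (orderOf_eq_one_iff.1 h3)

theorem sum_partition (f : Sz F m → ℝ) {x₁ x₂ : Sz F m}
    (hcov : ∀ z : Sz F m, Fpf z → z ∈ ucl (cen x₁) ∪ ucl (cen x₂)) (h₁ : Fpf x₁) (h₂ : Fpf x₂)
    (hcop : Nat.Coprime (Nat.card (cen x₁)) (Nat.card (cen x₂))) :
    ∑ g, f g = f 1 + sumOn {x : Sz F m | orderOf x = 2} f + sumOn {x : Sz F m | orderOf x = 4} f +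
      sumOn (ucl (dd (oInf F m) (oZero F m))) f + sumOn (ucl (cen x₁)) f + sumOn (ucl (cen x₂)) f := by
  have e1 : (Set.univ : Set (Sz F m)) = {1} ∪ {1}ᶜ := by simp
  have hfpf : ({z | Fpf z} : Set (Sz F m)) = ucl (cen x₁) ∪ ucl (cen x₂) := by
    apply Set.Subset.antisymm
    · intro z hz
      exact hcov z hz
    · rintro z (hz | hz)
      · exact ucl_cen_sub h₁ hz
      · exact ucl_cen_sub h₂ hz
  have d1 : Disjoint (ucl (Tsub F m)) (ucl (dd (oInf F m) (oZero F m))) := by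
    rw [Set.disjoint_left]
    intro z hz hz'
    exact (ucl_Tsub_fix hz).not_ty2 (ucl_dd_fix hz')
  have d2 : Disjoint (ucl (Tsub F m) ∪ ucl (dd (oInf F m) (oZero F m))) ({z | Fpf z} : Set (Sz F m)) := by
    rw [Set.disjoint_left]
    rintro z (hz | hz) hz'
    · exact Fpf.not_ty1 hz' (ucl_Tsub_fix hz)
    · exact Fpf.not_ty2 hz' (ucl_dd_fix hz)
  have d3 : Disjoint {x : Sz F m | orderOf x = 2} {x : Sz F m | orderOf x = 4} := by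
    rw [Set.disjoint_left]
    intro z hz hz'
    have h1 : orderOf z = 2 := hz
    have h2 : orderOf z = 4 := hz'
    omega
  have d4 : Disjoint ({1} : Set (Sz F m)) {1}ᶜ := disjoint_compl_right
  rw [← sumOn_univ, e1, sumOn_union d4, sumOn_singleton_one, compl_one_eq, sumOn_union d2, sumOn_union d1,
    ucl_Tsub_eq, sumOn_union d3, hfpf, sumOn_union (disjoint_ucl_of_coprime hcop)]
  ring

end partition

section torus

theorem abel_two_torus {U : Subgroup (Sz F m)} (hU : IsTorus U) [Fintype U] {χ : Sz F m → ℂ}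
    (hχ : IsCharacter (Sz F m) χ) (b₀ s : ℤ) (h1 : χ 1 = ((s + b₀ * Nat.card U : ℤ) : ℂ)) :
    ∃ d A B : ℤ, 0 ≤ A ∧ (2 : ℤ) ∣ A ∧ (2 : ℤ) ∣ B ∧ |B| ≤ A ∧ s = d + B ∧
      ((d ^ 2 + A : ℤ) : ℝ) * Nat.card U =
        ∑ x : U, Complex.normSq (χ x) - Complex.normSq (χ 1) + (s : ℝ) ^ 2 ∧
      (∀ y ∈ U, y ≠ 1 → ‖χ y - d‖ ≤ (A : ℝ)) := by
  have h5 := hU.five_le
  have hinv := card_invol_inf hU
  have hne : ({x : Sz F m | orderOf x = 2} ∩ (Subgroup.normalizer (U : Set (Sz F m)) : Set (Sz F m))).Nonempty := by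
    rw [← Set.ncard_pos (Set.toFinite _), hinv]
    omega
  obtain ⟨z, hz, hzN⟩ := hne
  obtain ⟨d, A, B, h2, h3, h4, h5', h6, h7, h8⟩ := abelian_two (fun a b => Subtype.ext (hU.comm a.2 b.2)) hU.odd
    (isCharacter_restrict U hχ) (by
      intro x
      have h2 := invol_inverts hU hz hzN x.2
      show χ ((x⁻¹ : U) : Sz F m) = χ x
      rw [Subgroup.coe_inv, ← h2, char_apply_conj hχ]) b₀ s h1
  refine ⟨d, A, B, h2, h3, h4, h5', h6, h7, ?_⟩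
  intro y hy hy1
  exact h8 ⟨y, hy⟩ (fun h => hy1 (congrArg Subtype.val h))

theorem abel_four_torus {U : Subgroup (Sz F m)} (hU : IsTorus U) [Fintype U]
    (hN : Nat.card (Subgroup.normalizer (U : Set (Sz F m))) = 4 * Nat.card U) {χ : Sz F m → ℂ}
    (hχ : IsCharacter (Sz F m) χ) (b₀ s : ℤ) (h1 : χ 1 = ((s + b₀ * Nat.card U : ℤ) : ℂ)) :
    ∃ d A B : ℤ, 0 ≤ A ∧ (4 : ℤ) ∣ A ∧ (4 : ℤ) ∣ B ∧ |B| ≤ A ∧ s = d + B ∧
      ((d ^ 2 + A : ℤ) : ℝ) * Nat.card U =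
        ∑ x : U, Complex.normSq (χ x) - Complex.normSq (χ 1) + (s : ℝ) ^ 2 ∧
      (∀ y ∈ U, y ≠ 1 → ‖χ y - d‖ ≤ (A : ℝ)) := by
  have h5 := hU.five_le
  have hfour := card_four_inf hU
  have hne : ({x : Sz F m | orderOf x = 4} ∩ (Subgroup.normalizer (U : Set (Sz F m)) : Set (Sz F m))).Nonempty := by
    rw [← Set.ncard_pos (Set.toFinite _)]
    omega
  obtain ⟨w, hw, hwN⟩ := hne
  have hw' : orderOf w = 4 := hw
  have hwN' : w ∈ Subgroup.normalizer (U : Set (Sz F m)) := hwN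
  have hwinv : w⁻¹ ∈ Subgroup.normalizer (U : Set (Sz F m)) := inv_mem hwN'
  have hww : w * w ∈ Subgroup.normalizer (U : Set (Sz F m)) := mul_mem hwN' hwN'
  have hord : orderOf (w * w) = 2 := by
    have := orderOf_pow_of_dvd (x := w) (n := 2) (by norm_num) (by rw [hw']; norm_num)
    rw [hw', sq] at this
    simpa using this
  let α : U ≃* U :=
    { toFun := fun y => ⟨w * y * w⁻¹, (Subgroup.mem_normalizer_iff.1 hwN' y).1 y.2⟩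
      invFun := fun y => ⟨w⁻¹ * y * w, by
        have := (Subgroup.mem_normalizer_iff.1 hwinv y).1 y.2
        simpa using this⟩
      left_inv := fun y => Subtype.ext (by group)
      right_inv := fun y => Subtype.ext (by group)
      map_mul' := fun x y => Subtype.ext (by
        show w * (x * y : Sz F m) * w⁻¹ = (w * x * w⁻¹) * (w * y * w⁻¹)
        group) }
  obtain ⟨d, A, B, h2, h3, h4, h5', h6, h7, h8⟩ := abelian_four (fun a b => Subtype.ext (hU.comm a.2 b.2)) hU.odd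
    (isCharacter_restrict U hχ) α (by
      intro x
      apply Subtype.ext
      have h2 := invol_inverts hU hord hww x.2
      show w * (w * x * w⁻¹) * w⁻¹ = ((x⁻¹ : U) : Sz F m)
      rw [Subgroup.coe_inv, ← h2]
      group) (by
      intro x
      show χ (w * x * w⁻¹) = χ x
      rw [char_apply_conj hχ]) b₀ s h1
  refine ⟨d, A, B, h2, h3, h4, h5', h6, h7, ?_⟩
  intro y hy hy1
  exact h8 ⟨y, hy⟩ (fun h => hy1 (congrArg Subtype.val h))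

end torus

section master

/-- A pair of representatives of the two classes of tori without fixed points. -/
structure TPair (x₁ x₂ : Sz F m) : Prop where
  h₁ : Fpf x₁
  h₂ : Fpf x₂
  c₁ : Nat.card (cen x₁) = Fintype.card F + 2 ^ (m + 1) + 1
  c₂ : Nat.card (cen x₂) + 2 ^ (m + 1) = Fintype.card F + 1
  cov : ∀ z : Sz F m, Fpf z → z ∈ ucl (cen x₁) ∪ ucl (cen x₂)
  cop : Nat.Coprime (Nat.card (cen x₁)) (Nat.card (cen x₂))
  n₁ : Nat.card (Subgroup.normalizer ((cen x₁ : Subgroup (Sz F m)) : Set (Sz F m))) = Nat.card (cen x₁) * 4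
  n₂ : Nat.card (Subgroup.normalizer ((cen x₂ : Subgroup (Sz F m)) : Set (Sz F m))) = Nat.card (cen x₂) * 4

theorem exists_TPair (F : Type*) [Field F] [Fintype F] (m : ℕ) [CharP F 2] [SzHyp F m] :
    ∃ x₁ x₂ : Sz F m, TPair x₁ x₂ := by
  obtain ⟨x₁, hx₁, hx₁c⟩ := exists_fpf_of_card (F := F) (m := m)
    (k := Fintype.card F + 2 ^ (m + 1) + 1) (Or.inl rfl)
  obtain ⟨x₂, hx₂, hnx, hN₁, hN₂, hcop, -, hcov⟩ := fpf_structure hx₁
  have hq8 := card_F_ge F m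
  have hx₂c : Nat.card (cen x₂) + 2 ^ (m + 1) = Fintype.card F + 1 := by
    rcases card_cen_eq hx₂ with h3 | h3
    · exfalso
      rw [hx₁c, h3, Nat.coprime_self] at hcop
      generalize (2 : ℕ) ^ (m + 1) = r at hcop
      omega
    · exact h3
  exact ⟨x₁, x₂, hx₁, hx₂, hx₁c, hx₂c, hcov, hcop, hN₁, hN₂⟩

/-- **The master identity** for an irreducible character of the Suzuki group. -/
theorem master {x₁ x₂ : Sz F m} (hT : TPair x₁ x₂) {χ : Sz F m → ℂ} (hχ : IsIrrCharacter (Sz F m) χ) :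
    ∃ (c₀ c₁ : ℕ) (E h d₀ A₀ B₀ d₁ A₁ B₁ d₂ A₂ B₂ : ℤ),
      (χ 1).re = c₀ + (2 * (2 : ℝ) ^ (2 * m) - 1) * ((2 * (2 : ℝ) ^ (2 * m) + 1) * c₁ + 2 ^ m * E) ∧
      (χ (tt 0 1)).re = (c₀ : ℝ) - c₁ - 2 ^ m * E ∧
      (χ (tt 1 0)).re = (c₀ : ℝ) - c₁ ∧
      (χ (tt 1 0)).im = 2 ^ m * h ∧
      (2 : ℤ) ∣ E - h ∧
      (0 ≤ A₀ ∧ (2 : ℤ) ∣ A₀ ∧ (2 : ℤ) ∣ B₀ ∧ |B₀| ≤ A₀ ∧ (c₀ : ℤ) = d₀ + B₀) ∧
      (0 ≤ A₁ ∧ (4 : ℤ) ∣ A₁ ∧ (4 : ℤ) ∣ B₁ ∧ |B₁| ≤ A₁ ∧ (c₀ : ℤ) - 2 * c₁ + E = d₁ + B₁) ∧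
      (0 ≤ A₂ ∧ (4 : ℤ) ∣ A₂ ∧ (4 : ℤ) ∣ B₂ ∧ |B₂| ≤ A₂ ∧ (c₀ : ℤ) - 2 * c₁ - E = d₂ + B₂) ∧
      2 * (d₀ ^ 2 + A₀) + (d₁ ^ 2 + A₁) + (d₂ ^ 2 + A₂) + 2 * h ^ 2 = 4 ∧
      (∀ y ∈ dd (oInf F m) (oZero F m), y ≠ 1 → ‖χ y - d₀‖ ≤ (A₀ : ℝ)) ∧
      (∀ y ∈ cen x₁, y ≠ 1 → ‖χ y - d₁‖ ≤ (A₁ : ℝ)) ∧
      (∀ y ∈ cen x₂, y ≠ 1 → ‖χ y - d₂‖ ≤ (A₂ : ℝ)) := by
  classical
  have hχc := IsIrrCharacter.isCharacter hχ
  obtain ⟨c₀, c₁, E, h, ha, hb, hgr, hgi, hpar⟩ := qdata hχc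
  letI : Fintype (Sz F m) := Fintype.ofFinite _
  have hm1 : 1 ≤ m := hm_of F m
  set s : ℝ := (2 : ℝ) ^ m with hs
  have hs2 : (2 : ℝ) ^ (2 * m) = s ^ 2 := by rw [hs, ← pow_mul, mul_comm]
  have hs2le : (2 : ℝ) ≤ s := by
    rw [hs]
    calc (2 : ℝ) = 2 ^ 1 := by norm_num
      _ ≤ 2 ^ m := pow_le_pow_right₀ (by norm_num) hm1
  set si : ℤ := (2 : ℤ) ^ m with hsi
  have hsics : (si : ℝ) = s := by rw [hsi, hs]; push_cast; rfl
  have hsi2 : (2 : ℤ) ≤ si := by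
    have : ((2 : ℤ) : ℝ) ≤ (si : ℝ) := by rw [hsics]; exact_mod_cast hs2le
    exact_mod_cast this
  rw [hs2] at ha
  -- sizes
  have hFcard : Fintype.card F = 2 * 2 ^ (2 * m) := by
    rw [card_F (F := F) (m := m)]
    ring
  have hqr : (Fintype.card F : ℝ) = 2 * s ^ 2 := by
    rw [hFcard]
    push_cast
    rw [hs2]
  have hqi : (Fintype.card F : ℤ) = 2 * si ^ 2 := by
    rw [hFcard, hsi]
    push_cast
    ring
  have hq8 := card_F_ge F m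
  have hrcard : (2 ^ (m + 1) : ℕ) = 2 * 2 ^ m := by ring
  have hrr : (((2 ^ (m + 1) : ℕ)) : ℝ) = 2 * s := by
    rw [hrcard]
    push_cast
    rw [hs]
  have hri : (((2 ^ (m + 1) : ℕ)) : ℤ) = 2 * si := by
    rw [hrcard, hsi]
    push_cast
    ring
  -- the integer value of the degree
  have h1val : χ 1 = ((c₀ + (2 * si ^ 2 - 1) * ((2 * si ^ 2 + 1) * c₁ + si * E) : ℤ) : ℂ) := by
    rw [char_one_real hχc, ha]
    push_cast
    rw [← hsics]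
    simp only [Complex.ofReal_intCast]
  -- tori
  have hne : oInf F m ≠ oZero F m := oZero_ne_inf.symm
  let K : Subgroup (Sz F m) := dd (oInf F m) (oZero F m)
  have hK : IsTorus K := isTorus_dd hne
  obtain ⟨hx₁, hx₂, hx₁c, hx₂c, hcov, hcop, hN₁, hN₂⟩ := hT
  have hr4 : 4 ≤ 2 ^ (m + 1) := by
    calc 4 = 2 ^ 2 := by norm_num
      _ ≤ 2 ^ (m + 1) := Nat.pow_le_pow_right (by norm_num) (by omega)
  letI : Fintype K := Fintype.ofFinite _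
  letI : Fintype (cen x₁) := Fintype.ofFinite _
  letI : Fintype (cen x₂) := Fintype.ofFinite _
  have hKcard : ((Nat.card K : ℕ) : ℤ) = 2 * si ^ 2 - 1 := by
    have : Nat.card K = Fintype.card F - 1 := card_dd hne
    rw [this, Nat.cast_sub (by omega), hqi]
    simp
  have hKcardr : ((Nat.card K : ℕ) : ℝ) = 2 * s ^ 2 - 1 := by
    have := congrArg (fun z : ℤ => (z : ℝ)) hKcard
    push_cast at this
    rw [hsics] at this
    exact this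
  have hT₁card : ((Nat.card (cen x₁) : ℕ) : ℤ) = 2 * si ^ 2 + 2 * si + 1 := by
    rw [hx₁c]
    push_cast
    have := hqi
    have h2 := hri
    push_cast at h2
    rw [this, h2]
  have hT₁cardr : ((Nat.card (cen x₁) : ℕ) : ℝ) = 2 * s ^ 2 + 2 * s + 1 := by
    have := congrArg (fun z : ℤ => (z : ℝ)) hT₁card
    push_cast at this
    rw [hsics] at this
    exact this
  have hT₂card : ((Nat.card (cen x₂) : ℕ) : ℤ) = 2 * si ^ 2 - 2 * si + 1 := by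
    have h2 : ((Nat.card (cen x₂) : ℕ) : ℤ) + ((2 ^ (m + 1) : ℕ) : ℤ) = (Fintype.card F : ℤ) + 1 := by
      exact_mod_cast hx₂c
    rw [hri, hqi] at h2
    linarith
  have hT₂cardr : ((Nat.card (cen x₂) : ℕ) : ℝ) = 2 * s ^ 2 - 2 * s + 1 := by
    have := congrArg (fun z : ℤ => (z : ℝ)) hT₂card
    push_cast at this
    rw [hsics] at this
    exact this
  -- the three abelian data
  obtain ⟨d₀, A₀, B₀, h0A, h2A₀, h2B₀, hB₀, hc₀, hP₀, hv₀⟩ := abel_two_torus hK hχc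
    ((2 * si ^ 2 + 1) * c₁ + si * E) (c₀ : ℤ) (by
      rw [h1val, hKcard]
      congr 1
      ring)
  obtain ⟨d₁, A₁, B₁, h1A, h4A₁, h4B₁, hB₁, hc₁, hP₁, hv₁⟩ := abel_four_torus (isTorus_cen hx₁)
    (by rw [hN₁]; ring) hχc
    (c₁ * (2 * si ^ 2 - 2 * si + 1) + E * (si - 1)) ((c₀ : ℤ) - 2 * c₁ + E) (by
      rw [h1val, hT₁card]
      congr 1
      ring)
  obtain ⟨d₂, A₂, B₂, h2A, h4A₂, h4B₂, hB₂, hc₂, hP₂, hv₂⟩ := abel_four_torus (isTorus_cen hx₂)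
    (by rw [hN₂]; ring) hχc
    (c₁ * (2 * si ^ 2 + 2 * si + 1) + E * (si + 1)) ((c₀ : ℤ) - 2 * c₁ - E) (by
      rw [h1val, hT₂card]
      congr 1
      ring)
  refine ⟨c₀, c₁, E, h, d₀, A₀, B₀, d₁, A₁, B₁, d₂, A₂, B₂, ?_, hb, hgr, hgi, hpar,
    ⟨h0A, h2A₀, h2B₀, hB₀, hc₀⟩, ⟨h1A, h4A₁, h4B₁, hB₁, hc₁⟩, ⟨h2A, h4A₂, h4B₂, hB₂, hc₂⟩, ?_, hv₀, hv₁, hv₂⟩
  · rw [hs2]
    exact ha
  -- the norm
  let f : Sz F m → ℝ := fun g => Complex.normSq (χ g)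
  have hf : ∀ g x : Sz F m, f (g * x * g⁻¹) = f x := by
    intro g x
    show Complex.normSq (χ (g * x * g⁻¹)) = Complex.normSq (χ x)
    rw [char_apply_conj hχc]
  have hNG : (Nat.card (Sz F m) : ℝ) = (2 * s ^ 2) ^ 2 * ((2 * s ^ 2) ^ 2 + 1) * (2 * s ^ 2 - 1) := by
    rw [card_Sz]
    push_cast
    rw [Nat.cast_sub (by omega), hqr]
    simp
  have hsum : ∑ g, f g = (Nat.card (Sz F m) : ℝ) := by
    have h2 := classInner_irr_self hχ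
    unfold classInner at h2
    have h3 : ∀ x : Sz F m, χ x * conj (χ x) = ((f x : ℝ) : ℂ) := fun x => Complex.mul_conj _
    rw [Finset.sum_congr rfl (fun x _ => h3 x), ← Complex.ofReal_sum] at h2
    have hne' : (Nat.card (Sz F m) : ℂ) ≠ 0 := natCard_ne_zero'
    have h4 : ((∑ g, f g : ℝ) : ℂ) = ((Nat.card (Sz F m) : ℝ) : ℂ) := by
      push_cast
      push_cast at h2
      field_simp at h2
      exact h2
    exact_mod_cast h4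
  have hpart := sum_partition f hcov hx₁ hx₂ hcop
  -- values
  have hf1 : f 1 = (χ 1).re ^ 2 := by
    show Complex.normSq (χ 1) = _
    rw [char_one_real hχc, Complex.normSq_ofReal]
    simp [sq]
  have hfz : ∀ x ∈ {x : Sz F m | orderOf x = 2}, f x = (χ (tt 0 1)).re ^ 2 := by
    intro x hx
    obtain ⟨k, hk⟩ := conj_order_two (orderOf_tt_zero (F := F) (m := m) (one_ne_zero)) hx
    show Complex.normSq (χ x) = _
    rw [hk, char_apply_conj hχc, char_tt_zero_real hχc, Complex.normSq_ofReal]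
    simp [sq]
  have hfu : ∀ x ∈ {x : Sz F m | orderOf x = 4}, f x = (χ (tt 1 0)).re ^ 2 + (χ (tt 1 0)).im ^ 2 := by
    intro x hx
    obtain ⟨k, hk⟩ := conj_order_four (orderOf_tt_ne (F := F) (m := m) (one_ne_zero) 0) hx
    show Complex.normSq (χ x) = _
    rcases hk with hk | hk
    · rw [hk, char_apply_conj hχc, Complex.normSq_apply]
      ring
    · rw [hk, char_apply_conj hχc, ← char_conj_eq_inv hχc, Complex.normSq_conj, Complex.normSq_apply]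
      ring
  rw [sumOn_const hfz, sumOn_const hfu, card_order_two, card_order_four] at hpart
  have hI : (((Fintype.card F ^ 2 + 1) * (Fintype.card F - 1) : ℕ) : ℝ) =
      ((2 * s ^ 2) ^ 2 + 1) * (2 * s ^ 2 - 1) := by
    push_cast
    rw [Nat.cast_sub (by omega), hqr]
    simp
  have hO : (((Fintype.card F ^ 2 + 1) * (Fintype.card F * (Fintype.card F - 1)) : ℕ) : ℝ) =
      ((2 * s ^ 2) ^ 2 + 1) * (2 * s ^ 2 * (2 * s ^ 2 - 1)) := by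
    push_cast
    rw [Nat.cast_sub (by omega), hqr]
    simp
  rw [hI, hO, hf1, hb, hgr, hgi, ha, hsum, hNG] at hpart
  -- the three conjugate sums
  have hX₀ := sum_ucl (isTI_dd hne) f hf
  have hX₁ := sum_ucl (isTI_cen hx₁) f hf
  have hX₂ := sum_ucl (isTI_cen hx₂) f hf
  have hNK : ((Nat.card (Subgroup.normalizer (K : Set (Sz F m))) : ℕ) : ℝ) = 2 * (2 * s ^ 2 - 1) := by
    rw [card_normalizer_dd]
    push_cast
    rw [Nat.cast_sub (by omega), hqr]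
    simp
  have hNT₁ : ((Nat.card (Subgroup.normalizer ((cen x₁ : Subgroup (Sz F m)) : Set (Sz F m))) : ℕ) : ℝ) =
      4 * (2 * s ^ 2 + 2 * s + 1) := by
    rw [hN₁]
    push_cast
    rw [hT₁cardr]
    ring
  have hNT₂ : ((Nat.card (Subgroup.normalizer ((cen x₂ : Subgroup (Sz F m)) : Set (Sz F m))) : ℕ) : ℝ) =
      4 * (2 * s ^ 2 - 2 * s + 1) := by
    rw [hN₂]
    push_cast
    rw [hT₂cardr]
    ring
  have hf1' : f 1 = Complex.normSq (χ 1) := rfl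
  have e₀ : ∑ y : K, f y - f 1 = ((d₀ ^ 2 + A₀ : ℤ) : ℝ) * (2 * s ^ 2 - 1) - (c₀ : ℝ) ^ 2 := by
    rw [hKcardr] at hP₀
    have h3 : ∑ y : K, f y = ∑ x : K, Complex.normSq (χ x) := rfl
    rw [hf1', h3]
    push_cast at hP₀ ⊢
    linarith
  have e₁ : ∑ y : cen x₁, f y - f 1 = ((d₁ ^ 2 + A₁ : ℤ) : ℝ) * (2 * s ^ 2 + 2 * s + 1) -
      ((c₀ : ℝ) - 2 * c₁ + E) ^ 2 := by
    rw [hT₁cardr] at hP₁
    have h3 : ∑ y : cen x₁, f y = ∑ x : cen x₁, Complex.normSq (χ x) := rfl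
    rw [hf1', h3]
    push_cast at hP₁ ⊢
    linarith
  have e₂ : ∑ y : cen x₂, f y - f 1 = ((d₂ ^ 2 + A₂ : ℤ) : ℝ) * (2 * s ^ 2 - 2 * s + 1) -
      ((c₀ : ℝ) - 2 * c₁ - E) ^ 2 := by
    rw [hT₂cardr] at hP₂
    have h3 : ∑ y : cen x₂, f y = ∑ x : cen x₂, Complex.normSq (χ x) := rfl
    rw [hf1', h3]
    push_cast at hP₂ ⊢
    linarith
  rw [hNK, hNG, e₀] at hX₀
  rw [hNT₁, hNG, e₁] at hX₁
  rw [hNT₂, hNG, e₂] at hX₂
  have hfin := arith_master s c₀ c₁ E h ((d₀ ^ 2 + A₀ : ℤ) : ℝ) ((d₁ ^ 2 + A₁ : ℤ) : ℝ) ((d₂ ^ 2 + A₂ : ℤ) : ℝ)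
    _ _ _ hs2le hX₀ hX₁ hX₂ hpart
  have : ((2 * (d₀ ^ 2 + A₀) + (d₁ ^ 2 + A₁) + (d₂ ^ 2 + A₂) + 2 * h ^ 2 : ℤ) : ℝ) = ((4 : ℤ) : ℝ) := by
    push_cast at hfin ⊢
    linarith
  exact_mod_cast this

end master

end Cfsg.Agent.Lib.SzChar
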