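/-
The Suzuki group: classification of the irreducible characters by their values on 2-elements, and
the set of irreducible character degrees.
-/
import Mathlib
import Cfsg.Prelude.Def_DegreeGraph
import Cfsg.Agent.Lib.SzCharC
import Cfsg.Agent.Lib.CharKernel

set_option autoImplicit false
set_option linter.unusedSectionVars false
set_option linter.unusedVariables false
set_option linter.unnecessarySimpa false
set_option linter.style.haveILetI false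

namespace Cfsg.Agent.Lib.SzChar

open Cfsg Cfsg.Agent.Lib.CharBasic Cfsg.Agent.Lib.CharInd Cfsg.Agent.Lib.SzTorus
  Cfsg.Agent.Lib.SuzukiBasic Cfsg.Agent.Lib.Suzuki Cfsg.Agent.Lib.Suzuki2
  Cfsg.Agent.Lib.Suzuki3 Cfsg.Agent.Lib.Suzuki4 Cfsg.Agent.Lib.SuzukiMax Cfsg.Agent.Lib.SzSub
open scoped ComplexConjugate

set_option maxHeartbeats 2000000 in
/-- The integer constraints leave six possibilities. -/
theorem classify_int (c₀ c₁ : ℕ) (E h d₀ A₀ B₀ d₁ A₁ B₁ d₂ A₂ B₂ : ℤ)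
    (hpar : (2 : ℤ) ∣ E - h)
    (h0 : 0 ≤ A₀ ∧ (2 : ℤ) ∣ A₀ ∧ (2 : ℤ) ∣ B₀ ∧ |B₀| ≤ A₀ ∧ (c₀ : ℤ) = d₀ + B₀)
    (h1 : 0 ≤ A₁ ∧ (4 : ℤ) ∣ A₁ ∧ (4 : ℤ) ∣ B₁ ∧ |B₁| ≤ A₁ ∧ (c₀ : ℤ) - 2 * c₁ + E = d₁ + B₁)
    (h2 : 0 ≤ A₂ ∧ (4 : ℤ) ∣ A₂ ∧ (4 : ℤ) ∣ B₂ ∧ |B₂| ≤ A₂ ∧ (c₀ : ℤ) - 2 * c₁ - E = d₂ + B₂)
    (heq : 2 * (d₀ ^ 2 + A₀) + (d₁ ^ 2 + A₁) + (d₂ ^ 2 + A₂) + 2 * h ^ 2 = 4)
    (hpos : c₀ = 0 → c₁ = 0 → 0 < E) :
    (c₀ = 1 ∧ c₁ = 0 ∧ E = 0 ∧ h = 0 ∧ d₀ = 1 ∧ A₀ = 0 ∧ d₁ = 1 ∧ A₁ = 0 ∧ d₂ = 1 ∧ A₂ = 0) ∨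
    (c₀ = 1 ∧ c₁ = 1 ∧ E = 0 ∧ h = 0 ∧ d₀ = 1 ∧ A₀ = 0 ∧ d₁ = -1 ∧ A₁ = 0 ∧ d₂ = -1 ∧ A₂ = 0) ∨
    (c₀ = 2 ∧ c₁ = 1 ∧ E = 0 ∧ h = 0 ∧ d₀ = 0 ∧ A₀ = 2 ∧ d₁ = 0 ∧ A₁ = 0 ∧ d₂ = 0 ∧ A₂ = 0) ∨
    (c₀ = 0 ∧ c₁ = 1 ∧ E = -2 ∧ h = 0 ∧ d₀ = 0 ∧ A₀ = 0 ∧ d₁ = 0 ∧ A₁ = 4 ∧ d₂ = 0 ∧ A₂ = 0) ∨
    (c₀ = 0 ∧ c₁ = 1 ∧ E = 2 ∧ h = 0 ∧ d₀ = 0 ∧ A₀ = 0 ∧ d₁ = 0 ∧ A₁ = 0 ∧ d₂ = 0 ∧ A₂ = 4) ∨
    (c₀ = 0 ∧ c₁ = 0 ∧ E = 1 ∧ (h = 1 ∨ h = -1) ∧ d₀ = 0 ∧ A₀ = 0 ∧ d₁ = 1 ∧ A₁ = 0 ∧ d₂ = -1 ∧ A₂ = 0) := by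
  obtain ⟨a0, a1, a2, a3, a4⟩ := h0
  obtain ⟨b0, b1, b2, b3, b4⟩ := h1
  obtain ⟨c0, c1', c2, c3, c4⟩ := h2
  rw [abs_le] at a3 b3 c3
  have s0 := sq_nonneg d₀
  have s1 := sq_nonneg d₁
  have s2 := sq_nonneg d₂
  have s3 := sq_nonneg h
  have hc0 := Int.natCast_nonneg c₀
  have hc1 := Int.natCast_nonneg c₁
  have hpos' : (c₀ : ℤ) ≠ 0 ∨ (c₁ : ℤ) ≠ 0 ∨ 0 < E := by
    by_cases h3 : (c₀ : ℤ) = 0
    · by_cases h4 : (c₁ : ℤ) = 0
      · right; right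
        exact hpos (by exact_mod_cast h3) (by exact_mod_cast h4)
      · right; left; exact h4
    · left; exact h3
  clear hpos
  have hb0 : d₀ ^ 2 < 2 ^ 2 := by linarith
  have hb1 : d₁ ^ 2 < 3 ^ 2 := by linarith
  have hb2 : d₂ ^ 2 < 3 ^ 2 := by linarith
  have hb3 : h ^ 2 < 2 ^ 2 := by linarith
  obtain ⟨l0, u0⟩ := abs_lt_of_sq_lt_sq' hb0 (by norm_num)
  obtain ⟨l1, u1⟩ := abs_lt_of_sq_lt_sq' hb1 (by norm_num)
  obtain ⟨l2, u2⟩ := abs_lt_of_sq_lt_sq' hb2 (by norm_num)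
  obtain ⟨l3, u3⟩ := abs_lt_of_sq_lt_sq' hb3 (by norm_num)
  clear hb0 hb1 hb2 hb3
  have hA0 : A₀ = 0 ∨ A₀ = 2 := by
    have : 2 * A₀ ≤ 4 := by linarith
    omega
  have hA1 : A₁ = 0 ∨ A₁ = 4 := by
    have : A₁ ≤ 4 := by linarith
    omega
  have hA2 : A₂ = 0 ∨ A₂ = 4 := by
    have : A₂ ≤ 4 := by linarith
    omega
  clear s0 s1 s2 s3
  have hsplit : (A₀ = 2 ∧ A₁ = 0 ∧ A₂ = 0) ∨ (A₀ = 0 ∧ A₁ = 4 ∧ A₂ = 0) ∨ (A₀ = 0 ∧ A₁ = 0 ∧ A₂ = 4) ∨
      (A₀ = 0 ∧ A₁ = 0 ∧ A₂ = 0) := by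
    have : 2 * A₀ + A₁ + A₂ ≤ 4 := by nlinarith [sq_nonneg d₀, sq_nonneg d₁, sq_nonneg d₂, sq_nonneg h]
    omega
  clear hA0 hA1 hA2
  have hzero : ∀ x : ℤ, x ^ 2 ≤ 0 → x = 0 := fun x hx => by
    have : x ^ 2 = 0 := le_antisymm hx (sq_nonneg x)
    exact pow_eq_zero_iff (two_ne_zero) |>.1 this
  rcases hsplit with ⟨rfl, rfl, rfl⟩ | ⟨rfl, rfl, rfl⟩ | ⟨rfl, rfl, rfl⟩ | ⟨rfl, rfl, rfl⟩
  · have e0 := hzero d₀ (by linarith [sq_nonneg d₀, sq_nonneg d₁, sq_nonneg d₂, sq_nonneg h])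
    have e1 := hzero d₁ (by linarith [sq_nonneg d₀, sq_nonneg d₁, sq_nonneg d₂, sq_nonneg h])
    have e2 := hzero d₂ (by linarith [sq_nonneg d₀, sq_nonneg d₁, sq_nonneg d₂, sq_nonneg h])
    have e3 := hzero h (by linarith [sq_nonneg d₀, sq_nonneg d₁, sq_nonneg d₂, sq_nonneg h])
    clear heq
    subst e0 e1 e2 e3
    have hB1 : B₁ = 0 := by omega
    have hB2 : B₂ = 0 := by omega
    subst hB1 hB2
    have hE : E = 0 := by omega
    have hc : (c₀ : ℤ) = 2 * c₁ := by omega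
    have hc2 : (c₀ : ℤ) = 0 ∨ (c₀ : ℤ) = 2 := by omega
    right; right; left
    rcases hc2 with hc2 | hc2
    · exfalso
      omega
    · exact ⟨by omega, by omega, hE, rfl, rfl, rfl, rfl, rfl, rfl, rfl⟩
  · have e0 := hzero d₀ (by linarith [sq_nonneg d₀, sq_nonneg d₁, sq_nonneg d₂, sq_nonneg h])
    have e1 := hzero d₁ (by linarith [sq_nonneg d₀, sq_nonneg d₁, sq_nonneg d₂, sq_nonneg h])
    have e2 := hzero d₂ (by linarith [sq_nonneg d₀, sq_nonneg d₁, sq_nonneg d₂, sq_nonneg h])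
    have e3 := hzero h (by linarith [sq_nonneg d₀, sq_nonneg d₁, sq_nonneg d₂, sq_nonneg h])
    clear heq
    subst e0 e1 e2 e3
    have hB0 : B₀ = 0 := by omega
    have hB2 : B₂ = 0 := by omega
    subst hB0 hB2
    have hc : (c₀ : ℤ) = 0 := by omega
    have hE : E = -2 * c₁ := by omega
    have hc2 : (c₁ : ℤ) = 0 ∨ (c₁ : ℤ) = 1 := by omega
    right; right; right; left
    rcases hc2 with hc2 | hc2
    · exfalso
      omega
    · exact ⟨by omega, by omega, by omega, rfl, rfl, rfl, rfl, rfl, rfl, rfl⟩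
  · have e0 := hzero d₀ (by linarith [sq_nonneg d₀, sq_nonneg d₁, sq_nonneg d₂, sq_nonneg h])
    have e1 := hzero d₁ (by linarith [sq_nonneg d₀, sq_nonneg d₁, sq_nonneg d₂, sq_nonneg h])
    have e2 := hzero d₂ (by linarith [sq_nonneg d₀, sq_nonneg d₁, sq_nonneg d₂, sq_nonneg h])
    have e3 := hzero h (by linarith [sq_nonneg d₀, sq_nonneg d₁, sq_nonneg d₂, sq_nonneg h])
    clear heq
    subst e0 e1 e2 e3
    have hB0 : B₀ = 0 := by omega
    have hB1 : B₁ = 0 := by omega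
    subst hB0 hB1
    have hc : (c₀ : ℤ) = 0 := by omega
    have hE : E = 2 * c₁ := by omega
    have hc2 : (c₁ : ℤ) = 0 ∨ (c₁ : ℤ) = 1 := by omega
    right; right; right; right; left
    rcases hc2 with hc2 | hc2
    · exfalso
      omega
    · exact ⟨by omega, by omega, by omega, rfl, rfl, rfl, rfl, rfl, rfl, rfl⟩
  · have hB0 : B₀ = 0 := by omega
    have hB1 : B₁ = 0 := by omega
    have hB2 : B₂ = 0 := by omega
    subst hB0 hB1 hB2
    clear a0 a1 a2 a3 b0 b1 b2 b3 c0 c1' c2 c3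
    have hd0 : 0 ≤ d₀ := by omega
    interval_cases h <;> interval_cases d₀ <;> interval_cases d₁ <;> interval_cases d₂ <;>
      first
      | (exfalso; norm_num at heq; done)
      | (exfalso; omega)
      | (refine Or.inl ?_; omega)
      | (refine Or.inr (Or.inl ?_); omega)
      | (refine Or.inr (Or.inr (Or.inl ?_)); omega)
      | (refine Or.inr (Or.inr (Or.inr (Or.inl ?_))); omega)
      | (refine Or.inr (Or.inr (Or.inr (Or.inr (Or.inl ?_)))); omega)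
      | (refine Or.inr (Or.inr (Or.inr (Or.inr (Or.inr ?_)))); omega)

variable {F : Type*} [Field F] [Fintype F] {m : ℕ} [CharP F 2] [SzHyp F m]

section types

/-- The degrees in the six types. -/
noncomputable def aT (s : ℝ) : Fin 6 → ℝ :=
  ![1, (2 * s ^ 2) ^ 2, (2 * s ^ 2) ^ 2 + 1, (2 * s ^ 2 - 1) * (2 * s ^ 2 - 2 * s + 1),
    (2 * s ^ 2 - 1) * (2 * s ^ 2 + 2 * s + 1), (2 * s ^ 2 - 1) * s]

/-- The values on an involution in the six types. -/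
noncomputable def bT (s : ℝ) : Fin 6 → ℝ := ![1, 0, 1, 2 * s - 1, -2 * s - 1, -s]

/-- The real part of the values on an element of order four in the six types. -/
noncomputable def grT : Fin 6 → ℝ := ![1, 0, 1, -1, -1, 0]

/-- The square of the imaginary part of the values on an element of order four. -/
noncomputable def giT (s : ℝ) : Fin 6 → ℝ := ![0, 0, 0, 0, 0, s ^ 2]

theorem aT_0 (s : ℝ) : aT s 0 = 1 := rfl
theorem aT_1 (s : ℝ) : aT s 1 = (2 * s ^ 2) ^ 2 := rfl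
theorem aT_2 (s : ℝ) : aT s 2 = (2 * s ^ 2) ^ 2 + 1 := rfl
theorem aT_3 (s : ℝ) : aT s 3 = (2 * s ^ 2 - 1) * (2 * s ^ 2 - 2 * s + 1) := rfl
theorem aT_4 (s : ℝ) : aT s 4 = (2 * s ^ 2 - 1) * (2 * s ^ 2 + 2 * s + 1) := rfl
theorem aT_5 (s : ℝ) : aT s 5 = (2 * s ^ 2 - 1) * s := rfl
theorem bT_0 (s : ℝ) : bT s 0 = 1 := rfl
theorem bT_1 (s : ℝ) : bT s 1 = 0 := rfl
theorem bT_2 (s : ℝ) : bT s 2 = 1 := rfl
theorem bT_3 (s : ℝ) : bT s 3 = 2 * s - 1 := rfl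
theorem bT_4 (s : ℝ) : bT s 4 = -2 * s - 1 := rfl
theorem bT_5 (s : ℝ) : bT s 5 = -s := rfl
theorem grT_0 : grT 0 = 1 := rfl
theorem grT_1 : grT 1 = 0 := rfl
theorem grT_2 : grT 2 = 1 := rfl
theorem grT_3 : grT 3 = -1 := rfl
theorem grT_4 : grT 4 = -1 := rfl
theorem grT_5 : grT 5 = 0 := rfl
theorem giT_0 (s : ℝ) : giT s 0 = 0 := rfl
theorem giT_1 (s : ℝ) : giT s 1 = 0 := rfl
theorem giT_2 (s : ℝ) : giT s 2 = 0 := rfl
theorem giT_3 (s : ℝ) : giT s 3 = 0 := rfl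
theorem giT_4 (s : ℝ) : giT s 4 = 0 := rfl
theorem giT_5 (s : ℝ) : giT s 5 = s ^ 2 := rfl

/-- The central value on the torus of order `q - 1` in the six types. -/
def dK : Fin 6 → ℤ := ![1, 1, 0, 0, 0, 0]
/-- The spread on the torus of order `q - 1` in the six types. -/
def aK : Fin 6 → ℤ := ![0, 0, 2, 0, 0, 0]
/-- The central value on the large cyclic torus in the six types. -/
def dU : Fin 6 → ℤ := ![1, -1, 0, 0, 0, 1]
/-- The spread on the large cyclic torus in the six types. -/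
def aU : Fin 6 → ℤ := ![0, 0, 0, 4, 0, 0]
/-- The central value on the small cyclic torus in the six types. -/
def dV : Fin 6 → ℤ := ![1, -1, 0, 0, 0, -1]
/-- The spread on the small cyclic torus in the six types. -/
def aV : Fin 6 → ℤ := ![0, 0, 0, 0, 4, 0]

/-- All the data of an irreducible character in one statement. -/
def IsOfType {x₁ x₂ : Sz F m} (_hT : TPair x₁ x₂) (χ : Sz F m → ℂ) (i : Fin 6) : Prop :=
  (χ 1).re = aT (2 ^ m) i ∧ (χ (tt 0 1)).re = bT (2 ^ m) i ∧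
    (χ (tt 1 0)).re = grT i ∧ (χ (tt 1 0)).im ^ 2 = giT (2 ^ m) i ∧
    (∀ y ∈ dd (oInf F m) (oZero F m), y ≠ 1 → ‖χ y - (dK i : ℤ)‖ ≤ ((aK i : ℤ) : ℝ)) ∧
    (∀ y ∈ cen x₁, y ≠ 1 → ‖χ y - (dU i : ℤ)‖ ≤ ((aU i : ℤ) : ℝ)) ∧
    (∀ y ∈ cen x₂, y ≠ 1 → ‖χ y - (dV i : ℤ)‖ ≤ ((aV i : ℤ) : ℝ))

theorem irr_type {x₁ x₂ : Sz F m} (hT : TPair x₁ x₂) {χ : Sz F m → ℂ} (hχ : IsIrrCharacter (Sz F m) χ) :
    ∃ i : Fin 6, IsOfType hT χ i := by
  obtain ⟨c₀, c₁, E, h, d₀, A₀, B₀, d₁, A₁, B₁, d₂, A₂, B₂, ha, hb, hgr, hgi, hpar, h0, h1, h2, heq,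
    hv0, hv1, hv2⟩ := master hT hχ
  have hm1 : 1 ≤ m := hm_of F m
  set s : ℝ := (2 : ℝ) ^ m with hs
  have hs2 : (2 : ℝ) ^ (2 * m) = s ^ 2 := by rw [hs, ← pow_mul, mul_comm]
  have hs2le : (2 : ℝ) ≤ s := by
    rw [hs]
    calc (2 : ℝ) = 2 ^ 1 := by norm_num
      _ ≤ 2 ^ m := pow_le_pow_right₀ (by norm_num) hm1
  rw [hs2] at ha
  have hpos : c₀ = 0 → c₁ = 0 → 0 < E := by
    rintro rfl rfl
    obtain ⟨n, hn, hn1⟩ := Cfsg.Agent.Lib.CharAvg.irr_one_eq hχ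
    rw [hn1] at ha
    simp only [Complex.natCast_re, Nat.cast_zero, zero_add, mul_zero, zero_add] at ha
    have h3 : (0 : ℝ) < n := by exact_mod_cast hn
    rw [ha] at h3
    have h4 : 0 < 2 * s ^ 2 - 1 := by nlinarith
    have h5 : (0 : ℝ) < E := by
      by_contra hc
      push Not at hc
      have h6 : (2 * s ^ 2 - 1) * (s * E) ≤ 0 :=
        mul_nonpos_of_nonneg_of_nonpos h4.le (mul_nonpos_of_nonneg_of_nonpos (by linarith) hc)
      linarith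
    exact_mod_cast h5
  rcases classify_int c₀ c₁ E h d₀ A₀ B₀ d₁ A₁ B₁ d₂ A₂ B₂ hpar h0 h1 h2 heq hpos with
    ⟨rfl, rfl, rfl, rfl, rfl, rfl, rfl, rfl, rfl, rfl⟩ |
    ⟨rfl, rfl, rfl, rfl, rfl, rfl, rfl, rfl, rfl, rfl⟩ |
    ⟨rfl, rfl, rfl, rfl, rfl, rfl, rfl, rfl, rfl, rfl⟩ |
    ⟨rfl, rfl, rfl, rfl, rfl, rfl, rfl, rfl, rfl, rfl⟩ |
    ⟨rfl, rfl, rfl, rfl, rfl, rfl, rfl, rfl, rfl, rfl⟩ |
    ⟨rfl, rfl, rfl, h4, rfl, rfl, rfl, rfl, rfl, rfl⟩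
  · refine ⟨0, ?_, ?_, ?_, ?_, hv0, hv1, hv2⟩
    · rw [ha, aT_0]; push_cast; ring
    · rw [hb, bT_0]; push_cast; ring
    · rw [hgr, grT_0]; push_cast; ring
    · rw [hgi, giT_0]; push_cast; ring
  · refine ⟨1, ?_, ?_, ?_, ?_, hv0, hv1, hv2⟩
    · rw [ha, aT_1]; push_cast; ring
    · rw [hb, bT_1]; push_cast; ring
    · rw [hgr, grT_1]; push_cast; ring
    · rw [hgi, giT_1]; push_cast; ring
  · refine ⟨2, ?_, ?_, ?_, ?_, hv0, hv1, hv2⟩
    · rw [ha, aT_2]; push_cast; ring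
    · rw [hb, bT_2]; push_cast; ring
    · rw [hgr, grT_2]; push_cast; ring
    · rw [hgi, giT_2]; push_cast; ring
  · refine ⟨3, ?_, ?_, ?_, ?_, hv0, hv1, hv2⟩
    · rw [ha, aT_3]; push_cast; ring
    · rw [hb, bT_3]; push_cast; ring
    · rw [hgr, grT_3]; push_cast; ring
    · rw [hgi, giT_3]; push_cast; ring
  · refine ⟨4, ?_, ?_, ?_, ?_, hv0, hv1, hv2⟩
    · rw [ha, aT_4]; push_cast; ring
    · rw [hb, bT_4]; push_cast; ring
    · rw [hgr, grT_4]; push_cast; ring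
    · rw [hgi, giT_4]; push_cast; ring
  · refine ⟨5, ?_, ?_, ?_, ?_, hv0, hv1, hv2⟩
    · rw [ha, aT_5]; push_cast; ring
    · rw [hb, bT_5]; push_cast; ring
    · rw [hgr, grT_5]; push_cast; ring
    · rw [hgi, giT_5]
      rcases h4 with rfl | rfl <;> push_cast <;> ring

end types

section conjSec

theorem not_isConj_tt_inv : ¬ IsConj (tt 1 0 : Sz F m) (tt 1 0 : Sz F m)⁻¹ := by
  intro h
  obtain ⟨k, hk⟩ := isConj_iff.1 h
  have hinv : (tt 1 0 : Sz F m)⁻¹ = tt 1 1 := by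
    rw [tt_one_inv, zero_add]
  rw [hinv] at hk
  -- `k` fixes the point at infinity
  have h1 : (tt 1 1 : Sz F m) ≠ 1 := by
    intro h1
    have := tt_inj (F := F) (m := m) (h1.trans tt_zero.symm)
    exact one_ne_zero this.1
  have h2 : (tt 1 1 : Sz F m) • (k • oInf F m) = k • oInf F m := by
    rw [← hk]
    exact conj_tt_fix k 1 0
  have h3 : k • oInf F m = oInf F m := tt_fix_inf h1 h2
  have h4 : k ∈ Binf F m := mem_Binf'.2 h3
  obtain ⟨c, d, α, rfl⟩ := mem_stab_inf_iff.1 (mem_Binf.1 h4)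
  have h5 : (tt c d * hh α * tt 1 0 * (tt c d * hh α)⁻¹ : Sz F m) =
      tt c d * tt (α : F) 0 * (tt c d)⁻¹ := by
    have h6 := hh_mul_tt (F := F) (m := m) α 1 0
    simp only [mul_one, mul_zero] at h6
    rw [mul_inv_rev, mul_assoc (tt c d), h6]
    group
  rw [h5, tt_inv, tt_mul, tt_mul] at hk
  have h7 := tt_inj (F := F) (m := m) hk
  have h8 : (α : F) = 1 := by
    have h9 := h7.1
    have h10 : c + (α : F) + c = (α : F) := by
      have := add_self_F c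
      linear_combination this
    rwa [h10] at h9
  have h11 : α = 1 := Units.ext h8
  subst h11
  rw [hh_one, mul_one] at h5
  -- now `k` is in the Sylow subgroup
  have h12 := h7.2
  have h13 : (tt c d * tt 1 0 * (tt c d)⁻¹ : Sz F m) = tt 1 (0 + (phi m c + c)) := conj_tt_one c d 0
  have h14 : (tt c d * tt ((1 : Fˣ) : F) 0 * (tt c d)⁻¹ : Sz F m) = tt 1 1 := by
    rw [tt_inv, tt_mul, tt_mul]
    have h15 : c + ((1 : Fˣ) : F) + c = 1 := by
      have := add_self_F c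
      simp only [Units.val_one]
      linear_combination this
    rw [h15, h12]
  simp only [Units.val_one] at h14
  rw [h13] at h14
  have h16 := (tt_inj (F := F) (m := m) h14).2
  rw [zero_add] at h16
  exact one_not_add_phi c h16

theorem orderOf_of_isConj {G : Type*} [Group G] {a b : G} (h : IsConj a b) : orderOf a = orderOf b := by
  obtain ⟨c, rfl⟩ := isConj_iff.1 h
  exact (orderOf_conj_eq c a).symm

theorem card_centralizer_z :
    Nat.card (Subgroup.centralizer ({(tt 0 1 : Sz F m)} : Set (Sz F m))) = Fintype.card F ^ 2 := by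
  letI : Fintype (Sz F m) := Fintype.ofFinite _
  have h1 := card_conj_mul_card_centralizer (tt 0 1 : Sz F m)
  have hz := orderOf_tt_zero (F := F) (m := m) (b := 1) one_ne_zero
  have h2 : ({x : Sz F m | IsConj (tt 0 1 : Sz F m) x}) = {x : Sz F m | orderOf x = 2} := by
    ext x
    constructor
    · intro hx
      show orderOf x = 2
      rw [← orderOf_of_isConj hx, hz]
    · intro hx
      obtain ⟨k, hk⟩ := conj_order_two hz hx
      exact isConj_iff.2 ⟨k, hk.symm⟩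
  have h3 : Nat.card {x : Sz F m // IsConj (tt 0 1 : Sz F m) x} = (Fintype.card F ^ 2 + 1) * (Fintype.card F - 1) := by
    rw [← card_order_two (F := F) (m := m), ← h2]
    rfl
  rw [h3, card_Sz] at h1
  have hq := card_F_ge F m
  have hpos : 0 < (Fintype.card F ^ 2 + 1) * (Fintype.card F - 1) :=
    Nat.mul_pos (by positivity) (by omega)
  apply Nat.eq_of_mul_eq_mul_left hpos
  rw [h1]
  ring

theorem card_centralizer_u :
    Nat.card (Subgroup.centralizer ({(tt 1 0 : Sz F m)} : Set (Sz F m))) = 2 * Fintype.card F := by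
  letI : Fintype (Sz F m) := Fintype.ofFinite _
  have h1 := card_conj_mul_card_centralizer (tt 1 0 : Sz F m)
  have hu := orderOf_tt_ne (F := F) (m := m) (a := 1) one_ne_zero 0
  have hui : orderOf ((tt 1 0 : Sz F m)⁻¹) = 4 := by rw [orderOf_inv, hu]
  let A : Set (Sz F m) := {x | IsConj (tt 1 0 : Sz F m) x}
  let B : Set (Sz F m) := {x | IsConj ((tt 1 0 : Sz F m)⁻¹) x}
  have hU : A ∪ B = {x : Sz F m | orderOf x = 4} := by
    ext x
    constructor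
    · rintro (hx | hx)
      · show orderOf x = 4
        rw [← orderOf_of_isConj hx, hu]
      · show orderOf x = 4
        rw [← orderOf_of_isConj hx, hui]
    · intro hx
      obtain ⟨k, hk⟩ := conj_order_four hu hx
      rcases hk with hk | hk
      · left
        exact isConj_iff.2 ⟨k, hk.symm⟩
      · right
        exact isConj_iff.2 ⟨k, hk.symm⟩
  have hD : Disjoint A B := by
    rw [Set.disjoint_left]
    intro x hx hx'
    exact not_isConj_tt_inv (hx.trans hx'.symm)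
  have hAB : B.ncard = A.ncard := by
    have : B = (fun x => x⁻¹) '' A := by
      ext x
      constructor
      · intro hx
        refine ⟨x⁻¹, ?_, inv_inv x⟩
        have := (isConj_iff.1 hx)
        obtain ⟨c, hc⟩ := this
        refine isConj_iff.2 ⟨c, ?_⟩
        rw [← hc]
        group
      · rintro ⟨y, hy, rfl⟩
        obtain ⟨c, hc⟩ := isConj_iff.1 hy
        refine isConj_iff.2 ⟨c, ?_⟩
        rw [← hc]
        group
    rw [this]
    exact Set.ncard_image_of_injective _ inv_injective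
  have h4 : 2 * A.ncard = (Fintype.card F ^ 2 + 1) * (Fintype.card F * (Fintype.card F - 1)) := by
    rw [← card_order_four (F := F) (m := m), ← hU, Set.ncard_union_eq hD (Set.toFinite _) (Set.toFinite _), hAB]
    ring
  have h3 : Nat.card {x : Sz F m // IsConj (tt 1 0 : Sz F m) x} = A.ncard := rfl
  rw [h3, card_Sz] at h1
  have hq := card_F_ge F m
  have hpos : 0 < (Fintype.card F ^ 2 + 1) * (Fintype.card F * (Fintype.card F - 1)) :=
    Nat.mul_pos (by positivity) (Nat.mul_pos (by omega) (by omega))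
  apply Nat.eq_of_mul_eq_mul_left hpos
  rw [← h4]
  have h5 : 2 * (A.ncard * Nat.card (Subgroup.centralizer ({(tt 1 0 : Sz F m)} : Set (Sz F m)))) =
      2 * (Fintype.card F ^ 2 * (Fintype.card F ^ 2 + 1) * (Fintype.card F - 1)) := by rw [h1]
  calc 2 * A.ncard * Nat.card (Subgroup.centralizer ({(tt 1 0 : Sz F m)} : Set (Sz F m)))
      = 2 * (A.ncard * Nat.card (Subgroup.centralizer ({(tt 1 0 : Sz F m)} : Set (Sz F m)))) := by ring
    _ = 2 * (Fintype.card F ^ 2 * (Fintype.card F ^ 2 + 1) * (Fintype.card F - 1)) := h5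
    _ = (Fintype.card F ^ 2 + 1) * (Fintype.card F * (Fintype.card F - 1)) * (2 * Fintype.card F) := by ring
    _ = 2 * A.ncard * (2 * Fintype.card F) := by rw [h4]

end conjSec

section columns

/-- Column sums. -/
theorem column_sums [Fintype (Sz F m)] :
    (∑ χ : IrrCharacter (Sz F m), ((χ : Sz F m → ℂ) (tt 1 0)).re ^ 2 = (Fintype.card F : ℝ)) ∧
    (∑ χ : IrrCharacter (Sz F m), ((χ : Sz F m → ℂ) (tt 1 0)).im ^ 2 = (Fintype.card F : ℝ)) ∧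
    (∑ χ : IrrCharacter (Sz F m), ((χ : Sz F m → ℂ) (tt 0 1)).re ^ 2 = (Fintype.card F : ℝ) ^ 2) ∧
    (∑ χ : IrrCharacter (Sz F m), ((χ : Sz F m → ℂ) (tt 1 0)).re * ((χ : Sz F m → ℂ) (tt 0 1)).re = 0) ∧
    (∑ χ : IrrCharacter (Sz F m), ((χ : Sz F m → ℂ) (tt 1 0)).re * ((χ : Sz F m → ℂ) 1).re = 0) := by
  classical
  have hu := orderOf_tt_ne (F := F) (m := m) (a := 1) one_ne_zero 0
  have hz := orderOf_tt_zero (F := F) (m := m) (b := 1) one_ne_zero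
  have h1 := sum_irr_mul_conj (tt 1 0 : Sz F m) (tt 1 0 : Sz F m)
  rw [if_pos (IsConj.refl _), card_centralizer_u] at h1
  have h2 := sum_irr_mul_conj (tt 1 0 : Sz F m) (tt 1 0 : Sz F m)⁻¹
  rw [if_neg not_isConj_tt_inv] at h2
  have h3 := sum_irr_mul_conj (tt 0 1 : Sz F m) (tt 0 1 : Sz F m)
  rw [if_pos (IsConj.refl _), card_centralizer_z] at h3
  have h4 := sum_irr_mul_conj (tt 1 0 : Sz F m) (tt 0 1 : Sz F m)
  rw [if_neg (fun h => by
    have := orderOf_of_isConj h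
    rw [hu, hz] at this
    omega)] at h4
  have h5 := sum_irr_mul_conj (tt 1 0 : Sz F m) (1 : Sz F m)
  rw [if_neg (fun h => by
    have := orderOf_of_isConj h
    rw [hu, orderOf_one] at this
    omega)] at h5
  have r1 := congrArg Complex.re h1
  have r2 := congrArg Complex.re h2
  have r3 := congrArg Complex.re h3
  have r4 := congrArg Complex.re h4
  have r5 := congrArg Complex.re h5
  rw [Complex.re_sum] at r1 r2 r3 r4 r5
  have e1 : ∀ χ : IrrCharacter (Sz F m), (((χ : Sz F m → ℂ) (tt 1 0) * conj ((χ : Sz F m → ℂ) (tt 1 0))).re) =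
      ((χ : Sz F m → ℂ) (tt 1 0)).re ^ 2 + ((χ : Sz F m → ℂ) (tt 1 0)).im ^ 2 := by
    intro χ
    simp only [Complex.mul_re, Complex.conj_re, Complex.conj_im]
    ring
  have e2 : ∀ χ : IrrCharacter (Sz F m),
      (((χ : Sz F m → ℂ) (tt 1 0) * conj ((χ : Sz F m → ℂ) (tt 1 0)⁻¹)).re) =
      ((χ : Sz F m → ℂ) (tt 1 0)).re ^ 2 - ((χ : Sz F m → ℂ) (tt 1 0)).im ^ 2 := by
    intro χ
    rw [char_conj_eq_inv (IsIrrCharacter.isCharacter χ.2), inv_inv]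
    simp only [Complex.mul_re]
    ring
  have e3 : ∀ χ : IrrCharacter (Sz F m), (((χ : Sz F m → ℂ) (tt 0 1) * conj ((χ : Sz F m → ℂ) (tt 0 1))).re) =
      ((χ : Sz F m → ℂ) (tt 0 1)).re ^ 2 := by
    intro χ
    have h6 := char_tt_zero_real (IsIrrCharacter.isCharacter χ.2)
    rw [h6]
    simp [sq]
  have e4 : ∀ χ : IrrCharacter (Sz F m), (((χ : Sz F m → ℂ) (tt 1 0) * conj ((χ : Sz F m → ℂ) (tt 0 1))).re) =
      ((χ : Sz F m → ℂ) (tt 1 0)).re * ((χ : Sz F m → ℂ) (tt 0 1)).re := by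
    intro χ
    have h6 := char_tt_zero_real (IsIrrCharacter.isCharacter χ.2)
    rw [h6]
    simp
  have e5 : ∀ χ : IrrCharacter (Sz F m), (((χ : Sz F m → ℂ) (tt 1 0) * conj ((χ : Sz F m → ℂ) 1)).re) =
      ((χ : Sz F m → ℂ) (tt 1 0)).re * ((χ : Sz F m → ℂ) 1).re := by
    intro χ
    have h6 := char_one_real (IsIrrCharacter.isCharacter χ.2)
    rw [h6]
    simp
  rw [Finset.sum_congr rfl (fun χ _ => e1 χ), Finset.sum_add_distrib] at r1
  rw [Finset.sum_congr rfl (fun χ _ => e2 χ), Finset.sum_sub_distrib] at r2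
  rw [Finset.sum_congr rfl (fun χ _ => e3 χ)] at r3
  rw [Finset.sum_congr rfl (fun χ _ => e4 χ)] at r4
  rw [Finset.sum_congr rfl (fun χ _ => e5 χ)] at r5
  have hq1 : ((2 * Fintype.card F : ℕ) : ℂ).re = 2 * (Fintype.card F : ℝ) := by
    simp
  have hq2 : ((Fintype.card F ^ 2 : ℕ) : ℂ).re = (Fintype.card F : ℝ) ^ 2 := by
    rw [Complex.natCast_re]
    push_cast
    rfl
  rw [hq1] at r1
  rw [hq2] at r3
  simp only [Complex.zero_re] at r2 r4 r5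
  refine ⟨?_, ?_, r3, r4, r5⟩
  · linarith
  · linarith

/-- Counting the six types. -/
theorem type_counts [Fintype (Sz F m)] {x₁ x₂ : Sz F m} (hT : TPair x₁ x₂) :
    ∃ τ : IrrCharacter (Sz F m) → Fin 6,
      (∀ χ : IrrCharacter (Sz F m), IsOfType hT (χ : Sz F m → ℂ) (τ χ)) ∧
      ((Finset.univ.filter (fun χ => τ χ = 0)).card : ℝ) = 1 ∧
      ((Finset.univ.filter (fun χ => τ χ = 1)).card : ℝ) = 1 ∧
      ((Finset.univ.filter (fun χ => τ χ = 2)).card : ℝ) = (2 : ℝ) ^ (2 * m) - 1 ∧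
      ((Finset.univ.filter (fun χ => τ χ = 3)).card : ℝ) = ((2 : ℝ) ^ (2 * m) + 2 ^ m) / 2 ∧
      ((Finset.univ.filter (fun χ => τ χ = 4)).card : ℝ) = ((2 : ℝ) ^ (2 * m) - 2 ^ m) / 2 ∧
      ((Finset.univ.filter (fun χ => τ χ = 5)).card : ℝ) = 2 := by
  classical
  choose τ hτ using fun χ : IrrCharacter (Sz F m) => irr_type hT χ.2
  obtain ⟨S1, S2, S3, S4, S5⟩ := column_sums (F := F) (m := m)
  have hm1 : 1 ≤ m := hm_of F m
  set s : ℝ := (2 : ℝ) ^ m with hs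
  have hs2 : (2 : ℝ) ^ (2 * m) = s ^ 2 := by rw [hs, ← pow_mul, mul_comm]
  have hs2le : (2 : ℝ) ≤ s := by
    rw [hs]
    calc (2 : ℝ) = 2 ^ 1 := by norm_num
      _ ≤ 2 ^ m := pow_le_pow_right₀ (by norm_num) hm1
  have hq : (Fintype.card F : ℝ) = 2 * s ^ 2 := by
    rw [card_F (F := F) (m := m)]
    push_cast
    rw [← hs2]
    ring
  let cnt : Fin 6 → ℝ := fun i => ((Finset.univ.filter (fun χ => τ χ = i)).card : ℝ)
  have hsum : ∀ G : Fin 6 → ℝ, ∑ χ, G (τ χ) = cnt 0 * G 0 + cnt 1 * G 1 + cnt 2 * G 2 + cnt 3 * G 3 +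
      cnt 4 * G 4 + cnt 5 * G 5 := by
    intro G
    rw [← Finset.sum_fiberwise (s := Finset.univ) (g := τ), Fin.sum_univ_six]
    have : ∀ i : Fin 6, ∑ χ ∈ Finset.univ.filter (fun χ => τ χ = i), G (τ χ) = cnt i * G i := by
      intro i
      rw [Finset.sum_congr rfl (fun χ hχ => by rw [(Finset.mem_filter.1 hχ).2]),
        Finset.sum_const, nsmul_eq_mul]
    simp only [this]
  have E1 : ∑ χ, (grT (τ χ)) ^ 2 = 2 * s ^ 2 := by
    rw [← hq, ← S1]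
    exact Finset.sum_congr rfl fun χ _ => by rw [(hτ χ).2.2.1]
  have E6 : ∑ χ, (aT s (τ χ)) ^ 2 = (2 * s ^ 2) ^ 2 * ((2 * s ^ 2) ^ 2 + 1) * (2 * s ^ 2 - 1) := by
    have h6 := sum_irr_degree_sq (G := Sz F m)
    have h7 := congrArg Complex.re h6
    rw [Complex.re_sum, Complex.natCast_re, card_Sz] at h7
    have h8 : ∀ χ : IrrCharacter (Sz F m), ((χ : Sz F m → ℂ) 1 * conj ((χ : Sz F m → ℂ) 1)).re =
        (aT s (τ χ)) ^ 2 := by
      intro χ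
      have h9 := char_one_real (IsIrrCharacter.isCharacter χ.2)
      rw [h9]
      simp only [Complex.conj_ofReal, ← Complex.ofReal_mul, Complex.ofReal_re]
      rw [(hτ χ).1]
      ring
    rw [Finset.sum_congr rfl (fun χ _ => h8 χ)] at h7
    rw [h7]
    have hq8 := card_F_ge F m
    push_cast
    rw [Nat.cast_sub (by omega), hq]
    simp
  have E2 : ∑ χ, giT s (τ χ) = 2 * s ^ 2 := by
    rw [← hq, ← S2]
    exact Finset.sum_congr rfl fun χ _ => by rw [(hτ χ).2.2.2.1]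
  have E3 : ∑ χ, (bT s (τ χ)) ^ 2 = (2 * s ^ 2) ^ 2 := by
    rw [← hq, ← S3]
    exact Finset.sum_congr rfl fun χ _ => by rw [(hτ χ).2.1]
  have E4 : ∑ χ, grT (τ χ) * bT s (τ χ) = 0 := by
    rw [← S4]
    exact Finset.sum_congr rfl fun χ _ => by rw [(hτ χ).2.2.1, (hτ χ).2.1]
  have E5 : ∑ χ, grT (τ χ) * aT s (τ χ) = 0 := by
    rw [← S5]
    exact Finset.sum_congr rfl fun χ _ => by rw [(hτ χ).2.2.1, (hτ χ).1]
  rw [hsum (fun i => (aT s i) ^ 2)] at E6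
  simp only [aT_0, aT_1, aT_2, aT_3, aT_4, aT_5] at E6
  rw [hsum (fun i => (grT i) ^ 2)] at E1
  rw [hsum (fun i => giT s i)] at E2
  rw [hsum (fun i => (bT s i) ^ 2)] at E3
  rw [hsum (fun i => grT i * bT s i)] at E4
  rw [hsum (fun i => grT i * aT s i)] at E5
  simp [grT] at E1
  simp [giT] at E2
  simp [bT] at E3
  simp [grT, bT] at E4
  simp [grT, aT] at E5
  have hs0 : s ≠ 0 := by linarith
  have hss0 : s ^ 2 ≠ 0 := pow_ne_zero 2 hs0
  -- the count of type five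
  have c5 : cnt 5 = 2 := E2.resolve_right hs0
  -- difference and sum of types three and four
  have hd : cnt 3 - cnt 4 = s := by
    have : (2 * s) * (cnt 3 - cnt 4) = (2 * s) * s := by linear_combination E1 - E4
    exact mul_left_cancel₀ (mul_ne_zero two_ne_zero hs0) this
  have hsm : cnt 3 + cnt 4 = s ^ 2 := by
    have : (4 * s ^ 2) * (cnt 3 + cnt 4) = (4 * s ^ 2) * s ^ 2 := by
      rw [c5] at E3
      linear_combination E3 - E1 + 4 * s * hd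
    exact mul_left_cancel₀ (mul_ne_zero four_ne_zero hss0) this
  have c3 : cnt 3 = (s ^ 2 + s) / 2 := by linarith
  have c4 : cnt 4 = (s ^ 2 - s) / 2 := by linarith
  have h02 : cnt 0 + cnt 2 = s ^ 2 := by linarith
  have c2 : cnt 2 = s ^ 2 - 1 := by
    have : (4 * s ^ 4) * cnt 2 = (4 * s ^ 4) * (s ^ 2 - 1) := by
      have h0 : cnt 0 = s ^ 2 - cnt 2 := by linarith
      rw [c3, c4, h0] at E5
      linear_combination E5
    have h4ne : (4 * s ^ 4) ≠ 0 := mul_ne_zero four_ne_zero (pow_ne_zero 4 hs0)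
    exact mul_left_cancel₀ h4ne this
  have c0 : cnt 0 = 1 := by linarith
  have c1 : cnt 1 = 1 := by
    have : (2 * s ^ 2) ^ 4 * cnt 1 = (2 * s ^ 2) ^ 4 * 1 := by
      rw [c0, c2, c3, c4, c5] at E6
      linear_combination E6
    exact mul_left_cancel₀ (pow_ne_zero 4 (mul_ne_zero two_ne_zero hss0)) this
  refine ⟨τ, hτ, c0, c1, ?_, ?_, ?_, c5⟩
  · rw [hs2]
    exact c2
  · rw [hs2]
    exact c3
  · rw [hs2]
    exact c4

end columns

section degrees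

theorem charDegree_of_re {G : Type*} [Group G] {χ : G → ℂ} (hχ : IsCharacter G χ) {n : ℕ}
    (h : (χ 1).re = n) : charDegree χ = n := by
  unfold charDegree
  rw [h]
  exact Nat.floor_natCast n

/-- The irreducible character degrees of the Suzuki group. -/
theorem charDegrees_Sz :
    (∀ d ∈ charDegrees (Sz F m), d = 1 ∨ d = Fintype.card F ^ 2 ∨ d = Fintype.card F ^ 2 + 1 ∨
      d = (Fintype.card F - 1) * (Fintype.card F + 1 - 2 ^ (m + 1)) ∨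
      d = (Fintype.card F - 1) * (Fintype.card F + 2 ^ (m + 1) + 1) ∨
      d = (Fintype.card F - 1) * 2 ^ m) ∧
    Fintype.card F ^ 2 + 1 ∈ charDegrees (Sz F m) ∧
    (Fintype.card F - 1) * (Fintype.card F + 1 - 2 ^ (m + 1)) ∈ charDegrees (Sz F m) ∧
    (Fintype.card F - 1) * (Fintype.card F + 2 ^ (m + 1) + 1) ∈ charDegrees (Sz F m) ∧
    (Fintype.card F - 1) * 2 ^ m ∈ charDegrees (Sz F m) := by
  classical
  letI : Fintype (Sz F m) := Fintype.ofFinite _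
  obtain ⟨x₁, x₂, hT⟩ := exists_TPair F m
  obtain ⟨τ, hτ, c0, c1, c2, c3, c4, c5⟩ := type_counts hT
  have hm1 : 1 ≤ m := hm_of F m
  have hq8 := card_F_ge F m
  have hs2 : (2 : ℝ) ^ (2 * m) = ((2 : ℝ) ^ m) ^ 2 := by rw [← pow_mul, mul_comm]
  have hs2le : (2 : ℝ) ≤ 2 ^ m := by
    calc (2 : ℝ) = 2 ^ 1 := by norm_num
      _ ≤ 2 ^ m := pow_le_pow_right₀ (by norm_num) hm1
  have hq : (Fintype.card F : ℝ) = 2 * ((2 : ℝ) ^ m) ^ 2 := by
    rw [card_F (F := F) (m := m)]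
    push_cast
    rw [← hs2]
    ring
  have hr : ((2 ^ (m + 1) : ℕ) : ℝ) = 2 * (2 : ℝ) ^ m := by
    push_cast
    ring
  have hr4 : 2 ^ (m + 1) ≤ Fintype.card F := by
    rw [card_F (F := F) (m := m)]
    exact Nat.pow_le_pow_right (by norm_num) (by omega)
  have hval : ∀ i : Fin 6, ∃ n : ℕ, aT (2 ^ m) i = n ∧
      ((i = 0 ∧ n = 1) ∨ (i = 1 ∧ n = Fintype.card F ^ 2) ∨ (i = 2 ∧ n = Fintype.card F ^ 2 + 1) ∨
      (i = 3 ∧ n = (Fintype.card F - 1) * (Fintype.card F + 1 - 2 ^ (m + 1))) ∨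
      (i = 4 ∧ n = (Fintype.card F - 1) * (Fintype.card F + 2 ^ (m + 1) + 1)) ∨
      (i = 5 ∧ n = (Fintype.card F - 1) * 2 ^ m)) := by
    intro i
    have e1 : ((Fintype.card F - 1 : ℕ) : ℝ) = 2 * ((2 : ℝ) ^ m) ^ 2 - 1 := by
      rw [Nat.cast_sub (by omega), hq]
      simp
    fin_cases i
    · refine ⟨1, ?_, by simp⟩
      show aT _ 0 = _
      rw [aT_0]; simp
    · refine ⟨Fintype.card F ^ 2, ?_, by simp⟩
      show aT _ 1 = _
      rw [aT_1]; push_cast; rw [hq]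
    · refine ⟨Fintype.card F ^ 2 + 1, ?_, by simp⟩
      show aT _ 2 = _
      rw [aT_2]; push_cast; rw [hq]
    · refine ⟨(Fintype.card F - 1) * (Fintype.card F + 1 - 2 ^ (m + 1)), ?_, by simp⟩
      have e2 : ((Fintype.card F + 1 - 2 ^ (m + 1) : ℕ) : ℝ) = 2 * ((2 : ℝ) ^ m) ^ 2 - 2 * 2 ^ m + 1 := by
        rw [Nat.cast_sub (by omega)]
        push_cast
        rw [hq]
        ring
      rw [Nat.cast_mul, e1, e2]
      show aT _ 3 = _
      rw [aT_3]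
    · refine ⟨(Fintype.card F - 1) * (Fintype.card F + 2 ^ (m + 1) + 1), ?_, by simp⟩
      rw [Nat.cast_mul, e1]
      push_cast
      rw [hq]
      show aT _ 4 = _
      rw [aT_4]
      ring
    · refine ⟨(Fintype.card F - 1) * 2 ^ m, ?_, by simp⟩
      rw [Nat.cast_mul, e1]
      show aT _ 5 = _
      rw [aT_5]
      push_cast
      ring
  have hmem : ∀ i : Fin 6, (0 : ℝ) < ((Finset.univ.filter (fun χ => τ χ = i)).card : ℝ) →
      ∃ χ : IrrCharacter (Sz F m), τ χ = i := by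
    intro i h
    have h1 : 0 < (Finset.univ.filter (fun χ => τ χ = i)).card := by exact_mod_cast h
    obtain ⟨χ, hχ⟩ := Finset.card_pos.1 h1
    exact ⟨χ, (Finset.mem_filter.1 hχ).2⟩
  have hdeg : ∀ (χ : IrrCharacter (Sz F m)) (n : ℕ), aT (2 ^ m) (τ χ) = n →
      charDegree (χ : Sz F m → ℂ) = n := by
    intro χ n h
    exact charDegree_of_re (IsIrrCharacter.isCharacter χ.2) ((hτ χ).1.trans h)
  refine ⟨?_, ?_, ?_, ?_, ?_⟩
  · rintro d ⟨χ, rfl⟩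
    obtain ⟨n, hn, hcase⟩ := hval (τ χ)
    rw [hdeg χ n hn]
    rcases hcase with ⟨-, h⟩ | ⟨-, h⟩ | ⟨-, h⟩ | ⟨-, h⟩ | ⟨-, h⟩ | ⟨-, h⟩
    · exact Or.inl h
    · exact Or.inr (Or.inl h)
    · exact Or.inr (Or.inr (Or.inl h))
    · exact Or.inr (Or.inr (Or.inr (Or.inl h)))
    · exact Or.inr (Or.inr (Or.inr (Or.inr (Or.inl h))))
    · exact Or.inr (Or.inr (Or.inr (Or.inr (Or.inr h))))
  · obtain ⟨χ, hχ⟩ := hmem 2 (by rw [c2, hs2]; nlinarith)
    obtain ⟨n, hn, hcase⟩ := hval 2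
    refine ⟨χ, ?_⟩
    rw [hdeg χ n (by rw [hχ]; exact hn)]
    simp at hcase
    exact hcase
  · obtain ⟨χ, hχ⟩ := hmem 3 (by rw [c3, hs2]; nlinarith)
    obtain ⟨n, hn, hcase⟩ := hval 3
    refine ⟨χ, ?_⟩
    rw [hdeg χ n (by rw [hχ]; exact hn)]
    simp at hcase
    exact hcase
  · obtain ⟨χ, hχ⟩ := hmem 4 (by rw [c4, hs2]; nlinarith)
    obtain ⟨n, hn, hcase⟩ := hval 4
    refine ⟨χ, ?_⟩
    rw [hdeg χ n (by rw [hχ]; exact hn)]
    simp at hcase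
    exact hcase
  · obtain ⟨χ, hχ⟩ := hmem 5 (by rw [c5]; norm_num)
    obtain ⟨n, hn, hcase⟩ := hval 5
    refine ⟨χ, ?_⟩
    rw [hdeg χ n (by rw [hχ]; exact hn)]
    simp at hcase
    exact hcase

end degrees

end Cfsg.Agent.Lib.SzChar
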