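/-
The Suzuki group: every non-identity element is a product of two conjugates of any given element of
order greater than two.
-/
import Mathlib
import Cfsg.Agent.Lib.SzCharD

set_option autoImplicit false
set_option linter.unusedSectionVars false
set_option linter.unusedVariables false
set_option linter.unnecessarySimpa false
set_option linter.style.haveILetI false

namespace Cfsg.Agent.Lib.SzChar

open Cfsg Cfsg.Agent.Lib.CharBasic Cfsg.Agent.Lib.CharInd Cfsg.Agent.Lib.SzTorus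
  Cfsg.Agent.Lib.SuzukiBasic Cfsg.Agent.Lib.Suzuki Cfsg.Agent.Lib.Suzuki2
  Cfsg.Agent.Lib.Suzuki3 Cfsg.Agent.Lib.Suzuki4 Cfsg.Agent.Lib.SuzukiMax Cfsg.Agent.Lib.SzSub
open scoped ComplexConjugate

section prod

/-- A nonzero class sum produces a factorization into two conjugates. -/
theorem exists_prod_of_sum_ne_zero {G : Type*} [Group G] [Fintype G] (x g : G)
    (h : ∑ χ : IrrCharacter G, (χ : G → ℂ) x * (χ : G → ℂ) x * conj ((χ : G → ℂ) g) / (χ : G → ℂ) 1 ≠ 0) :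
    ∃ u v : G, g = (u * x * u⁻¹) * (v * x * v⁻¹) := by
  classical
  by_contra hno
  push Not at hno
  apply h
  have hGne : (Nat.card G : ℂ) ≠ 0 := natCard_ne_zero'
  -- no product is conjugate to `g`
  have hnc : ∀ u v : G, ¬ IsConj ((u * x * u⁻¹) * (v * x * v⁻¹)) g := by
    intro u v hc
    obtain ⟨c, hc⟩ := isConj_iff.1 hc
    apply hno (c * u) (c * v)
    rw [← hc]
    group
  have h1 : ∀ u v : G, ∑ χ : IrrCharacter G,
      (χ : G → ℂ) ((u * x * u⁻¹) * (v * x * v⁻¹)) * conj ((χ : G → ℂ) g) = 0 := by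
    intro u v
    rw [sum_irr_mul_conj, if_neg (hnc u v)]
  have h2 : ∑ u : G, ∑ v : G, ∑ χ : IrrCharacter G,
      (χ : G → ℂ) ((u * x * u⁻¹) * (v * x * v⁻¹)) * conj ((χ : G → ℂ) g) = 0 := by
    simp only [h1, Finset.sum_const_zero]
  have h3 : ∑ u : G, ∑ v : G, ∑ χ : IrrCharacter G,
      (χ : G → ℂ) ((u * x * u⁻¹) * (v * x * v⁻¹)) * conj ((χ : G → ℂ) g) =
      (Nat.card G : ℂ) ^ 2 * ∑ χ : IrrCharacter G,
        (χ : G → ℂ) x * (χ : G → ℂ) x * conj ((χ : G → ℂ) g) / (χ : G → ℂ) 1 := by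
    have h4 : ∀ (χ : IrrCharacter G) (u : G), ∑ v : G,
        (χ : G → ℂ) ((u * x * u⁻¹) * (v * x * v⁻¹)) * conj ((χ : G → ℂ) g) =
        (Nat.card G : ℂ) * ((χ : G → ℂ) x * (χ : G → ℂ) x * conj ((χ : G → ℂ) g) / (χ : G → ℂ) 1) := by
      intro χ u
      rw [← Finset.sum_mul]
      have h5 := Cfsg.Agent.Lib.CharAvg.irr_avg χ.2 (u * x * u⁻¹) x
      rw [char_apply_conj (IsIrrCharacter.isCharacter χ.2)] at h5
      have h6 := Cfsg.Agent.Lib.CharAvg.irr_one_ne_zero χ.2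
      field_simp
      linear_combination (conj ((χ : G → ℂ) g)) * h5
    calc ∑ u : G, ∑ v : G, ∑ χ : IrrCharacter G,
          (χ : G → ℂ) ((u * x * u⁻¹) * (v * x * v⁻¹)) * conj ((χ : G → ℂ) g)
        = ∑ u : G, ∑ χ : IrrCharacter G, ∑ v : G,
          (χ : G → ℂ) ((u * x * u⁻¹) * (v * x * v⁻¹)) * conj ((χ : G → ℂ) g) := by
          refine Finset.sum_congr rfl fun u _ => ?_
          rw [Finset.sum_comm]
      _ = ∑ u : G, ∑ χ : IrrCharacter G,
          (Nat.card G : ℂ) * ((χ : G → ℂ) x * (χ : G → ℂ) x * conj ((χ : G → ℂ) g) / (χ : G → ℂ) 1) := by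
          refine Finset.sum_congr rfl fun u _ => Finset.sum_congr rfl fun χ _ => h4 χ u
      _ = _ := by
          rw [Finset.sum_const, Finset.card_univ, ← Finset.mul_sum, nsmul_eq_mul,
            ← Nat.card_eq_fintype_card]
          ring
  rw [h3] at h2
  exact (mul_eq_zero.1 h2).resolve_left (pow_ne_zero 2 hGne)

end prod

variable {F : Type*} [Field F] [Fintype F] {m : ℕ} [CharP F 2] [SzHyp F m]

section kinds

/-- Every non-identity element is of one of five kinds. -/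
theorem kinds {x₁ x₂ : Sz F m} (hT : TPair x₁ x₂) {g : Sz F m} (hg : g ≠ 1) :
    orderOf g = 2 ∨ orderOf g = 4 ∨
    (∃ k y : Sz F m, y ∈ dd (oInf F m) (oZero F m) ∧ y ≠ 1 ∧ g = k * y * k⁻¹) ∨
    (∃ k y : Sz F m, y ∈ cen x₁ ∧ y ≠ 1 ∧ g = k * y * k⁻¹) ∨
    (∃ k y : Sz F m, y ∈ cen x₂ ∧ y ≠ 1 ∧ g = k * y * k⁻¹) := by
  have hconj : ∀ {C : Subgroup (Sz F m)}, g ∈ ucl C → ∃ k y : Sz F m, y ∈ C ∧ y ≠ 1 ∧ g = k * y * k⁻¹ := by
    rintro C ⟨h1, h, hh⟩
    refine ⟨h⁻¹, h * g * h⁻¹, hh, conj_ne_one h1, ?_⟩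
    group
  have h1 : g ∈ ({1}ᶜ : Set (Sz F m)) := hg
  rw [compl_one_eq] at h1
  rcases h1 with (h1 | h1) | h1
  · rw [ucl_Tsub_eq] at h1
    rcases h1 with h1 | h1
    · exact Or.inl h1
    · exact Or.inr (Or.inl h1)
  · exact Or.inr (Or.inr (Or.inl (hconj h1)))
  · rcases hT.cov g h1 with h2 | h2
    · exact Or.inr (Or.inr (Or.inr (Or.inl (hconj h2))))
    · exact Or.inr (Or.inr (Or.inr (Or.inr (hconj h2))))

/-- Character values on a torus are real. -/
theorem char_real_of_torus {U : Subgroup (Sz F m)} (hU : IsTorus U) {χ : Sz F m → ℂ}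
    (hχ : IsCharacter (Sz F m) χ) {y : Sz F m} (hy : y ∈ U) : χ y = (((χ y).re : ℝ) : ℂ) := by
  have h5 := hU.five_le
  have hinv := card_invol_inf hU
  have hne : ({x : Sz F m | orderOf x = 2} ∩ (Subgroup.normalizer (U : Set (Sz F m)) : Set (Sz F m))).Nonempty := by
    rw [← Set.ncard_pos (Set.toFinite _), hinv]
    omega
  obtain ⟨z, hz, hzN⟩ := hne
  have h2 := invol_inverts hU hz hzN hy
  have h3 : conj (χ y) = χ y := by
    rw [char_conj_eq_inv hχ, ← h2, char_apply_conj hχ]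
  exact (Complex.conj_eq_iff_real.1 h3).choose_spec ▸ by simp

theorem card_centralizer_torus {U : Subgroup (Sz F m)} (hU : IsTorus U) {y : Sz F m} (hy : y ∈ U)
    (h1 : y ≠ 1) : Nat.card (Subgroup.centralizer ({y} : Set (Sz F m))) = Nat.card U := by
  have h2 : Subgroup.centralizer ({y} : Set (Sz F m)) = U := by
    apply le_antisymm (hU.centralizer_le hy h1)
    intro z hz
    rw [Subgroup.mem_centralizer_singleton_iff]
    exact hU.comm hz hy
  rw [h2]

/-- Column orthogonality at an element of a torus. -/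
theorem sum_normSq_torus [Fintype (Sz F m)] {U : Subgroup (Sz F m)} (hU : IsTorus U) {y : Sz F m}
    (hy : y ∈ U) (h1 : y ≠ 1) :
    ∑ χ : IrrCharacter (Sz F m), Complex.normSq ((χ : Sz F m → ℂ) y) = (Nat.card U : ℝ) := by
  classical
  have h2 := sum_irr_mul_conj y y
  rw [if_pos (IsConj.refl _), card_centralizer_torus hU hy h1] at h2
  have h3 := congrArg Complex.re h2
  rw [Complex.re_sum] at h3
  rw [Complex.natCast_re] at h3
  rw [← h3]
  refine Finset.sum_congr rfl fun χ _ => ?_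
  rw [Complex.mul_conj]
  simp

end kinds

section gdata

/-- The lower bounds on the real part of the values of the irreducible characters at `g`,
type by type; on the last type the value is exact. -/
def GD {x₁ x₂ : Sz F m} (hT : TPair x₁ x₂) (g : Sz F m) (r : Fin 6 → ℝ) : Prop :=
  ∀ (χ : IrrCharacter (Sz F m)) (i : Fin 6), IsOfType hT (χ : Sz F m → ℂ) i →
    r i ≤ ((χ : Sz F m → ℂ) g).re ∧ (i = 5 → ((χ : Sz F m → ℂ) g).re = r 5)

theorem gd_two {x₁ x₂ : Sz F m} (hT : TPair x₁ x₂) {g : Sz F m} (hg : orderOf g = 2) :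
    GD hT g (bT (2 ^ m)) := by
  intro χ i hχ
  obtain ⟨k, hk⟩ := conj_order_two (orderOf_tt_zero (F := F) (m := m) (one_ne_zero)) hg
  have h1 : ((χ : Sz F m → ℂ) g).re = bT (2 ^ m) i := by
    rw [hk, char_apply_conj (IsIrrCharacter.isCharacter χ.2)]
    exact hχ.2.1
  refine ⟨h1.ge, ?_⟩
  rintro rfl
  exact h1

theorem re_order_four {χ : Sz F m → ℂ} (hχ : IsCharacter (Sz F m) χ) {g : Sz F m} (hg : orderOf g = 4) :
    χ g = χ (tt 1 0) ∨ χ g = conj (χ (tt 1 0)) := by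
  obtain ⟨k, hk⟩ := conj_order_four (orderOf_tt_ne (F := F) (m := m) (one_ne_zero) 0) hg
  rcases hk with hk | hk
  · left
    rw [hk, char_apply_conj hχ]
  · right
    rw [hk, char_apply_conj hχ, char_conj_eq_inv hχ]

theorem gd_four {x₁ x₂ : Sz F m} (hT : TPair x₁ x₂) {g : Sz F m} (hg : orderOf g = 4) :
    GD hT g grT := by
  intro χ i hχ
  have h1 : ((χ : Sz F m → ℂ) g).re = grT i := by
    rcases re_order_four (IsIrrCharacter.isCharacter χ.2) hg with h | h <;> rw [h]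
    · exact hχ.2.2.1
    · rw [Complex.conj_re]
      exact hχ.2.2.1
  refine ⟨h1.ge, ?_⟩
  rintro rfl
  exact h1

theorem eq_of_norm_sub_le_zero {z d : ℂ} {a : ℤ} (h : ‖z - d‖ ≤ (a : ℝ)) (ha : a = 0) : z = d := by
  subst ha
  simp only [Int.cast_zero] at h
  have := norm_le_zero_iff.1 h
  exact sub_eq_zero.1 this

theorem re_ge_of_norm_sub_le {z : ℂ} {a : ℤ} {d : ℤ} {l : ℝ} (h : ‖z - d‖ ≤ (a : ℝ))
    (hl : l + a ≤ d) : l ≤ z.re := by
  have h1 := Complex.abs_re_le_norm (z - d)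
  have h2 : (z - d).re = z.re - d := by simp
  rw [h2] at h1
  have h3 := (abs_le.1 (h1.trans h)).1
  linarith

/-- The lower bound table on the torus of order `q - 1`. -/
noncomputable def rK : Fin 6 → ℝ := ![1, 1, -2, 0, 0, 0]
/-- The lower bound table on the large cyclic torus. -/
noncomputable def rU : Fin 6 → ℝ := ![1, -1, 0, -4, 0, 1]
/-- The lower bound table on the small cyclic torus. -/
noncomputable def rV : Fin 6 → ℝ := ![1, -1, 0, 0, -4, -1]

theorem gd_K {x₁ x₂ : Sz F m} (hT : TPair x₁ x₂) {k y : Sz F m} (hy : y ∈ dd (oInf F m) (oZero F m))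
    (h1 : y ≠ 1) : GD hT (k * y * k⁻¹) rK := by
  intro χ i hχ
  rw [char_apply_conj (IsIrrCharacter.isCharacter χ.2)]
  have h2 := hχ.2.2.2.2.1 y hy h1
  fin_cases i
  · exact ⟨re_ge_of_norm_sub_le h2 (by norm_num [rK, aK, dK]), by simp⟩
  · exact ⟨re_ge_of_norm_sub_le h2 (by norm_num [rK, aK, dK]), by simp⟩
  · exact ⟨re_ge_of_norm_sub_le h2 (by norm_num [rK, aK, dK]), by simp⟩
  · exact ⟨re_ge_of_norm_sub_le h2 (by norm_num [rK, aK, dK]), by simp⟩
  · exact ⟨re_ge_of_norm_sub_le h2 (by norm_num [rK, aK, dK]), by simp⟩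
  · refine ⟨re_ge_of_norm_sub_le h2 (by norm_num [rK, aK, dK]), fun _ => ?_⟩
    have h3 := eq_of_norm_sub_le_zero h2 rfl
    simp only [Fin.reduceFinMk] at h3
    rw [h3]
    simp [rK, dK]

theorem gd_U {x₁ x₂ : Sz F m} (hT : TPair x₁ x₂) {k y : Sz F m} (hy : y ∈ cen x₁)
    (h1 : y ≠ 1) : GD hT (k * y * k⁻¹) rU := by
  intro χ i hχ
  rw [char_apply_conj (IsIrrCharacter.isCharacter χ.2)]
  have h2 := hχ.2.2.2.2.2.1 y hy h1
  fin_cases i
  · exact ⟨re_ge_of_norm_sub_le h2 (by norm_num [rU, aU, dU]), by simp⟩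
  · exact ⟨re_ge_of_norm_sub_le h2 (by norm_num [rU, aU, dU]), by simp⟩
  · exact ⟨re_ge_of_norm_sub_le h2 (by norm_num [rU, aU, dU]), by simp⟩
  · exact ⟨re_ge_of_norm_sub_le h2 (by norm_num [rU, aU, dU]), by simp⟩
  · exact ⟨re_ge_of_norm_sub_le h2 (by norm_num [rU, aU, dU]), by simp⟩
  · refine ⟨re_ge_of_norm_sub_le h2 (by norm_num [rU, aU, dU]), fun _ => ?_⟩
    have h3 := eq_of_norm_sub_le_zero h2 rfl
    simp only [Fin.reduceFinMk] at h3
    rw [h3]
    simp [rU, dU]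

theorem gd_V {x₁ x₂ : Sz F m} (hT : TPair x₁ x₂) {k y : Sz F m} (hy : y ∈ cen x₂)
    (h1 : y ≠ 1) : GD hT (k * y * k⁻¹) rV := by
  intro χ i hχ
  rw [char_apply_conj (IsIrrCharacter.isCharacter χ.2)]
  have h2 := hχ.2.2.2.2.2.2 y hy h1
  fin_cases i
  · exact ⟨re_ge_of_norm_sub_le h2 (by norm_num [rV, aV, dV]), by simp⟩
  · exact ⟨re_ge_of_norm_sub_le h2 (by norm_num [rV, aV, dV]), by simp⟩
  · exact ⟨re_ge_of_norm_sub_le h2 (by norm_num [rV, aV, dV]), by simp⟩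
  · exact ⟨re_ge_of_norm_sub_le h2 (by norm_num [rV, aV, dV]), by simp⟩
  · exact ⟨re_ge_of_norm_sub_le h2 (by norm_num [rV, aV, dV]), by simp⟩
  · refine ⟨re_ge_of_norm_sub_le h2 (by norm_num [rV, aV, dV]), fun _ => ?_⟩
    have h3 := eq_of_norm_sub_le_zero h2 rfl
    simp only [Fin.reduceFinMk] at h3
    rw [h3]
    simp [rV, dV]

end gdata

end Cfsg.Agent.Lib.SzChar
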