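/-
The Suzuki group: the class sums do not vanish, so every non-identity element is a product of two
conjugates of any given element of order greater than two.
-/
import Mathlib
import Cfsg.Agent.Lib.SzCharE
import Cfsg.Agent.Lib.SzCharAr

set_option autoImplicit false
set_option linter.unusedSectionVars false
set_option linter.unusedVariables false
set_option linter.unnecessarySimpa false
set_option linter.style.haveILetI false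

namespace Cfsg.Agent.Lib.SzChar

open Cfsg Cfsg.Agent.Lib.CharBasic Cfsg.Agent.Lib.CharInd Cfsg.Agent.Lib.SzTorus
  Cfsg.Agent.Lib.SuzukiBasic Cfsg.Agent.Lib.Suzuki Cfsg.Agent.Lib.Suzuki2
  Cfsg.Agent.Lib.Suzuki3 Cfsg.Agent.Lib.Suzuki4 Cfsg.Agent.Lib.SuzukiMax Cfsg.Agent.Lib.SzSub
open scoped ComplexConjugate

theorem fin6_cases (i : Fin 6) : i = 0 ∨ i = 1 ∨ i = 2 ∨ i = 3 ∨ i = 4 ∨ i = 5 := by
  revert i; decide

theorem aT_pos {s : ℝ} (hs : 2 ≤ s) (i : Fin 6) : 0 < aT s i := by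
  have hA : 0 < 2 * s ^ 2 - 1 := by nlinarith
  have hB : 0 < 2 * s ^ 2 - 2 * s + 1 := by nlinarith
  have hC : 0 < 2 * s ^ 2 + 2 * s + 1 := by positivity
  have hs0 : 0 < s := by linarith
  rcases fin6_cases i with rfl | rfl | rfl | rfl | rfl | rfl
  · rw [aT_0]; norm_num
  · rw [aT_1]; positivity
  · rw [aT_2]; positivity
  · rw [aT_3]; exact mul_pos hA hB
  · rw [aT_4]; exact mul_pos hA hC
  · rw [aT_5]; exact mul_pos hA hs0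

theorem term_re (W : ℝ) (z : ℂ) (a : ℝ) : ((W : ℂ) * conj z / (a : ℂ)).re = W * z.re / a := by
  rw [Complex.div_ofReal_re, Complex.re_ofReal_mul, Complex.conj_re]

theorem fibre_const {ι : Type*} [Fintype ι] (τ : ι → Fin 6) (W : ι → ℝ) (j : Fin 6) (c : ℝ)
    (h : ∀ i, τ i = j → W i = c) :
    ∑ i ∈ Finset.univ.filter (fun i => τ i = j), W i =
      ((Finset.univ.filter (fun i => τ i = j)).card : ℝ) * c := by
  rw [Finset.sum_congr rfl (fun i hi => h i (Finset.mem_filter.1 hi).2), Finset.sum_const,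
    nsmul_eq_mul]

section main

variable {F : Type*} [Field F] [Fintype F] {m : ℕ} [CharP F 2] [SzHyp F m]
  [Fintype (Sz F m)]

theorem two_le_s_of (hm : 1 ≤ m) : (2 : ℝ) ≤ 2 ^ m := by
  calc (2 : ℝ) = 2 ^ 1 := by norm_num
    _ ≤ 2 ^ m := pow_le_pow_right₀ (by norm_num) hm

theorem s_sq : ((2 : ℝ) ^ m) ^ 2 = (2 : ℝ) ^ (2 * m) := by
  rw [← pow_mul, mul_comm]

theorem card_F_real : (Fintype.card F : ℝ) = 2 * ((2 : ℝ) ^ m) ^ 2 := by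
  rw [card_F (F := F) (m := m), s_sq]
  push_cast
  ring

theorem re_sum_ge {x₁ x₂ : Sz F m} (hT : TPair x₁ x₂) (τ : IrrCharacter (Sz F m) → Fin 6)
    (hτ : ∀ χ : IrrCharacter (Sz F m), IsOfType hT (χ : Sz F m → ℂ) (τ χ)) (x g : Sz F m) {r : Fin 6 → ℝ} (hg : GD hT g r)
    (W : IrrCharacter (Sz F m) → ℝ)
    (hx : ∀ χ : IrrCharacter (Sz F m), (χ : Sz F m → ℂ) x * (χ : Sz F m → ℂ) x = ((W χ : ℝ) : ℂ))
    (hW : ∀ χ, 0 ≤ W χ ∨ τ χ = 5) :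
    ∑ j : Fin 6, (r j / aT (2 ^ m) j) * ∑ χ ∈ Finset.univ.filter (fun χ => τ χ = j), W χ ≤
      (∑ χ : IrrCharacter (Sz F m), (χ : Sz F m → ℂ) x * (χ : Sz F m → ℂ) x *
        conj ((χ : Sz F m → ℂ) g) / (χ : Sz F m → ℂ) 1).re := by
  have hs : (2 : ℝ) ≤ 2 ^ m := two_le_s_of (hm_of F m)
  have h1 : ∑ j : Fin 6, (r j / aT (2 ^ m) j) * ∑ χ ∈ Finset.univ.filter (fun χ => τ χ = j), W χ =
      ∑ χ : IrrCharacter (Sz F m), (r (τ χ) / aT (2 ^ m) (τ χ)) * W χ := by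
    rw [← Finset.sum_fiberwise (s := Finset.univ) (g := τ)
      (f := fun χ => (r (τ χ) / aT (2 ^ m) (τ χ)) * W χ)]
    refine Finset.sum_congr rfl fun j _ => ?_
    rw [Finset.mul_sum]
    refine Finset.sum_congr rfl fun χ hχ => ?_
    rw [(Finset.mem_filter.1 hχ).2]
  rw [h1, Complex.re_sum]
  refine Finset.sum_le_sum fun χ _ => ?_
  have hone : (χ : Sz F m → ℂ) 1 = ((aT (2 ^ m) (τ χ) : ℝ) : ℂ) := by
    rw [char_one_real (IsIrrCharacter.isCharacter χ.2), (hτ χ).1]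
  rw [hx χ, hone, term_re]
  have ha := aT_pos hs (τ χ)
  obtain ⟨h1, h5⟩ := hg χ (τ χ) (hτ χ)
  rw [div_mul_eq_mul_div, mul_comm (r _)]
  rcases hW χ with h | h
  · exact div_le_div_of_nonneg_right (mul_le_mul_of_nonneg_left h1 h) ha.le
  · rw [h5 h, h]

theorem pos_sum_ne_zero {z : ℂ} (h : 0 < z.re) : z ≠ 0 := by
  rintro rfl
  simp at h

/-- The weight table when `x` has order four. -/
noncomputable def XT (s : ℝ) : Fin 6 → ℝ := ![1, 0, 1, 1, 1, -s ^ 2]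

theorem XT_0 (s : ℝ) : XT s 0 = 1 := rfl
theorem XT_1 (s : ℝ) : XT s 1 = 0 := rfl
theorem XT_2 (s : ℝ) : XT s 2 = 1 := rfl
theorem XT_3 (s : ℝ) : XT s 3 = 1 := rfl
theorem XT_4 (s : ℝ) : XT s 4 = 1 := rfl
theorem XT_5 (s : ℝ) : XT s 5 = -s ^ 2 := rfl

theorem sq_four (s : ℝ) (i : Fin 6) (a b : ℝ) (h1 : a = grT i) (h2 : b ^ 2 = giT s i) :
    a * b = 0 ∧ a ^ 2 - b ^ 2 = XT s i := by
  rcases fin6_cases i with rfl | rfl | rfl | rfl | rfl | rfl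
  · rw [grT_0] at h1; rw [giT_0] at h2; rw [XT_0]
    have hb : b = 0 := by simpa using h2
    subst hb; subst h1; norm_num
  · rw [grT_1] at h1; rw [giT_1] at h2; rw [XT_1]
    have hb : b = 0 := by simpa using h2
    subst hb; subst h1; norm_num
  · rw [grT_2] at h1; rw [giT_2] at h2; rw [XT_2]
    have hb : b = 0 := by simpa using h2
    subst hb; subst h1; norm_num
  · rw [grT_3] at h1; rw [giT_3] at h2; rw [XT_3]
    have hb : b = 0 := by simpa using h2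
    subst hb; subst h1; norm_num
  · rw [grT_4] at h1; rw [giT_4] at h2; rw [XT_4]
    have hb : b = 0 := by simpa using h2
    subst hb; subst h1; norm_num
  · rw [grT_5] at h1; rw [giT_5] at h2; rw [XT_5]
    subst h1
    constructor
    · ring
    · rw [h2]; ring

theorem sq_ofReal_of {z : ℂ} {X : ℝ} (h1 : z.re * z.im = 0) (h2 : z.re ^ 2 - z.im ^ 2 = X) :
    z * z = ((X : ℝ) : ℂ) := by
  apply Complex.ext
  · rw [Complex.mul_re, Complex.ofReal_re, ← h2]; ring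
  · rw [Complex.mul_im, Complex.ofReal_im]
    have : z.re * z.im + z.im * z.re = 2 * (z.re * z.im) := by ring
    rw [this, h1]; ring

theorem ne_zero_four {x₁ x₂ : Sz F m} (hT : TPair x₁ x₂) {x g : Sz F m} (hx : orderOf x = 4)
    {r : Fin 6 → ℝ} (hg : GD hT g r)
    (hpos : 0 < r 0 + ((2 ^ m : ℝ) ^ 2 - 1) * r 2 / ((2 * (2 ^ m : ℝ) ^ 2) ^ 2 + 1)
      + (((2 ^ m : ℝ) ^ 2 + 2 ^ m) / 2) * r 3 /
        ((2 * (2 ^ m : ℝ) ^ 2 - 1) * (2 * (2 ^ m : ℝ) ^ 2 - 2 * 2 ^ m + 1))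
      + (((2 ^ m : ℝ) ^ 2 - 2 ^ m) / 2) * r 4 /
        ((2 * (2 ^ m : ℝ) ^ 2 - 1) * (2 * (2 ^ m : ℝ) ^ 2 + 2 * 2 ^ m + 1))
      - 2 * (2 ^ m : ℝ) ^ 2 * r 5 / ((2 * (2 ^ m : ℝ) ^ 2 - 1) * 2 ^ m)) :
    ∑ χ : IrrCharacter (Sz F m), (χ : Sz F m → ℂ) x * (χ : Sz F m → ℂ) x *
        conj ((χ : Sz F m → ℂ) g) / (χ : Sz F m → ℂ) 1 ≠ 0 := by
  obtain ⟨τ, hτ, c0, c1, c2, c3, c4, c5⟩ := type_counts hT
  have hs : (2 : ℝ) ≤ 2 ^ m := two_le_s_of (hm_of F m)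
  set s : ℝ := (2 : ℝ) ^ m with hsdef
  have hss : (2 : ℝ) ^ (2 * m) = s ^ 2 := (s_sq (m := m)).symm
  rw [hss] at c2 c3 c4
  have hsq : ∀ χ : IrrCharacter (Sz F m), (χ : Sz F m → ℂ) x * (χ : Sz F m → ℂ) x =
      ((XT s (τ χ) : ℝ) : ℂ) := by
    intro χ
    obtain ⟨h1, h2⟩ := sq_four s (τ χ) _ _ (hτ χ).2.2.1 (hτ χ).2.2.2.1
    have key := sq_ofReal_of h1 h2
    rcases re_order_four (IsIrrCharacter.isCharacter χ.2) hx with h | h <;> rw [h]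
    · exact key
    · rw [← map_mul, key, Complex.conj_ofReal]
  have hW : ∀ χ : IrrCharacter (Sz F m), 0 ≤ XT s (τ χ) ∨ τ χ = 5 := by
    intro χ
    rcases fin6_cases (τ χ) with h | h | h | h | h | h
    · left; rw [h, XT_0]; norm_num
    · left; rw [h, XT_1]
    · left; rw [h, XT_2]; norm_num
    · left; rw [h, XT_3]; norm_num
    · left; rw [h, XT_4]; norm_num
    · right; exact h
  have hge := re_sum_ge hT τ hτ x g hg (fun χ => XT s (τ χ)) hsq hW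
  apply pos_sum_ne_zero
  refine lt_of_lt_of_le ?_ hge
  rw [Fin.sum_univ_six]
  rw [fibre_const τ _ 0 (XT s 0) (fun i h => by rw [h]), fibre_const τ _ 1 (XT s 1) (fun i h => by rw [h]),
    fibre_const τ _ 2 (XT s 2) (fun i h => by rw [h]), fibre_const τ _ 3 (XT s 3) (fun i h => by rw [h]),
    fibre_const τ _ 4 (XT s 4) (fun i h => by rw [h]), fibre_const τ _ 5 (XT s 5) (fun i h => by rw [h]),
    c0, c1, c2, c3, c4, c5, XT_0, XT_1, XT_2, XT_3, XT_4, XT_5, aT_0, aT_1, aT_2, aT_3, aT_4, aT_5]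
  refine lt_of_lt_of_eq hpos ?_
  ring


theorem aK_eq_zero (j : Fin 6) (hj : j ≠ 2) : aK j = 0 := by revert j; decide
theorem aU_eq_zero (j : Fin 6) (hj : j ≠ 3) : aU j = 0 := by revert j; decide
theorem aV_eq_zero (j : Fin 6) (hj : j ≠ 4) : aV j = 0 := by revert j; decide

theorem re_ge_K {x₁ x₂ : Sz F m} (hT : TPair x₁ x₂) {k y g : Sz F m}
    (hy : y ∈ dd (oInf F m) (oZero F m)) (h1 : y ≠ 1)
    {r : Fin 6 → ℝ} (hg : GD hT g r) :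
    r 0 + r 1 / ((2 * (2 ^ m : ℝ) ^ 2) ^ 2) + r 2 * (2 * (2 ^ m : ℝ) ^ 2 - 3) / ((2 * (2 ^ m : ℝ) ^ 2) ^ 2 + 1) ≤ (∑ χ : IrrCharacter (Sz F m), (χ : Sz F m → ℂ) (k * y * k⁻¹) * (χ : Sz F m → ℂ) (k * y * k⁻¹) *
        conj ((χ : Sz F m → ℂ) g) / (χ : Sz F m → ℂ) 1).re := by
  obtain ⟨τ, hτ, c0, c1, c2, c3, c4, c5⟩ := type_counts hT
  have hs : (2 : ℝ) ≤ 2 ^ m := two_le_s_of (hm_of F m)
  have hqr : (Fintype.card F : ℝ) = 2 * ((2 : ℝ) ^ m) ^ 2 := card_F_real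
  have hTor : IsTorus (dd (oInf F m) (oZero F m)) := isTorus_dd oZero_ne_inf.symm
  have hcardU : (Nat.card (dd (oInf F m) (oZero F m)) : ℝ) = 2 * ((2 : ℝ) ^ m) ^ 2 - 1 := by
    rw [card_dd oZero_ne_inf.symm, Nat.cast_sub (Fintype.card_pos_iff.2 ⟨0⟩ : 0 < Fintype.card F), hqr]
    push_cast
    try ring
  set s : ℝ := (2 : ℝ) ^ m with hsdef
  have hss : (2 : ℝ) ^ (2 * m) = s ^ 2 := (s_sq (m := m)).symm
  rw [hss] at c2 c3 c4
  have hreal : ∀ χ : IrrCharacter (Sz F m), (χ : Sz F m → ℂ) y = ((((χ : Sz F m → ℂ) y).re : ℝ) : ℂ) :=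
    fun χ => char_real_of_torus hTor (IsIrrCharacter.isCharacter χ.2) hy
  have hconj : ∀ χ : IrrCharacter (Sz F m), (χ : Sz F m → ℂ) (k * y * k⁻¹) = (χ : Sz F m → ℂ) y :=
    fun χ => char_apply_conj (IsIrrCharacter.isCharacter χ.2) _ _
  have hsq : ∀ χ : IrrCharacter (Sz F m), (χ : Sz F m → ℂ) (k * y * k⁻¹) * (χ : Sz F m → ℂ) (k * y * k⁻¹) =
      ((Complex.normSq ((χ : Sz F m → ℂ) y) : ℝ) : ℂ) := by
    intro χ
    rw [hconj χ, Complex.normSq_eq_conj_mul_self]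
    rw [hreal χ, Complex.conj_ofReal]
  have hW : ∀ χ : IrrCharacter (Sz F m), 0 ≤ Complex.normSq ((χ : Sz F m → ℂ) y) ∨ τ χ = 5 :=
    fun χ => Or.inl (Complex.normSq_nonneg _)
  have hge := re_sum_ge hT τ hτ (k * y * k⁻¹) g hg (fun χ => Complex.normSq ((χ : Sz F m → ℂ) y)) hsq hW
  have htot := sum_normSq_torus hTor hy h1
  rw [← Finset.sum_fiberwise (s := Finset.univ) (g := τ)
    (f := fun χ : IrrCharacter (Sz F m) => Complex.normSq ((χ : Sz F m → ℂ) y)), Fin.sum_univ_six,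
    hcardU] at htot
  have hval : ∀ (χ : IrrCharacter (Sz F m)) (j : Fin 6), j ≠ 2 → τ χ = j →
      (χ : Sz F m → ℂ) y = (((dK j : ℤ) : ℝ) : ℂ) := by
    intro χ j hj hχ
    have hb := ((hτ χ).2.2.2.2.1) y hy h1
    rw [hχ] at hb
    have := eq_of_norm_sub_le_zero hb (aK_eq_zero j hj)
    rw [this]
    simp
  have hfib : ∀ j : Fin 6, j ≠ 2 → ∑ χ ∈ Finset.univ.filter (fun χ => τ χ = j),
      Complex.normSq ((χ : Sz F m → ℂ) y) =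
      ((Finset.univ.filter (fun χ => τ χ = j)).card : ℝ) * ((dK j : ℤ) : ℝ) ^ 2 := by
    intro j hj
    refine fibre_const τ _ j _ fun χ hχ => ?_
    rw [hval χ j hj hχ, Complex.normSq_ofReal]
    ring
  refine le_trans ?_ hge
  rw [Fin.sum_univ_six]
  have f0 := hfib 0 (by decide)
  have d0 : ((dK 0 : ℤ) : ℝ) = 1 := by
    have hd : dK 0 = 1 := rfl
    rw [hd]; norm_num
  rw [d0] at f0
  have f1 := hfib 1 (by decide)
  have d1 : ((dK 1 : ℤ) : ℝ) = 1 := by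
    have hd : dK 1 = 1 := rfl
    rw [hd]; norm_num
  rw [d1] at f1
  have f3 := hfib 3 (by decide)
  have d3 : ((dK 3 : ℤ) : ℝ) = 0 := by
    have hd : dK 3 = 0 := rfl
    rw [hd]; norm_num
  rw [d3] at f3
  have f4 := hfib 4 (by decide)
  have d4 : ((dK 4 : ℤ) : ℝ) = 0 := by
    have hd : dK 4 = 0 := rfl
    rw [hd]; norm_num
  rw [d4] at f4
  have f5 := hfib 5 (by decide)
  have d5 : ((dK 5 : ℤ) : ℝ) = 0 := by
    have hd : dK 5 = 0 := rfl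
    rw [hd]; norm_num
  rw [d5] at f5
  rw [f0, f1, f3, f4, f5, c0, c1, c3, c4, c5] at htot
  have fa : ∑ χ ∈ Finset.univ.filter (fun χ => τ χ = 2), Complex.normSq ((χ : Sz F m → ℂ) y) = 2 * s ^ 2 - 3 := by
    linarith
  rw [f0, f1, f3, f4, f5, fa, c0, c1, c3, c4, c5]
  rw [aT_0, aT_1, aT_2, aT_3, aT_4, aT_5]
  refine le_of_eq ?_
  ring

theorem ne_zero_K {x₁ x₂ : Sz F m} (hT : TPair x₁ x₂) {k y g : Sz F m}
    (hy : y ∈ dd (oInf F m) (oZero F m)) (h1 : y ≠ 1)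
    {r : Fin 6 → ℝ} (hg : GD hT g r)
    (hpos : 0 < r 0 + r 1 / ((2 * (2 ^ m : ℝ) ^ 2) ^ 2) + r 2 * (2 * (2 ^ m : ℝ) ^ 2 - 3) / ((2 * (2 ^ m : ℝ) ^ 2) ^ 2 + 1)) :
    ∑ χ : IrrCharacter (Sz F m), (χ : Sz F m → ℂ) (k * y * k⁻¹) * (χ : Sz F m → ℂ) (k * y * k⁻¹) *
        conj ((χ : Sz F m → ℂ) g) / (χ : Sz F m → ℂ) 1 ≠ 0 :=
  pos_sum_ne_zero (lt_of_lt_of_le hpos (re_ge_K hT hy h1 hg))

theorem re_ge_U {x₁ x₂ : Sz F m} (hT : TPair x₁ x₂) {k y g : Sz F m}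
    (hy : y ∈ cen x₁) (h1 : y ≠ 1)
    {r : Fin 6 → ℝ} (hg : GD hT g r) :
    r 0 + r 1 / ((2 * (2 ^ m : ℝ) ^ 2) ^ 2) + r 3 * (2 * (2 ^ m : ℝ) ^ 2 + 2 * 2 ^ m + 1 - 4) / ((2 * (2 ^ m : ℝ) ^ 2 - 1) * (2 * (2 ^ m : ℝ) ^ 2 - 2 * 2 ^ m + 1)) + 2 * r 5 / ((2 * (2 ^ m : ℝ) ^ 2 - 1) * 2 ^ m) ≤ (∑ χ : IrrCharacter (Sz F m), (χ : Sz F m → ℂ) (k * y * k⁻¹) * (χ : Sz F m → ℂ) (k * y * k⁻¹) *
        conj ((χ : Sz F m → ℂ) g) / (χ : Sz F m → ℂ) 1).re := by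
  obtain ⟨τ, hτ, c0, c1, c2, c3, c4, c5⟩ := type_counts hT
  have hs : (2 : ℝ) ≤ 2 ^ m := two_le_s_of (hm_of F m)
  have hqr : (Fintype.card F : ℝ) = 2 * ((2 : ℝ) ^ m) ^ 2 := card_F_real
  have hTor : IsTorus (cen x₁) := isTorus_cen hT.h₁
  have hcardU : (Nat.card (cen x₁) : ℝ) = 2 * ((2 : ℝ) ^ m) ^ 2 + 2 * ((2 : ℝ) ^ m) + 1 := by
    rw [hT.c₁]
    push_cast
    rw [hqr, pow_succ]
    try ring
  set s : ℝ := (2 : ℝ) ^ m with hsdef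
  have hss : (2 : ℝ) ^ (2 * m) = s ^ 2 := (s_sq (m := m)).symm
  rw [hss] at c2 c3 c4
  have hreal : ∀ χ : IrrCharacter (Sz F m), (χ : Sz F m → ℂ) y = ((((χ : Sz F m → ℂ) y).re : ℝ) : ℂ) :=
    fun χ => char_real_of_torus hTor (IsIrrCharacter.isCharacter χ.2) hy
  have hconj : ∀ χ : IrrCharacter (Sz F m), (χ : Sz F m → ℂ) (k * y * k⁻¹) = (χ : Sz F m → ℂ) y :=
    fun χ => char_apply_conj (IsIrrCharacter.isCharacter χ.2) _ _
  have hsq : ∀ χ : IrrCharacter (Sz F m), (χ : Sz F m → ℂ) (k * y * k⁻¹) * (χ : Sz F m → ℂ) (k * y * k⁻¹) =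
      ((Complex.normSq ((χ : Sz F m → ℂ) y) : ℝ) : ℂ) := by
    intro χ
    rw [hconj χ, Complex.normSq_eq_conj_mul_self]
    rw [hreal χ, Complex.conj_ofReal]
  have hW : ∀ χ : IrrCharacter (Sz F m), 0 ≤ Complex.normSq ((χ : Sz F m → ℂ) y) ∨ τ χ = 5 :=
    fun χ => Or.inl (Complex.normSq_nonneg _)
  have hge := re_sum_ge hT τ hτ (k * y * k⁻¹) g hg (fun χ => Complex.normSq ((χ : Sz F m → ℂ) y)) hsq hW
  have htot := sum_normSq_torus hTor hy h1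
  rw [← Finset.sum_fiberwise (s := Finset.univ) (g := τ)
    (f := fun χ : IrrCharacter (Sz F m) => Complex.normSq ((χ : Sz F m → ℂ) y)), Fin.sum_univ_six,
    hcardU] at htot
  have hval : ∀ (χ : IrrCharacter (Sz F m)) (j : Fin 6), j ≠ 3 → τ χ = j →
      (χ : Sz F m → ℂ) y = (((dU j : ℤ) : ℝ) : ℂ) := by
    intro χ j hj hχ
    have hb := ((hτ χ).2.2.2.2.2.1) y hy h1
    rw [hχ] at hb
    have := eq_of_norm_sub_le_zero hb (aU_eq_zero j hj)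
    rw [this]
    simp
  have hfib : ∀ j : Fin 6, j ≠ 3 → ∑ χ ∈ Finset.univ.filter (fun χ => τ χ = j),
      Complex.normSq ((χ : Sz F m → ℂ) y) =
      ((Finset.univ.filter (fun χ => τ χ = j)).card : ℝ) * ((dU j : ℤ) : ℝ) ^ 2 := by
    intro j hj
    refine fibre_const τ _ j _ fun χ hχ => ?_
    rw [hval χ j hj hχ, Complex.normSq_ofReal]
    ring
  refine le_trans ?_ hge
  rw [Fin.sum_univ_six]
  have f0 := hfib 0 (by decide)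
  have d0 : ((dU 0 : ℤ) : ℝ) = 1 := by
    have hd : dU 0 = 1 := rfl
    rw [hd]; norm_num
  rw [d0] at f0
  have f1 := hfib 1 (by decide)
  have d1 : ((dU 1 : ℤ) : ℝ) = -1 := by
    have hd : dU 1 = -1 := rfl
    rw [hd]; norm_num
  rw [d1] at f1
  have f2 := hfib 2 (by decide)
  have d2 : ((dU 2 : ℤ) : ℝ) = 0 := by
    have hd : dU 2 = 0 := rfl
    rw [hd]; norm_num
  rw [d2] at f2
  have f4 := hfib 4 (by decide)
  have d4 : ((dU 4 : ℤ) : ℝ) = 0 := by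
    have hd : dU 4 = 0 := rfl
    rw [hd]; norm_num
  rw [d4] at f4
  have f5 := hfib 5 (by decide)
  have d5 : ((dU 5 : ℤ) : ℝ) = 1 := by
    have hd : dU 5 = 1 := rfl
    rw [hd]; norm_num
  rw [d5] at f5
  rw [f0, f1, f2, f4, f5, c0, c1, c2, c4, c5] at htot
  have fa : ∑ χ ∈ Finset.univ.filter (fun χ => τ χ = 3), Complex.normSq ((χ : Sz F m → ℂ) y) = 2 * s ^ 2 + 2 * s + 1 - 4 := by
    linarith
  rw [f0, f1, f2, f4, f5, fa, c0, c1, c2, c4, c5]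
  rw [aT_0, aT_1, aT_2, aT_3, aT_4, aT_5]
  refine le_of_eq ?_
  ring

theorem ne_zero_U {x₁ x₂ : Sz F m} (hT : TPair x₁ x₂) {k y g : Sz F m}
    (hy : y ∈ cen x₁) (h1 : y ≠ 1)
    {r : Fin 6 → ℝ} (hg : GD hT g r)
    (hpos : 0 < r 0 + r 1 / ((2 * (2 ^ m : ℝ) ^ 2) ^ 2) + r 3 * (2 * (2 ^ m : ℝ) ^ 2 + 2 * 2 ^ m + 1 - 4) / ((2 * (2 ^ m : ℝ) ^ 2 - 1) * (2 * (2 ^ m : ℝ) ^ 2 - 2 * 2 ^ m + 1)) + 2 * r 5 / ((2 * (2 ^ m : ℝ) ^ 2 - 1) * 2 ^ m)) :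
    ∑ χ : IrrCharacter (Sz F m), (χ : Sz F m → ℂ) (k * y * k⁻¹) * (χ : Sz F m → ℂ) (k * y * k⁻¹) *
        conj ((χ : Sz F m → ℂ) g) / (χ : Sz F m → ℂ) 1 ≠ 0 :=
  pos_sum_ne_zero (lt_of_lt_of_le hpos (re_ge_U hT hy h1 hg))

theorem re_ge_V {x₁ x₂ : Sz F m} (hT : TPair x₁ x₂) {k y g : Sz F m}
    (hy : y ∈ cen x₂) (h1 : y ≠ 1)
    {r : Fin 6 → ℝ} (hg : GD hT g r) :
    r 0 + r 1 / ((2 * (2 ^ m : ℝ) ^ 2) ^ 2) + r 4 * (2 * (2 ^ m : ℝ) ^ 2 - 2 * 2 ^ m + 1 - 4) / ((2 * (2 ^ m : ℝ) ^ 2 - 1) * (2 * (2 ^ m : ℝ) ^ 2 + 2 * 2 ^ m + 1)) + 2 * r 5 / ((2 * (2 ^ m : ℝ) ^ 2 - 1) * 2 ^ m) ≤ (∑ χ : IrrCharacter (Sz F m), (χ : Sz F m → ℂ) (k * y * k⁻¹) * (χ : Sz F m → ℂ) (k * y * k⁻¹) *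
        conj ((χ : Sz F m → ℂ) g) / (χ : Sz F m → ℂ) 1).re := by
  obtain ⟨τ, hτ, c0, c1, c2, c3, c4, c5⟩ := type_counts hT
  have hs : (2 : ℝ) ≤ 2 ^ m := two_le_s_of (hm_of F m)
  have hqr : (Fintype.card F : ℝ) = 2 * ((2 : ℝ) ^ m) ^ 2 := card_F_real
  have hTor : IsTorus (cen x₂) := isTorus_cen hT.h₂
  have hcardU : (Nat.card (cen x₂) : ℝ) = 2 * ((2 : ℝ) ^ m) ^ 2 - 2 * ((2 : ℝ) ^ m) + 1 := by
    have := hT.c₂
    have h2 : (Nat.card (cen x₂) : ℝ) + 2 ^ (m + 1) = Fintype.card F + 1 := by exact_mod_cast this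
    rw [hqr, pow_succ] at h2
    linarith
  set s : ℝ := (2 : ℝ) ^ m with hsdef
  have hss : (2 : ℝ) ^ (2 * m) = s ^ 2 := (s_sq (m := m)).symm
  rw [hss] at c2 c3 c4
  have hreal : ∀ χ : IrrCharacter (Sz F m), (χ : Sz F m → ℂ) y = ((((χ : Sz F m → ℂ) y).re : ℝ) : ℂ) :=
    fun χ => char_real_of_torus hTor (IsIrrCharacter.isCharacter χ.2) hy
  have hconj : ∀ χ : IrrCharacter (Sz F m), (χ : Sz F m → ℂ) (k * y * k⁻¹) = (χ : Sz F m → ℂ) y :=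
    fun χ => char_apply_conj (IsIrrCharacter.isCharacter χ.2) _ _
  have hsq : ∀ χ : IrrCharacter (Sz F m), (χ : Sz F m → ℂ) (k * y * k⁻¹) * (χ : Sz F m → ℂ) (k * y * k⁻¹) =
      ((Complex.normSq ((χ : Sz F m → ℂ) y) : ℝ) : ℂ) := by
    intro χ
    rw [hconj χ, Complex.normSq_eq_conj_mul_self]
    rw [hreal χ, Complex.conj_ofReal]
  have hW : ∀ χ : IrrCharacter (Sz F m), 0 ≤ Complex.normSq ((χ : Sz F m → ℂ) y) ∨ τ χ = 5 :=
    fun χ => Or.inl (Complex.normSq_nonneg _)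
  have hge := re_sum_ge hT τ hτ (k * y * k⁻¹) g hg (fun χ => Complex.normSq ((χ : Sz F m → ℂ) y)) hsq hW
  have htot := sum_normSq_torus hTor hy h1
  rw [← Finset.sum_fiberwise (s := Finset.univ) (g := τ)
    (f := fun χ : IrrCharacter (Sz F m) => Complex.normSq ((χ : Sz F m → ℂ) y)), Fin.sum_univ_six,
    hcardU] at htot
  have hval : ∀ (χ : IrrCharacter (Sz F m)) (j : Fin 6), j ≠ 4 → τ χ = j →
      (χ : Sz F m → ℂ) y = (((dV j : ℤ) : ℝ) : ℂ) := by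
    intro χ j hj hχ
    have hb := ((hτ χ).2.2.2.2.2.2) y hy h1
    rw [hχ] at hb
    have := eq_of_norm_sub_le_zero hb (aV_eq_zero j hj)
    rw [this]
    simp
  have hfib : ∀ j : Fin 6, j ≠ 4 → ∑ χ ∈ Finset.univ.filter (fun χ => τ χ = j),
      Complex.normSq ((χ : Sz F m → ℂ) y) =
      ((Finset.univ.filter (fun χ => τ χ = j)).card : ℝ) * ((dV j : ℤ) : ℝ) ^ 2 := by
    intro j hj
    refine fibre_const τ _ j _ fun χ hχ => ?_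
    rw [hval χ j hj hχ, Complex.normSq_ofReal]
    ring
  refine le_trans ?_ hge
  rw [Fin.sum_univ_six]
  have f0 := hfib 0 (by decide)
  have d0 : ((dV 0 : ℤ) : ℝ) = 1 := by
    have hd : dV 0 = 1 := rfl
    rw [hd]; norm_num
  rw [d0] at f0
  have f1 := hfib 1 (by decide)
  have d1 : ((dV 1 : ℤ) : ℝ) = -1 := by
    have hd : dV 1 = -1 := rfl
    rw [hd]; norm_num
  rw [d1] at f1
  have f2 := hfib 2 (by decide)
  have d2 : ((dV 2 : ℤ) : ℝ) = 0 := by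
    have hd : dV 2 = 0 := rfl
    rw [hd]; norm_num
  rw [d2] at f2
  have f3 := hfib 3 (by decide)
  have d3 : ((dV 3 : ℤ) : ℝ) = 0 := by
    have hd : dV 3 = 0 := rfl
    rw [hd]; norm_num
  rw [d3] at f3
  have f5 := hfib 5 (by decide)
  have d5 : ((dV 5 : ℤ) : ℝ) = -1 := by
    have hd : dV 5 = -1 := rfl
    rw [hd]; norm_num
  rw [d5] at f5
  rw [f0, f1, f2, f3, f5, c0, c1, c2, c3, c5] at htot
  have fa : ∑ χ ∈ Finset.univ.filter (fun χ => τ χ = 4), Complex.normSq ((χ : Sz F m → ℂ) y) = 2 * s ^ 2 - 2 * s + 1 - 4 := by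
    linarith
  rw [f0, f1, f2, f3, f5, fa, c0, c1, c2, c3, c5]
  rw [aT_0, aT_1, aT_2, aT_3, aT_4, aT_5]
  refine le_of_eq ?_
  ring

theorem ne_zero_V {x₁ x₂ : Sz F m} (hT : TPair x₁ x₂) {k y g : Sz F m}
    (hy : y ∈ cen x₂) (h1 : y ≠ 1)
    {r : Fin 6 → ℝ} (hg : GD hT g r)
    (hpos : 0 < r 0 + r 1 / ((2 * (2 ^ m : ℝ) ^ 2) ^ 2) + r 4 * (2 * (2 ^ m : ℝ) ^ 2 - 2 * 2 ^ m + 1 - 4) / ((2 * (2 ^ m : ℝ) ^ 2 - 1) * (2 * (2 ^ m : ℝ) ^ 2 + 2 * 2 ^ m + 1)) + 2 * r 5 / ((2 * (2 ^ m : ℝ) ^ 2 - 1) * 2 ^ m)) :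
    ∑ χ : IrrCharacter (Sz F m), (χ : Sz F m → ℂ) (k * y * k⁻¹) * (χ : Sz F m → ℂ) (k * y * k⁻¹) *
        conj ((χ : Sz F m → ℂ) g) / (χ : Sz F m → ℂ) 1 ≠ 0 :=
  pos_sum_ne_zero (lt_of_lt_of_le hpos (re_ge_V hT hy h1 hg))


/-- Every non-identity element carries one of five lower bound tables. -/
theorem gd_cases {x₁ x₂ : Sz F m} (hT : TPair x₁ x₂) {g : Sz F m} (hg : g ≠ 1) :
    GD hT g (bT (2 ^ m)) ∨ GD hT g grT ∨ GD hT g rK ∨ GD hT g rU ∨ GD hT g rV := by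
  rcases kinds hT hg with h | h | ⟨k, y, hy, h1, rfl⟩ | ⟨k, y, hy, h1, rfl⟩ | ⟨k, y, hy, h1, rfl⟩
  · exact Or.inl (gd_two hT h)
  · exact Or.inr (Or.inl (gd_four hT h))
  · exact Or.inr (Or.inr (Or.inl (gd_K hT hy h1)))
  · exact Or.inr (Or.inr (Or.inr (Or.inl (gd_U hT hy h1))))
  · exact Or.inr (Or.inr (Or.inr (Or.inr (gd_V hT hy h1))))

theorem rK_vals : rK 0 = 1 ∧ rK 1 = 1 ∧ rK 2 = -2 ∧ rK 3 = 0 ∧ rK 4 = 0 ∧ rK 5 = 0 :=
  ⟨rfl, rfl, rfl, rfl, rfl, rfl⟩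
theorem rU_vals : rU 0 = 1 ∧ rU 1 = -1 ∧ rU 2 = 0 ∧ rU 3 = -4 ∧ rU 4 = 0 ∧ rU 5 = 1 :=
  ⟨rfl, rfl, rfl, rfl, rfl, rfl⟩
theorem rV_vals : rV 0 = 1 ∧ rV 1 = -1 ∧ rV 2 = 0 ∧ rV 3 = 0 ∧ rV 4 = -4 ∧ rV 5 = -1 :=
  ⟨rfl, rfl, rfl, rfl, rfl, rfl⟩

/-- The class sum is nonzero. -/
theorem sum_ne_zero {x g : Sz F m} (hx : 2 < orderOf x) (hg : g ≠ 1) :
    ∑ χ : IrrCharacter (Sz F m), (χ : Sz F m → ℂ) x * (χ : Sz F m → ℂ) x *
        conj ((χ : Sz F m → ℂ) g) / (χ : Sz F m → ℂ) 1 ≠ 0 := by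
  obtain ⟨x₁, x₂, hT⟩ := exists_TPair F m
  have hs : (2 : ℝ) ≤ 2 ^ m := two_le_s_of (hm_of F m)
  have hx1 : x ≠ 1 := by
    rintro rfl
    simp at hx
  have hcases : orderOf x = 4 ∨
    (∃ k y : Sz F m, y ∈ dd (oInf F m) (oZero F m) ∧ y ≠ 1 ∧ x = k * y * k⁻¹) ∨
    (∃ k y : Sz F m, y ∈ cen x₁ ∧ y ≠ 1 ∧ x = k * y * k⁻¹) ∨
    (∃ k y : Sz F m, y ∈ cen x₂ ∧ y ≠ 1 ∧ x = k * y * k⁻¹) := by
    rcases kinds hT hx1 with h | h
    · omega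
    · exact h
  have hgc := gd_cases hT hg
  obtain ⟨r0, r1, r2, r3, r4, r5⟩ := And.intro (rK_vals) (And.intro rU_vals rV_vals) |>.1
  obtain ⟨u0, u1, u2, u3, u4, u5⟩ := rU_vals
  obtain ⟨v0, v1, v2, v3, v4, v5⟩ := rV_vals
  rcases hcases with h | ⟨k, y, hy, h1, rfl⟩ | ⟨k, y, hy, h1, rfl⟩ | ⟨k, y, hy, h1, rfl⟩
  · rcases hgc with hr | hr | hr | hr | hr
    · refine ne_zero_four hT h hr ?_
      rw [bT_0, bT_2, bT_3, bT_4, bT_5]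
      exact ar_four_z _ hs
    · refine ne_zero_four hT h hr ?_
      rw [grT_0, grT_2, grT_3, grT_4, grT_5]
      exact ar_four_u _ hs
    · refine ne_zero_four hT h hr ?_
      rw [r0, r2, r3, r4, r5]
      exact ar_four_K _ hs
    · refine ne_zero_four hT h hr ?_
      rw [u0, u2, u3, u4, u5]
      exact ar_four_U _ hs
    · refine ne_zero_four hT h hr ?_
      rw [v0, v2, v3, v4, v5]
      exact ar_four_V _ hs
  · rcases hgc with hr | hr | hr | hr | hr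
    · refine ne_zero_K hT hy h1 hr ?_
      rw [bT_0, bT_1, bT_2]
      exact ar_K_z _ hs
    · refine ne_zero_K hT hy h1 hr ?_
      rw [grT_0, grT_1, grT_2]
      exact ar_K_u _ hs
    · refine ne_zero_K hT hy h1 hr ?_
      rw [r0, r1, r2]
      exact ar_K_K _ hs
    · refine ne_zero_K hT hy h1 hr ?_
      rw [u0, u1, u2]
      exact ar_K_U _ hs
    · refine ne_zero_K hT hy h1 hr ?_
      rw [v0, v1, v2]
      exact ar_K_V _ hs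
  · rcases hgc with hr | hr | hr | hr | hr
    · refine ne_zero_U hT hy h1 hr ?_
      rw [bT_0, bT_1, bT_3, bT_5]
      exact ar_U_z _ hs
    · refine ne_zero_U hT hy h1 hr ?_
      rw [grT_0, grT_1, grT_3, grT_5]
      exact ar_U_u _ hs
    · refine ne_zero_U hT hy h1 hr ?_
      rw [r0, r1, r3, r5]
      exact ar_U_K _ hs
    · refine ne_zero_U hT hy h1 hr ?_
      rw [u0, u1, u3, u5]
      exact ar_U_U _ hs
    · refine ne_zero_U hT hy h1 hr ?_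
      rw [v0, v1, v3, v5]
      exact ar_U_V _ hs
  · rcases hgc with hr | hr | hr | hr | hr
    · refine ne_zero_V hT hy h1 hr ?_
      rw [bT_0, bT_1, bT_4, bT_5]
      exact ar_V_z _ hs
    · refine ne_zero_V hT hy h1 hr ?_
      rw [grT_0, grT_1, grT_4, grT_5]
      exact ar_V_u _ hs
    · refine ne_zero_V hT hy h1 hr ?_
      rw [r0, r1, r4, r5]
      exact ar_V_K _ hs
    · refine ne_zero_V hT hy h1 hr ?_
      rw [u0, u1, u4, u5]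
      exact ar_V_U _ hs
    · refine ne_zero_V hT hy h1 hr ?_
      rw [v0, v1, v4, v5]
      exact ar_V_V _ hs

/-- Every non-identity element is a product of two conjugates of an element of order above two. -/
theorem exists_prod_conj {x g : Sz F m} (hx : 2 < orderOf x) (hg : g ≠ 1) :
    ∃ u v : Sz F m, g = (u * x * u⁻¹) * (v * x * v⁻¹) :=
  exists_prod_of_sum_ne_zero x g (sum_ne_zero hx hg)

end main

end Cfsg.Agent.Lib.SzChar
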