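import Mathlib
import Cfsg.Agent.Lib.T64
import Cfsg.Agent.Lib.PSLFusion
import Cfsg.Agent.S3156

/-!
# Groups of order 64 with an `S₃`-action: the hyperbolic case
-/

set_option autoImplicit false
set_option linter.unusedSectionVars false
set_option linter.unusedSimpArgs false

namespace Cfsg.Agent.Lib.T64B

open Cfsg.Agent.Lib.T64

variable {T : Type*} [Group T] [Finite T] {ρ : MulAut T}

/-- If all involutions are central, we get the hypotheses of `S3156`. -/
theorem hyp_of_root (h : Cl T) (hρ : Fpf ρ) (hT : Nat.card T = 64)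
    (hc4 : Nat.card (Subgroup.center T) = 4) (hroot : ∀ t : T, t ^ 2 = 1 → t ∈ Subgroup.center T) :
    Cfsg.Agent.S3156.Hyp T := by
  classical
  have hsq : ∀ t : T, t ^ 2 ∈ Subgroup.center T := fun t => by
    rw [pow_two]; exact sq_mem h t
  have hsqZ : ∀ z ∈ Subgroup.center T, z ^ 2 = 1 := fun z hz => by
    rw [pow_two]; exact h.sqz z hz
  refine ⟨hT, hc4, hsq, hsqZ, hroot, ?_⟩
  intro c hc hc1
  have : Fintype ↥(Subgroup.center T) := Fintype.ofFinite _
  let n : T → ℕ := fun z => Nat.card {s : T // s ^ 2 = z}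
  have hn1 : n 1 = 4 := by
    rw [← hc4]
    apply Nat.card_congr
    exact
      { toFun := fun s => ⟨s, hroot _ s.2⟩
        invFun := fun z => ⟨z, hsqZ _ z.2⟩
        left_inv := fun s => rfl
        right_inv := fun z => rfl }
  have hnρ : ∀ z, n (ρ z) = n z := by
    intro z
    apply Nat.card_congr
    exact
      { toFun := fun s => ⟨ρ⁻¹ s, by
          apply ρ.injective
          rw [map_pow, MulAut.apply_inv_self, s.2]⟩
        invFun := fun s => ⟨ρ s, by rw [← map_pow, s.2]⟩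
        left_inv := fun s => Subtype.ext (MulAut.apply_inv_self _ _ _)
        right_inv := fun s => Subtype.ext (MulAut.inv_apply_self _ _ _) }
  have hval : ∀ z : ↥(Subgroup.center T), z ≠ 1 → n z = n c := by
    intro z hz
    have hz' : (z : T) ≠ 1 := fun h1 => hz (Subtype.ext h1)
    rcases enum_center hρ hc4 hc hc1 z.2 with h1 | h1 | h1 | h1
    · exact absurd h1 hz'
    · rw [h1]
    · rw [h1, hnρ]
    · rw [h1, hnρ, hnρ]
  let f : T → ↥(Subgroup.center T) := fun t => ⟨t ^ 2, hsq t⟩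
  have hsum : Nat.card T = ∑ z : ↥(Subgroup.center T), n z := by
    rw [Nat.card_congr (Equiv.sigmaFiberEquiv f).symm, Nat.card_sigma]
    refine Finset.sum_congr rfl fun z _ => ?_
    apply Nat.card_congr
    exact
      { toFun := fun s => ⟨s, congrArg Subtype.val s.2⟩
        invFun := fun s => ⟨s, Subtype.ext s.2⟩
        left_inv := fun s => rfl
        right_inv := fun s => rfl }
  have h1 : ∑ z : ↥(Subgroup.center T), n z = n ((1 : ↥(Subgroup.center T)) : T) +
      ∑ z ∈ Finset.univ.erase (1 : ↥(Subgroup.center T)), n z :=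
    (Finset.add_sum_erase _ _ (Finset.mem_univ _)).symm
  have h2 : ∑ z ∈ Finset.univ.erase (1 : ↥(Subgroup.center T)), n z = 3 * n c := by
    rw [Finset.sum_congr rfl (fun z hz => hval z (Finset.ne_of_mem_erase hz)), Finset.sum_const,
      Finset.card_erase_of_mem (Finset.mem_univ _), Finset.card_univ, ← Nat.card_eq_fintype_card,
      hc4]
    rfl
  have h3 : n ((1 : ↥(Subgroup.center T)) : T) = 4 := hn1
  rw [hT, h1, h2, h3] at hsum
  show n c = 20
  omega

section Field

variable {F : Type*} [Field F]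

/-- A primitive element of the field with four elements. -/
structure Om (ω : F) : Prop where
  ne0 : ω ≠ 0
  ne1 : ω ≠ 1
  sq : ω * ω = ω + 1
  cases : ∀ l : F, l = 0 ∨ l = 1 ∨ l = ω ∨ l = ω + 1
  char2 : ∀ x : F, x + x = 0

/-- Existence of a primitive element. -/
theorem exists_om [Fintype F] (hF : Fintype.card F = 4) [CharP F 2] : ∃ ω : F, Om ω := by
  classical
  have hc : ∀ x : F, x + x = 0 := fun x => CharTwo.add_self_eq_zero x
  obtain ⟨ω, hω⟩ : ∃ ω : F, ω ∉ ({0, 1} : Finset F) := by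
    by_contra hcon
    push Not at hcon
    have h1 : (Finset.univ : Finset F) ⊆ {0, 1} := fun x _ => hcon x
    have h2 := Finset.card_le_card h1
    rw [Finset.card_univ, hF] at h2
    have h3 : ({0, 1} : Finset F).card ≤ 2 := Finset.card_le_two
    omega
  simp only [Finset.mem_insert, Finset.mem_singleton, not_or] at hω
  obtain ⟨h0, h1⟩ := hω
  have h2 : ω + 1 ≠ 0 := fun h => h1 (by linear_combination h - hc 1)
  have h3 : ω + 1 ≠ 1 := fun h => h0 (by linear_combination h)
  have h4 : ω + 1 ≠ ω := fun h => one_ne_zero (α := F) (by linear_combination h)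
  have hall : ({0, 1, ω, ω + 1} : Finset F) = Finset.univ := by
    apply Finset.eq_univ_of_card
    rw [hF]
    rw [Finset.card_insert_of_notMem, Finset.card_insert_of_notMem, Finset.card_insert_of_notMem,
      Finset.card_singleton]
    · simp only [Finset.mem_singleton]; exact fun h => h4 h.symm
    · simp only [Finset.mem_insert, Finset.mem_singleton, not_or]
      exact ⟨fun h => h1 h.symm, fun h => h3 h.symm⟩
    · simp only [Finset.mem_insert, Finset.mem_singleton, not_or]
      exact ⟨zero_ne_one, fun h => h0 h.symm, fun h => h2 h.symm⟩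
  have hcases : ∀ l : F, l = 0 ∨ l = 1 ∨ l = ω ∨ l = ω + 1 := by
    intro l
    have : l ∈ ({0, 1, ω, ω + 1} : Finset F) := by rw [hall]; exact Finset.mem_univ l
    simpa using this
  refine ⟨ω, h0, h1, ?_, hcases, hc⟩
  rcases hcases (ω * ω) with h5 | h5 | h5 | h5
  · exact absurd (mul_self_eq_zero.mp h5) h0
  · exfalso
    have h6 : (ω + 1) * (ω + 1) = 0 := by linear_combination h5 + ω * hc 1 + hc 1
    exact h2 (mul_self_eq_zero.mp h6)
  · exfalso
    have h6 : ω * (ω - 1) = 0 := by linear_combination h5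
    rcases mul_eq_zero.mp h6 with h7 | h7
    · exact h0 h7
    · exact h1 (sub_eq_zero.mp h7)
  · exact h5

end Field

section Line

variable {F : Type*} [Field F] {ω : F}

open Classical in
/-- The additive map from the field to the four-group spanned by the `ρ`-orbit of `g`. -/
noncomputable def el (ρ : MulAut T) (ω : F) (g : T) (l : F) : T :=
  if l = 0 then 1 else if l = 1 then g else if l = ω then ρ g else ρ (ρ g)

variable (hω : Om ω) (g : T)
include hω

theorem el_zero : el ρ ω g 0 = 1 := by simp [el]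

theorem el_one : el ρ ω g 1 = g := by simp [el]

theorem el_om : el ρ ω g ω = ρ g := by simp [el, hω.ne0, hω.ne1]

theorem el_om1 : el ρ ω g (ω + 1) = ρ (ρ g) := by
  have h2 : ω + 1 ≠ 0 := fun h => hω.ne1 (by linear_combination h - hω.char2 1)
  have h3 : ω + 1 ≠ 1 := fun h => hω.ne0 (by linear_combination h)
  have h4 : ω + 1 ≠ ω := fun h => one_ne_zero (α := F) (by linear_combination h)
  simp [el, h2, h3, h4]

variable (hρ : Fpf ρ) (hg : g * g = 1)
include hρ hg

theorem el_add (l m : F) : el ρ ω g (l + m) = el ρ ω g l * el ρ ω g m := by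
  have hc := hω.char2
  have z0 := el_zero (ρ := ρ) hω g
  have z1 := el_one (ρ := ρ) hω g
  have z2 := el_om (ρ := ρ) hω g
  have z3 := el_om1 (ρ := ρ) hω g
  have s1 : g * g = 1 := hg
  have s2 : ρ g * ρ g = 1 := by rw [← map_mul, hg, map_one]
  have s3 : ρ (ρ g) * ρ (ρ g) = 1 := by rw [← map_mul, s2, map_one]
  have hn := norm_one hρ g
  have h12 : g * ρ g = ρ (ρ g) := by
    rw [← inv_eq_of_mul_eq_one_left s3]
    exact eq_inv_of_mul_eq_one_left hn
  have h21 : ρ g * g = ρ (ρ g) := by rw [← comm_self hρ g, h12]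
  have h23 : ρ g * ρ (ρ g) = g := by
    have := congrArg ρ h12
    rwa [map_mul, hρ.r3] at this
  have h32 : ρ (ρ g) * ρ g = g := by
    rw [← comm_self hρ (ρ g), h23]
  have h31 : ρ (ρ g) * g = ρ g := by
    have := congrArg ρ h23
    rwa [map_mul, hρ.r3] at this
  have h13 : g * ρ (ρ g) = ρ g := by
    have := comm_self hρ (ρ (ρ g))
    rw [hρ.r3] at this
    rw [← this, h31]
  have e1 : (1 : F) + 1 = 0 := hc 1
  have e2 : ω + ω = 0 := hc ω
  have e3 : (ω + 1) + (ω + 1) = 0 := hc _
  have e4 : (1 : F) + ω = ω + 1 := add_comm _ _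
  have e5 : (1 : F) + (ω + 1) = ω := by linear_combination hc 1
  have e6 : ω + (ω + 1) = 1 := by linear_combination hc ω
  have e7 : (ω + 1) + 1 = ω := by linear_combination hc 1
  have e8 : (ω + 1) + ω = 1 := by linear_combination hc ω
  rcases hω.cases l with rfl | rfl | rfl | rfl <;> rcases hω.cases m with rfl | rfl | rfl | rfl <;>
    simp only [add_zero, zero_add, e1, e2, e3, e4, e5, e6, e7, e8, z0, z1, z2, z3, one_mul, mul_one,
      s1, s2, s3, h12, h21, h23, h32, h13, h31]

omit hg in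
theorem el_rho (l : F) : ρ (el ρ ω g l) = el ρ ω g (ω * l) := by
  have z0 := el_zero (ρ := ρ) hω g
  have z1 := el_one (ρ := ρ) hω g
  have z2 := el_om (ρ := ρ) hω g
  have z3 := el_om1 (ρ := ρ) hω g
  have e : ω * (ω + 1) = 1 := by linear_combination hω.sq + hω.char2 ω
  rcases hω.cases l with rfl | rfl | rfl | rfl
  · rw [mul_zero, z0, map_one]
  · rw [mul_one, z1, z2]
  · rw [hω.sq, z2, z3]
  · rw [e, z3, z1, hρ.r3]

end Line

section Pair

/-- A second involution with nontrivial commutator. -/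
theorem exists_b (h : Cl T) (hρ : Fpf ρ) (hc4 : Nat.card (Subgroup.center T) = 4) {a : T}
    (ha : a * a = 1) (haZ : a ∉ Subgroup.center T) : ∃ b : T, b * b = 1 ∧ cm a b ≠ 1 := by
  have hv : ∃ v, cm a v ≠ 1 := by
    by_contra hcon
    push Not at hcon
    apply haZ
    rw [Subgroup.mem_center_iff]
    intro g
    have h1 := hcon g
    simp only [cm] at h1
    rw [mul_inv_eq_one, mul_inv_eq_iff_eq_mul] at h1
    exact h1.symm
  obtain ⟨v, hv⟩ := hv
  have aux : ∀ u : T, u * u = 1 → cm a u = 1 → cm u v = v * v → ∃ b : T, b * b = 1 ∧ cm a b ≠ 1 := by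
    intro u hu hau huv
    refine ⟨v * u, ?_, ?_⟩
    · rw [sq_mul h, hu, mul_one, cm_symm h, huv]
      exact h.sqz _ (sq_mem h v)
    · rw [cm_mul_right h, hau, mul_one]
      exact hv
  have s2 : ρ a * ρ a = 1 := by rw [← map_mul, ha, map_one]
  have s3 : ρ (ρ a) * ρ (ρ a) = 1 := by rw [← map_mul, s2, map_one]
  have c1 : cm a (ρ a) = 1 := by
    simp only [cm]
    rw [comm_self hρ a]
    group
  have c2 : cm a (ρ (ρ a)) = 1 := by
    have h1 := comm_self hρ (ρ (ρ a))
    rw [hρ.r3] at h1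
    simp only [cm]
    rw [← h1]
    group
  rcases enum_center hρ hc4 (cm_mem h a v) hv (sq_mem h v) with h1 | h1 | h1 | h1
  · exact aux 1 (mul_one 1) (cm_one_right a) (by rw [cm_one_left, h1])
  · exact aux a ha (cm_self a) h1.symm
  · refine aux (ρ (ρ a)) s3 c2 ?_
    rw [h1, cm_rho_left h hρ (ρ a) v, ← cm_map]
  · refine aux (ρ a) s2 c1 ?_
    rw [h1, cm_rho_left h hρ a v, cm_rho_right h hρ]

end Pair

section Model

variable {F : Type*} [Field F] {ω : F} (hω : Om ω) (hρ : Fpf ρ) (h : Cl T) {a b : T}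
  (ha : a * a = 1) (hb : b * b = 1) (hab : cm a b ≠ 1)

/-- The central part of the parametrization. -/
noncomputable def E3 (ρ : MulAut T) (ω : F) (a b : T) (l : F) : T := cm (el ρ ω a l) b

include hω hρ h ha in
theorem E3_add (l m : F) : E3 ρ ω a b (l + m) = E3 ρ ω a b l * E3 ρ ω a b m := by
  simp only [E3]
  rw [el_add hω a hρ ha, cm_mul_left h]

include h in
theorem E3_mem (l : F) : E3 ρ ω a b l ∈ Subgroup.center T := cm_mem h _ _

include hω hρ h in
theorem cm_el (l m : F) : cm (el ρ ω a l) (el ρ ω b m) = E3 ρ ω a b (l * m) := by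
  simp only [E3]
  have hc2 : ω * (ω * l) = l * (ω + 1) := by linear_combination l * hω.sq
  rcases hω.cases m with rfl | rfl | rfl | rfl
  · rw [el_zero hω, mul_zero, el_zero hω, cm_one_right, cm_one_left]
  · rw [el_one hω, mul_one]
  · rw [el_om hω, ← cm_rho_left h hρ, el_rho hω a hρ, mul_comm]
  · rw [el_om1 hω, ← cm_rho_left h hρ, ← cm_rho_left h hρ, el_rho hω a hρ, el_rho hω a hρ, hc2]

include hω hρ h in
theorem cm_el_right {x : T} (hx : cm x b = 1) (m : F) : cm x (el ρ ω b m) = 1 := by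
  rcases hω.cases m with rfl | rfl | rfl | rfl
  · rw [el_zero hω, cm_one_right]
  · rw [el_one hω, hx]
  · rw [el_om hω, cm_rho_right h hρ, hx, map_one, map_one]
  · rw [el_om1 hω, cm_rho_right h hρ, cm_rho_right h hρ, hx]
    simp

include hω hρ ha in
theorem el_comm (l m : F) : cm (el ρ ω a l) (el ρ ω a m) = 1 := by
  have h1 : el ρ ω a l * el ρ ω a m = el ρ ω a m * el ρ ω a l := by
    rw [← el_add hω a hρ ha, ← el_add hω a hρ ha, add_comm]
  simp only [cm]
  rw [h1]
  group

end Model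

section Mat

open Cfsg.Agent.Lib.PSLFusionBasic

variable {F : Type*} [Field F] [Finite F]

/-- Entry `(0,1)`. -/
def ea (A : ↥(U F 3)) : F := (A : Matrix.SpecialLinearGroup (Fin 3) F).1 0 1

/-- Entry `(1,2)`. -/
def eb (A : ↥(U F 3)) : F := (A : Matrix.SpecialLinearGroup (Fin 3) F).1 1 2

/-- Entry `(0,2)`. -/
def ec (A : ↥(U F 3)) : F := (A : Matrix.SpecialLinearGroup (Fin 3) F).1 0 2

theorem U_entries (A : ↥(U F 3)) :
    (A : Matrix.SpecialLinearGroup (Fin 3) F).1 1 0 = 0 ∧
    (A : Matrix.SpecialLinearGroup (Fin 3) F).1 2 0 = 0 ∧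
    (A : Matrix.SpecialLinearGroup (Fin 3) F).1 2 1 = 0 ∧
    (A : Matrix.SpecialLinearGroup (Fin 3) F).1 0 0 = 1 ∧
    (A : Matrix.SpecialLinearGroup (Fin 3) F).1 1 1 = 1 ∧
    (A : Matrix.SpecialLinearGroup (Fin 3) F).1 2 2 = 1 := by
  have hA : IsUni (A : Matrix.SpecialLinearGroup (Fin 3) F).1 := A.2
  exact ⟨hA.1 _ _ (by decide), hA.1 _ _ (by decide), hA.1 _ _ (by decide), hA.2 _, hA.2 _, hA.2 _⟩

theorem ea_mul (A B : ↥(U F 3)) : ea (A * B) = ea A + ea B := by
  obtain ⟨a1, a2, a3, a4, a5, a6⟩ := U_entries A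
  obtain ⟨b1, b2, b3, b4, b5, b6⟩ := U_entries B
  simp only [ea, Subgroup.coe_mul, Matrix.SpecialLinearGroup.coe_mul, Matrix.mul_apply,
    Fin.sum_univ_three, a1, a2, a3, a4, a5, a6, b1, b2, b3, b4, b5, b6]
  ring

theorem eb_mul (A B : ↥(U F 3)) : eb (A * B) = eb A + eb B := by
  obtain ⟨a1, a2, a3, a4, a5, a6⟩ := U_entries A
  obtain ⟨b1, b2, b3, b4, b5, b6⟩ := U_entries B
  simp only [eb, Subgroup.coe_mul, Matrix.SpecialLinearGroup.coe_mul, Matrix.mul_apply,
    Fin.sum_univ_three, a1, a2, a3, a4, a5, a6, b1, b2, b3, b4, b5, b6]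
  ring

theorem ec_mul (A B : ↥(U F 3)) : ec (A * B) = ec A + ea A * eb B + ec B := by
  obtain ⟨a1, a2, a3, a4, a5, a6⟩ := U_entries A
  obtain ⟨b1, b2, b3, b4, b5, b6⟩ := U_entries B
  simp only [ea, eb, ec, Subgroup.coe_mul, Matrix.SpecialLinearGroup.coe_mul, Matrix.mul_apply,
    Fin.sum_univ_three, a1, a2, a3, a4, a5, a6, b1, b2, b3, b4, b5, b6]
  ring

theorem U_ext {A B : ↥(U F 3)} (h1 : ea A = ea B) (h2 : eb A = eb B) (h3 : ec A = ec B) : A = B := by
  obtain ⟨a1, a2, a3, a4, a5, a6⟩ := U_entries A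
  obtain ⟨b1, b2, b3, b4, b5, b6⟩ := U_entries B
  apply Subtype.ext
  apply Subtype.ext
  ext i j
  fin_cases i <;> fin_cases j <;> first
    | exact a1.trans b1.symm
    | exact a2.trans b2.symm
    | exact a3.trans b3.symm
    | exact a4.trans b4.symm
    | exact a5.trans b5.symm
    | exact a6.trans b6.symm
    | exact h1
    | exact h2
    | exact h3

/-- The matrix with prescribed entries. -/
def mkU (x : F × F × F) : ↥(U F 3) :=
  ⟨⟨!![1, x.1, x.2.2; 0, 1, x.2.1; 0, 0, 1], by
    simp [Matrix.det_fin_three]⟩, by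
    constructor
    · intro i j hij
      fin_cases i <;> fin_cases j <;> first | rfl | exact absurd hij (by decide)
    · intro i
      fin_cases i <;> rfl⟩

theorem card_U : Nat.card ↥(U F 3) = Nat.card F ^ 3 := by
  have hbij : Function.Bijective (mkU (F := F)) := by
    constructor
    · intro x y hxy
      have h1 : ea (mkU x) = ea (mkU y) := by rw [hxy]
      have h2 : eb (mkU x) = eb (mkU y) := by rw [hxy]
      have h3 : ec (mkU x) = ec (mkU y) := by rw [hxy]
      exact Prod.ext h1 (Prod.ext h2 h3)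
    · intro A
      refine ⟨(ea A, eb A, ec A), U_ext rfl rfl rfl⟩
  rw [← Nat.card_congr (Equiv.ofBijective _ hbij), Nat.card_prod, Nat.card_prod]
  ring

end Mat

section Phi

open Cfsg.Agent.Lib.PSLFusionBasic

variable {F : Type*} [Field F] [Finite F] {ω : F} {a b : T}

/-- The parametrization as a function. -/
noncomputable def phiF (ρ : MulAut T) (ω : F) (a b : T) (A : ↥(U F 3)) : T :=
  el ρ ω b (eb A) * el ρ ω a (ea A) * E3 ρ ω a b (ec A)

variable (hω : Om ω) (hρ : Fpf ρ) (h : Cl T) (ha : a * a = 1) (hb : b * b = 1) (hab : cm a b ≠ 1)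
include hω hρ h ha hb

theorem phiF_mul (A B : ↥(U F 3)) :
    phiF ρ ω a b (A * B) = phiF ρ ω a b A * phiF ρ ω a b B := by
  simp only [phiF]
  rw [ea_mul, eb_mul, ec_mul, el_add hω a hρ ha, el_add hω b hρ hb, E3_add hω hρ h ha,
    E3_add hω hρ h ha]
  have hC := cm_el (a := a) (b := b) hω hρ h (ea A) (eb B)
  generalize el ρ ω a (ea A) = u at *
  generalize el ρ ω b (eb B) = v at *
  generalize el ρ ω a (ea B) = u' at *
  generalize el ρ ω b (eb A) = v' at *
  have c1 := E3_mem (ρ := ρ) (ω := ω) (a := a) (b := b) h (ec A)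
  have c2 := E3_mem (ρ := ρ) (ω := ω) (a := a) (b := b) h (ec B)
  have c3 := E3_mem (ρ := ρ) (ω := ω) (a := a) (b := b) h (ea A * eb B)
  rw [← hC] at c3 ⊢
  generalize E3 ρ ω a b (ec A) = C₁ at *
  generalize E3 ρ ω a b (ec B) = C₂ at *
  have huv : u * v = cm u v * (v * u) := by simp only [cm]; group
  generalize cm u v = C₃ at *
  calc v' * v * (u * u') * (C₁ * C₃ * C₂)
      = v' * v * u * (u' * C₁) * C₃ * C₂ := by group
    _ = v' * v * u * (C₁ * u') * C₃ * C₂ := by rw [central c1 u']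
    _ = v' * (v * u) * C₁ * u' * C₃ * C₂ := by group
    _ = v' * (C₃ * (v * u)) * C₁ * u' * C₂ := by
        rw [← central c3 (v * u)]
        have h1 : u' * C₃ = C₃ * u' := central c3 u'
        have h2 : C₁ * C₃ = C₃ * C₁ := central c3 C₁
        calc v' * (v * u) * C₁ * u' * C₃ * C₂ = v' * (v * u) * C₁ * (u' * C₃) * C₂ := by group
          _ = v' * (v * u) * (C₁ * C₃) * u' * C₂ := by rw [h1]; group
          _ = v' * (v * u) * (C₃ * C₁) * u' * C₂ := by rw [h2]
          _ = _ := by group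
    _ = v' * (u * v) * C₁ * u' * C₂ := by rw [huv]
    _ = v' * u * (v * C₁) * u' * C₂ := by group
    _ = v' * u * (C₁ * v) * u' * C₂ := by rw [central c1 v]
    _ = v' * u * C₁ * (v * u' * C₂) := by group

include hab

theorem phiF_inj : Function.Injective (phiF (F := F) ρ ω a b) := by
  have hmul := phiF_mul (F := F) hω hρ h ha hb
  let Φ : ↥(U F 3) →* T := MonoidHom.mk' (phiF ρ ω a b) hmul
  have hΦ : ∀ A, Φ A = phiF ρ ω a b A := fun A => rfl
  suffices hinj : Function.Injective Φ from hinj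
  rw [injective_iff_map_eq_one]
  intro A hA
  rw [hΦ] at hA
  simp only [phiF] at hA
  have hC := E3_mem (ρ := ρ) (ω := ω) (a := a) (b := b) h (ec A)
  have hcr : ∀ {x z : T}, z ∈ Subgroup.center T → cm x z = 1 := by
    intro x z hz
    simp only [cm]
    rw [central hz x]
    group
  have hcl : ∀ {x z : T}, z ∈ Subgroup.center T → cm z x = 1 := by
    intro x z hz
    rw [cm_symm h]
    exact hcr hz
  have h4 : E3 ρ ω a b 1 = cm a b := by
    simp only [E3]
    rw [el_one hω]
  -- the entry `b`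
  have hbe : eb A = 0 := by
    by_contra hne
    apply hab
    have h1 := cm_el (a := a) (b := b) hω hρ h (eb A)⁻¹ (eb A)
    rw [inv_mul_cancel₀ hne] at h1
    have h2 : el ρ ω b (eb A) = (el ρ ω a (ea A) * E3 ρ ω a b (ec A))⁻¹ :=
      eq_inv_of_mul_eq_one_left (by rw [← mul_assoc]; exact hA)
    rw [h2, cm_inv_right h, cm_mul_right h, el_comm hω hρ ha, one_mul, hcr hC] at h1
    rw [← h4, ← h1]
  rw [hbe, el_zero hω, one_mul] at hA
  have hae : ea A = 0 := by
    by_contra hne
    apply hab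
    have h1 := cm_el (a := a) (b := b) hω hρ h (ea A) (ea A)⁻¹
    rw [mul_inv_cancel₀ hne] at h1
    have h2 : el ρ ω a (ea A) = (E3 ρ ω a b (ec A))⁻¹ := eq_inv_of_mul_eq_one_left hA
    rw [h2, hcl (Subgroup.inv_mem _ hC)] at h1
    rw [← h4, ← h1]
  rw [hae, el_zero hω, one_mul] at hA
  have hce : ec A = 0 := by
    by_contra hne
    apply hab
    have h1 := cm_el (a := a) (b := b) hω hρ h (ec A) (ec A)⁻¹
    rw [mul_inv_cancel₀ hne] at h1
    have h2 : cm (el ρ ω a (ec A)) b = 1 := hA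
    rw [cm_el_right hω hρ h h2] at h1
    rw [← h4, ← h1]
  apply U_ext
  · rw [hae]; simp [ea]
  · rw [hbe]; simp [eb]
  · rw [hce]; simp [ec]

end Phi

section Final

open Cfsg.Agent.Lib.PSLFusionBasic Cfsg.Agent.Lib.PSLFusion Cfsg.Agent.Lib.SLSpec

/-- Conclusion in the hyperbolic case. -/
theorem sylow_iso {F : Type} [Field F] [Fintype F] [CharP F 2] (hF : Fintype.card F = 4)
    (h : Cl T) (hρ : Fpf ρ) (hT : Nat.card T = 64) {a b : T}
    (ha : a * a = 1) (hb : b * b = 1) (hab : cm a b ≠ 1) :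
    ∃ S : Sylow 2 (Matrix.ProjectiveSpecialLinearGroup (Fin 3) F),
      Nonempty (T ≃* ↥(S : Subgroup (Matrix.ProjectiveSpecialLinearGroup (Fin 3) F))) := by
  have : Fact (Nat.Prime 2) := ⟨Nat.prime_two⟩
  obtain ⟨ω, hω⟩ := exists_om hF
  have hmul := phiF_mul (F := F) hω hρ h ha hb
  let Φ : ↥(U F 3) →* T := MonoidHom.mk' (phiF ρ ω a b) hmul
  have hinj : Function.Injective Φ := phiF_inj hω hρ h ha hb hab
  have hbij : Function.Bijective Φ := by
    rw [Nat.bijective_iff_injective_and_card]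
    refine ⟨hinj, ?_⟩
    rw [card_U, hT, Nat.card_eq_fintype_card, hF]
    norm_num
  let e1 : ↥(U F 3) ≃* T := MulEquiv.ofBijective Φ hbij
  let π : ↥(U F 3) →* ↥(Ubar F 3) := (proj (F := F) (n := 3)).subgroupMap (U F 3)
  have hπ : Function.Bijective π := by
    constructor
    · intro A B hAB
      have h1 : proj (A : Matrix.SpecialLinearGroup (Fin 3) F) = proj (B : Matrix.SpecialLinearGroup (Fin 3) F) :=
        congrArg Subtype.val hAB
      obtain ⟨m, hm⟩ := pow_eq_one_of_mem_U (K := F) (n := 3) 2 A.2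
      obtain ⟨m', hm'⟩ := pow_eq_one_of_mem_U (K := F) (n := 3) 2 B.2
      exact Subtype.ext (eq_of_proj_eq 2 h1 hm hm')
    · exact (proj (F := F) (n := 3)).subgroupMap_surjective (U F 3)
  let e2 : ↥(U F 3) ≃* ↥(Ubar F 3) := MulEquiv.ofBijective π hπ
  refine ⟨sylowUbar 2 (by norm_num), ⟨e1.symm.trans e2⟩⟩

end Final

end Cfsg.Agent.Lib.T64B
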