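import Mathlib
import Cfsg.Agent.Lib.T64
import Cfsg.Agent.Lib.T64B
import Cfsg.Agent.Lib.Order8

/-!
# Groups of order 64 with an `S₃`-action: the fixed points of the involution
-/

set_option autoImplicit false
set_option linter.unusedSectionVars false
set_option linter.unusedSimpArgs false

namespace Cfsg.Agent.Lib.T64C

open Cfsg.Agent.Lib.T64 Cfsg.Agent.Lib.T64B

section General

variable {G : Type*} [Group G]

theorem comm_of_sq (hsq : ∀ g : G, g * g = 1) (x y : G) : x * y = y * x := by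
  have hinv : ∀ g : G, g⁻¹ = g := fun g => inv_eq_of_mul_eq_one_left (hsq g)
  have h3 := hinv (x * y)
  rw [mul_inv_rev, hinv, hinv] at h3
  exact h3.symm

/-- A general counting lemma for `S₃`-modules on which the element of order three is fixed-point
free. -/
theorem fix_card [Finite G] (hsq : ∀ g : G, g * g = 1) (σ τ : G →* G)
    (hσ : ∀ g, σ (σ g) = g) (hτ : ∀ g, g * τ g * τ (τ g) = 1)
    (hστ : ∀ g, σ (τ g) = τ (τ (σ g))) :
    Nat.card (σ.eqLocus (MonoidHom.id G)) * Nat.card (σ.eqLocus (MonoidHom.id G)) = Nat.card G := by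
  have hinv : ∀ g : G, g⁻¹ = g := fun g => inv_eq_of_mul_eq_one_left (hsq g)
  have hcomm := comm_of_sq hsq
  let ψ : G →* G :=
    { toFun := fun g => g * σ g
      map_one' := by simp
      map_mul' := by
        intro x y
        rw [map_mul]
        calc x * y * (σ x * σ y) = x * (y * σ x) * σ y := by group
          _ = x * (σ x * y) * σ y := by rw [hcomm y]
          _ = _ := by group }
  have hker : ψ.ker = σ.eqLocus (MonoidHom.id G) := by
    ext g
    rw [MonoidHom.mem_ker]
    show g * σ g = 1 ↔ σ g = g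
    constructor
    · intro h1
      have := eq_inv_of_mul_eq_one_right h1
      rw [hinv] at this
      exact this
    · intro h1
      rw [h1, hsq]
  have hrange : ψ.range = σ.eqLocus (MonoidHom.id G) := by
    ext f
    constructor
    · rintro ⟨g, rfl⟩
      show σ (g * σ g) = g * σ g
      rw [map_mul, hσ, hcomm]
    · intro hf
      have hf' : σ f = f := hf
      refine ⟨τ f, ?_⟩
      show τ f * σ (τ f) = f
      rw [hστ, hf']
      have h1 := hτ f
      have h2 : τ f * τ (τ f) = f⁻¹ := by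
        apply eq_inv_of_mul_eq_one_right
        rw [← mul_assoc]
        exact h1
      rw [h2, hinv]
  have h1 := (ψ.ker).card_mul_index
  rw [Subgroup.index_ker, hrange, hker] at h1
  exact h1

/-- The decomposition of an element of an `S₃`-module. -/
theorem decomp (hsq : ∀ g : G, g * g = 1) (σ τ : G →* G)
    (hτ : ∀ g, g * τ g * τ (τ g) = 1)
    (hστ : ∀ g, σ (τ g) = τ (τ (σ g))) (w : G) :
    w = (w * σ w) * (τ w * σ (τ w)) * τ (w * σ w) := by
  have hcomm := comm_of_sq hsq
  have hinv : ∀ g : G, g⁻¹ = g := fun g => inv_eq_of_mul_eq_one_left (hsq g)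
  rw [hστ, map_mul]
  have h1 := hτ (σ w)
  have h2 : τ (τ (σ w)) = σ w * τ (σ w) := by
    have h3 : σ w * τ (σ w) = (τ (τ (σ w)))⁻¹ := eq_inv_of_mul_eq_one_left h1
    rw [h3, hinv]
  rw [h2]
  calc w = w * (σ w * σ w) * (τ w * τ w) * (τ (σ w) * τ (σ w)) := by simp only [hsq, mul_one]
    _ = (w * σ w) * (σ w * (τ w * τ w) * (τ (σ w) * τ (σ w))) := by group
    _ = (w * σ w) * (τ w * (σ w * τ (σ w)) * (τ w * τ (σ w))) := by
      congr 1
      calc σ w * (τ w * τ w) * (τ (σ w) * τ (σ w))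
          = (σ w * τ w) * τ w * τ (σ w) * τ (σ w) := by group
        _ = (τ w * σ w) * τ w * τ (σ w) * τ (σ w) := by rw [hcomm (σ w)]
        _ = τ w * (σ w * τ w) * τ (σ w) * τ (σ w) := by group
        _ = τ w * (τ w * σ w) * τ (σ w) * τ (σ w) := by rw [hcomm (σ w)]
        _ = τ w * (τ w * (σ w * τ (σ w))) * τ (σ w) := by group
        _ = τ w * ((σ w * τ (σ w)) * τ w) * τ (σ w) := by rw [hcomm (τ w) (σ w * τ (σ w))]
        _ = _ := by simp only [mul_assoc]
    _ = _ := by group

end General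

variable {T : Type*} [Group T] [Finite T] {ρ x : MulAut T}

local notation "Z'" => Subgroup.center T

/-- The induced map on the quotient by the centre. -/
noncomputable def qmap (f : MulAut T) : T ⧸ (Subgroup.center T) →* T ⧸ (Subgroup.center T) :=
  QuotientGroup.map _ _ f.toMonoidHom (fun _ hz => center_map f hz)

theorem qmap_mk (f : MulAut T) (t : T) :
    qmap f (t : T ⧸ (Subgroup.center T)) = ((f t : T) : T ⧸ (Subgroup.center T)) := rfl

/-- The induced map on the centre. -/
def zmap (f : MulAut T) : ↥(Subgroup.center T) →* ↥(Subgroup.center T) where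
  toFun z := ⟨f z, center_map f z.2⟩
  map_one' := by ext; simp
  map_mul' a b := by ext; simp

theorem mk_eq_iff {s t : T} :
    (s : T ⧸ (Subgroup.center T)) = (t : T ⧸ (Subgroup.center T)) ↔ s⁻¹ * t ∈ Subgroup.center T :=
  QuotientGroup.eq

structure Inv (ρ x : MulAut T) : Prop where
  x2 : ∀ t, x (x t) = t
  xr : ∀ t, x (ρ t) = ρ (ρ (x t))

variable (h : Cl T) (hρ : Fpf ρ) (hx : Inv ρ x)
include h hρ hx

theorem quot_sq (g : T ⧸ (Subgroup.center T)) : g * g = 1 := by
  induction g using QuotientGroup.induction_on with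
  | H t =>
    rw [← QuotientGroup.mk_mul, QuotientGroup.eq_one_iff]
    exact sq_mem h t

theorem qfix_card (hT : Nat.card T = 64) (hc4 : Nat.card (Subgroup.center T) = 4) :
    Nat.card ((qmap x).eqLocus (MonoidHom.id _)) = 4 := by
  have h1 := fix_card (quot_sq h hρ hx) (qmap x) (qmap ρ)
    (by
      intro g
      induction g using QuotientGroup.induction_on with
      | H t => rw [qmap_mk, qmap_mk, hx.x2])
    (by
      intro g
      induction g using QuotientGroup.induction_on with
      | H t =>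
        rw [qmap_mk, qmap_mk, ← QuotientGroup.mk_mul, ← QuotientGroup.mk_mul, norm_one hρ t]
        rfl)
    (by
      intro g
      induction g using QuotientGroup.induction_on with
      | H t => simp only [qmap_mk, hx.xr])
  have h2 : Nat.card (T ⧸ (Subgroup.center T)) = 16 := by
    have h3 := (Subgroup.center T).card_mul_index
    rw [hc4, hT] at h3
    have : (Subgroup.center T).index = 16 := by omega
    rw [← this]
    rfl
  rw [h2] at h1
  have h5 : Nat.card ((qmap x).eqLocus (MonoidHom.id _)) ≤ 16 := by nlinarith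
  interval_cases h6 : Nat.card ((qmap x).eqLocus (MonoidHom.id _)) <;> omega

theorem zfix_card (hc4 : Nat.card (Subgroup.center T) = 4) :
    Nat.card ((zmap x).eqLocus (MonoidHom.id _)) = 2 := by
  have h1 := fix_card (G := ↥(Subgroup.center T)) (fun g => Subtype.ext (h.sqz g g.2)) (zmap x) (zmap ρ)
    (by
      intro g
      exact Subtype.ext (hx.x2 g))
    (by
      intro g
      exact Subtype.ext (norm_one hρ g))
    (by
      intro g
      exact Subtype.ext (hx.xr g))
  rw [hc4] at h1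
  have h5 : Nat.card ((zmap x).eqLocus (MonoidHom.id _)) ≤ 4 := by nlinarith
  interval_cases h6 : Nat.card ((zmap x).eqLocus (MonoidHom.id _)) <;> omega

/-- Lifting fixed points. -/
theorem lift_fix (t : T) (ht : t⁻¹ * x t ∈ Subgroup.center T) :
    ∃ c : T, x c = c ∧ t⁻¹ * c ∈ Subgroup.center T := by
  set z := t⁻¹ * x t with hz
  have hxz : x z = z := by
    have h1 : x z = z⁻¹ := by
      rw [hz, map_mul, map_inv, hx.x2]
      group
    rw [h1]
    exact inv_eq_of_mul_eq_one_left (h.sqz z ht)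
  have hv : ρ z ∈ Subgroup.center T := center_map ρ ht
  have hv2 : ρ (ρ z) ∈ Subgroup.center T := center_map ρ hv
  have h1 : ρ z * ρ (ρ z) = z := by
    have h2 := norm_one hρ z
    have h3 : ρ z * ρ (ρ z) = z⁻¹ := by
      apply eq_inv_of_mul_eq_one_right
      rw [← mul_assoc]
      exact h2
    rw [h3]
    exact inv_eq_of_mul_eq_one_left (h.sqz z ht)
  refine ⟨t * ρ z, ?_, ?_⟩
  · rw [map_mul, hx.xr, hxz]
    have h4 : x t = t * z := by rw [hz]; group
    have h5 : ρ (ρ z) * ρ (ρ z) = 1 := h.sqz _ hv2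
    rw [h4]
    calc t * z * ρ (ρ z) = t * (ρ z * ρ (ρ z)) * ρ (ρ z) := by rw [h1]
      _ = t * ρ z * (ρ (ρ z) * ρ (ρ z)) := by group
      _ = t * ρ z := by rw [h5, mul_one]
  · simpa using hv

/-- Fixed points of the quotient action lift. -/
theorem lift_fix' (g : T ⧸ (Subgroup.center T)) (hg : qmap x g = g) :
    ∃ c : T, x c = c ∧ (c : T ⧸ (Subgroup.center T)) = g := by
  induction g using QuotientGroup.induction_on with
  | H t =>
    rw [qmap_mk, eq_comm, mk_eq_iff] at hg
    obtain ⟨c, hc, hc'⟩ := lift_fix h hρ hx t hg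
    exact ⟨c, hc, (mk_eq_iff.mpr hc').symm⟩

/-- The order of the fixed points. -/
theorem cfix_card (hT : Nat.card T = 64) (hc4 : Nat.card (Subgroup.center T) = 4)
    (C : Subgroup T) (hC : ∀ y : T, y ∈ C ↔ x y = y) : Nat.card C = 8 := by
  let κ : ↥C →* T ⧸ (Subgroup.center T) := (QuotientGroup.mk' _).comp C.subtype
  have hr : κ.range = (qmap x).eqLocus (MonoidHom.id _) := by
    ext g
    constructor
    · rintro ⟨c, rfl⟩
      show qmap x ((c : T) : T ⧸ (Subgroup.center T)) = ((c : T) : T ⧸ (Subgroup.center T))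
      rw [qmap_mk, (hC _).mp c.2]
    · intro hg
      obtain ⟨c, hc, rfl⟩ := lift_fix' h hρ hx g hg
      exact ⟨⟨c, (hC c).mpr hc⟩, rfl⟩
  have hk : Nat.card κ.ker = Nat.card ((zmap x).eqLocus (MonoidHom.id _)) := by
    refine Nat.card_congr ⟨fun c => ⟨⟨c.1.1, ?_⟩, ?_⟩, fun z => ⟨⟨z.1.1, ?_⟩, ?_⟩, ?_, ?_⟩
    · have := c.2
      rw [MonoidHom.mem_ker] at this
      exact (QuotientGroup.eq_one_iff _).mp this
    · exact Subtype.ext ((hC _).mp c.1.2)
    · rw [hC]
      exact congrArg Subtype.val z.2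
    · rw [MonoidHom.mem_ker]
      exact (QuotientGroup.eq_one_iff _).mpr z.1.2
    · intro c; rfl
    · intro z; rfl
  have h1 := κ.ker.card_mul_index
  rw [Subgroup.index_ker, hr, hk, zfix_card h hρ hx hc4, qfix_card h hρ hx hT hc4] at h1
  omega

/-- The fixed points do not commute. -/
theorem cfix_noncomm (hna : ¬ IsMulCommutative T)
    (C : Subgroup T) (hC : ∀ y : T, y ∈ C ↔ x y = y) : ¬ ∀ a b : C, a * b = b * a := by
  intro hcomm
  apply hna
  have hcm : ∀ c ∈ C, ∀ d ∈ C, cm c d = (1 : T) := by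
    intro c hc d hd
    have h1 := hcomm ⟨c, hc⟩ ⟨d, hd⟩
    have h2 : c * d = d * c := congrArg Subtype.val h1
    simp only [cm]
    rw [h2]
    group
  have hdec : ∀ t : T, ∃ c₁ ∈ C, ∃ c₂ ∈ C, ∃ z ∈ Subgroup.center T, t = c₁ * (c₂ * (ρ c₁ * z)) := by
    intro t
    have hτ : ∀ g, g * qmap ρ g * qmap ρ (qmap ρ g) = 1 := by
      intro g
      induction g using QuotientGroup.induction_on with
      | H t =>
        rw [qmap_mk, qmap_mk, ← QuotientGroup.mk_mul, ← QuotientGroup.mk_mul, norm_one hρ t]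
        rfl
    have hστ : ∀ g, qmap x (qmap ρ g) = qmap ρ (qmap ρ (qmap x g)) := by
      intro g
      induction g using QuotientGroup.induction_on with
      | H t => simp only [qmap_mk, hx.xr]
    have hd := decomp (quot_sq h hρ hx) (qmap x) (qmap ρ) hτ hστ (t : T ⧸ (Subgroup.center T))
    have hfix : ∀ g, qmap x (g * qmap x g) = g * qmap x g := by
      intro g
      rw [map_mul]
      have h2 : qmap x (qmap x g) = g := by
        induction g using QuotientGroup.induction_on with
        | H t => rw [qmap_mk, qmap_mk, hx.x2]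
      rw [h2]
      exact comm_of_sq (quot_sq h hρ hx) _ _
    obtain ⟨c₁, hc₁, hc₁'⟩ := lift_fix' h hρ hx _ (hfix (t : T ⧸ (Subgroup.center T)))
    obtain ⟨c₂, hc₂, hc₂'⟩ := lift_fix' h hρ hx _ (hfix (qmap ρ (t : T ⧸ (Subgroup.center T))))
    rw [← hc₁', ← hc₂', qmap_mk, ← QuotientGroup.mk_mul, ← QuotientGroup.mk_mul, eq_comm, mk_eq_iff] at hd
    refine ⟨c₁, (hC _).mpr hc₁, c₂, (hC _).mpr hc₂, _, hd, ?_⟩
    group
  have hcm' : ∀ c ∈ C, ∀ d ∈ C, cm c (ρ d) = (1 : T) := by
    intro c hc d hd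
    rw [cm_rho_right h hρ, hcm c hc d hd, map_one, map_one]
  have hcm'' : ∀ c ∈ C, ∀ d ∈ C, cm (ρ c) (ρ d) = (1 : T) := by
    intro c hc d hd
    rw [← cm_map ρ, hcm c hc d hd, map_one]
  have hcz : ∀ (t : T), ∀ z ∈ Subgroup.center T, cm t z = (1 : T) := by
    intro t z hz
    simp only [cm]
    rw [central hz t]
    group
  have hcz' : ∀ (t : T), ∀ z ∈ Subgroup.center T, cm z t = (1 : T) := by
    intro t z hz
    rw [cm_symm h, hcz t z hz]
  have hP : ∀ t : T, ∀ c ∈ C, cm t c = (1 : T) ∧ cm t (ρ c) = (1 : T) := by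
    intro t c hc
    obtain ⟨c₁, hc₁, c₂, hc₂, z, hz, rfl⟩ := hdec t
    constructor
    · simp only [cm_mul_left h, hcz' _ z hz, hcm _ hc₁ _ hc, hcm _ hc₂ _ hc, mul_one,
        cm_symm h c (ρ c₁), hcm' _ hc _ hc₁]
    · simp only [cm_mul_left h, hcz' _ z hz, hcm' _ hc₁ _ hc, hcm' _ hc₂ _ hc, mul_one,
        hcm'' _ hc₁ _ hc]
  refine ⟨⟨fun t s => ?_⟩⟩
  have h3 : cm s t = (1 : T) := by
    obtain ⟨c₁, hc₁, c₂, hc₂, z, hz, rfl⟩ := hdec t
    simp only [cm_mul_right h, hcz _ z hz, (hP s _ hc₁).1, (hP s _ hc₁).2, (hP s _ hc₂).1, mul_one]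
  simp only [cm] at h3
  have h4 : s * t * (t * s)⁻¹ = 1 := by
    rw [← h3]
    group
  exact (mul_inv_eq_one.mp h4).symm

/-- The conclusion on fixed points. -/
theorem cfix_iso (hT : Nat.card T = 64) (hc4 : Nat.card (Subgroup.center T) = 4)
    (hna : ¬ IsMulCommutative T)
    (C : Subgroup T) (hC : ∀ y : T, y ∈ C ↔ x y = y) :
    Nonempty (↥C ≃* DihedralGroup 4) ∨ Nonempty (↥C ≃* QuaternionGroup 2) :=
  Cfsg.Agent.Lib.Order8.d8_or_q8 (cfix_card h hρ hx hT hc4 C hC) (cfix_noncomm h hρ hx hna C hC)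

end Cfsg.Agent.Lib.T64C
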