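import Mathlib
import Cfsg.Agent.Lib.T64
import Cfsg.Agent.Lib.SU3Heis
import Cfsg.Agent.S1141
import Cfsg.Agent.S3315

/-!
# Anisotropic groups of order 64 and the Sylow 2-subgroup of `SU₃(4)`
-/

set_option autoImplicit false
set_option linter.unusedSectionVars false
set_option linter.unusedSimpArgs false

namespace Cfsg.Agent.Lib.T64U

open Cfsg.Agent.Lib.T64

section Graph

variable {T M A : Type*} [Group T] [Group M] [Group A] [Finite T] [Finite M]

/-- Two central extensions with the same squaring map are isomorphic. -/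
theorem iso_of_quad (D : T →* A) (D' : M →* A) (Z : Subgroup T) (Z' : Subgroup M)
    (hZ : Z ≤ Subgroup.center T) (hZ' : Z' ≤ Subgroup.center M) (hD : ∀ t, D t = 1 ↔ t ∈ Z)
    (hD' : ∀ m, D' m = 1 ↔ m ∈ Z') (hs : Function.Surjective D) (hs' : Function.Surjective D')
    (g : Z ≃* Z') (hsq : ∀ (t : T) (m : M), D t = D' m → ∃ (h1 : t ^ 2 ∈ Z) (h2 : m ^ 2 ∈ Z'),
      g ⟨t ^ 2, h1⟩ = ⟨m ^ 2, h2⟩) : Nonempty (T ≃* M) := by
  classical
  -- the fibre product
  let S : Subgroup (T × M) := (D.comp (MonoidHom.fst T M)).eqLocus (D'.comp (MonoidHom.snd T M))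
  have hS : ∀ p : T × M, p ∈ S ↔ D p.1 = D' p.2 := fun p => Iff.rfl
  let C : Subgroup (T × M) := Z.prod Z'
  have hC : ∀ p : T × M, p ∈ C ↔ p.1 ∈ Z ∧ p.2 ∈ Z' := fun p => Subgroup.mem_prod
  -- the graph of `g`
  let ι : Z →* T × M :=
    { toFun := fun z => ((z : T), ((g z : Z') : M))
      map_one' := by simp
      map_mul' := by intro a b; simp }
  let N : Subgroup (T × M) := ι.range
  have hN : ∀ z : Z, ((z : T), ((g z : Z') : M)) ∈ N := fun z => ⟨z, rfl⟩
  have hNC : N ≤ C := by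
    rintro _ ⟨z, rfl⟩
    exact (hC _).mpr ⟨z.2, (g z).2⟩
  have hCS : C ≤ S := by
    intro p hp
    rw [hC] at hp
    rw [hS, (hD _).mpr hp.1, (hD' _).mpr hp.2]
  have hNcen : ∀ n ∈ N, ∀ s : T × M, n * s = s * n := by
    rintro _ ⟨z, rfl⟩ ⟨t, m⟩
    apply Prod.ext
    · exact (Subgroup.mem_center_iff.mp (hZ z.2) t).symm
    · exact (Subgroup.mem_center_iff.mp (hZ' (g z).2) m).symm
  -- squares and commutators
  have hsqN : ∀ s ∈ S, s ^ 2 ∈ N := by
    rintro ⟨t, m⟩ hs0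
    obtain ⟨h1, h2, h3⟩ := hsq t m hs0
    refine ⟨⟨t ^ 2, h1⟩, ?_⟩
    apply Prod.ext
    · rfl
    · show ((g ⟨t ^ 2, h1⟩ : Z') : M) = m ^ 2
      rw [h3]
  have hcomN : ∀ s ∈ S, ∀ k ∈ S, s * k * s⁻¹ * k⁻¹ ∈ N := by
    intro s hs0 k hk
    have h1 := hsqN _ (S.mul_mem hs0 hk)
    have h2 := hsqN _ hs0
    have h3 := hsqN _ hk
    have h4 : s * k * s⁻¹ * k⁻¹ = (s * k) ^ 2 * (k⁻¹ * ((s ^ 2)⁻¹ * k⁻¹)) := by
      simp only [pow_two]; group
    have h5 : k⁻¹ * ((s ^ 2)⁻¹ * k⁻¹) = (s ^ 2)⁻¹ * (k ^ 2)⁻¹ := by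
      rw [← mul_assoc, ← hNcen _ (N.inv_mem h2) k⁻¹]
      simp only [pow_two]; group
    rw [h4, h5]
    exact N.mul_mem h1 (N.mul_mem (N.inv_mem h2) (N.inv_mem h3))
  -- a maximal subgroup meeting `C` in `N`
  let P : Set (Subgroup (T × M)) := {K | K ≤ S ∧ N ≤ K ∧ K ⊓ C ≤ N}
  have hP : P.Nonempty := ⟨N, hNC.trans hCS, le_refl _, inf_le_left⟩
  obtain ⟨K, hK⟩ := (Set.toFinite P).exists_maximal hP
  obtain ⟨hKS, hNK, hKC⟩ := hK.prop
  have hcover : ∀ s ∈ S, ∃ c ∈ C, s * c⁻¹ ∈ K := by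
    intro s hs0
    by_contra hcon
    push Not at hcon
    have hsK : s ∉ K := by
      have := hcon 1 C.one_mem
      simpa using this
    have hconj : ∀ k ∈ K, s * k * s⁻¹ ∈ K := by
      intro k hk
      have h1 := hcomN s hs0 k (hKS hk)
      have h2 : s * k * s⁻¹ = (s * k * s⁻¹ * k⁻¹) * k := by group
      rw [h2]
      exact K.mul_mem (hNK h1) hk
    have hs2 : s ^ 2 ∈ K := hNK (hsqN s hs0)
    let K' : Subgroup (T × M) :=
      { carrier := {g | g ∈ K ∨ g * s⁻¹ ∈ K}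
        one_mem' := Or.inl K.one_mem
        mul_mem' := by
          rintro a b (ha | ha) (hb | hb)
          · exact Or.inl (K.mul_mem ha hb)
          · right
            rw [mul_assoc]
            exact K.mul_mem ha hb
          · right
            have h1 : a * b * s⁻¹ = (a * s⁻¹) * (s * b * s⁻¹) := by group
            rw [h1]
            exact K.mul_mem ha (hconj b hb)
          · left
            have h1 : a * b = (a * s⁻¹) * (s * (b * s⁻¹) * s⁻¹) * s ^ 2 := by
              simp only [pow_two]; group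
            rw [h1]
            exact K.mul_mem (K.mul_mem ha (hconj _ hb)) hs2
        inv_mem' := by
          rintro a (ha | ha)
          · exact Or.inl (K.inv_mem ha)
          · right
            have h1 : a⁻¹ * s⁻¹ = (s * (a * s⁻¹) * s⁻¹ * s ^ 2)⁻¹ := by
              simp only [pow_two]; group
            rw [h1]
            exact K.inv_mem (K.mul_mem (hconj _ ha) hs2) }
    have hK'1 : K ≤ K' := fun k hk => Or.inl hk
    have hK'2 : K' ∈ P := by
      refine ⟨?_, hNK.trans hK'1, ?_⟩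
      · rintro a (ha | ha)
        · exact hKS ha
        · have h1 := S.mul_mem (hKS ha) hs0
          simpa using h1
      · rintro a ⟨ha | ha, ha2⟩
        · exact hKC ⟨ha, ha2⟩
        · exfalso
          have h1 := K.inv_mem ha
          have h2 : (a * s⁻¹)⁻¹ = s * a⁻¹ := by group
          rw [h2] at h1
          exact hcon a ha2 h1
    have hsK' : s ∈ K' := Or.inr (by simpa using K.one_mem)
    exact hsK (hK.le_of_ge hK'2 hK'1 hsK')
  -- bijections
  have hfst : Function.Bijective ((MonoidHom.fst T M).comp K.subtype) := by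
    constructor
    · rw [injective_iff_map_eq_one]
      rintro ⟨⟨t, m⟩, hk⟩ hk1
      have ht : t = 1 := hk1
      subst ht
      have h1 : D' m = 1 := by
        have := hKS hk
        rw [hS] at this
        simpa using this.symm
      have h2 : ((1 : T), m) ∈ C := (hC _).mpr ⟨Z.one_mem, (hD' m).mp h1⟩
      obtain ⟨z, hz⟩ := hKC ⟨hk, h2⟩
      have h3 : (z : T) = 1 := congrArg Prod.fst hz
      have h4 : ((g z : Z') : M) = m := congrArg Prod.snd hz
      have h5 : z = 1 := Subtype.ext h3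
      rw [h5, map_one] at h4
      apply Subtype.ext
      apply Prod.ext
      · rfl
      · exact h4.symm
    · intro t
      obtain ⟨m, hm⟩ := hs' (D t)
      obtain ⟨c, hc, hcK⟩ := hcover (t, m) hm.symm
      have hc1 := ((hC _).mp hc).1
      have h1 := K.mul_mem hcK (hNK (hN ⟨c.1, hc1⟩))
      refine ⟨⟨_, h1⟩, ?_⟩
      show t * (c.1)⁻¹ * c.1 = t
      group
  have hsnd : Function.Bijective ((MonoidHom.snd T M).comp K.subtype) := by
    constructor
    · rw [injective_iff_map_eq_one]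
      rintro ⟨⟨t, m⟩, hk⟩ hk1
      have hm : m = 1 := hk1
      subst hm
      have h1 : D t = 1 := by
        have := hKS hk
        rw [hS] at this
        simpa using this
      have h2 : (t, (1 : M)) ∈ C := (hC _).mpr ⟨(hD t).mp h1, Z'.one_mem⟩
      obtain ⟨z, hz⟩ := hKC ⟨hk, h2⟩
      have h3 : (z : T) = t := congrArg Prod.fst hz
      have h4 : ((g z : Z') : M) = 1 := congrArg Prod.snd hz
      have h5 : g z = 1 := Subtype.ext h4
      have h6 : z = 1 := by simpa using h5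
      rw [h6] at h3
      apply Subtype.ext
      apply Prod.ext
      · exact h3.symm
      · rfl
    · intro m
      obtain ⟨t, ht⟩ := hs (D' m)
      obtain ⟨c, hc, hcK⟩ := hcover (t, m) ht
      have hc2 := ((hC _).mp hc).2
      have h1 := K.mul_mem hcK (hNK (hN (g.symm ⟨c.2, hc2⟩)))
      refine ⟨⟨_, h1⟩, ?_⟩
      show m * (c.2)⁻¹ * ((g (g.symm ⟨c.2, hc2⟩) : Z') : M) = m
      rw [MulEquiv.apply_symm_apply]
      group
  exact ⟨(MulEquiv.ofBijective _ hfst).symm.trans (MulEquiv.ofBijective _ hsnd)⟩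

end Graph

section Fld

variable {F : Type*} [Field F] [Fintype F]

omit [Fintype F] in
theorem add_pow4 (h2 : (2 : F) = 0) (a b : F) : (a + b) ^ 4 = a ^ 4 + b ^ 4 := by
  linear_combination (2 * a ^ 3 * b + 3 * a ^ 2 * b ^ 2 + 2 * a * b ^ 3) * h2

theorem pow16 (hF : Fintype.card F = 4 ^ 2) (a : F) : a ^ 16 = a := by
  have := FiniteField.pow_card a
  rw [hF] at this
  exact this

theorem solve_as (hF : Fintype.card F = 4 ^ 2) (h2 : (2 : F) = 0) {e : F} (he : e ^ 4 = e) :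
    ∃ z : F, z ^ 2 + z = e := by
  obtain ⟨w, hw⟩ := Cfsg.Agent.Lib.UnitaryE.exists_trace_eq hF he
  exact ⟨w + w ^ 2, by linear_combination hw + (w ^ 2 + w ^ 3) * h2⟩

omit [Fintype F] in
theorem four_cases (h2 : (2 : F) = 0) {ω : F} (hω : ω ^ 2 + ω = 1) {b : F} (hb : b ^ 4 = b) :
    b = 0 ∨ b = 1 ∨ b = ω ∨ b = ω + 1 := by
  have h1 : b * (b + 1) * (b + ω) * (b + (ω + 1)) = 0 := by
    linear_combination hb + (b ^ 3 + b ^ 2 + b * ω + b ^ 2 * ω + b + b * ω + b ^ 2 * ω
      + (-2 * b * ω - b ^ 2 * ω + b ^ 3 * ω)) * h2 + (b ^ 2 + b) * hω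
  rcases mul_eq_zero.mp h1 with h3 | h3
  · rcases mul_eq_zero.mp h3 with h4 | h4
    · rcases mul_eq_zero.mp h4 with h5 | h5
      · exact Or.inl h5
      · exact Or.inr (Or.inl (by linear_combination h5 - h2))
    · exact Or.inr (Or.inr (Or.inl (by linear_combination h4 - ω * h2)))
  · exact Or.inr (Or.inr (Or.inr (by linear_combination h3 - (ω + 1) * h2)))

end Fld

section G

variable {T : Type*} [Group T] [Finite T] {ρ : MulAut T} {F : Type*} [Field F]

open Classical in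
/-- The coordinate on the centre. -/
noncomputable def Gf (ρ : MulAut T) (ω : F) (c z : T) : F :=
  if z = 1 then 0 else if z = c then 1 else if z = ρ c then ω + 1 else ω

/-- Data for the coordinate. -/
structure GH (ρ : MulAut T) (ω : F) (c : T) : Prop where
  cl : Cl T
  fpf : Fpf ρ
  c4 : Nat.card (Subgroup.center T) = 4
  cZ : c ∈ Subgroup.center T
  c1 : c ≠ 1
  h2 : (2 : F) = 0
  hω : ω ^ 2 + ω = 1

variable {ω : F} {c : T} (H : GH ρ ω c)
include H

theorem om_ne_zero : ω ≠ 0 := by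
  intro h0
  have h1 := H.hω
  rw [h0] at h1
  simp at h1

theorem om1_ne_zero : ω + 1 ≠ 0 := by
  intro h0
  have h1 : ω = 1 := by linear_combination h0 - H.h2
  have h3 := H.hω
  rw [h1] at h3
  apply one_ne_zero (α := F)
  linear_combination h3

theorem Gf_one : Gf ρ ω c 1 = 0 := by simp [Gf]

theorem Gf_c : Gf ρ ω c c = 1 := by simp [Gf, H.c1]

theorem Gf_rc : Gf ρ ω c (ρ c) = ω + 1 := by
  have h1 : ρ c ≠ 1 := fun h1 => H.c1 (by simpa using h1)
  have h12 : ρ c ≠ c := fun h1 => H.c1 (H.fpf.fp _ h1)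
  simp [Gf, h1, h12]

theorem Gf_rrc : Gf ρ ω c (ρ (ρ c)) = ω := by
  have h1 : ρ (ρ c) ≠ 1 := fun h1 => H.c1 (by simpa using h1)
  have h12 : ρ c ≠ c := fun h1 => H.c1 (H.fpf.fp _ h1)
  have h13 : ρ (ρ c) ≠ c := fun h3 => H.c1 (by
    apply H.fpf.fp
    have h2 := congrArg ρ h3
    rw [H.fpf.r3] at h2
    exact h2.symm)
  have h23 : ρ (ρ c) ≠ ρ c := fun h1 => h12 (ρ.injective h1)
  simp [Gf, h1, h13, h23]

theorem Gf_mul {z z' : T} (hz : z ∈ Subgroup.center T) (hz' : z' ∈ Subgroup.center T) :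
    Gf ρ ω c (z * z') = Gf ρ ω c z + Gf ρ ω c z' := by
  have hρ := H.fpf
  have h2 := H.h2
  have hω := H.hω
  have s1 : c * c = 1 := H.cl.sqz c H.cZ
  have s2 : ρ c * ρ c = 1 := by rw [← map_mul, s1, map_one]
  have s3 : ρ (ρ c) * ρ (ρ c) = 1 := by rw [← map_mul, s2, map_one]
  have hn := norm_one hρ c
  have h12 : c * ρ c = ρ (ρ c) := by
    rw [← inv_eq_of_mul_eq_one_left s3]
    exact eq_inv_of_mul_eq_one_left hn
  have h21 : ρ c * c = ρ (ρ c) := by rw [← comm_self hρ c, h12]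
  have h23 : ρ c * ρ (ρ c) = c := by
    have := congrArg ρ h12
    rwa [map_mul, hρ.r3] at this
  have h32 : ρ (ρ c) * ρ c = c := by
    rw [← comm_self hρ (ρ c), h23]
  have h31 : ρ (ρ c) * c = ρ c := by
    have := congrArg ρ h23
    rwa [map_mul, hρ.r3] at this
  have h13 : c * ρ (ρ c) = ρ c := by
    have := comm_self hρ (ρ (ρ c))
    rw [hρ.r3] at this
    rw [← this, h31]
  have g0 := Gf_one (ρ := ρ) (ω := ω) (c := c) H
  have g1 := Gf_c H
  have g2 := Gf_rc H
  have g3 := Gf_rrc H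
  have e1 : (1 : F) + 1 = 0 := by linear_combination h2
  have e2 : ω + ω = 0 := by linear_combination ω * h2
  have e3 : (ω + 1) + (ω + 1) = 0 := by linear_combination (ω + 1) * h2
  have e4 : (1 : F) + ω = ω + 1 := add_comm _ _
  have e5 : (1 : F) + (ω + 1) = ω := by linear_combination h2
  have e6 : ω + (ω + 1) = 1 := by linear_combination ω * h2
  have e7 : (ω + 1) + 1 = ω := by linear_combination h2
  have e8 : (ω + 1) + ω = 1 := by linear_combination ω * h2
  rcases enum_center hρ H.c4 H.cZ H.c1 hz with rfl | rfl | rfl | rfl <;>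
    rcases enum_center hρ H.c4 H.cZ H.c1 hz' with rfl | rfl | rfl | rfl <;>
    simp only [one_mul, mul_one, s1, s2, s3, h12, h21, h23, h32, h31, h13, g0, g1, g2, g3, add_zero,
      zero_add, e1, e2, e3, e4, e5, e6, e7, e8]

theorem Gf_rho {z : T} (hz : z ∈ Subgroup.center T) :
    Gf ρ ω c (ρ z) = (ω + 1) * Gf ρ ω c z := by
  have hρ := H.fpf
  have h2 := H.h2
  have hω := H.hω
  have g0 := Gf_one (ρ := ρ) (ω := ω) (c := c) H
  have g1 := Gf_c H
  have g2 := Gf_rc H
  have g3 := Gf_rrc H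
  rcases enum_center hρ H.c4 H.cZ H.c1 hz with rfl | rfl | rfl | rfl
  · rw [map_one, g0, mul_zero]
  · rw [g2, g1, mul_one]
  · rw [g3, g2]
    linear_combination (-1 : F) * hω - h2
  · rw [hρ.r3, g1, g3]
    linear_combination (-1 : F) * hω

theorem Gf_pow4 {z : T} (hz : z ∈ Subgroup.center T) : (Gf ρ ω c z) ^ 4 = Gf ρ ω c z := by
  have hρ := H.fpf
  have h2 := H.h2
  have hω := H.hω
  have g0 := Gf_one (ρ := ρ) (ω := ω) (c := c) H
  have g1 := Gf_c H
  have g2 := Gf_rc H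
  have g3 := Gf_rrc H
  have h3 : ω ^ 4 = ω := by
    linear_combination ω * (ω - 1) * hω + ω * (ω - 1) * h2
  rcases enum_center hρ H.c4 H.cZ H.c1 hz with rfl | rfl | rfl | rfl
  · rw [g0]; ring
  · rw [g1]; ring
  · rw [g2, add_pow4 h2, h3]; ring
  · rw [g3, h3]

theorem Gf_eq_zero {z : T} (hz : z ∈ Subgroup.center T) (h0 : Gf ρ ω c z = 0) : z = 1 := by
  have hρ := H.fpf
  have g1 := Gf_c H
  have g2 := Gf_rc H
  have g3 := Gf_rrc H
  rcases enum_center hρ H.c4 H.cZ H.c1 hz with rfl | rfl | rfl | rfl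
  · rfl
  · rw [g1] at h0; exact absurd h0 one_ne_zero
  · rw [g2] at h0; exact absurd h0 (om1_ne_zero H)
  · rw [g3] at h0; exact absurd h0 (om_ne_zero H)

/-- The effect of `ρ` on the left slot of the commutator. -/
theorem Gf_cm_rho (a b : T) : Gf ρ ω c (cm (ρ a) b) = ω * Gf ρ ω c (cm a b) := by
  have hρ := H.fpf
  have h := H.cl
  have h2 := H.h2
  have hω := H.hω
  rw [cm_rho_left h hρ, cm_rho_right h hρ, Gf_rho H (center_map ρ (cm_mem h a b)),
    Gf_rho H (cm_mem h a b)]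
  linear_combination (Gf ρ ω c (cm a b)) * hω + (Gf ρ ω c (cm a b)) * h2

end G

section Model

variable {T : Type*} [Group T] [Finite T] {ρ : MulAut T} {F : Type*} [Field F] [Fintype F]

/-- A group of order 64 with a fixed-point-free automorphism of order three, whose involutions are
central, is a Sylow 2-subgroup of `SU₃(4)`. -/
theorem iso_model (h : Cl T) (hρ : Fpf ρ) (hT : Nat.card T = 64)
    (hc4 : Nat.card (Subgroup.center T) = 4) (hroot : ∀ t : T, t ^ 2 = 1 → t ∈ Subgroup.center T)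
    (hF : Fintype.card F = 4 ^ 2) (h2 : (2 : F) = 0) :
    Nonempty (T ≃* Cfsg.Agent.Lib.SU3Heis.T hF h2) := by
  classical
  obtain ⟨x, hx⟩ : ∃ x : T, x ∉ Subgroup.center T := by
    by_contra hcon
    push Not at hcon
    have h1 : Subgroup.center T = ⊤ := (Subgroup.eq_top_iff' _).mpr hcon
    rw [h1, Subgroup.card_top, hT] at hc4
    norm_num at hc4
  have hroot' : ∀ t : T, t * t = 1 → t ∈ Subgroup.center T :=
    fun t ht => hroot t (by rwa [pow_two])
  have hxx : x * x ≠ 1 := fun h1 => hx (hroot' x h1)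
  have hcZ := sq_mem h x
  obtain ⟨ω, hω⟩ := solve_as hF h2 (e := 1) (by simp)
  have H : GH ρ ω (x * x) := ⟨h, hρ, hc4, hcZ, hxx, h2, hω⟩
  have hω2 : ω ^ 2 = ω + 1 := by linear_combination hω - ω * h2
  have hω3 : ω * ω = ω + 1 := by rw [← hω2]; ring
  have hω4 : ω ^ 4 = ω := by linear_combination ω * (ω - 1) * hω + ω * (ω - 1) * h2
  set G : T → F := Gf ρ ω (x * x) with hG
  have hGone : G 1 = 0 := Gf_one H
  have hGc : G (x * x) = 1 := Gf_c H
  have hGmul : ∀ {z z' : T}, z ∈ Subgroup.center T → z' ∈ Subgroup.center T →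
      G (z * z') = G z + G z' := fun hz hz' => Gf_mul H hz hz'
  have hGm : ∀ a b d : T, G (cm (a * b) d) = G (cm a d) + G (cm b d) := by
    intro a b d
    rw [cm_mul_left h]
    exact hGmul (cm_mem h _ _) (cm_mem h _ _)
  have hG4 : ∀ a b : T, (G (cm a b)) ^ 4 = G (cm a b) := fun a b => Gf_pow4 H (cm_mem h a b)
  have hGr : ∀ a b : T, G (cm (ρ a) b) = ω * G (cm a b) := fun a b => Gf_cm_rho H a b
  have hGs : ∀ a b : T, G (cm a b) = G (cm b a) := fun a b => by rw [cm_symm h]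
  have hcself : ∀ a : T, G (cm a a) = 0 := fun a => by rw [cm_self, hGone]
  have hcρ : ∀ a : T, cm (ρ a) a = 1 := by
    intro a
    simp only [cm]
    rw [← comm_self hρ a]
    group
  have hGρa : ∀ a : T, G (cm (ρ a) a) = 0 := fun a => by rw [hcρ, hGone]
  have hGz : ∀ z ∈ Subgroup.center T, ∀ b : T, G (cm z b) = 0 := by
    intro z hz b
    have h1 : cm z b = 1 := by
      simp only [cm]
      rw [← central hz b]
      group
    rw [h1, hGone]
  obtain ⟨y, hy⟩ : ∃ y, cm x y ≠ 1 := by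
    by_contra hcon
    push Not at hcon
    apply hx
    rw [Subgroup.mem_center_iff]
    intro g
    have h1 := hcon g
    simp only [cm] at h1
    rw [mul_inv_eq_one, mul_inv_eq_iff_eq_mul] at h1
    exact h1.symm
  obtain ⟨τ, hτdef⟩ : ∃ τ, τ = G (cm x y) := ⟨_, rfl⟩
  obtain ⟨ν, hνdef⟩ : ∃ ν, ν = G (y * y) := ⟨_, rfl⟩
  have hGzero : ∀ {z : T}, z ∈ Subgroup.center T → G z = 0 → z = 1 :=
    fun hz h0 => Gf_eq_zero H hz h0
  have hGrc : G (ρ (x * x)) = ω + 1 := Gf_rc H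
  have hGrrc : G (ρ (ρ (x * x))) = ω := Gf_rrc H
  have hτ0 : τ ≠ 0 := fun h0 => hy (hGzero (cm_mem h x y) (by rw [← hτdef, h0]))
  have hτ4 : τ ^ 4 = τ := by rw [hτdef]; exact hG4 _ _
  have hν4 : ν ^ 4 = ν := by rw [hνdef]; exact Gf_pow4 H (sq_mem h y)
  -- no root of the quadratic polynomial in the field with four elements
  have hnr : ∀ r : T, cm x r = 1 → G (r * r) + ν + G (cm r y) ≠ 0 := by
    intro r hr h0
    have h1 : (r * y) * (r * y) = r * r * (y * y) * cm r y := sq_mul h r y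
    have h3 : G ((r * y) * (r * y)) = G (r * r) + ν + G (cm r y) := by
      rw [h1, hGmul (Subgroup.mul_mem _ (sq_mem h r) (sq_mem h y)) (cm_mem h _ _),
        hGmul (sq_mem h r) (sq_mem h y), hνdef]
    have h4 : (r * y) * (r * y) = 1 := by
      apply hGzero (sq_mem h _)
      rw [h3, h0]
    have h5 := hroot' _ h4
    have h6 : cm x (r * y) = 1 := by
      simp only [cm]
      rw [central h5 x]
      group
    rw [cm_mul_right h, hr, one_mul] at h6
    exact hy h6
  have hxρ : cm x (ρ x) = 1 := by rw [cm_symm h, hcρ]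
  have hxρρ : cm x (ρ (ρ x)) = 1 := by
    have h1 : ρ (ρ x) = (x * ρ x)⁻¹ := eq_inv_of_mul_eq_one_right (norm_one hρ x)
    rw [h1, cm_inv_right h, cm_mul_right h, cm_self, hxρ, one_mul]
  have hpoly : ∀ l : F, l ^ 4 = l → l ^ 2 + l * τ + ν ≠ 0 := by
    intro l hl
    rcases four_cases h2 hω hl with hl0 | hl0 | hl0 | hl0 <;> rw [hl0]
    · have h1 := hnr 1 (cm_one_right x)
      rw [mul_one, hGone, cm_one_left, hGone] at h1
      intro h3
      apply h1
      linear_combination h3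
    · have h1 := hnr x (cm_self x)
      rw [hGc, ← hτdef] at h1
      intro h3
      apply h1
      linear_combination h3
    · have h1 := hnr (ρ x) hxρ
      rw [← map_mul, hGrc, hGr, ← hτdef] at h1
      intro h3
      apply h1
      linear_combination h3 - hω2
    · have h1 := hnr (ρ (ρ x)) hxρρ
      rw [← map_mul, ← map_mul, hGrrc, hGr, hGr, ← hτdef] at h1
      intro h3
      apply h1
      linear_combination h3 - (τ + 1) * hω2 - (ω + 1) * h2 + (-ω * τ + ω ^ 2 * τ - τ) * h2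
  -- the element `θ`
  obtain ⟨z, hz⟩ := solve_as hF h2 (e := ν * (τ ^ 2)⁻¹) (by
    have h1 : (τ ^ 2) ^ 4 = τ ^ 2 := by
      calc (τ ^ 2) ^ 4 = (τ ^ 4) ^ 2 := by ring
        _ = τ ^ 2 := by rw [hτ4]
    rw [mul_pow, hν4, inv_pow, h1])
  obtain ⟨θ, hθdef⟩ : ∃ θ, θ = τ * z := ⟨_, rfl⟩
  have hτ2 : τ ^ 2 ≠ 0 := pow_ne_zero 2 hτ0
  have hθ : θ ^ 2 + τ * θ + ν = 0 := by
    have h1 : τ ^ 2 * (z ^ 2 + z) = ν := by
      rw [hz]
      field_simp
    rw [hθdef]
    linear_combination h1 + ν * h2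
  have hθ4 : θ ^ 4 ≠ θ := by
    intro h1
    apply hpoly θ h1
    rw [← hθ]
    ring
  have hθθ : θ ^ 8 + τ * θ ^ 4 + ν = 0 := by
    have h1 : (θ ^ 2 + τ * θ + ν) ^ 4 = 0 := by rw [hθ]; ring
    rw [add_pow4 h2, add_pow4 h2, mul_pow, hτ4, hν4] at h1
    rw [← h1]
    ring
  have hθτ : θ + θ ^ 4 = τ := by
    have h1 : (θ ^ 4 + θ) * (θ ^ 4 + θ + τ) = 0 := by
      linear_combination hθθ + hθ - ν * h2 + θ ^ 5 * h2
    rcases mul_eq_zero.mp h1 with h3 | h3
    · exfalso
      apply hθ4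
      linear_combination h3 - θ * h2
    · linear_combination h3 - τ * h2
  have hθ5 : θ ^ 5 = ν := by
    linear_combination θ * hθτ - hθ + τ * θ * h2
  -- the coordinate map
  obtain ⟨i, hidef⟩ : ∃ i, i = τ⁻¹ := ⟨_, rfl⟩
  have hi : i * τ = 1 := by rw [hidef]; exact inv_mul_cancel₀ hτ0
  have hi0 : i ≠ 0 := fun h0 => by
    rw [h0, zero_mul] at hi
    exact zero_ne_one hi
  have hi4 : i ^ 4 = i := by rw [hidef, inv_pow, hτ4]
  let Dg : T → F := fun t => i * (G (cm t y) + θ * G (cm t x))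
  have hDg : ∀ t, Dg t = i * (G (cm t y) + θ * G (cm t x)) := fun t => rfl
  have hDadd : ∀ a b, Dg (a * b) = Dg a + Dg b := by
    intro a b
    rw [hDg, hDg, hDg, hGm, hGm]
    ring
  have hDρ : ∀ t, Dg (ρ t) = ω * Dg t := by
    intro t
    rw [hDg, hDg, hGr, hGr]
    ring
  have hDx : Dg x = 1 := by
    rw [hDg, ← hτdef, hcself, mul_zero, add_zero]
    exact hi
  have hDy : Dg y = θ := by
    rw [hDg, hcself, hGs y x, ← hτdef]
    linear_combination θ * hi
  have hDZ : ∀ z ∈ Subgroup.center T, Dg z = 0 := by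
    intro z hz
    rw [hDg, hGz z hz, hGz z hz]
    ring
  have hρcm : ∀ s a : T, cm s a = 1 → cm (ρ s) a = 1 := by
    intro s a hsa
    rw [cm_rho_left h hρ, cm_rho_right h hρ, hsa, map_one, map_one]
  have hDker : ∀ t, Dg t = 0 → t ∈ Subgroup.center T := by
    intro t ht
    have h1 : G (cm t y) + θ * G (cm t x) = 0 := (mul_eq_zero.mp ht).resolve_left hi0
    have hv : G (cm t x) = 0 := by
      by_contra hv
      apply hθ4
      have h3 : θ * G (cm t x) = G (cm t y) := by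
        linear_combination h1 - G (cm t y) * h2
      have h4 : θ ^ 4 * (G (cm t x)) ^ 4 = (G (cm t y)) ^ 4 := by rw [← mul_pow, h3]
      rw [hG4, hG4] at h4
      exact mul_right_cancel₀ hv (h4.trans h3.symm)
    have hu : G (cm t y) = 0 := by
      rw [hv, mul_zero, add_zero] at h1
      exact h1
    have hty : cm t y = 1 := hGzero (cm_mem h t y) hu
    have htx : cm t x = 1 := hGzero (cm_mem h t x) hv
    by_contra htZ
    have htt : t * t ≠ 1 := fun h3 => htZ (hroot' t h3)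
    obtain ⟨t', ht1, ht2, ht3⟩ : ∃ t', t' * t' = x * x ∧ cm t' y = 1 ∧ cm t' x = 1 := by
      rcases enum_center hρ hc4 (sq_mem h t) htt hcZ with h3 | h3 | h3 | h3
      · exact absurd h3 hxx
      · exact ⟨t, h3.symm, hty, htx⟩
      · exact ⟨ρ t, by rw [← map_mul]; exact h3.symm, hρcm _ _ hty, hρcm _ _ htx⟩
      · exact ⟨ρ (ρ t), by rw [← map_mul, ← map_mul]; exact h3.symm, hρcm _ _ (hρcm _ _ hty),
          hρcm _ _ (hρcm _ _ htx)⟩
    have h5 : (x * t') * (x * t') = 1 := by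
      rw [sq_mul h, ht1, cm_symm h, ht3, mul_one]
      exact h.sqz _ hcZ
    have h6 := hroot' _ h5
    have h7 : cm (x * t') y = 1 := by
      simp only [cm]
      rw [← central h6 y]
      group
    rw [cm_mul_left h, ht2, mul_one] at h7
    exact hy h7
  have hDρρx : Dg (ρ (ρ x)) = ω + 1 := by rw [hDρ, hDρ, hDx, mul_one, hω3]
  have hDρx : Dg (ρ x) = ω := by rw [hDρ, hDx, mul_one]
  have hDρy : Dg (ρ y) = ω * θ := by rw [hDρ, hDy]
  have hDρρy : Dg (ρ (ρ y)) = (ω + 1) * θ := by rw [hDρ, hDρ, hDy, ← mul_assoc, hω3]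
  have hD1 : Dg 1 = 0 := hDZ 1 (Subgroup.one_mem _)
  -- generation
  have hgen : ∀ φ : T → F, (∀ a b, φ (a * b) = φ a + φ b) → φ x = 0 → φ (ρ x) = 0 → φ y = 0 →
      φ (ρ y) = 0 → (∀ z ∈ Subgroup.center T, φ z = 0) → ∀ t, φ t = 0 := by
    intro φ hadd hφx hφρx hφy hφρy hφZ t
    have hφ1 : φ 1 = 0 := hφZ 1 (Subgroup.one_mem _)
    have hφrr : ∀ s, φ s = 0 → φ (ρ s) = 0 → φ (ρ (ρ s)) = 0 := by
      intro s h1 h3
      have h4 := congrArg φ (norm_one hρ s)
      rw [hadd, hadd, h1, h3, hφ1] at h4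
      simpa using h4
    obtain ⟨a, ha⟩ : ∃ a, a = Dg t := ⟨_, rfl⟩
    obtain ⟨f₂, hf₂⟩ : ∃ f₂, f₂ = (a + a ^ 4) * i := ⟨_, rfl⟩
    obtain ⟨f₁, hf₁⟩ : ∃ f₁, f₁ = a + f₂ * θ := ⟨_, rfl⟩
    have ha16 : (a ^ 4) ^ 4 = a := by
      rw [← pow_mul]
      exact pow16 hF a
    have hf₂4 : f₂ ^ 4 = f₂ := by
      rw [hf₂, mul_pow, add_pow4 h2, ha16, hi4]
      ring
    have hf₂τ : f₂ * τ = a + a ^ 4 := by
      rw [hf₂]
      linear_combination (a + a ^ 4) * hi
    have hf₁4 : f₁ ^ 4 = f₁ := by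
      rw [hf₁, add_pow4 h2, mul_pow, hf₂4]
      linear_combination f₂ * hθτ + hf₂τ + (a ^ 4 - f₂ * θ) * h2 
    obtain ⟨r₁, hr₁, hr₁φ⟩ : ∃ r₁, Dg r₁ = f₁ ∧ φ r₁ = 0 := by
      rcases four_cases h2 hω hf₁4 with h1 | h1 | h1 | h1
      · exact ⟨1, by rw [hD1, h1], hφ1⟩
      · exact ⟨x, by rw [hDx, h1], hφx⟩
      · exact ⟨ρ x, by rw [hDρx, h1], hφρx⟩
      · exact ⟨ρ (ρ x), by rw [hDρρx, h1], hφrr _ hφx hφρx⟩
    obtain ⟨r₂, hr₂, hr₂φ⟩ : ∃ r₂, Dg r₂ = f₂ * θ ∧ φ r₂ = 0 := by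
      rcases four_cases h2 hω hf₂4 with h1 | h1 | h1 | h1
      · exact ⟨1, by rw [hD1, h1, zero_mul], hφ1⟩
      · exact ⟨y, by rw [hDy, h1, one_mul], hφy⟩
      · exact ⟨ρ y, by rw [hDρy, h1], hφρy⟩
      · exact ⟨ρ (ρ y), by rw [hDρρy, h1], hφrr _ hφy hφρy⟩
    have h1 : t = (t * (r₁ * r₂)⁻¹) * (r₁ * r₂) := by group
    have h3 : Dg (t * (r₁ * r₂)⁻¹) = 0 := by
      have h4 := congrArg Dg h1
      rw [hDadd _ (r₁ * r₂), hDadd r₁ r₂, hr₁, hr₂, ← ha, hf₁] at h4
      linear_combination (-1 : F) * h4 - (f₂ * θ) * h2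
    have h4 := hφZ _ (hDker _ h3)
    rw [h1, hadd _ (r₁ * r₂), hadd r₁ r₂, h4, hr₁φ, hr₂φ]
    ring
  -- the commutator form in coordinates
  have hP : ∀ t t', G (cm t t') = i * (G (cm t y) * G (cm t' x) + G (cm t x) * G (cm t' y)) := by
    intro t t'
    have h1 := hgen (fun s => G (cm s t') + i * (G (cm s y) * G (cm t' x) + G (cm s x) * G (cm t' y)))
      (by
        intro a b
        simp only [hGm]
        ring)
      (by
        simp only [hcself, ← hτdef]
        rw [hGs t' x]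
        linear_combination (G (cm x t')) * h2 + (G (cm x t')) * hi)
      (by
        simp only [hGr, hcself, ← hτdef]
        rw [hGs t' x]
        linear_combination (ω * G (cm x t')) * h2 + (ω * G (cm x t')) * hi)
      (by
        simp only [hcself]
        rw [hGs y x, ← hτdef, hGs t' y]
        linear_combination (G (cm y t')) * h2 + (G (cm y t')) * hi)
      (by
        simp only [hGr, hcself]
        rw [hGs y x, ← hτdef, hGs t' y]
        linear_combination (ω * G (cm y t')) * h2 + (ω * G (cm y t')) * hi)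
      (by
        intro z hz
        simp only [hGz z hz]
        ring)
      t
    linear_combination h1 - (i * (G (cm t y) * G (cm t' x) + G (cm t x) * G (cm t' y))) * h2
  have hD4 : ∀ t, (Dg t) ^ 4 = i * (G (cm t y) + θ ^ 4 * G (cm t x)) := by
    intro t
    rw [hDg, mul_pow, add_pow4 h2, mul_pow, hi4, hG4, hG4]
  have hPol : ∀ t t', (Dg t) ^ 4 * Dg t' + Dg t * (Dg t') ^ 4 = G (cm t t') := by
    intro t t'
    rw [hD4, hD4, hDg, hDg, hP t t']
    generalize G (cm t y) = u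
    generalize G (cm t x) = v
    generalize G (cm t' y) = u'
    generalize G (cm t' x) = v'
    linear_combination i ^ 2 * (u * u' + θ ^ 5 * v * v') * h2 +
      i ^ 2 * (u * v' + v * u') * hθτ + i * (u * v' + v * u') * hi
  have hErr : ∀ t, G (t * t) = (Dg t) ^ 5 := by
    intro t
    have h1 := hgen (fun s => G (s * s) + (Dg s) ^ 5)
      (by
        intro a b
        rw [sq_mul h a b, hGmul (Subgroup.mul_mem _ (sq_mem h a) (sq_mem h b)) (cm_mem h _ _),
          hGmul (sq_mem h a) (sq_mem h b), ← hPol a b, hDadd]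
        have h3 : (Dg a + Dg b) ^ 5 = (Dg a + Dg b) ^ 4 * (Dg a + Dg b) := by ring
        rw [h3, add_pow4 h2]
        linear_combination ((Dg a) ^ 4 * Dg b + Dg a * (Dg b) ^ 4) * h2)
      (by
        rw [hGc, hDx]
        linear_combination h2)
      (by
        rw [← map_mul, hGrc, hDρx]
        have h3 : ω ^ 5 = ω + 1 := by
          have h4 : ω ^ 5 = ω ^ 4 * ω := by ring
          rw [h4, hω4, hω3]
        rw [h3]
        linear_combination (ω + 1) * h2)
      (by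
        rw [← hνdef, hDy, hθ5]
        linear_combination ν * h2)
      (by
        rw [← map_mul, show G (ρ (y * y)) = (ω + 1) * G (y * y) from Gf_rho H (sq_mem h y), ← hνdef,
          hDρy, mul_pow, hθ5]
        have h3 : ω ^ 5 = ω + 1 := by
          have h4 : ω ^ 5 = ω ^ 4 * ω := by ring
          rw [h4, hω4, hω3]
        rw [h3]
        linear_combination ((ω + 1) * ν) * h2)
      (by
        intro z hz
        rw [h.sqz z hz, hGone, hDZ z hz]
        ring)
      t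
    linear_combination h1 - (Dg t) ^ 5 * h2
  -- the homomorphisms
  let D : T →* Multiplicative F := MonoidHom.mk' (fun t => Multiplicative.ofAdd (Dg t)) (by
    intro a b
    rw [hDadd]
    rfl)
  have hDv : ∀ t, D t = Multiplicative.ofAdd (Dg t) := fun t => rfl
  let D' : Cfsg.Agent.Lib.SU3Heis.T hF h2 →* Multiplicative F :=
    MonoidHom.mk' (fun g => Multiplicative.ofAdd (Cfsg.Agent.Lib.SU3Heis.δ g.1)) (by
      intro a b
      rw [Cfsg.Agent.Lib.SU3Heis.δ_mul hF h2]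
      rfl)
  have hDv' : ∀ g, D' g = Multiplicative.ofAdd (Cfsg.Agent.Lib.SU3Heis.δ g.1) := fun g => rfl
  have hD1 : ∀ t, D t = 1 ↔ t ∈ Subgroup.center T := by
    intro t
    rw [hDv, ofAdd_eq_one]
    exact ⟨hDker t, hDZ t⟩
  have hD2 : ∀ m, D' m = 1 ↔ m ∈ Subgroup.center (Cfsg.Agent.Lib.SU3Heis.T hF h2) := by
    intro m
    rw [hDv', ofAdd_eq_one, Cfsg.Agent.Lib.SU3Heis.mem_center_iff hF h2]
  have hs : Function.Surjective D := by
    rw [← MonoidHom.range_eq_top]
    apply Subgroup.eq_top_of_card_eq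
    have hk : D.ker = Subgroup.center T := by
      ext t
      rw [MonoidHom.mem_ker, hD1]
    rw [← Subgroup.index_ker, hk, Nat.card_congr Multiplicative.toAdd, Nat.card_eq_fintype_card, hF]
    have h1 := Subgroup.card_mul_index (Subgroup.center T)
    rw [hc4, hT] at h1
    omega
  have hs' : Function.Surjective D' := by
    intro d
    obtain ⟨e, he⟩ := Cfsg.Agent.Lib.UnitaryE.exists_trace_eq (q := 4) hF
      (t := (Multiplicative.toAdd d) * (Multiplicative.toAdd d) ^ 4) (by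
        generalize Multiplicative.toAdd d = d'
        have h1 := pow16 hF d'
        calc (d' * d' ^ 4) ^ 4 = d' ^ 4 * d' ^ 16 := by ring
          _ = d' * d' ^ 4 := by rw [h1]; ring)
    obtain ⟨m, hm1, -⟩ := Cfsg.Agent.Lib.SU3Heis.exists_T hF h2 he
    exact ⟨m, by rw [hDv', hm1]; rfl⟩
  -- the isomorphism of the centres
  have hmk : ∀ z : Subgroup.center T, ∃ m : Cfsg.Agent.Lib.SU3Heis.T hF h2,
      Cfsg.Agent.Lib.SU3Heis.δ m.1 = 0 ∧ Cfsg.Agent.Lib.SU3Heis.η m.1 = G z := by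
    intro z
    have h1 : G z + (G z) ^ 4 = (0 : F) * 0 ^ 4 := by
      have h3 : (G z) ^ 4 = G z := Gf_pow4 H z.2
      rw [h3]
      linear_combination (G z) * h2
    exact Cfsg.Agent.Lib.SU3Heis.exists_T hF h2 h1
  choose f hf1 hf2 using hmk
  let fZ : Subgroup.center T → Subgroup.center (Cfsg.Agent.Lib.SU3Heis.T hF h2) :=
    fun z => ⟨f z, (Cfsg.Agent.Lib.SU3Heis.mem_center_iff hF h2 _).mpr (hf1 z)⟩
  let gh : Subgroup.center T →* Subgroup.center (Cfsg.Agent.Lib.SU3Heis.T hF h2) :=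
    MonoidHom.mk' fZ (by
      intro a b
      apply Subtype.ext
      apply Cfsg.Agent.Lib.SU3Heis.T_ext hF h2
      · show Cfsg.Agent.Lib.SU3Heis.δ (f (a * b)).1 = Cfsg.Agent.Lib.SU3Heis.δ (f a * f b).1
        rw [Cfsg.Agent.Lib.SU3Heis.δ_mul hF h2, hf1, hf1, hf1, add_zero]
      · show Cfsg.Agent.Lib.SU3Heis.η (f (a * b)).1 = Cfsg.Agent.Lib.SU3Heis.η (f a * f b).1
        rw [Cfsg.Agent.Lib.SU3Heis.η_mul hF h2, hf2, hf2, hf2, hf1 b]
        show G (a * b : T) = _
        rw [hGmul a.2 b.2]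
        ring)
  have hgh : Function.Bijective gh := by
    rw [Nat.bijective_iff_injective_and_card]
    constructor
    · rw [injective_iff_map_eq_one]
      intro z hz
      have h1 : f z = 1 := congrArg Subtype.val hz
      have h3 := hf2 z
      rw [h1, Cfsg.Agent.Lib.SU3Heis.η_one hF h2] at h3
      exact Subtype.ext (hGzero z.2 h3.symm)
    · rw [hc4, Cfsg.Agent.Lib.SU3Heis.card_center_T hF h2]
  refine iso_of_quad D D' (Subgroup.center T) (Subgroup.center _) (le_refl _) (le_refl _) hD1 hD2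
    hs hs' (MulEquiv.ofBijective gh hgh) ?_
  intro t m htm
  have h1 : Dg t = Cfsg.Agent.Lib.SU3Heis.δ m.1 := Multiplicative.ofAdd.injective htm
  refine ⟨by rw [pow_two]; exact sq_mem h t,
    Cfsg.Agent.Lib.SU3Heis.sq_mem_center hF h2 m, ?_⟩
  apply Subtype.ext
  apply Cfsg.Agent.Lib.SU3Heis.T_ext hF h2
  · show Cfsg.Agent.Lib.SU3Heis.δ (f ⟨t ^ 2, _⟩).1 = Cfsg.Agent.Lib.SU3Heis.δ (m ^ 2).1
    rw [hf1, Cfsg.Agent.Lib.SU3Heis.sq_δ hF h2]
  · show Cfsg.Agent.Lib.SU3Heis.η (f ⟨t ^ 2, _⟩).1 = Cfsg.Agent.Lib.SU3Heis.η (m ^ 2).1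
    rw [hf2, Cfsg.Agent.Lib.SU3Heis.sq_η hF h2, ← h1]
    show G (t ^ 2) = _
    rw [pow_two, hErr]
    ring

end Model

section Sylow

variable {T : Type*} [Group T] [Finite T] {ρ : MulAut T} {F : Type*} [Field F] [Fintype F]

/-- The conclusion for the unitary group. -/
theorem psu_sylow_iso (h : Cl T) (hρ : Fpf ρ) (hT : Nat.card T = 64)
    (hc4 : Nat.card (Subgroup.center T) = 4) (hroot : ∀ t : T, t ^ 2 = 1 → t ∈ Subgroup.center T)
    (hF : Fintype.card F = 16) (P : Sylow 2 (Cfsg.PSU 3 F 4)) :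
    Nonempty (T ≃* ↥(P : Subgroup (Cfsg.PSU 3 F 4))) := by
  have hF' : Fintype.card F = 4 ^ 2 := by rw [hF]; norm_num
  have h2 : (2 : F) = 0 := by
    have h3 := FiniteField.cast_card_eq_zero F
    rw [hF] at h3
    have h4 : (2 : F) ^ 4 = 0 := by
      rw [← h3]
      push_cast
      norm_num
    exact pow_eq_zero_iff (by norm_num) |>.mp h4
  have hZ : Nat.Coprime (Nat.card (Subgroup.center (Cfsg.SU 3 F 4))) 2 := by
    rw [Cfsg.Agent.Lib.UnitarySU.card_center_SU' hF' 3 (by norm_num)]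
    exact Nat.Coprime.coprime_dvd_left (Nat.gcd_dvd_left _ _) (by norm_num)
  obtain ⟨P', ⟨e₁⟩⟩ := Cfsg.Agent.S1141.sylow_quot (Subgroup.center (Cfsg.SU 3 F 4)) hZ P
  obtain ⟨e₂⟩ := Cfsg.Agent.S3315.sylow_equiv (q := 4) (k := 2) (by norm_num) (by norm_num) hF' h2 P'
  obtain ⟨e₀⟩ := iso_model h hρ hT hc4 hroot hF' h2
  exact ⟨e₀.trans (e₂.symm.trans e₁)⟩

end Sylow

end Cfsg.Agent.Lib.T64U
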