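import Mathlib
import Cfsg.Prelude.Def_OddOrderLocal
import Cfsg.Prelude.Def_Solvable
import Cfsg.Agent.Lib.PCore

/-!
# Groups all of whose element centralizers are TI-subgroups: basic facts

Every centralizer of a non-identity element is nilpotent, with normal centralizers inside it.
-/

set_option autoImplicit false

namespace Cfsg.Agent.Lib.TICent71

open Cfsg

variable {G : Type*} [Group G]

/-- The centralizer of an element. -/
abbrev Cz (x : G) : Subgroup G := Subgroup.centralizer ({x} : Set G)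

lemma mem_Cz {x y : G} : y ∈ Cz x ↔ y * x = x * y := Subgroup.mem_centralizer_singleton_iff

/-- The hypothesis: all element centralizers are TI. -/
def TICent (G : Type*) [Group G] : Prop := ∀ x : G, Cfsg.IsTISubset (Cz x : Set G)

lemma mem_normalizer_Cz {x g : G} : g ∈ Subgroup.normalizer (Cz x : Set G) ↔ ∀ y, y ∈ Cz x ↔ g * y * g⁻¹ ∈ Cz x :=
  Subgroup.mem_normalizer_iff

/-- If `y ≠ 1` lies in `C(x)` then `C(y)` normalizes `C(x)`. -/
lemma normalizes (hTI : TICent G) {x y g : G} (hy : y ≠ 1) (hyx : y ∈ Cz x) (hg : g ∈ Cz y) :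
    g ∈ Subgroup.normalizer (Cz x : Set G) := by
  by_contra h
  apply hy
  apply hTI x g h y hyx
  have h1 : g * y = y * g := mem_Cz.mp hg
  have : g * y * g⁻¹ = y := by rw [h1]; group
  show g * y * g⁻¹ ∈ Cz x
  rw [this]
  exact hyx

/-- Conjugates of `y` stay in `C(x)`-type groups: the form of the TI property used most often. -/
lemma mem_normalizer_of_conj_mem (hTI : TICent G) {x y g : G} (hy : y ≠ 1) (hyx : y ∈ Cz x)
    (hg : g * y * g⁻¹ ∈ Cz x) : g ∈ Subgroup.normalizer (Cz x : Set G) := by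
  by_contra h
  exact hy (hTI x g h y hyx hg)

/-- If `g` normalizes `C(x)` and `c ∈ C(x)` then `g c g⁻¹ ∈ C(x)`. -/
lemma conj_mem_of_normalizer {x g c : G} (hg : g ∈ Subgroup.normalizer (Cz x : Set G)) (hc : c ∈ Cz x) :
    g * c * g⁻¹ ∈ Cz x := (mem_normalizer_Cz.mp hg c).mp hc

lemma nilpotent_of_comm {L : Type*} [Group L] (h : IsMulCommutative L) : Group.IsNilpotent L := by
  letI : CommGroup L := { (inferInstance : Group L) with mul_comm := h.is_comm.comm }
  exact (CommGroup.isNilpotent : Group.IsNilpotent L)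

/-- A group in which all centralizers are normal is nilpotent. -/
theorem nilpotent_of_normal_centralizers {L : Type*} [Group L] [Finite L]
    (h : ∀ y g c : L, c * y = y * c → (g * c * g⁻¹) * y = y * (g * c * g⁻¹)) : Group.IsNilpotent L := by
  classical
  have h1 : ∀ y g k : L, (g * y * g⁻¹) * (k * y * k⁻¹) = (k * y * k⁻¹) * (g * y * g⁻¹) := by
    intro y g k
    have h2 := h y (k⁻¹ * g) y rfl
    have h3 : k * ((k⁻¹ * g * y * (k⁻¹ * g)⁻¹) * y) * k⁻¹ = k * (y * (k⁻¹ * g * y * (k⁻¹ * g)⁻¹)) * k⁻¹ := by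
      rw [h2]
    have e1 : k * ((k⁻¹ * g * y * (k⁻¹ * g)⁻¹) * y) * k⁻¹ = (g * y * g⁻¹) * (k * y * k⁻¹) := by group
    have e2 : k * (y * (k⁻¹ * g * y * (k⁻¹ * g)⁻¹)) * k⁻¹ = (k * y * k⁻¹) * (g * y * g⁻¹) := by group
    rw [e1, e2] at h3
    exact h3
  have hF : Cfsg.fittingSubgroup L = ⊤ := by
    rw [eq_top_iff]
    intro y _
    set N := Subgroup.normalClosure ({y} : Set L) with hN
    have hNn : N.Normal := Subgroup.normalClosure_normal
    have hcomm : ∀ u ∈ Group.conjugatesOfSet ({y} : Set L), ∀ v ∈ Group.conjugatesOfSet ({y} : Set L),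
        u * v = v * u := by
      intro u hu v hv
      rw [Group.mem_conjugatesOfSet_iff] at hu hv
      obtain ⟨a', ha', hu⟩ := hu
      obtain ⟨b', hb', hv⟩ := hv
      rw [Set.mem_singleton_iff] at ha' hb'
      subst ha' hb'
      obtain ⟨g, rfl⟩ := isConj_iff.mp hu
      obtain ⟨k, rfl⟩ := isConj_iff.mp hv
      exact h1 _ g k
    have hNnil : Group.IsNilpotent N := by
      show Group.IsNilpotent (Subgroup.closure (Group.conjugatesOfSet ({y} : Set L)))
      have hmc := Subgroup.isMulCommutative_closure hcomm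
      exact nilpotent_of_comm hmc
    have hle : N ≤ Cfsg.fittingSubgroup L := Cfsg.Agent.Lib.PCore.le_fittingSubgroup hNn hNnil
    exact hle (Subgroup.subset_normalClosure (Set.mem_singleton y))
  have hnil : Group.IsNilpotent (Cfsg.fittingSubgroup L) := Cfsg.Agent.Lib.PCore.isNilpotent_fittingSubgroup
  rw [hF] at hnil
  exact Group.nilpotent_of_mulEquiv (Subgroup.topEquiv (G := L))

variable [Finite G]

/-- Centralizers of non-identity elements are nilpotent. -/
theorem isNilpotent_Cz (hTI : TICent G) {x : G} (hx : x ≠ 1) : Group.IsNilpotent (Cz x) := by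
  apply nilpotent_of_normal_centralizers
  rintro ⟨y, hy⟩ ⟨g, hg⟩ ⟨c, hc⟩ hcy
  have hcy' : c * y = y * c := congrArg Subtype.val hcy
  apply Subtype.ext
  show g * c * g⁻¹ * y = y * (g * c * g⁻¹)
  by_cases hy1 : y = 1
  · simp [hy1]
  have hxy : x ∈ Cz y := mem_Cz.mpr (mem_Cz.mp hy).symm
  have hN : g ∈ Subgroup.normalizer (Cz y : Set G) := normalizes hTI hx hxy hg
  exact mem_Cz.mp (conj_mem_of_normalizer hN (mem_Cz.mpr hcy'))

/-- The same, in the form with normal centralizers. -/
theorem comm_conj_of_comm (hTI : TICent G) {x y g c : G} (hx : x ≠ 1) (hy : y ≠ 1) (hxy : x * y = y * x)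
    (hg : g * x = x * g) (hc : c * y = y * c) : (g * c * g⁻¹) * y = y * (g * c * g⁻¹) := by
  have hxy' : x ∈ Cz y := mem_Cz.mpr hxy
  exact mem_Cz.mp (conj_mem_of_normalizer (normalizes hTI hx hxy' (mem_Cz.mpr hg)) (mem_Cz.mpr hc))

end Cfsg.Agent.Lib.TICent71
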