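import Mathlib
import Cfsg.Agent.Lib.TICent71A
import Cfsg.Agent.Lib.TICent71C
import Cfsg.Agent.Lib.SLTransfer
import Cfsg.Agent.Lib.CTSL71
import Cfsg.Agent.Lib.InvolutionIndexTwo
import Cfsg.Agent.S0183
import Cfsg.Agent.S0215
import Cfsg.Agent.S0346
import Cfsg.Agent.S1147
import Cfsg.Agent.S2202
import Cfsg.Agent.S5748
import Cfsg.Agent.Lib.ClassicalSmall

/-!
# TI centralizers: end of the analysis
-/

set_option autoImplicit false

namespace Cfsg.Agent.Lib.TICent71

open Cfsg Cfsg.Agent.Lib.EmbInvol Cfsg.Agent.Lib.PCore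

variable {G : Type*} [Group G] [Finite G]

lemma dvd_of_pow_sub_one_dvd {r c : ℕ} (h : 2 ^ r - 1 ∣ 2 ^ c - 1) : r ∣ c := by
  have h1 := Nat.pow_sub_one_gcd_pow_sub_one 2 r c
  rw [Nat.gcd_eq_left h] at h1
  have h2 : 0 < 2 ^ r := by positivity
  have h3 : 0 < 2 ^ Nat.gcd r c := by positivity
  have h4 : 2 ^ r = 2 ^ Nat.gcd r c := by omega
  have h5 : r = Nat.gcd r c := Nat.pow_right_injective (le_refl 2) h4
  exact Nat.gcd_eq_left_iff_dvd.mp h5.symm

namespace Cfg

variable {K H : Subgroup G} (h : Cfg K H)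
  (hi : 1 < Nat.card {t : G // orderOf t = 2 ∧ t ∈ H})
  (hodd : ∀ N : Subgroup G, N.Normal → Odd (Nat.card N) → N = ⊥)

include h hi hodd

/-- `K` is a `2`-group. -/
theorem isPGroup_K : IsPGroup 2 K := by
  classical
  have hZ := h.zassenhaus hi hodd
  haveI := h.simple hi hodd
  letI : Fintype (G ⧸ H) := Fintype.ofFinite _
  have hpp := Cfsg.Agent.S0346.result hZ
  have hc := h.card_K hi
  rw [Nat.card_eq_fintype_card (α := G ⧸ H)] at hc
  have hc' : Fintype.card (G ⧸ H) - 1 = Nat.card K := by omega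
  rw [hc'] at hpp
  obtain ⟨p, k, hp, hk, hpk⟩ := (isPrimePow_nat_iff _).mp hpp
  obtain ⟨z, hzH, hz2, hzK⟩ := h.exists_z
  have hzKm : z ∈ K := by rw [← hzK]; exact mem_Cz.mpr rfl
  have h2 : 2 ∣ Nat.card K := by
    have h1 : orderOf (⟨z, hzKm⟩ : K) = 2 := by rw [Subgroup.orderOf_mk, hz2]
    rw [← h1]
    exact orderOf_dvd_natCard _
  rw [← hpk] at h2
  have h3 : 2 ∣ p := Nat.prime_two.dvd_of_dvd_pow h2
  have h4 : p = 2 := ((Nat.prime_dvd_prime_iff_eq Nat.prime_two hp).mp h3).symm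
  subst h4
  exact IsPGroup.of_card hpk.symm

/-- `K` is abelian. -/
theorem comm_K : ∀ a ∈ K, ∀ b ∈ K, a * b = b * a := by
  classical
  haveI : Fact (Nat.Prime 2) := ⟨Nat.prime_two⟩
  have hZ := h.zassenhaus hi hodd
  haveI := h.simple hi hodd
  have hK2 := h.isPGroup_K hi hodd
  obtain ⟨u, hu, huH⟩ := h.exists_u hi
  have huu := mul_self_of_order hu
  have hm := mk_u_ne h huH
  by_contra hcon
  push Not at hcon
  obtain ⟨a, ha, b, hb, hab⟩ := hcon
  have hle := h.le
  obtain ⟨r, hr, hr1, hcard, -, hcardD, -⟩ := Cfsg.Agent.S1147.result hZ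
    (a := (QuotientGroup.mk 1 : G ⧸ H)) (b := QuotientGroup.mk u) hm.symm K
    (fun k hk => fix_of_mem_H (hle hk))
    (fun x hx y hy => h.conj_mem (mem_H_of_fix hx) hy)
    (by
      intro c d hc hd
      obtain ⟨k, hk, hkc⟩ := h.exists_K_smul hi hc hd
      refine ⟨⟨k, hk⟩, hkc, ?_⟩
      rintro ⟨l, hl⟩ hlc
      have hlc' : l • c = d := hlc
      apply Subtype.ext
      have h2 : (k⁻¹ * l) • c = c := by
        rw [mul_smul, hlc', ← hkc, inv_smul_smul]
      have h3 := h.K_inf_Dpt hc (K.mul_mem (K.inv_mem hk) hl) h2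
      exact (inv_mul_eq_one.mp h3).symm)
    hK2 ⟨a, ha, b, hb, hab⟩
  -- the order of the two-point stabilizer
  have hD : Nat.card (Dd H u) = 2 ^ r - 1 := by
    rw [← hcardD]
    have e : MulAction.stabilizer G (QuotientGroup.mk 1 : G ⧸ H) = H := MulAction.stabilizer_quotient H
    rw [e, ← Dpt_mk_eq]
  have hKcard : Nat.card K = 2 ^ (2 * r) := by
    have := h.card_K hi
    omega
  -- invariant subgroups
  have hdvd : ∀ M : Subgroup G, M ≤ K → (∀ x ∈ H, ∀ y ∈ M, x * y * x⁻¹ ∈ M) → M ≠ ⊥ →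
      ∃ c, Nat.card M = 2 ^ c ∧ r ∣ c ∧ 1 ≤ c := by
    intro M hMK hinv hM1
    obtain ⟨c, hc⟩ := IsPGroup.iff_card.mp (hK2.to_le hMK)
    refine ⟨c, hc, ?_, ?_⟩
    · apply dvd_of_pow_sub_one_dvd
      rw [← hD, ← hc]
      exact h.card_dvd hMK hinv hu huH
    · rw [Nat.one_le_iff_ne_zero]
      rintro rfl
      rw [pow_zero] at hc
      exact hM1 (Subgroup.card_eq_one.mp hc)
  -- the centre
  let Z : Subgroup G := K ⊓ Subgroup.centralizer (K : Set G)
  have hZK : Z ≤ K := inf_le_left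
  have hZinv : ∀ x ∈ H, ∀ y ∈ Z, x * y * x⁻¹ ∈ Z := by
    rintro x hx y ⟨hyK, hyC'⟩
    have hyC : y ∈ Subgroup.centralizer (K : Set G) := hyC'
    refine ⟨h.conj_mem hx hyK, ?_⟩
    change x * y * x⁻¹ ∈ Subgroup.centralizer (K : Set G)
    rw [Subgroup.mem_centralizer_iff] at hyC ⊢
    intro k hk
    have h1 := hyC (x⁻¹ * k * x) (by simpa using h.conj_mem (H.inv_mem hx) hk)
    calc k * (x * y * x⁻¹) = x * ((x⁻¹ * k * x) * y) * x⁻¹ := by group
      _ = x * (y * (x⁻¹ * k * x)) * x⁻¹ := by rw [h1]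
      _ = x * y * x⁻¹ * k := by group
  have hZ1 : Z ≠ ⊥ := by
    haveI : Nontrivial K := by
      refine ⟨⟨⟨a, ha⟩, 1, fun h0 => hab ?_⟩⟩
      have : a = 1 := congrArg Subtype.val h0
      rw [this]; simp
    haveI := hK2.center_nontrivial
    obtain ⟨⟨c, hc⟩, hc1⟩ := exists_ne (1 : Subgroup.center K)
    rw [Subgroup.ne_bot_iff_exists_ne_one]
    refine ⟨⟨c, c.2, ?_⟩, fun h0 => hc1 (Subtype.ext (Subtype.ext (congrArg (fun x : Z => (x : G)) h0)))⟩
    change (c : G) ∈ Subgroup.centralizer (K : Set G)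
    rw [Subgroup.mem_centralizer_iff]
    intro k hk
    have := Subgroup.mem_center_iff.mp hc ⟨k, hk⟩
    exact congrArg Subtype.val this
  obtain ⟨c', hc', hrc', hc'1⟩ := hdvd Z hZK hZinv hZ1
  -- the centralizer of `a`
  have ha1 : a ≠ 1 := by
    rintro rfl
    simp at hab
  have hMK : Cz a ≤ K := h.Cz_le ha ha1
  obtain ⟨z, hzH, hz2, hzK⟩ := h.exists_z
  have hMinv : ∀ x ∈ H, ∀ y ∈ Cz a, x * y * x⁻¹ ∈ Cz a := by
    intro x hx y hy
    apply conj_mem_of_normalizer _ hy
    have haz : a ∈ Cz z := by rw [hzK]; exact ha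
    have hz1 := ne_one_of_order hz2
    apply mem_normalizer_of_conj_mem h.ti hz1 (mem_Cz.mpr (mem_Cz.mp haz).symm)
    have h3 : orderOf (x * z * x⁻¹) = 2 := by
      have := MulEquiv.orderOf_eq (MulAut.conj x) z
      simp only [MulAut.conj_apply] at this
      rw [this, hz2]
    have h4 := h.cent _ (H.mul_mem (H.mul_mem hx hzH) (H.inv_mem hx)) h3
    have h5 : a ∈ Cz (x * z * x⁻¹) := by rw [h4]; exact ha
    exact mem_Cz.mpr (mem_Cz.mp h5).symm
  have haM : a ∈ Cz a := mem_Cz.mpr rfl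
  have hM1 : Cz a ≠ ⊥ := by
    intro h0
    rw [h0, Subgroup.mem_bot] at haM
    exact ha1 haM
  obtain ⟨c, hc, hrc, hc1⟩ := hdvd (Cz a) hMK hMinv hM1
  have hZM : Z ≤ Cz a := by
    rintro w ⟨-, hwC'⟩
    have hwC : w ∈ Subgroup.centralizer (K : Set G) := hwC'
    rw [Subgroup.mem_centralizer_iff] at hwC
    exact mem_Cz.mpr (hwC a ha).symm
  have hlt : c' < c := by
    have h1 : Nat.card Z ≤ Nat.card (Cz a) := Subgroup.card_le_of_le hZM
    have h2 : Nat.card Z ≠ Nat.card (Cz a) := by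
      intro h3
      have h4 : Z = Cz a := Subgroup.eq_of_le_of_card_ge hZM (le_of_eq h3.symm)
      have h5 : a ∈ Z := by rw [h4]; exact haM
      have h5' : a ∈ Subgroup.centralizer (K : Set G) := h5.2
      have h6 := Subgroup.mem_centralizer_iff.mp h5' b hb
      exact hab h6.symm
    rw [hc', hc] at h1 h2
    have h3 : c' ≤ c := (Nat.pow_le_pow_iff_right (by norm_num)).mp h1
    rcases h3.lt_or_eq with h4 | h4
    · exact h4
    · rw [h4] at h2
      exact absurd rfl h2
  have hrpos : 0 < r := by omega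
  have hrle : r ≤ c' := Nat.le_of_dvd (by omega) hrc'
  obtain ⟨e, rfl⟩ := hrc
  have he : 2 ≤ e := by
    by_contra hne
    have : e ≤ 1 := by omega
    have : r * e ≤ r * 1 := Nat.mul_le_mul_left _ this
    omega
  have hle2 : Nat.card (Cz a) ≤ Nat.card K := Subgroup.card_le_of_le hMK
  rw [hc, hKcard] at hle2
  have h5 : r * e ≤ 2 * r := (Nat.pow_le_pow_iff_right (by norm_num)).mp hle2
  have h6 : 2 * r ≤ r * e := by nlinarith
  have h7 : Nat.card K ≤ Nat.card (Cz a) := by
    rw [hc, hKcard]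
    exact Nat.pow_le_pow_right (by norm_num) h6
  have h8 : Cz a = K := Subgroup.eq_of_le_of_card_ge hMK h7
  have h9 : b ∈ Cz a := by rw [h8]; exact hb
  exact hab (mem_Cz.mp h9).symm

end Cfg

/-- A normal subgroup of odd order is trivial if the Fitting subgroup is. -/
theorem odd_normal_trivial (hTI : TICent G) (hF : fittingSubgroup G = ⊥) (N : Subgroup G) (hN : N.Normal)
    (ho : Odd (Nat.card N)) : N = ⊥ := by
  classical
  by_contra hN1
  have hCN : Cfsg.IsCNGroup N := by
    intro g hg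
    have hg1 : (g : G) ≠ 1 := fun h0 => hg (Subtype.ext h0)
    haveI := isNilpotent_Cz hTI hg1
    let f : ↥(Subgroup.centralizer ({g} : Set N)) →* ↥(Cz (g : G)) :=
      { toFun := fun c => ⟨c.1.1, mem_Cz.mpr (congrArg Subtype.val (Subgroup.mem_centralizer_singleton_iff.mp c.2))⟩
        map_one' := rfl
        map_mul' := fun _ _ => rfl }
    have hinj : Function.Injective f := by
      intro a b hab
      apply Subtype.ext
      apply Subtype.ext
      exact congrArg (fun c : Cz (g : G) => (c : G)) hab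
    apply isNilpotent_of_ker_le_center f
    rw [(MonoidHom.ker_eq_bot_iff f).mpr hinj]
    exact bot_le
  haveI : Group.IsSolvable N := Cfsg.Agent.S0183.result ho hCN
  haveI : N.Normal := hN
  haveI : Nontrivial N := (Subgroup.nontrivial_iff_ne_bot N).mpr hN1
  obtain ⟨p, hp, hcore⟩ := exists_pCore_ne_bot (G := N)
  haveI : Fact p.Prime := ⟨hp⟩
  haveI : (pCore p N).Characteristic := pCore_characteristic p
  have hmn : ((pCore p N).map N.subtype).Normal := ConjAct.normal_of_characteristic_of_normal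
  have hmp : IsPGroup p ((pCore p N).map N.subtype) := (isPGroup_pCore p).map _
  have hle := le_fittingSubgroup hmn hmp.isNilpotent
  rw [hF, le_bot_iff, Subgroup.map_eq_bot_iff_of_injective _ N.subtype_injective] at hle
  exact hcore hle

/-- Building the configuration and concluding. -/
theorem caseB (hTI : TICent G) (hF : fittingSubgroup G = ⊥) [hne : Nontrivial G] :
    ∃ n : ℕ, 2 ≤ n ∧ Nonempty (G ≃* Matrix.ProjectiveSpecialLinearGroup (Fin 2) (GaloisField 2 n)) := by
  classical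
  haveI : Fact (Nat.Prime 2) := ⟨Nat.prime_two⟩
  have hodd := odd_normal_trivial hTI hF
  have heven : Even (Nat.card G) := by
    rw [← Nat.not_odd_iff_even]
    intro ho
    have h1 : (⊤ : Subgroup G) = ⊥ := hodd ⊤ inferInstance (by
      rw [Subgroup.card_top]; exact ho)
    exact top_ne_bot h1
  obtain ⟨S⟩ : Nonempty (Sylow 2 G) := inferInstance
  haveI hSnil : Group.IsNilpotent (S : Subgroup G) := S.isPGroup'.isNilpotent
  have hS1 : (S : Subgroup G) ≠ ⊥ := S.ne_bot_of_dvd_card (even_iff_two_dvd.mp heven)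
  have hSeven : Even (Nat.card (S : Subgroup G)) := by
    obtain ⟨k, hk⟩ := IsPGroup.iff_card.mp S.isPGroup'
    rw [hk]
    cases k with
    | zero =>
      exfalso
      rw [pow_zero] at hk
      exact hS1 (Subgroup.card_eq_one.mp hk)
    | succ k => exact (even_two.pow_of_ne_zero (by omega))
  obtain ⟨z₀, hz₀c, hz₀⟩ := exists_central_involution hSeven
  obtain ⟨z, hzdef⟩ : ∃ z : G, z = (z₀ : G) := ⟨_, rfl⟩
  have hz2 : orderOf z = 2 := by rw [hzdef, Subgroup.orderOf_coe, hz₀]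
  have hz1 : z ≠ 1 := ne_one_of_order hz2
  have hzS : z ∈ (S : Subgroup G) := by rw [hzdef]; exact z₀.2
  have hzc : ∀ x ∈ (S : Subgroup G), x * z = z * x := by
    intro x hx
    have := Subgroup.mem_center_iff.mp hz₀c ⟨x, hx⟩
    rw [hzdef]
    exact congrArg Subtype.val this
  set K : Subgroup G := Cz z with hKdef
  set H : Subgroup G := Subgroup.normalizer (K : Set G) with hHdef
  have hKH : K ≤ H := Subgroup.le_normalizer
  have hzK : z ∈ K := mem_Cz.mpr rfl
  have hzH : z ∈ H := hKH hzK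
  have hSK : (S : Subgroup G) ≤ K := fun x hx => mem_Cz.mpr (hzc x hx)
  haveI hKnil : Group.IsNilpotent K := isNilpotent_Cz hTI hz1
  -- `2`-elements of `K` lie in `S`
  have h2K : ∀ x ∈ K, IsPGroup 2 (Subgroup.zpowers x) → x ∈ (S : Subgroup G) := by
    intro x hx hxp
    have hnorm : ∀ P : Sylow 2 K, (P : Subgroup K).Normal :=
      fun P => ((Group.isNilpotent_of_finite_tfae (G := K)).out 0 3 rfl rfl).mp hKnil 2 inferInstance P
    have hS' : IsPGroup 2 ((S : Subgroup G).subgroupOf K) := S.isPGroup'.comap_of_injective (K.subtype) K.subtype_injective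
    obtain ⟨Q, hQ⟩ := hS'.exists_le_sylow
    have hx' : IsPGroup 2 (Subgroup.zpowers (⟨x, hx⟩ : K)) := by
      intro y
      obtain ⟨y, hy⟩ := y
      obtain ⟨k, rfl⟩ := Subgroup.mem_zpowers_iff.mp hy
      obtain ⟨m, hm⟩ := hxp ⟨x ^ k, Subgroup.zpow_mem_zpowers x k⟩
      refine ⟨m, Subtype.ext (Subtype.ext ?_)⟩
      have hm' : (x ^ k) ^ 2 ^ m = 1 := congrArg Subtype.val hm
      simpa using hm'
    obtain ⟨Q₂, hQ₂⟩ := hx'.exists_le_sylow
    haveI := Sylow.unique_of_normal Q (hnorm Q)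
    have hQQ : Q₂ = Q := Subsingleton.elim _ _
    subst hQQ
    have hmap : IsPGroup 2 ((Q₂ : Subgroup K).map K.subtype) := Q₂.isPGroup'.map _
    have hle : (S : Subgroup G) ≤ (Q₂ : Subgroup K).map K.subtype := by
      intro y hy
      exact ⟨⟨y, hSK hy⟩, hQ hy, rfl⟩
    have heq := S.is_maximal' hmap hle
    rw [← heq]
    exact ⟨⟨x, hx⟩, hQ₂ (Subgroup.mem_zpowers _), rfl⟩
  -- `H` normalizes `S`
  have hconjS : ∀ g ∈ H, ∀ x ∈ (S : Subgroup G), g * x * g⁻¹ ∈ (S : Subgroup G) := by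
    intro g hg x hx
    apply h2K _ (conj_mem_of_normalizer hg (hSK hx))
    intro y
    obtain ⟨y, hy⟩ := y
    obtain ⟨k, rfl⟩ := Subgroup.mem_zpowers_iff.mp hy
    obtain ⟨m, hm⟩ := S.isPGroup' ⟨x ^ k, (S : Subgroup G).zpow_mem hx k⟩
    have hm' : (x ^ k) ^ 2 ^ m = 1 := congrArg Subtype.val hm
    refine ⟨m, Subtype.ext ?_⟩
    change ((g * x * g⁻¹) ^ k) ^ 2 ^ m = 1
    have e : (g * x * g⁻¹) ^ k = g * x ^ k * g⁻¹ := by
      rw [conj_zpow]
    rw [e, conj_pow, hm']
    simp
  have hHnS : H ≤ Subgroup.normalizer ((S : Subgroup G) : Set G) := by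
    intro g hg
    rw [Subgroup.mem_normalizer_iff]
    intro y
    refine ⟨hconjS g hg y, fun hy => ?_⟩
    have := hconjS g⁻¹ (H.inv_mem hg) _ hy
    simpa [mul_assoc] using this
  -- involutions of `H` lie in `S`
  have hinvS : ∀ a ∈ H, orderOf a = 2 → a ∈ (S : Subgroup G) := by
    intro a ha ha2
    have hp : IsPGroup 2 (Subgroup.zpowers a) := by
      apply IsPGroup.of_card (n := 1)
      rw [Nat.card_zpowers, ha2, pow_one]
    have hle : Subgroup.zpowers a ≤ Subgroup.normalizer ((S : Subgroup G) : Set G) := by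
      rw [Subgroup.zpowers_le]
      exact hHnS ha
    have hsup := S.isPGroup'.to_sup_of_normal_left' hp hle
    have := S.is_maximal' hsup le_sup_left
    rw [← this]
    exact (le_sup_right : Subgroup.zpowers a ≤ _) (Subgroup.mem_zpowers a)
  have hinvK : ∀ a ∈ H, orderOf a = 2 → a ∈ K := fun a ha h2 => hSK (hinvS a ha h2)
  -- strongly embedded
  have hemb : IsStronglyEmbedded H := by
    refine ⟨?_, ?_, ?_⟩
    · intro htop
      have hKn : K.Normal := Subgroup.normalizer_eq_top_iff.mp htop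
      have hle := le_fittingSubgroup hKn hKnil
      rw [hF, le_bot_iff] at hle
      rw [hle, Subgroup.mem_bot] at hzK
      exact hz1 hzK
    · rw [even_iff_two_dvd, ← hz2, ← Subgroup.orderOf_mk z hzH]
      exact orderOf_dvd_natCard _
    · intro g hg
      rw [← Nat.not_even_iff_odd]
      intro he
      obtain ⟨a, ha⟩ := exists_prime_orderOf_dvd_card' (G := ↥(H ⊓ H.map (MulAut.conj g).toMonoidHom)) 2
        (even_iff_two_dvd.mp he)
      have ha' : orderOf (a : G) = 2 := by rw [Subgroup.orderOf_coe, ha]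
      have haH : (a : G) ∈ H := a.2.1
      have haH2 : g⁻¹ * a * g ∈ H := (mem_map_conj_iff (H := H)).mp a.2.2
      have ho : orderOf (g⁻¹ * a * g) = 2 := by
        have := MulEquiv.orderOf_eq (MulAut.conj g⁻¹) (a : G)
        simp only [MulAut.conj_apply, inv_inv] at this
        rw [this, ha']
      have h1 := hinvK _ haH ha'
      have h2 := hinvK _ haH2 ho
      have h3 : g⁻¹ ∈ H := by
        apply mem_normalizer_of_conj_mem hTI (ne_one_of_order ha') h1
        simpa using h2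
      exact hg (by simpa using H.inv_mem h3)
  -- involution outside
  obtain ⟨u, hu, huH⟩ : ∃ u : G, orderOf u = 2 ∧ u ∉ H := by
    obtain ⟨g, hg⟩ : ∃ g, g ∉ H := by
      by_contra hcon
      push Not at hcon
      exact hemb.1 (eq_top_iff.mpr fun x _ => hcon x)
    have hne : (QuotientGroup.mk 1 : G ⧸ H) ≠ QuotientGroup.mk g := by
      intro h1
      rw [QuotientGroup.eq] at h1
      exact hg (by simpa using h1)
    have hcard := card_swap hemb (QuotientGroup.mk 1 : G ⧸ H) (QuotientGroup.mk g) hne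
    haveI : Nonempty {t : G // orderOf t = 2 ∧ t ∈ H} := ⟨⟨z, hz2, hzH⟩⟩
    have hpos : 0 < Nat.card {t : G // orderOf t = 2 ∧ t ∈ H} := Nat.card_pos
    rw [← hcard] at hpos
    haveI : Finite {i : G // orderOf i = 2 ∧ i • (QuotientGroup.mk 1 : G ⧸ H) = QuotientGroup.mk g} := inferInstance
    obtain ⟨⟨i, hi2, hi⟩⟩ := (Nat.card_pos_iff.mp hpos).1
    refine ⟨i, hi2, fun hiH => hne ?_⟩
    rw [← hi]
    exact (fix_of_mem_H hiH).symm
  -- all the centralizers
  have hcentH : ∀ t ∈ H, orderOf t = 2 → Cz t = K := by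
    intro t ht ht2
    obtain ⟨d, hd, hdt⟩ := exists_conj_inf hemb hu huH hz2 hzH ht2 ht
    have hdH : d ∈ H := hd.1
    ext y
    constructor
    · intro hy
      have hy' := mem_Cz.mp hy
      rw [← hdt] at hy'
      have h1 : d⁻¹ * y * d ∈ K := by
        apply mem_Cz.mpr
        calc d⁻¹ * y * d * z = d⁻¹ * (y * (d * z * d⁻¹)) * d := by group
          _ = d⁻¹ * ((d * z * d⁻¹) * y) * d := by rw [hy']
          _ = z * (d⁻¹ * y * d) := by group
      have h2 := conj_mem_of_normalizer hdH h1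
      have e : d * (d⁻¹ * y * d) * d⁻¹ = y := by group
      rwa [e] at h2
    · intro hy
      have h1 := conj_mem_of_normalizer (H.inv_mem hdH) hy
      have h2 := mem_Cz.mp h1
      apply mem_Cz.mpr
      rw [← hdt]
      have e : d⁻¹ * y * d⁻¹⁻¹ = d⁻¹ * y * d := by group
      rw [e] at h2
      calc y * (d * z * d⁻¹) = d * ((d⁻¹ * y * d) * z) * d⁻¹ := by group
        _ = d * (z * (d⁻¹ * y * d)) * d⁻¹ := by rw [h2]
        _ = d * z * d⁻¹ * y := by group
  have hCfg : Cfg K H := ⟨hTI, hemb, hcentH, rfl⟩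
  have hi : 1 < Nat.card {t : G // orderOf t = 2 ∧ t ∈ H} := by
    by_contra hle
    have hle' : Nat.card {t : G // orderOf t = 2 ∧ t ∈ H} ≤ 1 := by omega
    have hsub : ∀ t ∈ H, orderOf t = 2 → t = z := by
      intro t ht ht2
      have h0 : Subsingleton {t : G // orderOf t = 2 ∧ t ∈ H} := by
        rw [← not_nontrivial_iff_subsingleton, ← Finite.one_lt_card_iff_nontrivial]
        omega
      have := Subsingleton.elim (⟨t, ht2, ht⟩ : {t : G // orderOf t = 2 ∧ t ∈ H}) ⟨z, hz2, hzH⟩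
      exact congrArg Subtype.val this
    obtain ⟨N, hNn, hNo, hN⟩ := Cfsg.Agent.S0215.result S z hz2 hzS (by
      intro g hg
      apply hsub _ (hKH (hSK hg))
      have := MulEquiv.orderOf_eq (MulAut.conj g) z
      simp only [MulAut.conj_apply] at this
      rw [this, hz2])
    have hN1 := hodd N hNn hNo
    have hzcent : z ∈ Subgroup.center G := by
      rw [Subgroup.mem_center_iff]
      intro g
      have h1 := hN g
      rw [hN1, Subgroup.mem_bot] at h1
      have h2 : z * g * z⁻¹ = g := mul_inv_eq_one.mp h1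
      exact (mul_inv_eq_iff_eq_mul.mp h2).symm
    have hle2 : Subgroup.center G ≤ fittingSubgroup G :=
      le_fittingSubgroup inferInstance (nilpotent_of_comm inferInstance)
    rw [hF, le_bot_iff] at hle2
    rw [hle2, Subgroup.mem_bot] at hzcent
    exact hz1 hzcent
  have hcommK := hCfg.comm_K hi hodd
  haveI hsimple := hCfg.simple hi hodd
  have hnc : ¬ IsMulCommutative G := by
    intro hc
    haveI : Group.IsNilpotent G := nilpotent_of_comm hc
    have h1 : fittingSubgroup G = ⊤ := fittingSubgroup_eq_top_of_nilpotent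
    rw [hF] at h1
    exact bot_ne_top h1
  have hcent : ∀ t : G, orderOf t = 2 → IsMulCommutative (Subgroup.centralizer ({t} : Set G)) := by
    intro t ht
    obtain ⟨x, hx⟩ := exists_fixed hemb ht
    obtain ⟨g₁, rfl⟩ := QuotientGroup.mk_surjective x
    rw [smul_mk_eq_iff] at hx
    have h1 : orderOf (g₁⁻¹ * t * g₁) = 2 := by
      have := MulEquiv.orderOf_eq (MulAut.conj g₁⁻¹) t
      simp only [MulAut.conj_apply, inv_inv] at this
      rw [this]; exact ht
    have h2 := hcentH _ hx h1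
    refine ⟨⟨fun a b => ?_⟩⟩
    apply Subtype.ext
    change (a : G) * b = b * a
    have hmem : ∀ c : G, c * t = t * c → g₁⁻¹ * c * g₁ ∈ K := by
      intro c hc
      rw [← h2]
      apply mem_Cz.mpr
      calc g₁⁻¹ * c * g₁ * (g₁⁻¹ * t * g₁) = g₁⁻¹ * (c * t) * g₁ := by group
        _ = g₁⁻¹ * (t * c) * g₁ := by rw [hc]
        _ = _ := by group
    have h3 := hcommK _ (hmem a (mem_Cz.mp a.2)) _ (hmem b (mem_Cz.mp b.2))
    have e1 : g₁⁻¹ * (a : G) * g₁ * (g₁⁻¹ * b * g₁) = g₁⁻¹ * (a * b) * g₁ := by group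
    have e2 : g₁⁻¹ * (b : G) * g₁ * (g₁⁻¹ * a * g₁) = g₁⁻¹ * (b * a) * g₁ := by group
    rw [e1, e2] at h3
    exact mul_left_cancel (mul_right_cancel h3)
  rcases Cfsg.Agent.S2202.result heven hcent with h' | h' | h'
  · exfalso
    obtain ⟨Q, hQ⟩ := Cfsg.Agent.Lib.InvolutionIndexTwo.exists_index_two_of_isCyclic_sylow heven S (h' S)
    exact Cfsg.Agent.S5748.no_index_two hnc Q hQ
  · exfalso
    have hle := le_fittingSubgroup (h' S) hSnil
    rw [hF, le_bot_iff] at hle
    exact hS1 hle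
  · obtain ⟨F₀, _, _, A, _, _, hchar, hA, ⟨e⟩⟩ := h'
    have hAtriv : ∀ a : A, a = 1 := by
      intro a
      have hz : e.symm (1, a) ∈ Subgroup.center G := by
        rw [Subgroup.mem_center_iff]
        intro g
        apply e.injective
        rw [map_mul, map_mul, MulEquiv.apply_symm_apply]
        ext1
        · simp
        · simp [mul_comm]
      rw [Cfsg.Agent.S5748.center_bot hnc, Subgroup.mem_bot] at hz
      have := (map_eq_one_iff e.symm e.symm.injective).mp hz
      exact congrArg Prod.snd this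
    haveI : Unique A := ⟨⟨1⟩, hAtriv⟩
    let e₁ : G ≃* Matrix.SpecialLinearGroup (Fin 2) F₀ := e.trans MulEquiv.prodUnique
    obtain ⟨n, -, hn⟩ := FiniteField.card F₀ 2
    have hn2 : 2 ≤ (n : ℕ) := by
      by_contra hlt
      have hn1 : (n : ℕ) = 1 := by
        have := n.pos
        omega
      rw [hn1] at hn
      apply Cfsg.Agent.S5748.not_card_six hnc
      rw [Nat.card_congr e₁.toEquiv, Cfsg.Agent.Lib.ClassicalSmall.card_SL2, hn]
      norm_num
    letI : Fintype (GaloisField 2 (n : ℕ)) := Fintype.ofFinite _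
    have hcard : Fintype.card F₀ = Fintype.card (GaloisField 2 (n : ℕ)) := by
      rw [hn, ← Nat.card_eq_fintype_card (α := GaloisField 2 (n : ℕ)), GaloisField.card 2 (n : ℕ) n.ne_zero]
    let θ : F₀ ≃+* GaloisField 2 (n : ℕ) := FiniteField.ringEquivOfCardEq hcard
    exact ⟨n, hn2, ⟨(e₁.trans Cfsg.Agent.Lib.CTSL71.pslEquiv.symm).trans (Cfsg.Agent.Lib.SLTransfer.pslEquiv θ)⟩⟩

end Cfsg.Agent.Lib.TICent71
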