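import Mathlib
import Cfsg.Agent.Lib.TIHall
import Cfsg.Agent.Lib.ZStruct
import Cfsg.Agent.Lib.ExtraThreeAct
import Cfsg.Agent.Lib.Q8Aut
import Cfsg.Agent.Lib.ThreePrimes

/-!
# TI subgroups, Hall in their normalizer: the solvability criterion
-/

set_option autoImplicit false
set_option linter.style.haveILetI false
set_option linter.unusedSectionVars false

open scoped Pointwise commutatorElement

namespace Cfsg.Agent.Lib.TIHall2

open Cfsg.Agent.Lib.TIHall

universe u

variable {G : Type u} [Group G]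

/-- Automorphisms act on the abelianization. -/
noncomputable def abHom (K : Type u) [Group K] : MulAut K →* MulAut (Abelianization K) where
  toFun e := e.abelianizationCongr
  map_one' := by
    ext x
    refine QuotientGroup.induction_on x fun k => ?_
    rfl
  map_mul' e f := by
    ext x
    refine QuotientGroup.induction_on x fun k => ?_
    rfl

variable [Finite G]

/-- `H` acts fixed point freely on a nontrivial abelian group, if `O` is solvable. -/
theorem exists_fpf {H O : Subgroup G} (hTI : Cfsg.IsTISubset (H : Set G)) (hOn : O.Normal)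
    (hOc : (Nat.card O).Coprime (Nat.card H)) (hOs : Group.IsSolvable O)
    (hnot : ¬ O ≤ Subgroup.centralizer (H : Set G)) :
    ∃ (V : Type u) (_ : CommGroup V) (_ : Finite V) (_ : Nontrivial V) (φ : H →* MulAut V),
      Cfsg.Agent.Lib.FpfNorm.IsFpf φ := by
  classical
  have hHN : H ≤ Subgroup.normalizer (O : Set G) := by
    rw [Subgroup.normalizer_eq_top_iff.2 hOn]; exact le_top
  set K : Subgroup G := ⁅O, H⁆ with hK
  have hKO : K ≤ O := Cfsg.Agent.Lib.Glauberman.commutator_le_of_le_normalizer hHN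
  have hHK : H ≤ Subgroup.normalizer (K : Set G) :=
    Cfsg.Agent.Lib.Glauberman.le_normalizer_commutator hHN
  have hcopK : (Nat.card H).Coprime (Nat.card K) :=
    Nat.Coprime.coprime_dvd_right (Subgroup.card_dvd_of_le hKO) hOc.symm
  have hKK : ⁅K, H⁆ = K :=
    Cfsg.Agent.Lib.Glauberman.commutator_commutator_eq hHN hOc.symm (Or.inr hOs)
  have hKne : K ≠ ⊥ := by
    intro h
    exact hnot (Subgroup.commutator_eq_bot_iff_le_centralizer.1 h)
  haveI hKs : Group.IsSolvable K := Cfsg.Agent.Lib.Coprime.isSolvable_of_le hKO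
  haveI hKnt : Nontrivial K := (Subgroup.nontrivial_iff_ne_bot K).2 hKne
  -- `⁅K, K⁆` is normalized by `H`
  set N : Subgroup G := ⁅K, K⁆ with hN
  have hHNN : H ≤ Subgroup.normalizer (N : Set G) := by
    intro a ha
    rw [Subgroup.mem_normalizer_iff_map_conj_eq, Subgroup.map_commutator]
    have h1 := Subgroup.mem_normalizer_iff_map_conj_eq.mp (hHK ha)
    rw [h1]
  have hNK : N ≤ K := Subgroup.commutator_le.2 fun a ha b hb => by
    rw [commutatorElement_def]
    exact K.mul_mem (K.mul_mem (K.mul_mem ha hb) (K.inv_mem ha)) (K.inv_mem hb)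
  have hKN : K ≤ Subgroup.normalizer (N : Set G) := by
    intro a ha
    rw [Subgroup.mem_normalizer_iff_map_conj_eq, Subgroup.map_commutator]
    have h1 := Subgroup.mem_normalizer_iff_map_conj_eq.mp (Subgroup.le_normalizer ha)
    rw [h1]
  refine ⟨Abelianization K, inferInstance, inferInstance, ?_,
    (abHom K).comp (K.normalizerMonoidHom.comp (Subgroup.inclusion hHK)), ?_⟩
  · by_contra hs
    rw [not_nontrivial_iff_subsingleton] at hs
    have hlt := Group.IsSolvable.commutator_lt_top_of_nontrivial K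
    apply hlt.ne
    rw [eq_top_iff]
    intro x _
    have h1 : Abelianization.of x = 1 := Subsingleton.elim _ _
    rw [← Abelianization.ker_of]
    exact h1
  · intro a ha v hv
    obtain ⟨k, rfl⟩ : ∃ k : K, v = Abelianization.of k := by
      obtain ⟨k, hk⟩ := QuotientGroup.mk_surjective v
      exact ⟨k, hk.symm⟩
    -- the fixed point equation
    have hv2 : Abelianization.of (⟨(a : G) * k * (a : G)⁻¹, (Subgroup.mem_normalizer_iff.1 (hHK a.2) k).1 k.2⟩ : K) =
        Abelianization.of k := hv
    have hv3 : (⟨(a : G) * k * (a : G)⁻¹, (Subgroup.mem_normalizer_iff.1 (hHK a.2) k).1 k.2⟩ : K) * k⁻¹ ∈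
        commutator K := by
      rw [← Abelianization.ker_of, MonoidHom.mem_ker, map_mul, hv2, map_inv, mul_inv_cancel]
    have hv4 : (a : G) * k * (a : G)⁻¹ * (k : G)⁻¹ ∈ N := by
      have h1 := Subgroup.mem_map_of_mem K.subtype hv3
      rw [commutator_def, Subgroup.map_commutator] at h1
      have h2 : (⊤ : Subgroup K).map K.subtype = K := by
        rw [← MonoidHom.range_eq_map, Subgroup.range_subtype]
      rw [h2] at h1
      simpa using h1
    set A := Subgroup.zpowers (a : G) with hA
    have hAH : A ≤ H := (Subgroup.zpowers_le).2 a.2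
    have hpow : ∀ n : ℕ, (a : G) ^ n * k * ((a : G) ^ n)⁻¹ * (k : G)⁻¹ ∈ N := by
      intro n
      induction n with
      | zero => simp
      | succ n ih =>
        have h1 : (a : G) ^ (n + 1) * k * ((a : G) ^ (n + 1))⁻¹ * (k : G)⁻¹ =
            (a : G) * ((a : G) ^ n * k * ((a : G) ^ n)⁻¹ * (k : G)⁻¹) * (a : G)⁻¹ *
              ((a : G) * k * (a : G)⁻¹ * (k : G)⁻¹) := by
          rw [pow_succ']
          group
        rw [h1]
        exact N.mul_mem ((Subgroup.mem_normalizer_iff.1 (hHNN a.2) _).1 ih) hv4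
    have hfix : ∀ b ∈ A, b * k * b⁻¹ * (k : G)⁻¹ ∈ N := by
      intro b hb
      obtain ⟨n, rfl⟩ := mem_powers_iff_mem_zpowers.2 hb
      exact hpow n
    have hcopA : (Nat.card A).Coprime (Nat.card K) :=
      Nat.Coprime.coprime_dvd_left (Subgroup.card_dvd_of_le hAH) hcopK
    obtain ⟨c, hc, hcN⟩ := Cfsg.Agent.Lib.Glauberman.exists_mem_centralizer_of_coset_fixed hcopA
      (Or.inr hKs) hNK hKN (hAH.trans hHNN) (k : G) k.2 hfix
    have ha1 : (a : G) ≠ 1 := fun h => ha (Subtype.ext h)
    have hcC : c ∈ Subgroup.centralizer (H : Set G) := by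
      apply centralizer_of_fix hTI hOn hOc (hKO hc.1) a.2 ha1
      exact (Subgroup.mem_centralizer_iff.1 hc.2 (a : G) (Subgroup.mem_zpowers _)).symm
    have hcN2 : c ∈ N := inf_cent_le_comm hHK hcopK hKK.ge ⟨hc.1, hcC⟩
    have hkN : (k : G) ∈ N := by
      have h1 : (k : G) = c * (((k : G))⁻¹ * c)⁻¹ := by group
      rw [h1]
      exact N.mul_mem hcN2 (N.inv_mem hcN)
    have hk3 : k ∈ commutator K := by
      rw [hN, ← Subgroup.map_subtype_commutator] at hkN
      obtain ⟨z, hz, hze⟩ := hkN
      have : z = k := Subtype.ext hze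
      rwa [← this]
    rw [← Abelianization.ker_of] at hk3
    exact hk3

/-- `H` is solvable if `O` is and `H` has no subgroup `SL₂(5)`. -/
theorem isSolvable_H {H O : Subgroup G} (hTI : Cfsg.IsTISubset (H : Set G)) (hOn : O.Normal)
    (hOc : (Nat.card O).Coprime (Nat.card H)) (hOs : Group.IsSolvable O)
    (hnot : ¬ O ≤ Subgroup.centralizer (H : Set G))
    (hno : ∀ K : Subgroup G, K ≤ H → ¬ Nonempty (K ≃* Matrix.SpecialLinearGroup (Fin 2) (ZMod 5))) :
    Group.IsSolvable H := by
  by_contra hns
  obtain ⟨V, i1, i2, i3, φ, hφ⟩ := exists_fpf hTI hOn hOc hOs hnot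
  obtain ⟨G₀, -, -, S, M, -, -, -, ⟨e⟩, -, -⟩ := Cfsg.Agent.Lib.ZStruct.nonsolv_struct hns hφ
  apply hno (S.map H.subtype) (Subgroup.map_subtype_le _)
  exact ⟨(S.equivMapOfInjective H.subtype H.subtype_injective).symm.trans e⟩

/-- Normalizing subgroups have relative index dividing the index. -/
theorem relIndex_dvd_index_of_le_normalizer {H C : Subgroup G}
    (hle : C ≤ Subgroup.normalizer (H : Set G)) : H.relIndex C ∣ H.index := by
  have h1 := Cfsg.Agent.Lib.CoprimeInv.card_sup_mul_card_inf hle
  have h2 : H.relIndex (C ⊔ H) * Nat.card H = Nat.card (C ⊔ H : Subgroup G) :=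
    Cfsg.Agent.Lib.Coprime.relIndex_mul_card_of_le le_sup_right
  have h3 : H.relIndex C * Nat.card (C ⊓ H : Subgroup G) = Nat.card C := by
    rw [← Subgroup.inf_relIndex_left C H]
    exact Cfsg.Agent.Lib.Coprime.relIndex_mul_card_of_le inf_le_left
  have hHpos : 0 < Nat.card H := Nat.card_pos
  have hIpos : 0 < Nat.card (C ⊓ H : Subgroup G) := Nat.card_pos
  have h4 : H.relIndex C = H.relIndex (C ⊔ H) := by
    apply Nat.eq_of_mul_eq_mul_right (Nat.mul_pos hHpos hIpos)
    calc H.relIndex C * (Nat.card H * Nat.card (C ⊓ H : Subgroup G))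
        = Nat.card H * (H.relIndex C * Nat.card (C ⊓ H : Subgroup G)) := by ring
      _ = Nat.card H * Nat.card C := by rw [h3]
      _ = Nat.card C * Nat.card H := by ring
      _ = Nat.card (C ⊔ H : Subgroup G) * Nat.card (C ⊓ H : Subgroup G) := h1.symm
      _ = H.relIndex (C ⊔ H) * Nat.card H * Nat.card (C ⊓ H : Subgroup G) := by rw [h2]
      _ = H.relIndex (C ⊔ H) * (Nat.card H * Nat.card (C ⊓ H : Subgroup G)) := by ring
  rw [h4, ← Subgroup.relIndex_mul_index (le_sup_right : H ≤ C ⊔ H)]
  exact Dvd.intro _ rfl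

/-- The centralizer of `H` lies in `O H`. -/
theorem centralizer_le_sup {H O : Subgroup G} (hOn : O.Normal)
    (hOc : (Nat.card O).Coprime (Nat.card H))
    (hOm : ∀ K : Subgroup G, K.Normal → (Nat.card K).Coprime (Nat.card H) → K ≤ O)
    (hHi : (Nat.card H).Coprime H.index)
    (htop : O ⊔ Subgroup.normalizer (H : Set G) = ⊤) :
    Subgroup.centralizer (H : Set G) ≤ O ⊔ H := by
  classical
  set C := Subgroup.centralizer (H : Set G) with hC
  set S₀ : Subgroup C := H.subgroupOf C with hS₀
  have hCN : C ≤ Subgroup.normalizer (H : Set G) := by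
    intro c hc
    rw [Subgroup.mem_normalizer_iff]
    intro y
    have hcomm := Subgroup.mem_centralizer_iff.1 hc
    constructor
    · intro hy
      have := hcomm y hy
      rw [← this]
      simpa using hy
    · intro hy
      have h3 := hcomm _ hy
      have h4 : y = c⁻¹ * (c * y * c⁻¹) * c := by group
      have h5 : c⁻¹ * (c * y * c⁻¹) * c = c * y * c⁻¹ := by
        rw [mul_assoc, h3]; group
      rw [h4, h5]
      exact hy
  have hS₀c : S₀ ≤ Subgroup.center C := by
    intro x hx
    rw [Subgroup.mem_center_iff]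
    intro y
    apply Subtype.ext
    exact (Subgroup.mem_centralizer_iff.1 y.2 (x : G) hx).symm
  have hS₀i : S₀.index ∣ H.index := relIndex_dvd_index_of_le_normalizer hCN
  have hS₀card : Nat.card S₀ ∣ Nat.card H := by
    have h1 : Nat.card S₀ = Nat.card (S₀.map C.subtype) :=
      (Subgroup.card_map_of_injective C.subtype_injective).symm
    rw [h1, hS₀, Subgroup.subgroupOf_map_subtype]
    exact Subgroup.card_dvd_of_le inf_le_left
  have hcopS : (Nat.card S₀).Coprime S₀.index :=
    Nat.Coprime.coprime_dvd_left hS₀card (Nat.Coprime.coprime_dvd_right hS₀i hHi)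
  haveI hS₀n : S₀.Normal := by
    refine ⟨fun n hn g => ?_⟩
    have h1 := Subgroup.mem_center_iff.1 (hS₀c hn) g
    rw [h1, mul_inv_cancel_right]
    exact hn
  obtain ⟨T₀, hT₀⟩ := Subgroup.exists_left_complement'_of_coprime hcopS
  have hsup : T₀ ⊔ S₀ = ⊤ := hT₀.sup_eq_top
  have htcard : S₀.index = Nat.card T₀ := hT₀.index_eq_card
  set t := Nat.card T₀ with ht
  set E₀ := T₀.map C.subtype with hE₀
  have hE₀card : Nat.card E₀ = t := Subgroup.card_map_of_injective C.subtype_injective
  have hdecomp : ∀ x : C, ∃ e ∈ T₀, ∃ s ∈ S₀, x = e * s := by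
    intro x
    have hx : x ∈ T₀ ⊔ S₀ := by rw [hsup]; trivial
    obtain ⟨e, he, s, hs, rfl⟩ := Subgroup.mem_sup_of_normal_right.mp hx
    exact ⟨e, he, s, hs, rfl⟩
  have hEmem : ∀ x, x ∈ C → x ^ t = 1 → x ∈ E₀ := by
    intro x hxC hxt
    obtain ⟨e, he, s, hs, hes⟩ := hdecomp ⟨x, hxC⟩
    have hcomm : Commute e s := (Subgroup.mem_center_iff.1 (hS₀c hs) e)
    have h1 : (e * s) ^ t = e ^ t * s ^ t := hcomm.mul_pow t
    have h2 : e ^ t = 1 := by
      have := pow_card_eq_one' (x := (⟨e, he⟩ : T₀))
      exact congrArg Subtype.val this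
    have h3 : (⟨x, hxC⟩ : C) ^ t = 1 := Subtype.ext hxt
    rw [hes, h1, h2, one_mul] at h3
    have h4 : orderOf s ∣ t := orderOf_dvd_of_pow_eq_one h3
    have h5 : orderOf s ∣ Nat.card S₀ := by
      have := Subgroup.orderOf_dvd_natCard S₀ hs
      exact this
    have h6 : (Nat.card S₀).Coprime t := by rw [← htcard]; exact hcopS
    have h7 : orderOf s = 1 := Nat.eq_one_of_dvd_coprimes h6 h5 h4
    have h8 : s = 1 := orderOf_eq_one_iff.1 h7
    rw [h8, mul_one] at hes
    refine ⟨e, he, ?_⟩
    rw [← hes]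
    rfl
  have hEmem' : ∀ x ∈ E₀, x ∈ C ∧ x ^ t = 1 := by
    rintro _ ⟨e, he, rfl⟩
    refine ⟨e.2, ?_⟩
    have := pow_card_eq_one' (x := (⟨e, he⟩ : T₀))
    have h2 : e ^ t = 1 := congrArg Subtype.val this
    have h3 := congrArg Subtype.val h2
    simpa using h3
  -- conjugation invariance of `E₀`
  have hNE : ∀ n ∈ Subgroup.normalizer (H : Set G), ∀ x ∈ E₀, n * x * n⁻¹ ∈ E₀ := by
    intro n hn x hx
    obtain ⟨hxC, hxt⟩ := hEmem' x hx
    apply hEmem
    · rw [Subgroup.mem_centralizer_iff]
      intro h hh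
      have h1 : n⁻¹ * h * n ∈ H := by
        have := (Subgroup.mem_normalizer_iff.1 (Subgroup.inv_mem _ hn) h).1 hh
        simpa using this
      have h2 := Subgroup.mem_centralizer_iff.1 hxC _ h1
      calc h * (n * x * n⁻¹) = n * ((n⁻¹ * h * n) * x) * n⁻¹ := by group
        _ = n * (x * (n⁻¹ * h * n)) * n⁻¹ := by rw [h2]
        _ = n * x * n⁻¹ * h := by group
    · rw [conj_pow, hxt]
      group
  set R := O ⊔ E₀ with hR
  have hRn : R.Normal := by
    apply Cfsg.Agent.Lib.OddLocalB.normal_of_sup_eq_top htop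
    · intro a ha m hm
      exact R.mul_mem (R.mul_mem (Subgroup.mem_sup_left ha) hm) (R.inv_mem (Subgroup.mem_sup_left ha))
    · intro b hb m hm
      have hle : R ≤ R.comap (MulAut.conj b).toMonoidHom := by
        apply sup_le
        · intro x hx
          exact Subgroup.mem_sup_left (hOn.conj_mem x hx b)
        · intro x hx
          exact Subgroup.mem_sup_right (hNE b hb x hx)
      exact hle hm
  have htH : t.Coprime (Nat.card H) := by
    rw [← htcard]
    exact (Nat.Coprime.coprime_dvd_right hS₀i hHi).symm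
  have hRc : (Nat.card R).Coprime (Nat.card H) := by
    have h1 : Nat.card (E₀ ⊔ O : Subgroup G) = O.relIndex E₀ * Nat.card O :=
      @Cfsg.Agent.Lib.Coprime.card_sup_eq G _ _ E₀ O hOn
    rw [hR, sup_comm, h1]
    apply Nat.Coprime.mul_left _ hOc
    apply Nat.Coprime.coprime_dvd_left (Subgroup.relIndex_dvd_card _ _)
    rw [hE₀card]
    exact htH
  have hRO : R ≤ O := hOm R hRn hRc
  have hEO : E₀ ≤ O := le_sup_right.trans hRO
  intro x hx
  obtain ⟨e, he, s, hs, hes⟩ := hdecomp ⟨x, hx⟩
  have h1 : x = (e : G) * (s : G) := congrArg Subtype.val hes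
  rw [h1]
  exact Subgroup.mul_mem _ (Subgroup.mem_sup_left (hEO ⟨e, he, rfl⟩)) (Subgroup.mem_sup_right hs)

/-- An action on a group with commuting automorphisms makes commutators act trivially. -/
theorem comm_mem_centralizer {Q P : Subgroup G} (hQP : Q ≤ Subgroup.normalizer (P : Set G))
    (hψ : ∀ a b : Q, (P.normalizerMonoidHom.comp (Subgroup.inclusion hQP)) a *
      (P.normalizerMonoidHom.comp (Subgroup.inclusion hQP)) b =
      (P.normalizerMonoidHom.comp (Subgroup.inclusion hQP)) b *
      (P.normalizerMonoidHom.comp (Subgroup.inclusion hQP)) a)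
    {x y : G} (hx : x ∈ Q) (hy : y ∈ Q) : ⁅x, y⁆ ∈ Subgroup.centralizer (P : Set G) := by
  set ψ := P.normalizerMonoidHom.comp (Subgroup.inclusion hQP) with hψdef
  have h1 : ψ ⁅(⟨x, hx⟩ : Q), (⟨y, hy⟩ : Q)⁆ = 1 := by
    rw [map_commutatorElement, commutatorElement_eq_one_iff_commute]
    exact hψ _ _
  rw [Subgroup.mem_centralizer_iff]
  intro u hu
  have h2 := congrArg (fun f : MulAut P => ((f ⟨u, hu⟩ : P) : G)) h1
  have h3 : ⁅x, y⁆ * u * ⁅x, y⁆⁻¹ = u := h2
  exact (mul_inv_eq_iff_eq_mul.1 h3).symm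

/-- The image of a group acting on a Sylow subgroup of `H` is commutative. -/
theorem comm_action {H O Q : Subgroup G} (hTI : Cfsg.IsTISubset (H : Set G))
    (hnn : ¬ H.Normal) (hOn : O.Normal)
    (hOc : (Nat.card O).Coprime (Nat.card H)) (hOs : Group.IsSolvable O)
    (htop : O ⊔ Subgroup.normalizer (H : Set G) = ⊤)
    (hcop : (Nat.card Q).Coprime (Nat.card H))
    {p : ℕ} [hp : Fact p.Prime] (P : Sylow p H)
    (hQP : Q ≤ Subgroup.normalizer (((P : Subgroup H).map H.subtype : Subgroup G) : Set G)) :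
    ∀ a b : Q, (((P : Subgroup H).map H.subtype).normalizerMonoidHom.comp (Subgroup.inclusion hQP)) a *
      (((P : Subgroup H).map H.subtype).normalizerMonoidHom.comp (Subgroup.inclusion hQP)) b =
      (((P : Subgroup H).map H.subtype).normalizerMonoidHom.comp (Subgroup.inclusion hQP)) b *
      (((P : Subgroup H).map H.subtype).normalizerMonoidHom.comp (Subgroup.inclusion hQP)) a := by
  classical
  set P' : Subgroup G := (P : Subgroup H).map H.subtype with hP'
  set ψ := P'.normalizerMonoidHom.comp (Subgroup.inclusion hQP) with hψ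
  have hnot := not_le_centralizer hnn htop
  let e : (P : Subgroup H) ≃* P' := (P : Subgroup H).equivMapOfInjective H.subtype H.subtype_injective
  have hcyc : IsCyclic (P : Subgroup H) → ∀ a b : Q, ψ a * ψ b = ψ b * ψ a := by
    intro hc
    haveI : IsCyclic P' := isCyclic_of_surjective e e.surjective
    intro a b
    apply (IsCyclic.mulAutMulEquiv P').injective
    rw [map_mul, map_mul, mul_comm]
  rcases sylow_cyclic_or_quat hTI hnn hOn hOc htop P with hc | ⟨hp2, -⟩
  · exact hcyc hc
  · -- `p = 2`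
    subst hp2
    by_cases h2H : 2 ∣ Nat.card H
    swap
    · apply hcyc
      have h3 : Nat.card (P : Subgroup H) = 1 := by
        obtain ⟨k, hk⟩ := IsPGroup.iff_card.mp P.isPGroup'
        have hdvd : Nat.card (P : Subgroup H) ∣ Nat.card H := Subgroup.card_subgroup_dvd_card _
        rw [hk] at hdvd ⊢
        rcases k with _ | k
        · simp
        · exact absurd ((dvd_pow_self 2 (Nat.succ_ne_zero k)).trans hdvd) h2H
      rw [Subgroup.card_eq_one.1 h3]
      infer_instance
    obtain ⟨V, i1, i2, i3, φ, hφ⟩ := exists_fpf hTI hOn hOc hOs hnot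
    have hP'p : IsPGroup 2 P' := P.isPGroup'.map H.subtype
    have hP'H : P' ≤ H := by
      rintro _ ⟨y, _, rfl⟩
      exact y.2
    have huniq : ∀ x y : P', orderOf x = 2 → orderOf y = 2 → x = y := by
      intro x y hx hy
      have hxH : ((x : G)) ∈ H := hP'H x.2
      have hyH : ((y : G)) ∈ H := hP'H y.2
      have hx1 : (⟨(x : G), hxH⟩ : H) ≠ 1 := by
        intro h
        have h2 : (x : G) = 1 := congrArg Subtype.val h
        have h3 : x = 1 := Subtype.ext h2
        rw [h3, orderOf_one] at hx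
        omega
      have hy1 : (⟨(y : G), hyH⟩ : H) ≠ 1 := by
        intro h
        have h2 : (y : G) = 1 := congrArg Subtype.val h
        have h3 : y = 1 := Subtype.ext h2
        rw [h3, orderOf_one] at hy
        omega
      have hx2 : (⟨(x : G), hxH⟩ : H) * ⟨(x : G), hxH⟩ = 1 := by
        have h1 : x ^ 2 = 1 := by rw [← hx]; exact pow_orderOf_eq_one x
        rw [sq] at h1
        have h2 : (x : G) * (x : G) = 1 := congrArg Subtype.val h1
        exact Subtype.ext h2
      have hy2 : (⟨(y : G), hyH⟩ : H) * ⟨(y : G), hyH⟩ = 1 := by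
        have h1 : y ^ 2 = 1 := by rw [← hy]; exact pow_orderOf_eq_one y
        rw [sq] at h1
        have h2 : (y : G) * (y : G) = 1 := congrArg Subtype.val h1
        exact Subtype.ext h2
      have h := Cfsg.Agent.Lib.ZStruct.invol_unique hφ hx1 hx2 hy1 hy2
      exact Subtype.ext (Subtype.mk_eq_mk.1 h)
    set I := ψ.range with hI
    by_cases hIb : Nat.card I = 1
    · intro a b
      have hsub : Subsingleton I := (Nat.card_eq_one_iff_unique.1 hIb).1
      have h1 : (⟨ψ a, a, rfl⟩ : I) = ⟨1, 1, map_one ψ⟩ := Subsingleton.elim _ _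
      have h2 : (⟨ψ b, b, rfl⟩ : I) = ⟨1, 1, map_one ψ⟩ := Subsingleton.elim _ _
      have h3 : ψ a = 1 := congrArg Subtype.val h1
      have h4 : ψ b = 1 := congrArg Subtype.val h2
      rw [h3, h4]
    · -- a nontrivial element of prime order
      have hIdvd : Nat.card I ∣ Nat.card Q := by
        have hsurj : Function.Surjective ψ.rangeRestrict := ψ.rangeRestrict_surjective
        exact Subgroup.card_dvd_of_surjective _ hsurj
      have hI2 : ¬ 2 ∣ Nat.card I := by
        intro h
        have h1 := h.trans hIdvd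
        have := Nat.eq_one_of_dvd_coprimes hcop h1 h2H
        omega
      obtain ⟨q, hq, hqd⟩ := Nat.exists_prime_and_dvd hIb
      haveI : Fact q.Prime := ⟨hq⟩
      have hq2 : q ≠ 2 := by
        rintro rfl
        exact hI2 hqd
      obtain ⟨f, hf⟩ := exists_prime_orderOf_dvd_card' (G := I) q hqd
      have hf1 : (f : MulAut P') ^ q ^ 1 = 1 := by
        rw [pow_one]
        have h1 : f ^ q = 1 := by rw [← hf]; exact pow_orderOf_eq_one f
        have h2 := congrArg Subtype.val h1
        simpa using h2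
      have hne : (f : MulAut P') ≠ 1 := by
        intro h
        have h1 : f = 1 := Subtype.ext h
        rw [h1, orderOf_one] at hf
        exact hq.one_lt.ne hf
      obtain ⟨iso⟩ := Cfsg.Agent.Lib.ExtraThreeAct.quat_of_aut hP'p huniq (f : MulAut P') hq2 hf1 hne
      have hAut : Nat.card (MulAut P') = 24 := by
        rw [Nat.card_congr (MulAut.congr iso).toEquiv]
        exact Cfsg.Agent.Lib.Q8Aut.card_aut
      have hI24 : Nat.card I ∣ 24 := by
        rw [← hAut]
        exact Subgroup.card_subgroup_dvd_card I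
      have hcop2 : (Nat.card I).Coprime (2 ^ 3) :=
        Nat.Coprime.pow_right 3 ((Nat.Prime.coprime_iff_not_dvd Nat.prime_two).2 hI2).symm
      have hI3 : Nat.card I ∣ 3 := by
        have h24 : (24 : ℕ) = 2 ^ 3 * 3 := by norm_num
        rw [h24] at hI24
        exact Nat.Coprime.dvd_of_dvd_mul_left hcop2 hI24
      have hI3' : Nat.card I = 3 := by
        rcases (Nat.dvd_prime Nat.prime_three).1 hI3 with h | h
        · exact absurd h hIb
        · exact h
      haveI : Fact (Nat.Prime 3) := ⟨Nat.prime_three⟩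
      haveI : IsCyclic I := isCyclic_of_prime_card hI3'
      intro a b
      have h1 := (IsCyclic.isMulCommutative (α := I)).is_comm.comm (⟨ψ a, a, rfl⟩ : I) (⟨ψ b, b, rfl⟩ : I)
      exact congrArg Subtype.val h1

/-- The main solvability criterion. -/
theorem main_solvable {H O : Subgroup G} (hTI : Cfsg.IsTISubset (H : Set G)) (hnn : ¬ H.Normal)
    (hHall : (Nat.card H).Coprime (H.subgroupOf (Subgroup.normalizer (H : Set G))).index)
    (hOn : O.Normal) (hOc : (Nat.card O).Coprime (Nat.card H))
    (hOm : ∀ K : Subgroup G, K.Normal → (Nat.card K).Coprime (Nat.card H) → K ≤ O)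
    (htop : O ⊔ Subgroup.normalizer (H : Set G) = ⊤)
    (hOs : Group.IsSolvable O)
    (hno : ∀ K : Subgroup G, K ≤ H → ¬ Nonempty (K ≃* Matrix.SpecialLinearGroup (Fin 2) (ZMod 5))) :
    Group.IsSolvable G := by
  classical
  have hHi := coprime_card_index hTI hHall
  have hnot := not_le_centralizer hnn htop
  have hHs : Group.IsSolvable H := isSolvable_H hTI hOn hOc hOs hnot hno
  set X := Subgroup.normalizer (H : Set G) with hX
  have hHX : H ≤ X := Subgroup.le_normalizer
  haveI hn₀ : (H.subgroupOf X).Normal :=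
    (Subgroup.normal_subgroupOf_iff_le_normalizer hHX).mpr le_rfl
  have hc₀ : (Nat.card (H.subgroupOf X)).Coprime (H.subgroupOf X).index := by
    rw [Cfsg.Agent.Lib.Coprime.card_subgroupOf_of_le hHX]
    exact hHall
  obtain ⟨Q₀, hQ₀⟩ := Subgroup.exists_right_complement'_of_coprime hc₀
  set Q := Q₀.map X.subtype with hQdef
  have hQX : Q ≤ X := Subgroup.map_subtype_le _
  have hQcard : Nat.card Q = (H.subgroupOf X).index := by
    rw [hQdef, Subgroup.card_map_of_injective X.subtype_injective]
    exact hQ₀.symm.index_eq_card.symm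
  have hcop : (Nat.card Q).Coprime (Nat.card H) := by
    rw [hQcard]
    exact hHall.symm
  have hsupQ : H ⊔ Q = X := by
    have h1 : (H.subgroupOf X) ⊔ Q₀ = ⊤ := hQ₀.sup_eq_top
    have h2 := congrArg (Subgroup.map X.subtype) h1
    rw [Subgroup.map_sup, Subgroup.map_subgroupOf_eq_of_le hHX, ← MonoidHom.range_eq_map,
      Subgroup.range_subtype] at h2
    exact h2
  -- `Q` acts with commuting automorphisms on invariant Sylow subgroups
  have hcomm : ∀ x ∈ Q, ∀ y ∈ Q, ⁅x, y⁆ ∈ Subgroup.centralizer (H : Set G) := by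
    intro x hx y hy
    have htopC : (Subgroup.centralizer ({⁅x, y⁆} : Set G)).subgroupOf H = ⊤ := by
      apply Cfsg.Agent.Lib.CoprimeHyper.eq_top_of_forall_sylow_le'
      intro p _
      obtain ⟨P, hP⟩ := Cfsg.Agent.Lib.Glauberman2.exists_invariant_sylow (A := Q) (K := H) (hQX)
        hcop (Or.inr hHs) p
      refine ⟨P, ?_⟩
      intro u hu
      have h1 := comm_mem_centralizer hP
        (comm_action hTI hnn hOn hOc hOs htop hcop P hP) hx hy
      have h2 : (u : G) ∈ ((P : Subgroup H).map H.subtype) := ⟨u, hu, rfl⟩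
      have h3 := Subgroup.mem_centralizer_iff.1 h1 _ h2
      rw [Subgroup.mem_subgroupOf, Subgroup.mem_centralizer_iff]
      intro z hz
      rw [Set.mem_singleton_iff] at hz
      rw [hz]
      exact h3.symm
    rw [Subgroup.mem_centralizer_iff]
    intro h hh
    have h1 : (⟨h, hh⟩ : H) ∈ (Subgroup.centralizer ({⁅x, y⁆} : Set G)).subgroupOf H := by
      rw [htopC]; trivial
    have h2 := Subgroup.mem_centralizer_iff.1 h1 ⁅x, y⁆ rfl
    exact h2.symm
  set N := O ⊔ H with hN
  have hNn : N.Normal := sup_normal_of_top hOn htop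
  have hHO : H ≤ Subgroup.normalizer (O : Set G) := by
    rw [Subgroup.normalizer_eq_top_iff.2 hOn]; exact le_top
  have hNs : Group.IsSolvable N := by
    have := Cfsg.Agent.Lib.ThreePrimes.isSolvable_sup_of_le_normalizer O H hHO hOs hHs
    rw [hN, sup_comm]
    exact this
  have hCN := centralizer_le_sup hOn hOc hOm hHi htop
  have hcommG : commutator G ≤ N := by
    have hsup : N ⊔ Q = ⊤ := by
      rw [eq_top_iff, ← htop, ← hsupQ, hN]
      exact sup_le (le_sup_of_le_left le_sup_left)
        (sup_le (le_sup_of_le_left le_sup_right) le_sup_right)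
    apply Cfsg.Agent.Lib.OddLocalB.commutator_le_of_sup_eq_top hsup
    · exact Subgroup.commutator_le_left N N
    · exact Subgroup.commutator_le_left N Q
    · rw [Subgroup.commutator_le]
      intro x hx y hy
      exact hCN (hcomm x hx y hy)
  -- solvability from the abelian quotient
  haveI hq : Group.IsSolvable (G ⧸ N) := by
    apply Group.isSolvable_of_comm
    intro a b
    refine QuotientGroup.induction_on a fun x => ?_
    refine QuotientGroup.induction_on b fun y => ?_
    rw [← QuotientGroup.mk_mul, ← QuotientGroup.mk_mul, QuotientGroup.eq]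
    have h1 : (x * y)⁻¹ * (y * x) = ⁅y⁻¹, x⁻¹⁆ := by
      rw [commutatorElement_def]; group
    rw [h1]
    exact hcommG (Subgroup.commutator_mem_commutator (Subgroup.mem_top _) (Subgroup.mem_top _))
  exact Group.isSolvable_of_ker_le_range N.subtype (QuotientGroup.mk' N) (by
    rw [QuotientGroup.ker_mk', Subgroup.range_subtype])

end Cfsg.Agent.Lib.TIHall2
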