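import Mathlib
import Cfsg.Agent.Lib.TcLevels

/-!
# Comparison of representations, second part

Checks along a list of points; the order of a subgroup from a representation on part of the points;
injectivity of a representation on a group from its injectivity on a point stabiliser.
-/

set_option autoImplicit false
set_option linter.unusedSimpArgs false
set_option linter.unusedSectionVars false

namespace Cfsg.Agent.Lib.TcLevels

open Cfsg.Agent.Lib.TcFacts Cfsg.Agent.Lib.TcBits Cfsg.Agent.Lib.TcPres Cfsg.Agent.Lib.TcRel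
  Cfsg.Agent.Lib.TcChain Cfsg.Agent.Lib.TcAbs

/-- A check along a list with the positions. -/
def allB (f : ℕ → ℕ → Bool) : List ℕ → ℕ → Bool
  | [], _ => true
  | b :: l, i => f b i && allB f l (i + 1)

theorem allB_spec {f : ℕ → ℕ → Bool} {l : List ℕ} {s : ℕ} (h : allB f l s = true) :
    ∀ i, i < l.length → f (l.getD i 0) (s + i) = true := by
  induction l generalizing s with
  | nil => intro i hi; simp at hi
  | cons b l ih =>
    simp only [allB, Bool.and_eq_true] at h
    intro i hi
    cases i with
    | zero => simpa using h.1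
    | succ i =>
      have h2 := ih h.2 i (by simpa using hi)
      have e : s + (i + 1) = s + 1 + i := by omega
      rw [e]
      simpa using h2

/-- A check of equal bits along a list with the positions. -/
theorem of_allB_beq {l : List ℕ} {F G : ℕ → Bool}
    (h : allB (fun b i => F b == G i) l 0 = true) :
    ∀ i, i < l.length → F (l.getD i 0) = G i := by
  intro i hi
  have h1 := allB_spec h i hi
  rw [zero_add] at h1
  exact beq_iff_eq.mp h1

/-- A check of set bits along a list with the positions. -/
theorem of_allB_set {l : List ℕ} {F : ℕ → Bool}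
    (h : allB (fun b _ => F b) l 0 = true) :
    ∀ i, i < l.length → F (l.getD i 0) = true := by
  intro i hi
  exact allB_spec h i hi

/-- The points of a list separated by masks are distinct. -/
theorem beta_inj {kH n : ℕ} (hnk : n ≤ 2 ^ kH) {β : ℕ → ℕ} {M : ℕ → ℕ}
    (hM : ∀ j, j < kH → ∀ i, i < n → (M j).testBit (β i) = i.testBit j) :
    ∀ i i', i < n → i' < n → β i = β i' → i = i' := by
  intro i i' hi hi' h
  apply Nat.eq_of_testBit_eq
  intro j
  by_cases hj : j < kH
  · rw [← hM j hj i hi, ← hM j hj i' hi', h]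
  · have hk : 2 ^ kH ≤ 2 ^ j := Nat.pow_le_pow_right (by norm_num) (by omega)
    rw [Nat.testBit_lt_two_pow (lt_of_lt_of_le (lt_of_lt_of_le hi hnk) hk),
      Nat.testBit_lt_two_pow (lt_of_lt_of_le (lt_of_lt_of_le hi' hnk) hk)]

/-- A mask with as many bits as a list of distinct points in it consists of the points. -/
theorem mem_of_count {O k n : ℕ} (hO : O < 2 ^ 2 ^ k) (hc : popC k O = n) {β : ℕ → ℕ}
    (hβ : ∀ i i', i < n → i' < n → β i = β i' → i = i')
    (hOb : ∀ i, i < n → O.testBit (β i) = true) :
    ∀ q, O.testBit q = true → ∃ i, i < n ∧ β i = q := by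
  have hA : {q | O.testBit q = true}.ncard = n := by
    rw [ncard_mask hO, sumRange_eq_popC, hc]
  have hfin : {q | O.testBit q = true}.Finite := by
    apply Set.Finite.subset (Set.finite_lt_nat (2 ^ k))
    intro q hq
    by_contra hc'
    have h1 : 2 ^ k ≤ q := by simpa using hc'
    have h2 : O < 2 ^ q := lt_of_lt_of_le hO (Nat.pow_le_pow_right (by norm_num) h1)
    have h3 : O.testBit q = true := hq
    rw [Nat.testBit_lt_two_pow h2] at h3
    exact Bool.noConfusion h3
  have hB : (β '' Set.Iio n).ncard = n := by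
    rw [Set.ncard_image_of_injOn, Set.ncard_eq_toFinset_card']
    · simp
    · intro a ha b hb hab
      exact hβ a b ha hb hab
  have hsub : β '' Set.Iio n ⊆ {q | O.testBit q = true} := by
    rintro _ ⟨i, hi, rfl⟩
    exact hOb i hi
  have heq := Set.eq_of_subset_of_ncard_le hsub (by rw [hA, hB]) hfin
  intro q hq
  have : q ∈ β '' Set.Iio n := by rw [heq]; exact hq
  obtain ⟨i, hi, rfl⟩ := this
  exact ⟨i, hi, rfl⟩

variable {α : Type} [DecidableEq α] {R R' : Set (FreeGroup α)}

/-- The order of the image of a subgroup and injectivity there, from injectivity of a composition. -/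
theorem card_of_transport (hRR : ∀ r ∈ R, PresentedGroup.mk R' r = 1) (Φ : PresentedGroup R' →* Equiv.Perm ℕ)
    (S : List α) (hinj : Set.InjOn (fun g => Φ (piOf hRR g)) (subOf R S)) :
    Nat.card (subOf R' S) = Nat.card (subOf R S) ∧ Set.InjOn Φ (subOf R' S) := by
  have hmem : ∀ k : subOf R S, piOf hRR k.1 ∈ subOf R' S := fun k => by
    rw [← map_subOf hRR S]
    exact Subgroup.mem_map_of_mem _ k.2
  let f : subOf R S →* subOf R' S :=
    ((piOf hRR).comp (subOf R S).subtype).codRestrict (subOf R' S) hmem
  have hf : Function.Surjective f := by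
    rintro ⟨y, hy⟩
    rw [← map_subOf hRR S] at hy
    obtain ⟨k, hk, rfl⟩ := hy
    exact ⟨⟨k, hk⟩, rfl⟩
  have hfi : Function.Injective f := by
    intro a b hab
    have h1 : piOf hRR a.1 = piOf hRR b.1 := congrArg Subtype.val hab
    exact Subtype.ext (hinj a.2 b.2 (congrArg Φ h1))
  refine ⟨(Nat.card_congr (Equiv.ofBijective f ⟨hfi, hf⟩)).symm, ?_⟩
  intro a ha b hb hab
  rw [SetLike.mem_coe, ← map_subOf hRR S] at ha hb
  obtain ⟨a', ha', rfl⟩ := ha
  obtain ⟨b', hb', rfl⟩ := hb
  rw [hinj ha' hb' hab]

/-- A representation injective on a point stabiliser is injective. -/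
theorem inj_of_injOn_stab {Γ : Type*} [Group Γ] {Φ : Γ →* Equiv.Perm ℕ} (H : Subgroup Γ)
    (hfix : ∀ h ∈ H, Φ h 0 = 0) (hβ : Function.Injective (betaF H Φ hfix))
    (hinj : Set.InjOn Φ H) : Function.Injective Φ := by
  rw [injective_iff_map_eq_one]
  intro g hg
  have h1 : betaF H Φ hfix (g : Γ ⧸ H) = betaF H Φ hfix ((1 : Γ) : Γ ⧸ H) := by
    rw [betaF_mk, betaF_mk, hg]
    simp
  have h2 := hβ h1
  have h3 : g ∈ H := by
    have := QuotientGroup.eq.mp h2.symm
    simpa using this
  exact hinj h3 H.one_mem (by rw [hg, map_one])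

/-- A run over masks with the counts given. -/
noncomputable def primFoldD : List (ℕ × ℕ) → ℕ → ℕ → Option (ℕ × ℕ)
  | [], U, R => some (U, R)
  | e :: l, U, R =>
    if Nat.land U e.1 = 0 then
      primFoldD l (Nat.lor U e.1) (Nat.lor R (Nat.shiftLeft R e.2))
    else none

theorem primFold_eq_D (k : ℕ) (l : List (ℕ × ℕ)) (h : ∀ e ∈ l, popC k e.1 = e.2) (U R : ℕ) :
    primFold k (l.map Prod.fst) U R = primFoldD l U R := by
  induction l generalizing U R with
  | nil => rfl
  | cons e l ih =>
    simp only [List.map_cons, primFold, primFoldD, sumRange_eq_popC]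
    rw [h e List.mem_cons_self]
    split_ifs
    · exact ih (fun x hx => h x (List.mem_cons_of_mem _ hx)) _ _
    · rfl

end Cfsg.Agent.Lib.TcLevels
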