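import Mathlib
import Cfsg.Prelude.Def_LocalEven
import Cfsg.Agent.Lib.NPCThompson
import Cfsg.Agent.Lib.PermFourSection
import Cfsg.Agent.Lib.ChainStab
import Cfsg.Agent.Lib.AbReplace
import Cfsg.Agent.Lib.CoprimeHyper
import Cfsg.Agent.Lib.SubnormalP
import Cfsg.Agent.Lib.PLocalTools
import Cfsg.Agent.Lib.ZJCore3

/-!
# The final configuration of the normal `p`-complement reduction at the prime two

Local analysis of `Config 2 X T K`, given a normal elementary abelian subgroup `V` with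
`C(V) = O₂(X)` and a member of `𝒜(T)` not contained in `O₂(X)`: a section `S₄` arises.
-/

set_option autoImplicit false
set_option linter.unusedSectionVars false

open scoped commutatorElement

namespace Cfsg.Agent.Lib.ThompsonNPC1

open Cfsg Cfsg.Agent.Lib.PCore Cfsg.Agent.Lib.NPCBasic Cfsg.Agent.Lib.CharTwoLocal
open Cfsg.Agent.Lib.NPCConfig Cfsg.Agent.Lib.ChainStab Cfsg.Agent.Lib.ZJCore3

universe u

section Config

variable {p : ℕ} [hp : Fact p.Prime] {X : Type u} [Group X] [Finite X] {T K : Subgroup X}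

theorem config_pCore_le (h : Config p X T K) : pCore p X ≤ T := by
  rw [← h.inf_eq]; exact inf_le_right

theorem config_pCore_le_K (h : Config p X T K) : pCore p X ≤ K := by
  rw [← h.inf_eq]; exact inf_le_left

/-- The action of `T` on `K / O_p` is faithful modulo `O_p`. -/
theorem mem_pCore_of_comm (h : Config p X T K) (hT : IsPGroup p T) {t : X} (ht : t ∈ T)
    (hk : ∀ k ∈ K, ⁅k, t⁆ ∈ pCore p X) : t ∈ pCore p X := by
  set L := pCore p X with hL
  have hKn : K.Normal := h.normal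
  have hLn : L.Normal := inferInstance
  have hLT : L ≤ T := config_pCore_le h
  have hLN : ∀ x : X, x ∈ Subgroup.normalizer (L : Set X) := fun x => by
    rw [Subgroup.normalizer_eq_top_iff.mpr hLn]; trivial
  have hKN : ∀ x : X, x ∈ Subgroup.normalizer (K : Set X) := fun x => by
    rw [Subgroup.normalizer_eq_top_iff.mpr hKn]; trivial
  set D := stabSub K L ⊓ T with hD
  have hDn : D.Normal := by
    rw [← Subgroup.normalizer_eq_top_iff, eq_top_iff, ← h.sup_eq]
    refine sup_le ?_ ?_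
    · intro k hk'
      apply Cfsg.Agent.Lib.Replacement.mem_normalizer_of_forall
      rintro d ⟨hd1, hd2⟩
      refine ⟨conj_mem_stabSub hd1 (hKN k) (hLN k), ?_⟩
      have h1 : k * d * k⁻¹ = ⁅k, d⁆ * d := by
        rw [commutatorElement_def]; group
      rw [h1]
      exact T.mul_mem (hLT (hd1.2 k hk')) hd2
    · intro t' ht'
      apply Cfsg.Agent.Lib.Replacement.mem_normalizer_of_forall
      rintro d ⟨hd1, hd2⟩
      exact ⟨conj_mem_stabSub hd1 (hKN t') (hLN t'), T.mul_mem (T.mul_mem ht' hd2) (T.inv_mem ht')⟩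
  have hDp : IsPGroup p D := hT.to_le inf_le_right
  exact le_pCore hDn hDp ⟨⟨hLN t, hk⟩, ht⟩

/-- `x ^ m, x ^ n ∈ L` with `m, n` coprime implies `x ∈ L`. -/
theorem mem_of_pows_mem {L : Subgroup X} {x : X} {m n : ℕ} (hm : x ^ m ∈ L) (hn : x ^ n ∈ L)
    (hc : m.Coprime n) : x ∈ L := by
  have h1 : (m : ℤ) * Nat.gcdA m n + (n : ℤ) * Nat.gcdB m n = 1 := by
    have := Nat.gcd_eq_gcd_ab m n
    rw [hc] at this
    simpa using this.symm
  have h2 : x = (x ^ m) ^ (Nat.gcdA m n) * (x ^ n) ^ (Nat.gcdB m n) := by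
    calc x = x ^ ((1 : ℤ)) := by simp
      _ = x ^ ((m : ℤ) * Nat.gcdA m n + (n : ℤ) * Nat.gcdB m n) := by rw [h1]
      _ = _ := by
          rw [zpow_add, zpow_mul, zpow_mul, zpow_natCast, zpow_natCast]
  rw [h2]
  exact L.mul_mem (L.zpow_mem hm _) (L.zpow_mem hn _)

/-- An element of `K` with a `p`-power in `O_p` lies in `O_p`. -/
theorem mem_pCore_of_pow (h : Config p X T K) {c : X} (hc : c ∈ K) {j : ℕ} (hj : c ^ p ^ j ∈ pCore p X) :
    c ∈ pCore p X := by
  obtain ⟨n, hn, hnK⟩ := h.pow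
  exact mem_of_pows_mem hj (hnK c hc) (Nat.Coprime.pow_left j hn.symm)

end Config

section Chain

/-- A small stability chain on an abelian group of exponent two. -/
theorem chain_abs {W : Type*} [Group W] (hc : ∀ x y : W, x * y = y * x) (hi : ∀ x : W, x * x = 1)
    (φ : W →* W) {u u' : W} (h0 : ∀ v, φ v = v ∨ φ v = u * v ∨ φ v = u' * v ∨ φ v = u * u' * v)
    (h1 : φ u' = u') (h2 : φ u = u ∨ φ u = u * u') (v : W) : φ (φ (φ (φ v))) = v := by
  have hlc : ∀ x y z : W, x * (y * z) = y * (x * z) := fun x y z => by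
    rw [← mul_assoc, hc x y, mul_assoc]
  have hcan : ∀ x y : W, x * (x * y) = y := fun x y => by rw [← mul_assoc, hi, one_mul]
  have key : ∀ v, φ (φ v) = v ∨ φ (φ v) = u' * v := by
    intro v
    rcases h0 v with h | h | h | h <;> rw [h]
    · rw [h]; exact Or.inl rfl
    · rw [map_mul, h]
      rcases h2 with h3 | h3 <;> rw [h3]
      · left; rw [hcan]
      · right; simp only [mul_assoc]; rw [hc u' (u * v)]; simp only [mul_assoc]; rw [hlc u, hcan, hc]
    · rw [map_mul, h, h1]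
      left; rw [hcan]
    · rw [map_mul, map_mul, h, h1]
      rcases h2 with h3 | h3 <;> rw [h3]
      · left
        simp only [mul_assoc]
        rw [hlc u', hcan, hcan]
      · right
        simp only [mul_assoc]
        rw [hcan, hcan]
  rcases key v with h | h
  · rw [h, h]
  · rw [h, map_mul, map_mul, h1, h1, h, hcan]

/-- Translation of the chain lemma: an element `g` moving `V` through `{1,u,u',uu'}`. -/
theorem chain_conj {X : Type*} [Group X] {V : Subgroup X} [hVn : V.Normal]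
    (hVc : ∀ x ∈ V, ∀ y ∈ V, x * y = y * x) (hV2 : ∀ v ∈ V, v * v = 1) {g u u' : X}
    (hu : u ∈ V) (hu' : u' ∈ V)
    (h0 : ∀ v ∈ V, g * v * g⁻¹ = v ∨ g * v * g⁻¹ = u * v ∨ g * v * g⁻¹ = u' * v ∨ g * v * g⁻¹ = u * u' * v)
    (h1 : g * u' * g⁻¹ = u') (h2 : g * u * g⁻¹ = u ∨ g * u * g⁻¹ = u * u') :
    ∀ v ∈ V, g ^ 4 * v * (g ^ 4)⁻¹ = v := by
  intro v hv
  let φ : V →* V := (MulAut.conjNormal g : MulAut V).toMonoidHom
  have hφ : ∀ x : V, ((φ x : V) : X) = g * x * g⁻¹ := fun x => MulAut.conjNormal_apply g x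
  have key := chain_abs (W := V) (fun x y => Subtype.ext (hVc _ x.2 _ y.2))
    (fun x => Subtype.ext (hV2 _ x.2)) φ (u := ⟨u, hu⟩) (u' := ⟨u', hu'⟩)
    (by
      intro x
      rcases h0 x x.2 with h | h | h | h
      · exact Or.inl (Subtype.ext (by rw [hφ]; exact h))
      · exact Or.inr (Or.inl (Subtype.ext (by rw [hφ]; exact h)))
      · exact Or.inr (Or.inr (Or.inl (Subtype.ext (by rw [hφ]; exact h))))
      · exact Or.inr (Or.inr (Or.inr (Subtype.ext (by rw [hφ]; exact h)))))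
    (Subtype.ext (by rw [hφ]; exact h1))
    (by
      rcases h2 with h | h
      · exact Or.inl (Subtype.ext (by rw [hφ]; exact h))
      · exact Or.inr (Subtype.ext (by rw [hφ]; exact h)))
    ⟨v, hv⟩
  have h3 := congrArg Subtype.val key
  simp only [hφ] at h3
  have h4 : g ^ 4 = g * g * g * g := by simp only [pow_succ, pow_zero, one_mul]
  calc g ^ 4 * v * (g ^ 4)⁻¹ = g * (g * (g * (g * v * g⁻¹) * g⁻¹) * g⁻¹) * g⁻¹ := by rw [h4]; group
    _ = v := h3

end Chain

section Data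

/-- The data of the final analysis. -/
structure Data (X : Type u) [Group X] (T K V A : Subgroup X) : Prop where
  cfg : Config 2 X T K
  hT : IsPGroup 2 T
  Vn : V.Normal
  Vc : ∀ x ∈ V, ∀ y ∈ V, x * y = y * x
  V2 : ∀ v ∈ V, v * v = 1
  CV : Subgroup.centralizer (V : Set X) = pCore 2 X
  VL : V ≤ pCore 2 X
  AT : A ≤ T
  Ac : ∀ x ∈ A, ∀ y ∈ A, x * y = y * x
  AV : V ≤ Subgroup.normalizer (A : Set X)
  Amax : ∀ B : Subgroup X, B ≤ T → (∀ x ∈ B, ∀ y ∈ B, x * y = y * x) → Nat.card B ≤ Nat.card A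

variable {X : Type u} [Group X] {T K V A : Subgroup X}

theorem Data.comm_L (d : Data X T K V A) {l v : X} (hl : l ∈ pCore 2 X) (hv : v ∈ V) :
    l * v = v * l := by
  have h1 : l ∈ Subgroup.centralizer (V : Set X) := by rw [d.CV]; exact hl
  exact ((Subgroup.mem_centralizer_iff.mp h1) v hv).symm

theorem Data.conj_V (d : Data X T K V A) (g : X) {v : X} (hv : v ∈ V) : g * v * g⁻¹ ∈ V :=
  d.Vn.conj_mem v hv g

/-- `[A, V] ≤ A ∩ V`. -/
theorem Data.comm_mem (d : Data X T K V A) {a v : X} (ha : a ∈ A) (hv : v ∈ V) : ⁅a, v⁆ ∈ A ⊓ V := by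
  constructor
  · have h1 : v * a⁻¹ * v⁻¹ ∈ A :=
      (Subgroup.mem_normalizer_iff.mp (d.AV hv) a⁻¹).mp (A.inv_mem ha)
    have h2 : ⁅a, v⁆ = a * (v * a⁻¹ * v⁻¹) := by rw [commutatorElement_def]; group
    rw [h2]
    exact A.mul_mem ha h1
  · rw [commutatorElement_def]
    exact V.mul_mem (d.conj_V a hv) (V.inv_mem hv)

theorem Data.conj_eq (d : Data X T K V A) {a v : X} (ha : a ∈ A) (hv : v ∈ V) :
    a * v * a⁻¹ = ⁅a, v⁆ * v := by
  rw [commutatorElement_def]; group

/-- `A ∩ V` is centralized by `A`. -/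
theorem Data.comm_mem_comm (d : Data X T K V A) {a v b : X} (ha : a ∈ A) (hv : v ∈ V) (hb : b ∈ A) :
    b * ⁅a, v⁆ = ⁅a, v⁆ * b := d.Ac _ hb _ (d.comm_mem ha hv).1

/-- `a² ∈ O₂`. -/
theorem Data.sq_mem (d : Data X T K V A) {a : X} (ha : a ∈ A) : a * a ∈ pCore 2 X := by
  rw [← d.CV, Subgroup.mem_centralizer_iff]
  intro v hv
  have hv' : v ∈ V := hv
  set c := ⁅a, v⁆ with hc
  have hcA : c ∈ A := (d.comm_mem ha hv').1
  have hcV : c ∈ V := (d.comm_mem ha hv').2
  have h1 : a * v * a⁻¹ = c * v := d.conj_eq ha hv'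
  have h2 : a * c = c * a := d.Ac _ ha _ hcA
  have h3 : a * (a * v * a⁻¹) * a⁻¹ = v := by
    rw [h1]
    calc a * (c * v) * a⁻¹ = (a * c) * v * a⁻¹ := by group
      _ = c * (a * v * a⁻¹) := by rw [h2]; group
      _ = c * (c * v) := by rw [h1]
      _ = (c * c) * v := by group
      _ = v := by rw [d.V2 c hcV, one_mul]
  calc v * (a * a) = (a * (a * v * a⁻¹) * a⁻¹) * (a * a) := by rw [h3]
    _ = a * a * v := by group

end Data

end Cfsg.Agent.Lib.ThompsonNPC1
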