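import Mathlib
import Cfsg.Agent.Lib.ThompsonNPC1

/-!
# The final step: an element of `A` with `|V : C_V(a)| = 2` yields a section `S₄`
-/

set_option autoImplicit false
set_option linter.unusedSectionVars false

open scoped commutatorElement

namespace Cfsg.Agent.Lib.ThompsonNPC1

open Cfsg Cfsg.Agent.Lib.PCore Cfsg.Agent.Lib.NPCBasic Cfsg.Agent.Lib.CharTwoLocal
open Cfsg.Agent.Lib.NPCConfig Cfsg.Agent.Lib.ChainStab Cfsg.Agent.Lib.ZJCore3

universe u

variable {X : Type u} [Group X] [Finite X] {T K V A : Subgroup X}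

theorem comm_mem_normal {K : Subgroup X} (hKn : K.Normal) {k : X} (hk : k ∈ K) (a : X) : ⁅k, a⁆ ∈ K := by
  have e : ⁅k, a⁆ = k * (a * k⁻¹ * a⁻¹) := by rw [commutatorElement_def]; group
  rw [e]
  exact K.mul_mem hk (hKn.conj_mem _ (K.inv_mem hk) a)

/-- In the quotient, `⁅⁅k, a⁆, a⁆ = ⁅k, a⁆²` when `a² = 1`. -/
theorem comm_comm_sq {Y : Type*} [Group Y] {a k : Y} (ha : a * a = 1) : ⁅⁅k, a⁆, a⁆ = ⁅k, a⁆ * ⁅k, a⁆ := by
  have hinv : a⁻¹ = a := inv_eq_of_mul_eq_one_left ha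
  have h1 : (⁅k, a⁆)⁻¹ = a * k * a * k⁻¹ := by
    rw [commutatorElement_inv, commutatorElement_def, hinv]
  rw [commutatorElement_def ⁅k, a⁆ a, h1, hinv]
  have h2 : ⁅k, a⁆ = k * a * k⁻¹ * a := by rw [commutatorElement_def, hinv]
  have h3 : a * (a * k * a * k⁻¹) * a = k * a * k⁻¹ * a := by
    calc a * (a * k * a * k⁻¹) * a = (a * a) * k * a * k⁻¹ * a := by group
      _ = k * a * k⁻¹ * a := by rw [ha, one_mul]
  calc ⁅k, a⁆ * a * (a * k * a * k⁻¹) * a = ⁅k, a⁆ * (a * (a * k * a * k⁻¹) * a) := by group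
    _ = ⁅k, a⁆ * ⁅k, a⁆ := by rw [h3, ← h2]

theorem Data.final (d : Data X T K V A) {a w : X} (ha : a ∈ A) (haL : a ∉ pCore 2 X)
    (hw : ∀ v ∈ V, ⁅a, v⁆ = 1 ∨ ⁅a, v⁆ = w) : Involves (Equiv.Perm (Fin 4)) X := by
  classical
  set L := pCore 2 X with hL
  have hKn : K.Normal := d.cfg.normal
  have haT : a ∈ T := d.AT ha
  have : V.Normal := d.Vn
  -- (1)
  obtain ⟨k, hk, hkL⟩ : ∃ k ∈ K, ⁅k, a⁆ ∉ L := by
    by_contra hcon
    push Not at hcon
    exact haL (mem_pCore_of_comm d.cfg d.hT haT hcon)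
  set d₀ := ⁅k, a⁆ with hd₀
  have hd₀K : d₀ ∈ K := comm_mem_normal hKn hk a
  -- (2)
  set e := ⁅d₀, a⁆ with he
  have heK : e ∈ K := comm_mem_normal hKn hd₀K a
  have heL : e ∉ L := by
    intro heL
    set q := QuotientGroup.mk' L with hq
    have hq1 : ∀ x, q x = 1 ↔ x ∈ L := fun x => QuotientGroup.eq_one_iff x
    have h1 : q a * q a = 1 := by rw [← map_mul, hq1]; exact d.sq_mem ha
    have h2 : q e = q d₀ * q d₀ := by
      rw [he, hd₀, map_commutatorElement, map_commutatorElement]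
      exact comm_comm_sq h1
    have h3 : d₀ ^ 2 ∈ L := by
      rw [← hq1, pow_two, map_mul, ← h2, hq1]; exact heL
    exact hkL (mem_pCore_of_pow d.cfg (j := 1) hd₀K (by simpa using h3))
  -- (3)
  obtain ⟨v₀, hv₀, hv₀a⟩ : ∃ v₀ ∈ V, ⁅a, v₀⁆ ≠ 1 := by
    by_contra hcon
    push Not at hcon
    apply haL
    rw [hL, ← d.CV, Subgroup.mem_centralizer_iff]
    intro v hv
    exact (commutatorElement_eq_one_iff_mul_comm.mp (hcon v hv)).symm
  have hwv₀ : ⁅a, v₀⁆ = w := (hw v₀ hv₀).resolve_left hv₀a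
  have hw1 : w ≠ 1 := hwv₀ ▸ hv₀a
  have hwAV : w ∈ A ⊓ V := hwv₀ ▸ d.comm_mem ha hv₀
  have hwA : w ∈ A := hwAV.1
  have hwV : w ∈ V := hwAV.2
  have hww : w * w = 1 := d.V2 w hwV
  -- conjugation form
  have hconj : ∀ {b y : X}, (∀ v ∈ V, ⁅b, v⁆ = 1 ∨ ⁅b, v⁆ = y) → ∀ v ∈ V,
      b * v * b⁻¹ = v ∨ b * v * b⁻¹ = y * v := by
    intro b y hb v hv
    have e1 : b * v * b⁻¹ = ⁅b, v⁆ * v := by rw [commutatorElement_def]; group
    rcases hb v hv with h | h
    · left; rw [e1, h, one_mul]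
    · right; rw [e1, h]
  have ha_conj := hconj hw
  have ha_inv : ∀ v ∈ V, a⁻¹ * v * a = v ∨ a⁻¹ * v * a = w * v := by
    intro v hv
    have hv' : a⁻¹ * v * a ∈ V := by simpa using d.conj_V a⁻¹ hv
    have e1 : a * (a⁻¹ * v * a) * a⁻¹ = v := by group
    rcases ha_conj _ hv' with h | h
    · left; rw [← h, e1]
    · right
      rw [e1] at h
      calc a⁻¹ * v * a = w * (w * (a⁻¹ * v * a)) := by rw [← mul_assoc, hww, one_mul]
        _ = w * v := by rw [← h]
  -- (4)
  set a' := d₀ * a * d₀⁻¹ with ha'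
  set w' := d₀ * w * d₀⁻¹ with hw'
  have hw'V : w' ∈ V := d.conj_V d₀ hwV
  have hw'1 : w' ≠ 1 := by
    intro h
    apply hw1
    have h2 : w = d₀⁻¹ * w' * d₀ := by rw [hw']; group
    rw [h2, h]; group
  have hw'w' : w' * w' = 1 := d.V2 w' hw'V
  have hcomm : w * w' = w' * w := d.Vc w hwV w' hw'V
  have ha'_comm : ∀ v ∈ V, ⁅a', v⁆ = 1 ∨ ⁅a', v⁆ = w' := by
    intro v hv
    have hv₁ : d₀⁻¹ * v * d₀ ∈ V := by simpa using d.conj_V d₀⁻¹ hv
    have e1 : ⁅a', v⁆ = d₀ * ⁅a, d₀⁻¹ * v * d₀⁆ * d₀⁻¹ := by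
      rw [commutatorElement_def, commutatorElement_def, ha']; group
    rcases hw _ hv₁ with h | h
    · left; rw [e1, h]; group
    · right; rw [e1, h]
  have ha'_conj := hconj ha'_comm
  have h_a_w : a * w * a⁻¹ = w := by
    rw [d.Ac a ha w hwA]; group
  have h_a'_w' : a' * w' * a'⁻¹ = w' := by
    have e1 : a' * w' * a'⁻¹ = d₀ * (a * w * a⁻¹) * d₀⁻¹ := by rw [ha', hw']; group
    rw [e1, h_a_w]
  have he_eq : e = a' * a⁻¹ := by rw [he, commutatorElement_def, ha']
  have he_conj : ∀ v, e * v * e⁻¹ = a' * (a⁻¹ * v * a) * a'⁻¹ := by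
    intro v; rw [he_eq]; group
  have hmap : ∀ x y, a' * (x * y) * a'⁻¹ = (a' * x * a'⁻¹) * (a' * y * a'⁻¹) := by
    intro x y; group
  -- the general shape of the action of `e`
  have hform : ∀ v ∈ V, e * v * e⁻¹ = v ∨ e * v * e⁻¹ = w * v ∨ e * v * e⁻¹ = w' * v ∨
      e * v * e⁻¹ = w * w' * v := by
    intro v hv
    rw [he_conj]
    rcases ha_inv v hv with h | h
    · rw [h]
      rcases ha'_conj v hv with h' | h'
      · exact Or.inl h'
      · exact Or.inr (Or.inr (Or.inl h'))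
    · rw [h, hmap]
      rcases ha'_conj w hwV with h1 | h1 <;> rcases ha'_conj v hv with h2 | h2 <;> rw [h1, h2]
      · exact Or.inr (Or.inl rfl)
      · right; right; right; exact (mul_assoc _ _ _).symm
      · right; right; right; rw [hcomm]
      · right; left
        calc w' * w * (w' * v) = (w * w') * (w' * v) := by rw [hcomm]
          _ = w * (w' * w') * v := by group
          _ = w * v := by rw [hw'w', mul_one]
  have hcontra : ¬ (∀ v ∈ V, e ^ 4 * v * (e ^ 4)⁻¹ = v) := by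
    intro h
    apply heL
    have h1 : e ^ 4 ∈ L := by
      rw [hL, ← d.CV, Subgroup.mem_centralizer_iff]
      intro v hv
      have := h v hv
      calc v * e ^ 4 = (e ^ 4 * v * (e ^ 4)⁻¹) * e ^ 4 := by rw [this]
        _ = e ^ 4 * v := by group
    exact mem_pCore_of_pow d.cfg (j := 2) heK (by simpa using h1)
  -- case analysis
  by_cases h1 : a * w' * a⁻¹ = w'
  · exfalso
    apply hcontra
    have h1' : a⁻¹ * w' * a = w' := by
      calc a⁻¹ * w' * a = a⁻¹ * (a * w' * a⁻¹) * a := by rw [h1]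
        _ = w' := by group
    refine chain_conj d.Vc d.V2 hwV hw'V hform ?_ ?_
    · rw [he_conj, h1', h_a'_w']
    · rw [he_conj]
      rcases ha_inv w hwV with h | h
      · rw [h]
        rcases ha'_conj w hwV with h' | h'
        · exact Or.inl h'
        · right; rw [h', hcomm]
      · exfalso
        rw [hww] at h
        apply hw1
        have h3 : a⁻¹ * w * a = w := by
          calc a⁻¹ * w * a = a⁻¹ * (a * w * a⁻¹) * a := by rw [h_a_w]
            _ = w := by group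
        rw [h3] at h
        exact h
  by_cases h2 : a' * w * a'⁻¹ = w
  · exfalso
    apply hcontra
    refine chain_conj (u := w') (u' := w) d.Vc d.V2 hw'V hwV ?_ ?_ ?_
    · intro v hv
      rcases hform v hv with h | h | h | h
      · exact Or.inl h
      · exact Or.inr (Or.inr (Or.inl h))
      · exact Or.inr (Or.inl h)
      · right; right; right; rw [h, hcomm]
    · rw [he_conj]
      have h3 : a⁻¹ * w * a = w := by
        calc a⁻¹ * w * a = a⁻¹ * (a * w * a⁻¹) * a := by rw [h_a_w]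
          _ = w := by group
      rw [h3, h2]
    · rw [he_conj]
      rcases ha_inv w' hw'V with h | h
      · rw [h, h_a'_w']; exact Or.inl rfl
      · rw [h, hmap, h2, h_a'_w']; right; rw [hcomm]
  -- the remaining case: a section `S₄`
  have h3 : a * w' * a⁻¹ = w * w' := (ha_conj w' hw'V).resolve_left h1
  have h4 : a' * w * a'⁻¹ = w * w' := by
    rw [((ha'_conj w hwV).resolve_left h2), hcomm]
  have hne : w ≠ w' := by
    intro h
    apply h2
    calc a' * w * a'⁻¹ = a' * w' * a'⁻¹ := by rw [← h]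
      _ = w' := h_a'_w'
      _ = w := h.symm
  exact Cfsg.Agent.Lib.PermFourSection.of_elements (a := a) (a' := a') hww hw'w' hcomm hw1 hw'1 hne
    h_a_w h3 h_a'_w' h4

end Cfsg.Agent.Lib.ThompsonNPC1
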