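import Mathlib
import Cfsg.Agent.Lib.ThompsonNPC2

/-!
# Minimal offenders: an element of `A` with `|V : C_V(a)| = 2`
-/

set_option autoImplicit false
set_option linter.unusedSectionVars false

open scoped commutatorElement

namespace Cfsg.Agent.Lib.ThompsonNPC1

open Cfsg Cfsg.Agent.Lib.PCore Cfsg.Agent.Lib.NPCBasic Cfsg.Agent.Lib.CharTwoLocal
open Cfsg.Agent.Lib.NPCConfig Cfsg.Agent.Lib.ChainStab Cfsg.Agent.Lib.ZJCore3

universe u

variable {X : Type u} [Group X] [Finite X] {T K V A : Subgroup X}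

/-- The offender condition. -/
def Off (V L A B : Subgroup X) : Prop :=
  Nat.card V * Nat.card ↥(A ⊓ L) ≤ Nat.card B * Nat.card ↥(V ⊓ Subgroup.centralizer (B : Set X))

theorem card_eq_relIndex_mul {H K : Subgroup X} (h : H ≤ K) : Nat.card K = H.relIndex K * Nat.card H := by
  have h1 := Subgroup.card_mul_index (H.subgroupOf K)
  rw [Nat.card_congr (Subgroup.subgroupOfEquivOfLe h).toEquiv] at h1
  rw [← h1, Subgroup.relIndex, mul_comm]

theorem Data.off_top (d : Data X T K V A) : Off V (pCore 2 X) A A := by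
  set L := pCore 2 X with hL
  set C := A ⊓ L with hCdef
  have : V.Normal := d.Vn
  have hCV : C ≤ Subgroup.normalizer (V : Set X) := by
    rw [Subgroup.normalizer_eq_top_iff.mpr d.Vn]; exact le_top
  have h1 := Cfsg.Agent.Lib.Replacement.card_sup_mul_card_inf C V hCV
  have hCV' : C ⊓ V = A ⊓ V := by
    ext x
    constructor
    · rintro ⟨⟨h1, -⟩, h3⟩; exact ⟨h1, h3⟩
    · rintro ⟨h1, h3⟩; exact ⟨⟨h1, d.VL h3⟩, h3⟩
  have hVT : V ≤ T := d.VL.trans (config_pCore_le d.cfg)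
  have hcomm := Cfsg.Agent.Lib.AbReplace.comm_sup C V
    (fun x hx y hy => d.Ac x hx.1 y hy.1) d.Vc (fun x hx y hy => d.comm_L hx.2 hy)
  have h2 : Nat.card ↥(C ⊔ V) ≤ Nat.card A :=
    d.Amax _ (sup_le (inf_le_left.trans d.AT) hVT) hcomm
  have h3 : Nat.card ↥(A ⊓ V) ≤ Nat.card ↥(V ⊓ Subgroup.centralizer (A : Set X)) := by
    apply Subgroup.card_le_of_le
    rintro x ⟨hx1, hx2⟩
    exact ⟨hx2, Subgroup.mem_centralizer_iff.mpr fun y hy => d.Ac y hy x hx1⟩
  unfold Off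
  rw [mul_comm (Nat.card V), ← h1, hCV']
  exact Nat.mul_le_mul h2 h3

/-- The case of index two. -/
theorem Data.two (d : Data X T K V A) {A₁ : Subgroup X} (hC : A ⊓ pCore 2 X ≤ A₁) (hA₁ : A₁ ≤ A)
    (hne : A₁ ≠ A ⊓ pCore 2 X) (hOff : Off V (pCore 2 X) A A₁) (hm : (A ⊓ pCore 2 X).relIndex A₁ = 2) :
    ∃ a ∈ A, a ∉ pCore 2 X ∧ ∃ w, ∀ v ∈ V, ⁅a, v⁆ = 1 ∨ ⁅a, v⁆ = w := by
  classical
  set L := pCore 2 X with hL
  set C := A ⊓ L with hCdef
  have : V.Normal := d.Vn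
  obtain ⟨a, ha1, haC⟩ := SetLike.exists_of_lt (lt_of_le_of_ne hC hne.symm)
  have haA : a ∈ A := hA₁ ha1
  have haL : a ∉ L := fun h => haC ⟨haA, h⟩
  refine ⟨a, haA, haL, ?_⟩
  set U : Subgroup X := V ⊓ Subgroup.centralizer ({a} : Set X) with hU
  have hmemU : ∀ {v : X}, v ∈ U ↔ v ∈ V ∧ a * v = v * a := by
    intro v
    constructor
    · rintro ⟨h1, h2⟩
      exact ⟨h1, Subgroup.mem_centralizer_iff.mp h2 a rfl⟩
    · rintro ⟨h1, h2⟩
      refine ⟨h1, Subgroup.mem_centralizer_iff.mpr ?_⟩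
      rintro _ rfl
      exact h2
  have hUle : U ≤ V ⊓ Subgroup.centralizer (A₁ : Set X) := by
    intro u hu
    obtain ⟨hu1, hu2⟩ := hmemU.mp hu
    refine ⟨hu1, Subgroup.mem_centralizer_iff.mpr ?_⟩
    intro b hb
    have hb' : b ∈ A₁ := hb
    by_cases hbC : b ∈ C
    · exact d.comm_L hbC.2 hu1
    · have hi : (C.subgroupOf A₁).index = 2 := hm
      have h1 : (⟨a, ha1⟩ * ⟨b, hb'⟩ : A₁) ∈ C.subgroupOf A₁ := by
        rw [Subgroup.mul_mem_iff_of_index_two hi]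
        exact iff_of_false haC hbC
      have h2 : a * b ∈ C := h1
      have h3 : (a * b) * u = u * (a * b) := d.comm_L h2.2 hu1
      have h4 : a * (b * u) = a * (u * b) := by
        calc a * (b * u) = (a * b) * u := by group
          _ = u * a * b := by rw [h3]; group
          _ = a * u * b := by rw [hu2]
          _ = a * (u * b) := by group
      exact mul_left_cancel h4
  have hcard : Nat.card V ≤ 2 * Nat.card U := by
    have h1 : Nat.card A₁ = 2 * Nat.card C := by rw [card_eq_relIndex_mul hC, hm]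
    have h2 : Nat.card ↥(V ⊓ Subgroup.centralizer (A₁ : Set X)) ≤ Nat.card U := by
      apply Subgroup.card_le_of_le
      rintro v ⟨hv1, hv2⟩
      exact hmemU.mpr ⟨hv1, (Subgroup.mem_centralizer_iff.mp hv2 a ha1)⟩
    have h3 : Nat.card V * Nat.card C ≤ 2 * Nat.card U * Nat.card C := by
      calc Nat.card V * Nat.card C ≤ Nat.card A₁ * Nat.card ↥(V ⊓ Subgroup.centralizer (A₁ : Set X)) := hOff
        _ ≤ (2 * Nat.card C) * Nat.card U := by rw [h1]; exact Nat.mul_le_mul_left _ h2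
        _ = 2 * Nat.card U * Nat.card C := by ring
    exact Nat.le_of_mul_le_mul_right h3 Nat.card_pos
  obtain ⟨v₀, hv₀, hv₀a⟩ : ∃ v₀ ∈ V, ⁅a, v₀⁆ ≠ 1 := by
    by_contra hcon
    push Not at hcon
    apply haL
    rw [hL, ← d.CV, Subgroup.mem_centralizer_iff]
    intro v hv
    exact (commutatorElement_eq_one_iff_mul_comm.mp (hcon v hv)).symm
  have hv₀U : v₀ ∉ U := fun h => hv₀a (commutatorElement_eq_one_iff_mul_comm.mpr (hmemU.mp h).2)
  have hUV : U ≤ V := inf_le_left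
  have hidx : U.relIndex V = 2 := by
    have h1 := card_eq_relIndex_mul hUV
    have hpos : 0 < Nat.card U := Nat.card_pos
    have h2 : U.relIndex V ≤ 2 := by
      rw [h1] at hcard
      exact Nat.le_of_mul_le_mul_right hcard hpos
    have h3 : U.relIndex V ≠ 0 := by
      intro h0
      rw [h0, zero_mul] at h1
      exact Nat.card_pos.ne' h1
    have h4 : U.relIndex V ≠ 1 := by
      intro h0
      exact hv₀U (Subgroup.relIndex_eq_one.mp h0 hv₀)
    omega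
  refine ⟨⁅a, v₀⁆, fun v hv => ?_⟩
  by_cases hvU : v ∈ U
  · exact Or.inl (commutatorElement_eq_one_iff_mul_comm.mpr (hmemU.mp hvU).2)
  · right
    have hi : (U.subgroupOf V).index = 2 := hidx
    have h1 : (⟨v₀, hv₀⟩ * ⟨v, hv⟩ : V) ∈ U.subgroupOf V := by
      rw [Subgroup.mul_mem_iff_of_index_two hi]
      exact iff_of_false hv₀U hvU
    have h2 : v₀ * v ∈ U := h1
    have h3 : a * (v₀ * v) = (v₀ * v) * a := (hmemU.mp h2).2
    have hc : ⁅a, v₀⁆ ∈ V := (d.comm_mem haA hv₀).2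
    have hc' : ⁅a, v⁆ ∈ V := (d.comm_mem haA hv).2
    have e1 : a * v₀ * a⁻¹ = ⁅a, v₀⁆ * v₀ := d.conj_eq haA hv₀
    have e2 : a * v * a⁻¹ = ⁅a, v⁆ * v := d.conj_eq haA hv
    have h4 : (⁅a, v₀⁆ * v₀) * (⁅a, v⁆ * v) = v₀ * v := by
      rw [← e1, ← e2]
      calc a * v₀ * a⁻¹ * (a * v * a⁻¹) = (a * (v₀ * v)) * a⁻¹ := by group
        _ = v₀ * v := by rw [h3]; group
    have h5 : (⁅a, v₀⁆ * v₀) * (⁅a, v⁆ * v) = v₀ * (⁅a, v₀⁆ * ⁅a, v⁆) * v := by
      rw [d.Vc _ hc _ hv₀]; group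
    rw [h5] at h4
    have h6 : ⁅a, v₀⁆ * ⁅a, v⁆ = 1 := by
      have h7 : v₀ * (⁅a, v₀⁆ * ⁅a, v⁆) * v = v₀ * 1 * v := by rw [h4, mul_one]
      exact mul_left_cancel (mul_right_cancel h7)
    calc ⁅a, v⁆ = (⁅a, v₀⁆ * ⁅a, v₀⁆) * ⁅a, v⁆ := by rw [d.V2 _ hc, one_mul]
      _ = ⁅a, v₀⁆ * (⁅a, v₀⁆ * ⁅a, v⁆) := by group
      _ = ⁅a, v₀⁆ := by rw [h6, mul_one]

/-- The case of index other than two is impossible for a minimal offender. -/
theorem Data.other (d : Data X T K V A) {A₁ : Subgroup X} (hC : A ⊓ pCore 2 X ≤ A₁) (hA₁ : A₁ ≤ A)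
    (hne : A₁ ≠ A ⊓ pCore 2 X) (hOff : Off V (pCore 2 X) A A₁) (hm : (A ⊓ pCore 2 X).relIndex A₁ ≠ 2)
    (hmin : ∀ B : Subgroup X, A ⊓ pCore 2 X ≤ B → B ≤ A → B ≠ A ⊓ pCore 2 X → Off V (pCore 2 X) A B →
      Nat.card A₁ ≤ Nat.card B) : False := by
  classical
  set L := pCore 2 X with hL
  set C := A ⊓ L with hCdef
  have hVn : V.Normal := d.Vn
  have hKn : K.Normal := d.cfg.normal
  set q := QuotientGroup.mk' L with hq
  have hq1 : ∀ x, q x = 1 ↔ x ∈ L := fun x => QuotientGroup.eq_one_iff x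
  have hqs : Function.Surjective q := QuotientGroup.mk'_surjective L
  set C₀ := V ⊓ Subgroup.centralizer (A₁ : Set X) with hC₀
  have hcomm_C₀ : ∀ a ∈ A₁, ∀ v ∈ V, ⁅a, v⁆ ∈ C₀ := by
    intro a ha v hv
    have h1 := d.comm_mem (hA₁ ha) hv
    exact ⟨h1.2, Subgroup.mem_centralizer_iff.mpr fun b hb => d.Ac b (hA₁ hb) _ h1.1⟩
  have hkey : ∀ Bb : Subgroup (X ⧸ L), Bb ≤ A₁.map q → Bb.relIndex (A₁.map q) ≤ 2 →
      V ⊓ Subgroup.centralizer ((Bb.comap q ⊓ A₁ : Subgroup X) : Set X) = C₀ := by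
    intro Bb hBb hidx
    set B := Bb.comap q ⊓ A₁ with hB
    have hBA₁ : B ≤ A₁ := inf_le_right
    have hCB : C ≤ B := by
      intro x hx
      refine ⟨?_, hC hx⟩
      show q x ∈ Bb
      rw [(hq1 x).mpr hx.2]
      exact Bb.one_mem
    have hidxB : B.relIndex A₁ = Bb.relIndex (A₁.map q) := by
      rw [hB, Subgroup.inf_relIndex_right, Subgroup.relIndex_comap]
    have hcardA₁ := card_eq_relIndex_mul hBA₁
    have hle : C₀ ≤ V ⊓ Subgroup.centralizer (B : Set X) :=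
      inf_le_inf_left _ (Subgroup.centralizer_le (SetLike.coe_mono hBA₁))
    apply le_antisymm ?_ hle
    have h00 : B.relIndex A₁ ≠ 0 := by
      intro h0
      rw [h0, zero_mul] at hcardA₁
      exact Nat.card_pos.ne' hcardA₁
    by_cases h1 : B.relIndex A₁ = 1
    · exact inf_le_inf_left _ (Subgroup.centralizer_le (SetLike.coe_mono (Subgroup.relIndex_eq_one.mp h1)))
    · have h2 : B.relIndex A₁ = 2 := by omega
      have hBne : B ≠ C := by
        intro h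
        rw [h] at h2
        exact hm h2
      have hBpos : 0 < Nat.card B := Nat.card_pos
      have hnot : ¬ Off V L A B := by
        intro hO
        have := hmin B hCB (hBA₁.trans hA₁) hBne hO
        rw [hcardA₁, h2] at this
        omega
      unfold Off at hnot hOff
      push Not at hnot
      have h3 : Nat.card B * Nat.card ↥(V ⊓ Subgroup.centralizer (B : Set X)) <
          Nat.card B * (2 * Nat.card C₀) := by
        calc _ < Nat.card V * Nat.card C := hnot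
          _ ≤ Nat.card A₁ * Nat.card C₀ := hOff
          _ = _ := by rw [hcardA₁, h2]; ring
      have h4 := Nat.lt_of_mul_lt_mul_left h3
      have h5 := card_eq_relIndex_mul hle
      rw [h5] at h4
      have h6 : C₀.relIndex (V ⊓ Subgroup.centralizer (B : Set X)) < 2 :=
        Nat.lt_of_mul_lt_mul_right h4
      have h7 : C₀.relIndex (V ⊓ Subgroup.centralizer (B : Set X)) ≠ 0 := by
        intro h0
        rw [h0, zero_mul] at h5
        exact Nat.card_pos.ne' h5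
      exact Subgroup.relIndex_eq_one.mp (by omega)
  -- `K` normalizes `C₀`
  have hKN : ∀ k ∈ K, k ∈ Subgroup.normalizer (C₀ : Set X) := by
    have hLN₀ : L ≤ Subgroup.normalizer (C₀ : Set X) := by
      intro l hl
      apply Cfsg.Agent.Lib.Replacement.mem_normalizer_of_forall
      intro v hv
      have h1 : l * v = v * l := d.comm_L hl hv.1
      rw [h1]
      simpa using hv
    have hKqn : (K.map q).Normal := hKn.map q hqs
    have hAK : A₁.map q ≤ Subgroup.normalizer ((K.map q : Subgroup (X ⧸ L)) : Set (X ⧸ L)) := by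
      rw [Subgroup.normalizer_eq_top_iff.mpr hKqn]; exact le_top
    have hKodd : ¬ 2 ∣ Nat.card ↥(K.map q) := by
      intro h2
      have : Fact (Nat.Prime 2) := ⟨Nat.prime_two⟩
      obtain ⟨x, hx⟩ := exists_prime_orderOf_dvd_card' (G := ↥(K.map q)) 2 h2
      obtain ⟨k, hk, hkx⟩ := x.2
      have hx2 : (x : X ⧸ L) ^ 2 = 1 := by
        have := pow_orderOf_eq_one x
        rw [hx] at this
        exact congrArg Subtype.val this
      have h3 : k ^ 2 ^ 1 ∈ L := by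
        rw [← hq1, pow_one, map_pow]
        show q k ^ 2 = 1
        rw [hkx]
        exact hx2
      have h4 : k ∈ L := mem_pCore_of_pow d.cfg hk h3
      have h5 : (x : X ⧸ L) = 1 := by rw [← hkx]; exact (hq1 k).mpr h4
      have h6 : x = 1 := Subtype.ext h5
      rw [h6, orderOf_one] at hx
      omega
    have hAc : IsMulCommutative ↥(A₁.map q) := by
      refine ⟨⟨?_⟩⟩
      rintro ⟨_, a, ha, rfl⟩ ⟨_, b, hb, rfl⟩
      apply Subtype.ext
      show q a * q b = q b * q a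
      rw [← map_mul, ← map_mul, d.Ac a (hA₁ ha) b (hA₁ hb)]
    have hA2 : ∀ a ∈ A₁.map q, a ^ 2 = 1 := by
      rintro _ ⟨a, ha, rfl⟩
      show q a ^ 2 = 1
      rw [pow_two, ← map_mul, hq1]
      exact d.sq_mem (hA₁ ha)
    have hiSup := Cfsg.Agent.Lib.CoprimeHyper.eq_iSup_inf_centralizer (A₁.map q) (K.map q) hAc hA2 hKodd hAK
    have hle : K.map q ≤ (Subgroup.normalizer (C₀ : Set X)).map q := by
      rw [hiSup]
      apply iSup_le
      rintro ⟨Bb, hBb, hBbi⟩ x ⟨⟨k, hk, rfl⟩, hxC⟩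
      refine ⟨k, ?_, rfl⟩
      apply Cfsg.Agent.Lib.Replacement.mem_normalizer_of_forall
      intro v hv
      have hB := hkey Bb hBb hBbi
      rw [← hB] at hv ⊢
      refine ⟨d.conj_V k hv.1, Subgroup.mem_centralizer_iff.mpr ?_⟩
      intro b hb
      have hb1 : q b ∈ Bb := hb.1
      have h1 : q b * q k = q k * q b := Subgroup.mem_centralizer_iff.mp hxC (q b) hb1
      have h2 : b⁻¹ * (k⁻¹ * b * k) ∈ L := by
        rw [← hq1, map_mul, map_mul, map_mul, map_inv, map_inv]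
        rw [mul_assoc (q k)⁻¹, h1]
        group
      have h3 : (b⁻¹ * (k⁻¹ * b * k)) * v = v * (b⁻¹ * (k⁻¹ * b * k)) := d.comm_L h2 hv.1
      have h4 : b * v = v * b := Subgroup.mem_centralizer_iff.mp hv.2 b hb
      have h5 : (k⁻¹ * b * k) * v = v * (k⁻¹ * b * k) := by
        calc (k⁻¹ * b * k) * v = b * ((b⁻¹ * (k⁻¹ * b * k)) * v) := by group
          _ = b * (v * (b⁻¹ * (k⁻¹ * b * k))) := by rw [h3]
          _ = (b * v) * (b⁻¹ * (k⁻¹ * b * k)) := by group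
          _ = v * (k⁻¹ * b * k) := by rw [h4]; group
      calc b * (k * v * k⁻¹) = k * ((k⁻¹ * b * k) * v) * k⁻¹ := by group
        _ = k * (v * (k⁻¹ * b * k)) * k⁻¹ := by rw [h5]
        _ = k * v * k⁻¹ * b := by group
    intro k hk
    obtain ⟨n, hn, hnk⟩ := hle ⟨k, hk, rfl⟩
    have h1 : n⁻¹ * k ∈ L := by
      rw [← hq1, map_mul, map_inv, ← hnk]
      simp
    have h2 : k = n * (n⁻¹ * k) := by group
    rw [h2]
    exact Subgroup.mul_mem _ hn (hLN₀ h1)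
  -- the commutators lie in `L`
  have hcL : ∀ k ∈ K, ∀ a ∈ A₁, ⁅k, a⁆ ∈ L := by
    intro k hk a ha
    have hcK : ⁅k, a⁆ ∈ K := comm_mem_normal hKn hk a
    apply mem_pCore_of_pow d.cfg (j := 1) hcK
    rw [pow_one, ← d.CV, Subgroup.mem_centralizer_iff]
    intro v hv
    have hv' : v ∈ V := hv
    set c := ⁅k, a⁆ with hc
    set a' := k * a * k⁻¹ with ha'
    have hc_eq : c = a' * a⁻¹ := by rw [hc, commutatorElement_def]
    have hfix_a : ∀ z ∈ C₀, a * z * a⁻¹ = z := by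
      intro z hz
      have h1 : a * z = z * a := Subgroup.mem_centralizer_iff.mp hz.2 a ha
      rw [h1]; group
    have hfix_ainv : ∀ z ∈ C₀, a⁻¹ * z * a = z := by
      intro z hz
      have h1 := hfix_a z hz
      calc a⁻¹ * z * a = a⁻¹ * (a * z * a⁻¹) * a := by rw [h1]
        _ = z := by group
    have hkinv : ∀ z ∈ C₀, k⁻¹ * z * k ∈ C₀ := by
      intro z hz
      have := (Subgroup.mem_normalizer_iff.mp (Subgroup.inv_mem _ (hKN k hk)) z).mp hz
      simpa using this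
    have hfix_a' : ∀ z ∈ C₀, a' * z * a'⁻¹ = z := by
      intro z hz
      have h1 := hfix_a _ (hkinv z hz)
      calc a' * z * a'⁻¹ = k * (a * (k⁻¹ * z * k) * a⁻¹) * k⁻¹ := by rw [ha']; group
        _ = z := by rw [h1]; group
    have hfix_c : ∀ z ∈ C₀, c * z * c⁻¹ = z := by
      intro z hz
      have h1 := hfix_ainv z hz
      calc c * z * c⁻¹ = a' * (a⁻¹ * z * a) * a'⁻¹ := by rw [hc_eq]; group
        _ = z := by rw [h1, hfix_a' z hz]
    have hv_a' : ∃ z ∈ C₀, a' * v * a'⁻¹ = z * v := by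
      have hv1 : k⁻¹ * v * k ∈ V := by simpa using d.conj_V k⁻¹ hv'
      refine ⟨k * ⁅a, k⁻¹ * v * k⁆ * k⁻¹,
        (Subgroup.mem_normalizer_iff.mp (hKN k hk) _).mp (hcomm_C₀ a ha _ hv1), ?_⟩
      rw [ha', commutatorElement_def]
      group
    have hv_a : ∃ z ∈ C₀, a⁻¹ * v * a = z * v := by
      refine ⟨⁅a⁻¹, v⁆, hcomm_C₀ a⁻¹ (A₁.inv_mem ha) v hv', ?_⟩
      rw [commutatorElement_def]
      group
    obtain ⟨z₂, hz₂, h2⟩ := hv_a'
    obtain ⟨z₁, hz₁, h1⟩ := hv_a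
    have hc_v : c * v * c⁻¹ = (z₁ * z₂) * v := by
      calc c * v * c⁻¹ = a' * (a⁻¹ * v * a) * a'⁻¹ := by rw [hc_eq]; group
        _ = a' * (z₁ * v) * a'⁻¹ := by rw [h1]
        _ = (a' * z₁ * a'⁻¹) * (a' * v * a'⁻¹) := by group
        _ = (z₁ * z₂) * v := by rw [hfix_a' z₁ hz₁, h2]; group
    have hz : z₁ * z₂ ∈ C₀ := C₀.mul_mem hz₁ hz₂
    have hzz : (z₁ * z₂) * (z₁ * z₂) = 1 := d.V2 _ hz.1
    have hcc : c * (c * v * c⁻¹) * c⁻¹ = v := by
      rw [hc_v]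
      calc c * (z₁ * z₂ * v) * c⁻¹ = (c * (z₁ * z₂) * c⁻¹) * (c * v * c⁻¹) := by group
        _ = (z₁ * z₂) * ((z₁ * z₂) * v) := by rw [hfix_c _ hz, hc_v]
        _ = ((z₁ * z₂) * (z₁ * z₂)) * v := by group
        _ = v := by rw [hzz, one_mul]
    rw [pow_two]
    calc v * (c * c) = (c * (c * v * c⁻¹) * c⁻¹) * (c * c) := by rw [hcc]
      _ = c * c * v := by group
  apply hne
  apply le_antisymm _ hC
  intro a ha
  exact ⟨hA₁ ha, mem_pCore_of_comm d.cfg d.hT (d.AT (hA₁ ha)) (fun k hk => hcL k hk a ha)⟩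

/-- The conclusion of the offender analysis. -/
theorem Data.exists_elem (d : Data X T K V A) (hA : ¬ A ≤ pCore 2 X) :
    ∃ a ∈ A, a ∉ pCore 2 X ∧ ∃ w, ∀ v ∈ V, ⁅a, v⁆ = 1 ∨ ⁅a, v⁆ = w := by
  classical
  set L := pCore 2 X with hL
  let 𝓑 : Set (Subgroup X) := {B | A ⊓ L ≤ B ∧ B ≤ A ∧ B ≠ A ⊓ L ∧ Off V L A B}
  have hA𝓑 : A ∈ 𝓑 := by
    refine ⟨inf_le_left, le_rfl, ?_, d.off_top⟩
    intro h
    apply hA
    exact h.le.trans inf_le_right
  obtain ⟨A₁, hA₁, hmin⟩ := Set.exists_min_image 𝓑 (fun B : Subgroup X => Nat.card B) (Set.toFinite _) ⟨A, hA𝓑⟩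
  by_cases hm : (A ⊓ L).relIndex A₁ = 2
  · exact d.two hA₁.1 hA₁.2.1 hA₁.2.2.1 hA₁.2.2.2 hm
  · exact (d.other hA₁.1 hA₁.2.1 hA₁.2.2.1 hA₁.2.2.2 hm
      (fun B h1 h2 h3 h4 => hmin B ⟨h1, h2, h3, h4⟩)).elim

end Cfsg.Agent.Lib.ThompsonNPC1
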