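import Mathlib
import Cfsg.Agent.Lib.ThompsonNPC3

/-!
# Thompson's normal `p`-complement theorem, abelian version of `J`, for `p` odd or `S₄`-free groups
-/

set_option autoImplicit false
set_option linter.unusedSectionVars false

open scoped commutatorElement

namespace Cfsg.Agent.Lib.ThompsonNPC1

open Cfsg Cfsg.Agent.Lib.PCore Cfsg.Agent.Lib.NPCBasic Cfsg.Agent.Lib.CharTwoLocal
open Cfsg.Agent.Lib.NPCConfig Cfsg.Agent.Lib.ChainStab Cfsg.Agent.Lib.ZJCore3
open Cfsg.Agent.Lib.AbReplace

universe u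

section General

variable {X : Type u} [Group X] [Finite X]

/-- `J(T)` as a supremum inside the ambient group. -/
theorem thompsonA_eq_sSup (T : Subgroup X) :
    thompsonSubgroupAOf T = sSup (maxFam clsComm T) := by
  apply le_antisymm
  · unfold thompsonSubgroupAOf thompsonSubgroupA
    rw [Subgroup.map_le_iff_le_comap]
    apply sSup_le
    intro A0 hA0
    rw [← Subgroup.map_le_iff_le_comap]
    have h1 : A0 ∈ {A0 : Subgroup T | A0.map T.subtype ∈ maxFam clsComm T} := by
      rw [fam_comm_eq]; exact hA0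
    exact le_sSup h1
  · apply sSup_le
    intro A hA
    have h1 : (A.subgroupOf T).map T.subtype = A := Subgroup.map_subgroupOf_eq_of_le hA.1
    have h2 : A.subgroupOf T ∈ maxAbelianSubgroups T := by
      rw [← fam_comm_eq]
      show (A.subgroupOf T).map T.subtype ∈ maxFam clsComm T
      rw [h1]; exact hA
    rw [← h1]
    unfold thompsonSubgroupAOf thompsonSubgroupA
    exact Subgroup.map_mono (le_sSup h2)

/-- If all the members of `𝒜(T)` lie in a normal subgroup inside `T`, then `J(T)` is normal. -/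
theorem thompsonA_normal {T L : Subgroup X} (hL : L.Normal) (hLT : L ≤ T)
    (hA : ∀ A ∈ maxFam clsComm T, A ≤ L) : (thompsonSubgroupAOf T).Normal := by
  rw [thompsonA_eq_sSup]
  constructor
  intro n hn g
  have hle : sSup (maxFam clsComm T) ≤ (sSup (maxFam clsComm T)).comap (MulAut.conj g).toMonoidHom := by
    apply sSup_le
    intro A hA'
    rw [← Subgroup.map_le_iff_le_comap]
    apply le_sSup
    refine ⟨?_, clsComm_map _ _ hA'.2.1, ?_⟩
    · rintro _ ⟨a, ha, rfl⟩
      exact hLT (hL.conj_mem a (hA A hA' ha) g)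
    · intro B hB hBc
      rw [card_map_conj]
      exact hA'.2.2 B hB hBc
  exact hle hn

theorem sInf_le_of_center {T A : Subgroup X} (hA : A ∈ maxFam clsComm T) :
    T ⊓ Subgroup.centralizer (T : Set X) ≤ A := by
  have h1 := comm_sup A (T ⊓ Subgroup.centralizer (T : Set X)) (clsComm_comm A hA.2.1)
    (fun x hx y hy => (Subgroup.mem_centralizer_iff.mp hy.2 x hx.1))
    (fun x hx y hy => (Subgroup.mem_centralizer_iff.mp hy.2 x (hA.1 hx)))
  have h2 := hA.2.2 (A ⊔ (T ⊓ Subgroup.centralizer (T : Set X)))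
    (sup_le hA.1 inf_le_left) (isMulCommutative_of_forall h1)
  have h3 : A = A ⊔ (T ⊓ Subgroup.centralizer (T : Set X)) := Subgroup.eq_of_le_of_card_ge le_sup_left h2
  rw [h3]
  exact le_sup_right

/-- A normal subgroup with a normal complement in a group with `C(O_p) ≤ O_p` is a `p`-group. -/
theorem isPGroup_of_normal_of_hasNPC {p : ℕ} [Fact p.Prime] (hcent : Subgroup.centralizer (pCore p X : Set X) ≤ pCore p X)
    (Y : Subgroup X) [hY : Y.Normal] (hNPC : HasNormalPComplement p Y) : IsPGroup p Y := by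
  have hM : ((pPrimeCore p Y).map Y.subtype).Normal := by
    have := Cfsg.Agent.Lib.PCore.instPPrimeCoreCharacteristic (G := Y) (p := p)
    exact (inferInstance : (((pPrimeCore p Y).map Y.subtype).Normal))
  have hMc : (Nat.card ↥((pPrimeCore p Y).map Y.subtype)).Coprime p := by
    rw [Subgroup.card_map_of_injective Y.subtype_injective]
    exact card_pPrimeCore_coprime p
  set M := (pPrimeCore p Y).map Y.subtype with hMdef
  have hLp : IsPGroup p (pCore p X) := isPGroup_pCore p
  have hdisj : ∀ {x : X}, x ∈ M → x ∈ pCore p X → x = 1 := by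
    intro x hx1 hx2
    have hd : Disjoint M (pCore p X) := by
      apply Subgroup.disjoint_of_coprime_natCard
      obtain ⟨k, hk⟩ := IsPGroup.iff_card.mp hLp
      rw [hk]
      exact Nat.Coprime.pow_right k hMc
    exact Subgroup.disjoint_def.mp hd hx1 hx2
  have hMbot : M = ⊥ := by
    rw [eq_bot_iff]
    intro m hm
    have hmL : m ∈ pCore p X := by
      apply hcent
      rw [Subgroup.mem_centralizer_iff]
      intro l hl
      have h1 : ⁅l, m⁆ = 1 := by
        apply hdisj
        · have e : ⁅l, m⁆ = (l * m * l⁻¹) * m⁻¹ := by rw [commutatorElement_def]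
          rw [e]
          exact M.mul_mem (hM.conj_mem m hm l) (M.inv_mem hm)
        · have e : ⁅l, m⁆ = l * (m * l⁻¹ * m⁻¹) := by rw [commutatorElement_def]; group
          rw [e]
          exact (pCore p X).mul_mem hl ((inferInstance : (pCore p X).Normal).conj_mem _ ((pCore p X).inv_mem hl) m)
      exact commutatorElement_eq_one_iff_mul_comm.mp h1
    exact Subgroup.mem_bot.mpr (hdisj hm hmL)
  obtain ⟨N, hNn, hNc, k, hk⟩ := hasNPC_iff.mp hNPC
  have h1 : N ≤ pPrimeCore p Y := le_pPrimeCore hNn hNc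
  have h2 : pPrimeCore p Y = ⊥ := by
    have := Subgroup.map_eq_bot_iff_of_injective (pPrimeCore p Y) Y.subtype_injective
    exact this.mp hMbot
  have h3 : N = ⊥ := by
    rw [h2] at h1
    exact le_bot_iff.mp h1
  rw [h3, Subgroup.index_bot] at hk
  exact IsPGroup.iff_card.mpr ⟨k, hk⟩

end General

section Step

variable {X : Type u} [Group X] [Finite X] {T K V : Subgroup X}

/-- Passage to a member of `𝒜(T)` outside `O₂` normalized by `V`. -/
theorem exists_data (h : Config 2 X T K) (hT : IsPGroup 2 T) (hVn : V.Normal)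
    (hVc : ∀ x ∈ V, ∀ y ∈ V, x * y = y * x) (hV2 : ∀ v ∈ V, v * v = 1)
    (hCV : Subgroup.centralizer (V : Set X) = pCore 2 X) (hVL : V ≤ pCore 2 X)
    (hex : ∃ A ∈ maxFam clsComm T, ¬ A ≤ pCore 2 X) :
    ∃ A : Subgroup X, Data X T K V A ∧ ¬ A ≤ pCore 2 X := by
  classical
  set L := pCore 2 X with hL
  have hVT : V ≤ T := hVL.trans (config_pCore_le h)
  let F : Set (Subgroup X) := {A | A ∈ maxFam clsComm T ∧ ¬ A ≤ L}
  obtain ⟨A, hA, hmax⟩ := Set.exists_max_image F (fun A : Subgroup X => Nat.card ↥(A ⊓ V))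
    (Set.toFinite _) (by obtain ⟨A, hA1, hA2⟩ := hex; exact ⟨A, hA1, hA2⟩)
  refine ⟨A, ?_, hA.2⟩
  have hAm := hA.1
  refine ⟨h, hT, hVn, hVc, hV2, hCV, hVL, hAm.1, clsComm_comm A hAm.2.1, ?_, fun B hB hBc =>
    hAm.2.2 B hB (isMulCommutative_of_forall hBc)⟩
  by_contra hnot
  -- pass to `T`
  have : (V.subgroupOf T).Normal := Subgroup.normal_subgroupOf
  have hTp : IsPGroup 2 T := hT
  have hA₀ : A.subgroupOf T ∈ maxAbelianSubgroups T := by
    rw [← fam_comm_eq]
    show (A.subgroupOf T).map T.subtype ∈ maxFam clsComm T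
    rw [Subgroup.map_subgroupOf_eq_of_le hAm.1]; exact hAm
  have hnot' : ¬ V.subgroupOf T ≤ Subgroup.normalizer ((A.subgroupOf T : Subgroup T) : Set T) := by
    intro hle
    apply hnot
    intro v hv
    apply Cfsg.Agent.Lib.Replacement.mem_normalizer_of_forall
    intro x hx
    have h1 : (⟨v, hVT hv⟩ : T) ∈ Subgroup.normalizer ((A.subgroupOf T : Subgroup T) : Set T) := hle hv
    have h2 : (⟨x, hAm.1 hx⟩ : T) ∈ A.subgroupOf T := hx
    exact (Subgroup.mem_normalizer_iff.mp h1 _).mp h2
  obtain ⟨b, -, T₀, -, hT₀, hlt1, hlt2⟩ := replace_step hTp (V.subgroupOf T)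
    (fun x hx y hy => Subtype.ext (hVc _ hx _ hy)) hA₀ hnot'
  -- the new member
  have hT₀m : T₀.map T.subtype ∈ maxFam clsComm T := by
    have : T₀ ∈ {A0 : Subgroup T | A0.map T.subtype ∈ maxFam clsComm T} := by
      rw [fam_comm_eq]; exact hT₀
    exact this
  set A' := T₀.map T.subtype with hA'
  have hnotL : ¬ A' ≤ L := by
    intro hle
    have hcomm := comm_sup A' V (clsComm_comm A' hT₀m.2.1) hVc (fun x hx y hy => by
      have h1 : x ∈ Subgroup.centralizer (V : Set X) := by rw [hCV]; exact hle hx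
      exact (Subgroup.mem_centralizer_iff.mp h1 y hy).symm)
    have h1 := hT₀m.2.2 (A' ⊔ V) (sup_le hT₀m.1 hVT) (isMulCommutative_of_forall hcomm)
    have h2 : A' = A' ⊔ V := Subgroup.eq_of_le_of_card_ge le_sup_left h1
    have h3 : V ≤ A' := by rw [h2]; exact le_sup_right
    apply hlt2.not_ge
    intro v hv
    refine ⟨?_, hv⟩
    obtain ⟨t, ht, hvt⟩ := h3 (show (v : X) ∈ V from hv)
    have : t = v := Subtype.ext hvt
    rwa [← this]
  have hmap1 : (A.subgroupOf T ⊓ V.subgroupOf T).map T.subtype = A ⊓ V := by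
    rw [Subgroup.map_inf _ _ _ T.subtype_injective, Subgroup.map_subgroupOf_eq_of_le hVT,
      Subgroup.map_subgroupOf_eq_of_le hAm.1]
  have hmap2 : (T₀ ⊓ V.subgroupOf T).map T.subtype = A' ⊓ V := by
    rw [Subgroup.map_inf _ _ _ T.subtype_injective, Subgroup.map_subgroupOf_eq_of_le hVT]
  have hlt : Nat.card ↥(A ⊓ V) < Nat.card ↥(A' ⊓ V) := by
    rw [← hmap1, ← hmap2, Subgroup.card_map_of_injective T.subtype_injective,
      Subgroup.card_map_of_injective T.subtype_injective]
    exact lt_of_not_ge fun hge => hlt1.ne (Subgroup.eq_of_le_of_card_ge hlt1.le hge)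
  exact absurd (hmax A' ⟨hT₀m, hnotL⟩) (not_le.mpr hlt)

theorem pow_conj_aux {k v c : X} (hconj : k * v * k⁻¹ = v * c) (hkc : k * c = c * k) (n : ℕ) :
    k ^ n * v * (k ^ n)⁻¹ = v * c ^ n := by
  induction n with
  | zero => simp
  | succ n ih =>
    have hcn : k * c ^ n = c ^ n * k := ((show Commute k c from hkc).pow_right n)
    calc k ^ (n + 1) * v * (k ^ (n + 1))⁻¹
        = k * (k ^ n * v * (k ^ n)⁻¹) * k⁻¹ := by rw [pow_succ', mul_inv_rev]; group
      _ = k * (v * c ^ n) * k⁻¹ := by rw [ih]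
      _ = (k * v * k⁻¹) * (k * c ^ n * k⁻¹) := by group
      _ = (v * c) * (c ^ n * k * k⁻¹) := by rw [hconj, hcn]
      _ = v * c ^ (n + 1) := by rw [pow_succ']; group

/-- An element of `K` centralizing `Ω₁(V₀)` centralizes `V₀`. -/
theorem commute_of_commute_omega (h : Config 2 X T K) {V₀ : Subgroup X} (hV₀L : V₀ ≤ pCore 2 X)
    (hV₀c : V₀ ≤ Subgroup.centralizer (pCore 2 X : Set X)) (hV₀n : V₀.Normal) {k : X} (hk : k ∈ K)
    (hk1 : ∀ v ∈ V₀, v * v = 1 → k * v = v * k) : ∀ v ∈ V₀, k * v = v * k := by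
  set L := pCore 2 X with hL
  have hcomm : ∀ x ∈ V₀, ∀ y ∈ V₀, x * y = y * x := fun x hx y hy =>
    (Subgroup.mem_centralizer_iff.mp (hV₀c hy) x (hV₀L hx))
  obtain ⟨n, hn, hnK⟩ := h.pow
  have key : ∀ j : ℕ, ∀ v ∈ V₀, v ^ 2 ^ j = 1 → k * v = v * k := by
    intro j
    induction j with
    | zero =>
      intro v _ hv
      have : v = 1 := by simpa using hv
      rw [this]; simp
    | succ j ih =>
      intro v hv hvj
      have hvv : v * v ∈ V₀ := V₀.mul_mem hv hv
      have h1 : k * (v * v) = (v * v) * k := by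
        apply ih _ hvv
        rw [← pow_two, ← pow_mul, ← pow_succ']
        exact hvj
      set c := k * v * k⁻¹ * v⁻¹ with hc
      have hkv : k * v * k⁻¹ ∈ V₀ := hV₀n.conj_mem v hv k
      have hcV : c ∈ V₀ := V₀.mul_mem hkv (V₀.inv_mem hv)
      have hcc : c * c = 1 := by
        have e : c * c = (k * v * k⁻¹) * (k * v * k⁻¹) * (v⁻¹ * v⁻¹) := by
          have h2 : v⁻¹ * (k * v * k⁻¹) = (k * v * k⁻¹) * v⁻¹ := hcomm _ (V₀.inv_mem hv) _ hkv
          rw [hc]
          calc k * v * k⁻¹ * v⁻¹ * (k * v * k⁻¹ * v⁻¹)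
              = k * v * k⁻¹ * (v⁻¹ * (k * v * k⁻¹)) * v⁻¹ := by group
            _ = k * v * k⁻¹ * ((k * v * k⁻¹) * v⁻¹) * v⁻¹ := by rw [h2]
            _ = _ := by group
        rw [e]
        have h3 : (k * v * k⁻¹) * (k * v * k⁻¹) = v * v := by
          calc (k * v * k⁻¹) * (k * v * k⁻¹) = k * (v * v) * k⁻¹ := by group
            _ = v * v := by rw [h1]; group
        rw [h3]
        group
      have hkc : k * c = c * k := hk1 c hcV hcc
      have hconj : k * v * k⁻¹ = v * c := by
        rw [hcomm v hv _ hcV, hc]; group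
      have hpow := pow_conj_aux hconj hkc n
      have hnL : k ^ n ∈ L := hnK k hk
      have hv_comm : k ^ n * v = v * k ^ n :=
        (Subgroup.mem_centralizer_iff.mp (hV₀c hv) _ hnL)
      have hcn : c ^ n = 1 := by
        have e1 : k ^ n * v * (k ^ n)⁻¹ = v := by rw [hv_comm]; group
        rw [e1] at hpow
        exact mul_left_cancel (a := v) (by rw [← hpow, mul_one])
      have hc1 : c = 1 := by
        have hc2 : c ^ 2 = 1 := by rw [pow_two, hcc]
        have h4 : c ∈ (⊥ : Subgroup X) :=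
          mem_of_pows_mem (L := ⊥) (m := 2) (n := n) (by rw [hc2]; exact Subgroup.one_mem _)
            (by rw [hcn]; exact Subgroup.one_mem _) (by
              have := hn
              exact Nat.Coprime.symm this)
        exact Subgroup.mem_bot.mp h4
      rw [hc1, mul_one] at hconj
      calc k * v = k * v * k⁻¹ * k := by group
        _ = v * k := by rw [hconj]
  intro v hv
  have hp : IsPGroup 2 (pCore 2 X) := isPGroup_pCore 2
  obtain ⟨j, hj⟩ := hp ⟨v, hV₀L hv⟩
  exact key j v hv (congrArg Subtype.val hj)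

end Step

end Cfsg.Agent.Lib.ThompsonNPC1
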