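import Mathlib
import Cfsg.Agent.Lib.ThompsonNPC4
import Cfsg.Agent.S3078

/-!
# Thompson's normal `p`-complement theorem, abelian version of `J`, for `p` odd or `S₄`-free groups:
the final configuration and the reduction.
-/

set_option autoImplicit false
set_option linter.unusedSectionVars false

open scoped commutatorElement

namespace Cfsg.Agent.Lib.ThompsonNPC1

open Cfsg Cfsg.Agent.Lib.PCore Cfsg.Agent.Lib.NPCBasic Cfsg.Agent.Lib.CharTwoLocal
open Cfsg.Agent.Lib.NPCConfig Cfsg.Agent.Lib.ChainStab Cfsg.Agent.Lib.ZJCore3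
open Cfsg.Agent.Lib.AbReplace Cfsg.Agent.Lib.NPCFunctor Cfsg.Agent.Lib.NPCReduction
open Cfsg.Agent.Lib.NPCThompson Cfsg.Agent.Lib.InvolvesAPI

universe u

variable {X : Type u} [Group X] [Finite X] {K : Subgroup X}

/-- The final configuration at the prime `2`. -/
theorem final_two (T : Sylow 2 X) (h : Config 2 X T K) (hS : ¬ Involves (Equiv.Perm (Fin 4)) X)
    (hC : HasNormalPComplement 2 ↥(Subgroup.centralizer
      (((T : Subgroup X) ⊓ Subgroup.centralizer ((T : Subgroup X) : Set X) : Subgroup X) : Set X)))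
    (hN : HasNormalPComplement 2 ↥(Subgroup.normalizer (thompsonSubgroupAOf (T : Subgroup X) : Set X))) :
    HasNormalPComplement 2 X := by
  classical
  set L := pCore 2 X with hL
  have hLT : L ≤ T := config_pCore_le h
  have hLK : L ≤ K := config_pCore_le_K h
  have hLn : L.Normal := inferInstance
  have hKn : K.Normal := h.normal
  set V₀ := L ⊓ Subgroup.centralizer (L : Set X) with hV₀
  have hV₀n : V₀.Normal := inferInstance
  have hV₀comm : ∀ x ∈ V₀, ∀ y ∈ V₀, x * y = y * x := fun x hx y hy =>
    Subgroup.mem_centralizer_iff.mp hy.2 x hx.1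
  set V := omegaOne 2 V₀ with hV
  have hVmem : ∀ {x : X}, x ∈ V ↔ x ∈ V₀ ∧ x * x = 1 := by
    intro x
    rw [hV, Cfsg.Agent.S3078.mem_omegaOne_of_comm hV₀comm, pow_two]
  have hVn : V.Normal := by
    constructor
    intro n hn g
    obtain ⟨h1, h2⟩ := hVmem.mp hn
    refine hVmem.mpr ⟨hV₀n.conj_mem n h1 g, ?_⟩
    calc g * n * g⁻¹ * (g * n * g⁻¹) = g * (n * n) * g⁻¹ := by group
      _ = 1 := by rw [h2]; group
  have hVL : V ≤ L := fun x hx => (hVmem.mp hx).1.1
  have hVc : ∀ x ∈ V, ∀ y ∈ V, x * y = y * x := fun x hx y hy =>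
    hV₀comm x (hVmem.mp hx).1 y (hVmem.mp hy).1
  have hV2 : ∀ v ∈ V, v * v = 1 := fun v hv => (hVmem.mp hv).2
  have hLCV : L ≤ Subgroup.centralizer (V : Set X) := by
    intro l hl
    rw [Subgroup.mem_centralizer_iff]
    intro v hv
    exact (Subgroup.mem_centralizer_iff.mp (hVmem.mp hv).1.2 l hl).symm
  by_cases hK : K ≤ Subgroup.centralizer (V : Set X)
  · -- `K` centralizes `V₀` and so `Z(T)`
    have hZV₀ : (T : Subgroup X) ⊓ Subgroup.centralizer ((T : Subgroup X) : Set X) ≤ V₀ := by
      rintro z ⟨hz1, hz2⟩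
      have hzL : z ∈ Subgroup.centralizer (L : Set X) :=
        Subgroup.mem_centralizer_iff.mpr fun l hl => Subgroup.mem_centralizer_iff.mp hz2 l (hLT hl)
      exact ⟨h.cent hzL, hzL⟩
    apply hasNPC_of_eq_top _ hC
    rw [eq_top_iff, ← h.sup_eq]
    refine sup_le ?_ ?_
    · intro k hk
      rw [Subgroup.mem_centralizer_iff]
      intro z hz
      have h1 := commute_of_commute_omega h inf_le_left inf_le_right hV₀n hk
        (fun v hv hvv => by
          have h2 : k ∈ Subgroup.centralizer (V : Set X) := hK hk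
          exact (Subgroup.mem_centralizer_iff.mp h2 v (hVmem.mpr ⟨hv, hvv⟩)).symm) z (hZV₀ hz)
      exact h1.symm
    · intro t ht
      rw [Subgroup.mem_centralizer_iff]
      intro z hz
      exact (Subgroup.mem_centralizer_iff.mp hz.2 t ht).symm
  · -- `C(V) = L`
    have hN₁ : K ⊓ Subgroup.centralizer (V : Set X) ≤ L := by
      set N₁ := K ⊓ Subgroup.centralizer (V : Set X) with hN₁def
      have hN₁n : N₁.Normal := inferInstance
      have hle : (T : Subgroup X) ≤ N₁ ⊔ T := le_sup_right
      rcases h.coatom.le_iff.mp hle with h1 | h1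
      · exfalso
        apply hK
        intro k hk
        have hk' : k ∈ N₁ ⊔ (T : Subgroup X) := by rw [h1]; trivial
        obtain ⟨n, hn, t, ht, rfl⟩ := Subgroup.mem_sup_of_normal_left.mp hk'
        have ht' : t ∈ K := by
          have : t = n⁻¹ * (n * t) := by group
          rw [this]
          exact K.mul_mem (K.inv_mem hn.1) hk
        have htL : t ∈ L := by
          rw [hL, ← h.inf_eq]
          exact ⟨ht', ht⟩
        exact Subgroup.mul_mem _ hn.2 (hLCV htL)
      · intro x hx
        have hxT : x ∈ (T : Subgroup X) := by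
          rw [← h1]
          exact Subgroup.mem_sup_left hx
        rw [hL, ← h.inf_eq]
        exact ⟨hx.1, hxT⟩
    have hCV : Subgroup.centralizer (V : Set X) = L := by
      apply le_antisymm _ hLCV
      have hp : IsPGroup 2 (Subgroup.centralizer (V : Set X)) := by
        apply isPGroup_of_forall_coprime_eq_one
        intro b hb hbc
        have hbK : b ∈ K := by
          have hb' : b ∈ (T : Subgroup X) ⊔ K := by rw [sup_comm, h.sup_eq]; trivial
          refine Cfsg.Agent.Lib.SubnormalP.mem_of_coprime_of_mem_sup' (p := 2) (A := (T : Subgroup X)) (B := K)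
            ?_ T.isPGroup' hb' hbc
          rw [Subgroup.normalizer_eq_top_iff.mpr hKn]; exact le_top
        have hbL : b ∈ L := hN₁ ⟨hbK, hb⟩
        obtain ⟨j, hj⟩ := (isPGroup_pCore 2 : IsPGroup 2 (pCore 2 X)) ⟨b, hbL⟩
        have hj' : b ^ 2 ^ j = 1 := congrArg Subtype.val hj
        have h1 := orderOf_dvd_of_pow_eq_one hj'
        have h2 := Nat.Coprime.eq_one_of_dvd (Nat.Coprime.pow_right j hbc) h1
        exact orderOf_eq_one_iff.mp h2
      exact le_pCore inferInstance hp
    by_cases hA : ∀ A ∈ maxFam clsComm (T : Subgroup X), A ≤ L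
    · exact hasNPC_of_eq_top (Subgroup.normalizer_eq_top_iff.mpr (thompsonA_normal hLn hLT hA)) hN
    · exfalso
      push Not at hA
      obtain ⟨A, d, hAL⟩ := exists_data h T.isPGroup' hVn hVc hV2 hCV hVL hA
      obtain ⟨a, ha, haL, w, hw⟩ := d.exists_elem hAL
      exact hS (d.final ha haL hw)

/-- The final configuration at an odd prime. -/
theorem final_odd {p : ℕ} [Fact p.Prime] (hp2 : p ≠ 2) (T : Sylow p X) (h : Config p X T K)
    (hC : HasNormalPComplement p ↥(Subgroup.centralizer
      (((T : Subgroup X) ⊓ Subgroup.centralizer ((T : Subgroup X) : Set X) : Subgroup X) : Set X)))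
    (hN : HasNormalPComplement p ↥(Subgroup.normalizer (thompsonSubgroupAOf (T : Subgroup X) : Set X))) :
    HasNormalPComplement p X := by
  have hZn : (centerThompsonAOf (T : Subgroup X)).Normal := config_centerThompsonA_normal T h hp2
  have hZT : (T : Subgroup X) ⊓ Subgroup.centralizer ((T : Subgroup X) : Set X) ≤
      centerThompsonAOf (T : Subgroup X) := by
    rw [centerThompsonA_eq_sInf]
    exact le_sInf fun A hA => sInf_le_of_center hA
  have hle : Subgroup.centralizer (centerThompsonAOf (T : Subgroup X) : Set X) ≤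
      Subgroup.centralizer (((T : Subgroup X) ⊓ Subgroup.centralizer ((T : Subgroup X) : Set X) : Subgroup X) : Set X) :=
    Subgroup.centralizer_le (SetLike.coe_mono hZT)
  have hY := hasNPC_of_le hle hC
  have hYp := isPGroup_of_normal_of_hasNPC h.cent _ hY
  have hYL : Subgroup.centralizer (centerThompsonAOf (T : Subgroup X) : Set X) ≤ pCore p X :=
    le_pCore inferInstance hYp
  apply hasNPC_of_eq_top (Subgroup.normalizer_eq_top_iff.mpr _) hN
  refine thompsonA_normal inferInstance (config_pCore_le h) fun A hA => ?_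
  have h1 : A ≤ thompsonSubgroupAOf (T : Subgroup X) := by
    rw [thompsonA_eq_sSup]; exact le_sSup hA
  refine (h1.trans ?_).trans hYL
  intro x hx
  rw [Subgroup.mem_centralizer_iff]
  intro z hz
  exact (Subgroup.mem_centralizer_iff.mp hz.2 x hx).symm

/-- The class of groups of the theorem. -/
def tSec (p : ℕ) (X : Type u) [Group X] : Prop := p ≠ 2 ∨ ¬ Involves (Equiv.Perm (Fin 4)) X

/-- The condition of the theorem. -/
def tCond (p : ℕ) (X : Type u) [Group X] (T : Subgroup X) : Prop :=
  HasNormalPComplement p ↥(Subgroup.centralizer ((T ⊓ Subgroup.centralizer (T : Set X) : Subgroup X) : Set X)) ∧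
    HasNormalPComplement p ↥(Subgroup.normalizer (thompsonSubgroupAOf T : Set X))

theorem centralizer_map_equiv {A B : Type*} [Group A] [Group B] (e : A ≃* B) (S : Subgroup A) :
    (Subgroup.centralizer (S : Set A)).map e.toMonoidHom =
      Subgroup.centralizer ((S.map e.toMonoidHom : Subgroup B) : Set B) := by
  ext y
  constructor
  · rintro ⟨x, hx, rfl⟩
    rw [Subgroup.mem_centralizer_iff]
    rintro _ ⟨s, hs, rfl⟩
    have := Subgroup.mem_centralizer_iff.mp hx s hs
    show e s * e x = e x * e s
    rw [← map_mul, ← map_mul, this]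
  · intro hy
    refine ⟨e.symm y, ?_, by simp⟩
    rw [SetLike.mem_coe, Subgroup.mem_centralizer_iff]
    intro s hs
    have h1 := Subgroup.mem_centralizer_iff.mp hy (e s) ⟨s, hs, rfl⟩
    apply e.injective
    rw [map_mul, map_mul, e.apply_symm_apply]
    exact h1

/-- The functor condition, for the transfer of the part of the hypothesis about `J(T)`. -/
theorem axioms_aux {p : ℕ} [Fact p.Prime] :
    Axioms.{u} p (fun _ _ => False) (fCond p (fun Q _ => thompsonSubgroupA Q)) :=
  axioms_functor isCharPFunctor_thompsonA (fun _ _ _ h => h) (fun _ _ _ _ h => h) (fun _ _ _ _ _ h => h.elim)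

/-- The axioms of the reduction. -/
theorem axioms_main {p : ℕ} [hp : Fact p.Prime] : Axioms.{u} p (tSec p) (tCond p) where
  sec_sub := by
    intro X _ Y h
    rcases h with h | h
    · exact Or.inl h
    · exact Or.inr fun h' => h (involves_of_le h')
  sec_quot := by
    intro X _ M _ h
    rcases h with h | h
    · exact Or.inl h
    · exact Or.inr fun h' =>
        h (Involves.trans h' (involves_of_surj_top (QuotientGroup.mk' M) (QuotientGroup.mk'_surjective M)))
  conj := by
    intro X _ _ T T' hC
    refine ⟨?_, axioms_aux.conj X T T' hC.2⟩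
    obtain ⟨g, rfl⟩ := MulAction.exists_smul_eq X T T'
    have h1 : ((g • T : Sylow p X) : Subgroup X) = (T : Subgroup X).map (MulAut.conj g).toMonoidHom := rfl
    rw [h1, ← Cfsg.Agent.Lib.PLocalTools.map_inf_centralizer, ← centralizer_map_equiv]
    exact (hasNPC_congr (Subgroup.equivMapOfInjective _ _ (MulAut.conj g).injective)).mp hC.1
  sub := by
    intro X _ _ T Y hle hC
    refine ⟨?_, axioms_aux.sub X T Y hle hC.2⟩
    set Z := (T : Subgroup X) ⊓ Subgroup.centralizer ((T : Subgroup X) : Set X) with hZ
    set T₀ := (T : Subgroup X).subgroupOf Y with hT₀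
    have h2 : (Subgroup.centralizer ((T₀ ⊓ Subgroup.centralizer (T₀ : Set Y) : Subgroup Y) : Set Y)).map Y.subtype ≤
        Subgroup.centralizer (Z : Set X) := by
      rintro _ ⟨y, hy, rfl⟩
      rw [Subgroup.mem_centralizer_iff]
      intro z hz
      have hzY : z ∈ Y := hle hz.1
      have hz0 : (⟨z, hzY⟩ : Y) ∈ T₀ ⊓ Subgroup.centralizer (T₀ : Set Y) := by
        refine ⟨hz.1, Subgroup.mem_centralizer_iff.mpr ?_⟩
        intro t ht
        exact Subtype.ext (Subgroup.mem_centralizer_iff.mp hz.2 t ht)
      exact congrArg Subtype.val (Subgroup.mem_centralizer_iff.mp hy _ hz0)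
    have h3 := hasNPC_of_le h2 hC.1
    exact (hasNPC_congr (Subgroup.equivMapOfInjective _ Y.subtype Y.subtype_injective)).mpr h3
  quot := by
    intro X _ _ T M _ hc hC
    refine ⟨?_, axioms_aux.quot X T M hc hC.2⟩
    set π : X →* X ⧸ M := QuotientGroup.mk' M with hπ
    have hπ1 : ∀ x, π x = 1 ↔ x ∈ M := fun x => QuotientGroup.eq_one_iff x
    set Z := (T : Subgroup X) ⊓ Subgroup.centralizer ((T : Subgroup X) : Set X) with hZ
    have hZT : Z ≤ T := inf_le_left
    have hZp : IsPGroup p Z := T.isPGroup'.to_le hZT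
    have hd : ∀ x ∈ (T : Subgroup X), x ∈ M → x = 1 := by
      intro x hx h2
      obtain ⟨k, hk⟩ := IsPGroup.iff_card.mp T.isPGroup'
      have hd : Disjoint (T : Subgroup X) M := by
        apply Subgroup.disjoint_of_coprime_natCard
        rw [hk]
        exact (Nat.Coprime.pow_right k hc).symm
      exact Subgroup.disjoint_def.mp hd hx h2
    have hle : Subgroup.centralizer (((T : Subgroup X).map π ⊓
        Subgroup.centralizer (((T : Subgroup X).map π : Subgroup (X ⧸ M)) : Set (X ⧸ M)) : Subgroup (X ⧸ M)) : Set (X ⧸ M)) ≤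
        (Subgroup.centralizer (Z : Set X)).map π := by
      intro y hy
      have hZle : Z.map π ≤ (T : Subgroup X).map π ⊓
          Subgroup.centralizer (((T : Subgroup X).map π : Subgroup (X ⧸ M)) : Set (X ⧸ M)) := by
        rintro _ ⟨z, hz, rfl⟩
        refine ⟨⟨z, hz.1, rfl⟩, Subgroup.mem_centralizer_iff.mpr ?_⟩
        rintro _ ⟨t, ht, rfl⟩
        show π t * π z = π z * π t
        rw [← map_mul, ← map_mul, Subgroup.mem_centralizer_iff.mp hz.2 t ht]
      have hy1 : y ∈ Subgroup.normalizer ((Z.map π : Subgroup (X ⧸ M)) : Set (X ⧸ M)) := by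
        rw [Subgroup.mem_normalizer_iff]
        intro w
        constructor
        · intro hw
          have : y * w * y⁻¹ = w := by
            rw [(Subgroup.mem_centralizer_iff.mp hy w (hZle hw)).symm]; group
          rwa [this]
        · intro hw
          have hc' := Subgroup.mem_centralizer_iff.mp hy _ (hZle hw)
          have h6 : w = y * w * y⁻¹ := by
            calc w = y⁻¹ * ((y * w * y⁻¹) * y) := by group
              _ = y⁻¹ * (y * (y * w * y⁻¹)) := by rw [hc']
              _ = y * w * y⁻¹ := by group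
          rw [h6]
          exact hw
      obtain ⟨n, hn, rfl⟩ := normalizer_map_coprime (p := p) Z M hZp hc hy1
      refine ⟨n, ?_, rfl⟩
      rw [SetLike.mem_coe, Subgroup.mem_centralizer_iff]
      intro z hz
      have h7 : π z ∈ (T : Subgroup X).map π ⊓
          Subgroup.centralizer (((T : Subgroup X).map π : Subgroup (X ⧸ M)) : Set (X ⧸ M)) := hZle ⟨z, hz, rfl⟩
      have h8 := Subgroup.mem_centralizer_iff.mp hy _ h7
      have h9 : ⁅n, z⁆ ∈ M := by
        rw [← hπ1, map_commutatorElement, commutatorElement_eq_one_iff_mul_comm]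
        exact h8.symm
      have h10 : ⁅n, z⁆ ∈ Z := by
        rw [commutatorElement_def]
        exact Z.mul_mem ((Subgroup.mem_normalizer_iff.mp hn z).mp hz) (Z.inv_mem hz)
      have h11 := hd _ (hZT h10) h9
      exact (commutatorElement_eq_one_iff_mul_comm.mp h11).symm
    exact hasNPC_of_le hle (hasNPC_of_surjective (π.subgroupMap _) (π.subgroupMap_surjective _) hC.1)
  char := by
    intro X _ _ _ T hne h
    have hW : IsCharPFunctor.{u} p (fun Q _ => thompsonSubgroupA Q) := isCharPFunctor_thompsonA
    obtain ⟨h1, h2⟩ := char_inducedFunctor hW (T : Subgroup X) T.isPGroup'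
    refine ⟨?_, h _ (inducedFunctor_ne_bot hW _ T.isPGroup' hne) h1 h2⟩
    set Z := (T : Subgroup X) ⊓ Subgroup.centralizer ((T : Subgroup X) : Set X) with hZ
    have hZb : Z.subgroupOf (T : Subgroup X) = Subgroup.center (T : Subgroup X) := by
      ext x
      rw [Subgroup.mem_subgroupOf, Subgroup.mem_center_iff]
      constructor
      · rintro ⟨-, h3⟩ y
        exact Subtype.ext (Subgroup.mem_centralizer_iff.mp h3 y y.2)
      · intro h3
        refine ⟨x.2, Subgroup.mem_centralizer_iff.mpr ?_⟩
        intro y hy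
        exact congrArg Subtype.val (h3 ⟨y, hy⟩)
    have hZne : Z ≠ ⊥ := by
      have : Nontrivial (T : Subgroup X) := (Subgroup.nontrivial_iff_ne_bot _).mpr hne
      have hp' : IsPGroup p (T : Subgroup X) := T.isPGroup'
      have := hp'.center_nontrivial
      obtain ⟨z, hz⟩ := (Subgroup.nontrivial_iff_exists_ne_one (Subgroup.center (T : Subgroup X))).mp this
      intro hbot
      have h3 : ((z : (T : Subgroup X)) : X) ∈ Z := by
        have : z ∈ Z.subgroupOf (T : Subgroup X) := by rw [hZb]; exact hz.1
        exact this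
      rw [hbot, Subgroup.mem_bot] at h3
      exact hz.2 (Subtype.ext h3)
    have hchar : (Z.subgroupOf (T : Subgroup X)).Characteristic := by
      rw [hZb]; infer_instance
    exact hasNPC_of_le (Subgroup.centralizer_le_normalizer _) (h Z hZne inf_le_left hchar)
  normal := by
    intro X _ _ _ T hn hC
    have hW : IsCharPFunctor.{u} p (fun Q _ => thompsonSubgroupA Q) := isCharPFunctor_thompsonA
    obtain ⟨h1, h2⟩ := char_inducedFunctor hW (T : Subgroup X) T.isPGroup'
    have hnorm : (inducedFunctor (fun Q _ => thompsonSubgroupA Q) (T : Subgroup X)).Normal := by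
      rw [← Subgroup.normalizer_eq_top_iff, eq_top_iff]
      intro x _
      have hx : x ∈ Subgroup.normalizer ((T : Subgroup X) : Set X) := by
        rw [Subgroup.normalizer_eq_top_iff.mpr hn]; trivial
      exact mem_normalizer_of_char h1 h2 hx
    exact hasNPC_of_eq_top (Subgroup.normalizer_eq_top_iff.mpr hnorm) hC.2
  final := by
    intro X _ _ T K hS hK hC
    by_cases hp2 : p = 2
    · subst hp2
      exact final_two T hK (hS.resolve_left (by simp)) hC.1 hC.2
    · exact final_odd hp2 T hK hC.1 hC.2

/-- **Thompson's normal `p`-complement theorem** for the abelian version of `J`. -/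
theorem main {p : ℕ} [hp : Fact p.Prime] (S : Sylow p X) (h : p ≠ 2 ∨ ¬ Involves (Equiv.Perm (Fin 4)) X)
    (hC : HasNormalPComplement p ↥(Subgroup.centralizer
      (((S : Subgroup X) ⊓ Subgroup.centralizer ((S : Subgroup X) : Set X) : Subgroup X) : Set X)))
    (hN : HasNormalPComplement p ↥(Subgroup.normalizer (thompsonSubgroupAOf (S : Subgroup X) : Set X))) :
    HasNormalPComplement p X :=
  reduction axioms_main h S ⟨hC, hN⟩

end Cfsg.Agent.Lib.ThompsonNPC1
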