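import Mathlib
import Cfsg.Prelude.Def_Local
import Cfsg.Agent.Lib.PCore
import Cfsg.Agent.Lib.LocalCore
import Cfsg.Agent.Lib.CharTwoLocal
import Cfsg.Agent.Lib.BenderPair

/-!
# The Thompson–Wielandt theorem

Two distinct conjugate core-free maximal subgroups `M`, `N` of a finite group, with first cores
`A₁ = core_M(M ∩ N)`, `B₁ = core_N(M ∩ N)` and second cores `X = core_M(A₁ ∩ B₁)`,
`Y = core_N(A₁ ∩ B₁)`.  If `X, Y ≠ 1` then there is a prime `p` with `X Y` a `p`-group and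
`F*(M) = O_p(M)`, `F*(A₁) = O_p(A₁)`, `F*(N) = O_p(N)`, `F*(B₁) = O_p(B₁)`.
-/

set_option autoImplicit false
set_option linter.unusedSectionVars false
set_option linter.unusedVariables false

open Cfsg

namespace Cfsg.Agent.Lib.ThompsonWielandt

open Cfsg.Agent.Lib.PCore Cfsg.Agent.Lib.LocalCore Cfsg.Agent.Lib.CharTwoLocal
open Cfsg.Agent.Lib.BenderPair Cfsg.Agent.Lib.ThompsonTrans

variable {G : Type*} [Group G]

/-! ## Conjugates of subgroups -/

/-- The conjugate `h S h⁻¹`. -/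
abbrev cj (h : G) (S : Subgroup G) : Subgroup G := S.map (MulAut.conj h).toMonoidHom

theorem mem_cj {h x : G} {S : Subgroup G} : x ∈ cj h S ↔ h⁻¹ * x * h ∈ S := by
  constructor
  · rintro ⟨a, ha, rfl⟩
    simpa [mul_assoc] using ha
  · intro hx
    exact ⟨_, hx, by simp [mul_assoc]⟩

theorem conj_mem_cj {h x : G} {S : Subgroup G} (hx : x ∈ S) : h * x * h⁻¹ ∈ cj h S :=
  ⟨x, hx, by simp⟩

theorem mem_norm_cj {g x : G} {S : Subgroup G} :
    x ∈ Subgroup.normalizer (cj g S : Set G) ↔ g⁻¹ * x * g ∈ Subgroup.normalizer (S : Set G) := by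
  rw [Subgroup.mem_normalizer_iff, Subgroup.mem_normalizer_iff]
  constructor
  · intro h y
    have h1 := h (g * y * g⁻¹)
    rw [mem_cj, mem_cj] at h1
    have e1 : g⁻¹ * (g * y * g⁻¹) * g = y := by group
    have e2 : g⁻¹ * (x * (g * y * g⁻¹) * x⁻¹) * g = g⁻¹ * x * g * y * (g⁻¹ * x * g)⁻¹ := by group
    rwa [e1, e2] at h1
  · intro h y
    have h1 := h (g⁻¹ * y * g)
    rw [mem_cj, mem_cj]
    have e2 : g⁻¹ * (x * y * x⁻¹) * g = g⁻¹ * x * g * (g⁻¹ * y * g) * (g⁻¹ * x * g)⁻¹ := by group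
    rwa [e2]

theorem cj_eq_of_norm {g : G} {S : Subgroup G} (hg : g ∈ Subgroup.normalizer (S : Set G)) :
    cj g S = S := map_conj_of_mem_normalizer hg

theorem cj_le_of_norm {g : G} {S T : Subgroup G} (hg : g ∈ Subgroup.normalizer (T : Set G)) (h : S ≤ T) :
    cj g S ≤ T := by
  rw [← cj_eq_of_norm hg]
  exact Subgroup.map_mono h

theorem le_norm_cj {g : G} {S T : Subgroup G} (hg : g ∈ Subgroup.normalizer (T : Set G))
    (h : T ≤ Subgroup.normalizer (S : Set G)) : T ≤ Subgroup.normalizer (cj g S : Set G) := by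
  intro x hx
  rw [mem_norm_cj]
  apply h
  have := conj_mem_of_norm (Subgroup.inv_mem _ hg) hx
  simpa using this

theorem isPGroup_cj {p : ℕ} {g : G} {S : Subgroup G} (h : IsPGroup p S) : IsPGroup p (cj g S) :=
  h.map _

theorem qs_cj {g : G} {S : Subgroup G} (h : IsQuasisimple S) : IsQuasisimple (cj g S) :=
  qs_of_mulEquiv ((MulAut.conj g).subgroupMap S) h

/-! ## Relative subnormality -/

/-- `S` is subnormal in `T`, as an inductive predicate on subgroups of the ambient group. -/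
inductive RS (T : Subgroup G) : Subgroup G → Prop
  | refl : RS T T
  | step {S S' : Subgroup G} : RS T S' → S ≤ S' → S' ≤ Subgroup.normalizer (S : Set G) → RS T S

theorem RS.le {T S : Subgroup G} (h : RS T S) : S ≤ T := by
  induction h with
  | refl => exact le_rfl
  | step _ hle _ ih => exact hle.trans ih

theorem RS.trans {T S U : Subgroup G} (h1 : RS T S) (h2 : RS S U) : RS T U := by
  induction h2 with
  | refl => exact h1
  | step _ hle hn ih => exact RS.step ih hle hn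

theorem RS.of_norm {T S : Subgroup G} (hle : S ≤ T) (hn : T ≤ Subgroup.normalizer (S : Set G)) : RS T S :=
  RS.step RS.refl hle hn

theorem RS.conj {T S : Subgroup G} (h : RS T S) (g : G) : RS (cj g T) (cj g S) := by
  induction h with
  | refl => exact RS.refl
  | step _ hle hn ih =>
    refine RS.step ih (Subgroup.map_mono hle) ?_
    rintro _ ⟨a, ha, rfl⟩
    rw [mem_norm_cj]
    have : g⁻¹ * ((MulAut.conj g).toMonoidHom a) * g = a := by simp [mul_assoc]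
    rw [this]
    exact hn ha

theorem RS.conj_of_norm {T S : Subgroup G} (h : RS T S) {g : G}
    (hg : g ∈ Subgroup.normalizer (T : Set G)) : RS T (cj g S) := by
  have := h.conj g
  rwa [cj_eq_of_norm hg] at this

theorem le_norm_inf' {S S' U : Subgroup G} (hn : S' ≤ Subgroup.normalizer (S : Set G)) :
    S' ⊓ U ≤ Subgroup.normalizer ((S ⊓ U : Subgroup G) : Set G) := by
  refine le_norm_of_conj ?_
  rintro a ⟨ha1, ha2⟩ x ⟨hx1, hx2⟩
  exact ⟨conj_mem_of_norm (hn ha1) hx1, U.mul_mem (U.mul_mem ha2 hx2) (U.inv_mem ha2)⟩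

theorem RS.inter_aux {T S : Subgroup G} (h : RS T S) (U : Subgroup G) : RS (T ⊓ U) (S ⊓ U) := by
  induction h with
  | refl => exact RS.refl
  | step _ hle hn ih =>
    refine RS.step ih (inf_le_inf_right _ hle) ?_
    exact le_norm_inf' hn

theorem RS.inter {T S U : Subgroup G} (h : RS T S) (hSU : S ≤ U) : RS (T ⊓ U) S := by
  have := h.inter_aux U
  rwa [inf_eq_left.mpr hSU] at this

theorem le_norm_subgroupOf {S S' T : Subgroup G} (hn : S' ≤ Subgroup.normalizer (S : Set G)) :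
    S'.subgroupOf T ≤ Subgroup.normalizer ((S.subgroupOf T : Subgroup T) : Set T) := by
  refine le_norm_of_conj ?_
  intro a ha x hx
  rw [Subgroup.mem_subgroupOf] at ha hx ⊢
  simpa using conj_mem_of_norm (hn ha) hx

theorem RS.to_subnormal {T S : Subgroup G} (h : RS T S) : (S.subgroupOf T).IsSubnormal := by
  induction h with
  | refl => rw [Subgroup.subgroupOf_self]; exact Subgroup.IsSubnormal.top
  | @step S S' hT hle hn ih =>
    refine subnormal_of_normalized (B := S'.subgroupOf T) ?_ ?_ ih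
    · intro x hx
      exact hle hx
    · exact le_norm_subgroupOf hn

theorem RS.of_subnormal {X : Subgroup G} {C : Subgroup X} (h : C.IsSubnormal) :
    RS X (C.map X.subtype) := by
  induction h with
  | top => rw [map_subtype_top]; exact RS.refl
  | step H K hle _ hN ih =>
    refine RS.step ih (Subgroup.map_mono hle) ?_
    have hn := (Subgroup.normal_subgroupOf_iff_le_normalizer hle).mp hN
    refine le_norm_of_conj ?_
    rintro _ ⟨a, ha, rfl⟩ _ ⟨x, hx, rfl⟩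
    refine ⟨a * x * a⁻¹, conj_mem_of_norm (hn ha) hx, ?_⟩
    simp

/-! ## Components against subnormal subgroups -/

theorem RS.comp_le_or {T C S : Subgroup G} (hC : RS T C) (hq : IsQuasisimple C) (hS : RS T S) :
    C ≤ S ∨ ⁅C, S⁆ = ⊥ := by
  have hcomp : IsComponent (C.subgroupOf T) :=
    ⟨hC.to_subnormal, qs_of_mulEquiv (Subgroup.subgroupOfEquivOfLe hC.le).symm hq⟩
  rcases comp_le_or_commute hcomp hS.to_subnormal with h | h
  · left
    intro x hx
    have : (⟨x, hC.le hx⟩ : T) ∈ S.subgroupOf T := h (Subgroup.mem_subgroupOf.mpr hx)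
    exact Subgroup.mem_subgroupOf.mp this
  · right
    rw [commutator_eq_bot_iff_elementwise] at h ⊢
    intro a ha b hb
    have := h ⟨a, hC.le ha⟩ (Subgroup.mem_subgroupOf.mpr ha) ⟨b, hS.le hb⟩ (Subgroup.mem_subgroupOf.mpr hb)
    exact congrArg Subtype.val this

theorem RS.comp_le_norm {T C S : Subgroup G} (hC : RS T C) (hq : IsQuasisimple C) (hS : RS T S) :
    C ≤ Subgroup.normalizer (S : Set G) := by
  rcases hC.comp_le_or hq hS with h | h
  · exact h.trans Subgroup.le_normalizer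
  · exact (Subgroup.commutator_eq_bot_iff_le_centralizer.mp h).trans
      (Subgroup.centralizer_le_normalizer _)

theorem qs_not_le_pgroup {C S : Subgroup G} {p : ℕ} [Fact p.Prime] [Finite G] (hq : IsQuasisimple C)
    (hS : IsPGroup p S) : ¬ C ≤ S := by
  intro h
  have h1 : IsPGroup p C := hS.to_le h
  have : Group.IsNilpotent C := h1.isNilpotent
  exact qs_not_solvable hq inferInstance

theorem RS.comp_comm_pgroup {T C S : Subgroup G} {p : ℕ} [Fact p.Prime] [Finite G] (hC : RS T C)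
    (hq : IsQuasisimple C) (hS : RS T S) (hp : IsPGroup p S) :
    ∀ a ∈ C, ∀ b ∈ S, a * b = b * a := by
  rcases hC.comp_le_or hq hS with h | h
  · exact absurd h (qs_not_le_pgroup hq hp)
  · exact commutator_eq_bot_iff_elementwise.mp h

/-! ## The layer in the ambient group -/

theorem Elay_le_of {X U : Subgroup G} (h : ∀ C : Subgroup X, IsComponent C → C.map X.subtype ≤ U) :
    Elay X ≤ U := by
  rw [Subgroup.map_le_iff_le_comap]
  exact sSup_le fun C hC => Subgroup.map_le_iff_le_comap.mp (h C hC)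

theorem qs_image {X : Subgroup G} {C : Subgroup X} (h : IsComponent C) :
    IsQuasisimple (C.map X.subtype) :=
  qs_of_mulEquiv (C.equivMapOfInjective X.subtype X.subtype_injective) h.2

theorem RS.image {X : Subgroup G} {C : Subgroup X} (h : IsComponent C) : RS X (C.map X.subtype) :=
  RS.of_subnormal h.1

theorem le_Elay_of {X S : Subgroup G} (hS : RS X S) (hq : IsQuasisimple S) : S ≤ Elay X := by
  have hcomp : IsComponent (S.subgroupOf X) :=
    ⟨hS.to_subnormal, qs_of_mulEquiv (Subgroup.subgroupOfEquivOfLe hS.le).symm hq⟩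
  have h := Subgroup.map_mono (f := X.subtype) (comp_le_layer hcomp)
  rwa [Subgroup.map_subgroupOf_eq_of_le hS.le] at h

theorem Elay_le_Elay' {X Y : Subgroup G} (hle : Elay X ≤ Y) (hn : Y ≤ Subgroup.normalizer (X : Set G)) :
    Elay X ≤ Elay Y := by
  refine Elay_le_of fun C hC => ?_
  have hCE : C.map X.subtype ≤ Elay X := Subgroup.map_mono (comp_le_layer hC)
  have h1 : RS (X ⊓ Y) (C.map X.subtype) := (RS.image hC).inter (hCE.trans hle)
  have h2 : RS Y (X ⊓ Y) := by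
    refine RS.of_norm inf_le_right ?_
    have := le_norm_inf' (S' := Y) (S := X) (U := Y) hn
    rwa [inf_idem] at this
  exact le_Elay_of (h2.trans h1) (qs_image hC)

/-- Conjugation by a normalizing element, as an automorphism. -/
theorem norm_le_norm_char (X : Subgroup G) (C : Subgroup X) [hC : C.Characteristic] :
    Subgroup.normalizer (X : Set G) ≤ Subgroup.normalizer ((C.map X.subtype : Subgroup G) : Set G) := by
  refine le_norm_of_conj ?_
  intro g hg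
  have hgK := Subgroup.mem_normalizer_iff.mp hg
  let φ : X ≃* X :=
    { toFun := fun x => ⟨g * x * g⁻¹, (hgK x).mp x.2⟩
      invFun := fun x => ⟨g⁻¹ * x * g, by
        have := (hgK (g⁻¹ * x * g)).mpr
        apply this
        have e : g * (g⁻¹ * (x : G) * g) * g⁻¹ = x := by group
        rw [e]; exact x.2⟩
      left_inv := fun x => by ext; simp [mul_assoc]
      right_inv := fun x => by ext; simp [mul_assoc]
      map_mul' := fun x y => by ext; simp [mul_assoc] }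
  have hchar : C.map φ.toMonoidHom = C := Subgroup.characteristic_iff_map_eq.mp hC φ
  rintro _ ⟨x, hx, rfl⟩
  have : φ x ∈ C := by
    rw [← hchar]
    exact Subgroup.mem_map_of_mem _ hx
  exact ⟨φ x, this, rfl⟩

theorem norm_le_norm_Elay (X : Subgroup G) :
    Subgroup.normalizer (X : Set G) ≤ Subgroup.normalizer ((Elay X : Subgroup G) : Set G) :=
  norm_le_norm_char X _

theorem Elay_le (X : Subgroup G) : Elay X ≤ X := Subgroup.map_subtype_le _

theorem Elay_le_of_normal {U M : Subgroup G} (h : U ≤ M) (hn : M ≤ Subgroup.normalizer (U : Set G)) :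
    Elay U ≤ Elay M := by
  refine Elay_le_of fun C hC => ?_
  exact le_Elay_of ((RS.of_norm h hn).trans (RS.image hC)) (qs_image hC)

/-! ## The pair of maximal subgroups -/

/-- Two distinct conjugate core-free maximal subgroups. -/
structure Pair (M N : Subgroup G) : Prop where
  coM : IsCoatom M
  coN : IsCoatom N
  ne : M ≠ N
  freeM : ∀ U : Subgroup G, U ≤ M → U.Normal → U = ⊥
  freeN : ∀ U : Subgroup G, U ≤ N → U.Normal → U = ⊥
  conj : ∃ g : G, N = cj g M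

variable {M N : Subgroup G}

theorem Pair.symm (P : Pair M N) : Pair N M := by
  refine ⟨P.coN, P.coM, P.ne.symm, P.freeN, P.freeM, ?_⟩
  obtain ⟨g, hg⟩ := P.conj
  refine ⟨g⁻¹, ?_⟩
  rw [hg]
  ext x
  rw [mem_cj, mem_cj]
  simp [mul_assoc]

/-- Tool T: a non-trivial normal subgroup of `N` has normalizer `N`. -/
theorem Pair.mem_of_norm (P : Pair M N) {V : Subgroup G} (hV : V ≠ ⊥) (hVN : V ≤ N)
    (hn : N ≤ Subgroup.normalizer (V : Set G)) {x : G} (hx : x ∈ Subgroup.normalizer (V : Set G)) : x ∈ N := by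
  by_contra hxN
  have hlt : N < Subgroup.normalizer (V : Set G) := lt_of_le_of_ne hn (fun h => hxN (h ▸ hx))
  have htop := P.coN.2 _ hlt
  exact hV (P.freeN V hVN (Subgroup.normalizer_eq_top_iff.mp htop))

theorem Pair.bot_of_both (P : Pair M N) {V : Subgroup G} (hVM : V ≤ M) (hVN : V ≤ N)
    (hM : M ≤ Subgroup.normalizer (V : Set G)) (hN : N ≤ Subgroup.normalizer (V : Set G)) : V = ⊥ := by
  by_contra hV
  have hle : M ≤ N := fun x hx => P.mem_of_norm hV hVN hN (hM hx)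
  have hlt : M < N := lt_of_le_of_ne hle P.ne
  exact P.coN.1 (P.coM.2 _ hlt)

/-! ## Cores -/

/-- The core in `M` of `S`. -/
def cor (M S : Subgroup G) : Subgroup G := (S.subgroupOf M).normalCore.map M.subtype

theorem mem_cor {M S : Subgroup G} {x : G} : x ∈ cor M S ↔ x ∈ M ∧ ∀ t ∈ M, t * x * t⁻¹ ∈ S := by
  constructor
  · rintro ⟨⟨y, hy⟩, hyc, rfl⟩
    refine ⟨hy, fun t ht => ?_⟩
    have := hyc ⟨t, ht⟩
    simpa [Subgroup.mem_subgroupOf] using this
  · rintro ⟨hxM, h⟩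
    refine ⟨⟨x, hxM⟩, ?_, rfl⟩
    intro t
    rw [Subgroup.mem_subgroupOf]
    simpa using h t t.2

theorem cor_le_left (M S : Subgroup G) : cor M S ≤ M := fun _ hx => (mem_cor.mp hx).1

theorem cor_le_right (M S : Subgroup G) : cor M S ≤ S := by
  intro x hx
  have := (mem_cor.mp hx).2 1 M.one_mem
  simpa using this

theorem M_le_norm_cor (M S : Subgroup G) : M ≤ Subgroup.normalizer (cor M S : Set G) := by
  refine le_norm_of_conj ?_
  intro a ha x hx
  rw [mem_cor] at hx ⊢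
  refine ⟨M.mul_mem (M.mul_mem ha hx.1) (M.inv_mem ha), fun t ht => ?_⟩
  have := hx.2 (t * a) (M.mul_mem ht ha)
  have e : t * (a * x * a⁻¹) * t⁻¹ = t * a * x * (t * a)⁻¹ := by group
  rwa [e]

theorem le_cor {M S U : Subgroup G} (hUM : U ≤ M) (hUS : U ≤ S)
    (hn : M ≤ Subgroup.normalizer (U : Set G)) : U ≤ cor M S := by
  intro x hx
  rw [mem_cor]
  exact ⟨hUM hx, fun t ht => hUS (conj_mem_of_norm (hn ht) hx)⟩

/-- First core. -/
abbrev A1 (M N : Subgroup G) : Subgroup G := cor M (M ⊓ N)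

/-- Second core. -/
abbrev A2 (M N : Subgroup G) : Subgroup G := cor M (A1 M N ⊓ A1 N M)

theorem A1_le_left (M N : Subgroup G) : A1 M N ≤ M := cor_le_left _ _

theorem A1_le_right (M N : Subgroup G) : A1 M N ≤ N := (cor_le_right _ _).trans inf_le_right

theorem M_norm_A1 (M N : Subgroup G) : M ≤ Subgroup.normalizer (A1 M N : Set G) := M_le_norm_cor _ _

theorem B_norm_A1 (M N : Subgroup G) : A1 N M ≤ Subgroup.normalizer (A1 M N : Set G) :=
  (A1_le_right N M).trans (M_norm_A1 M N)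

theorem A2_le_A (M N : Subgroup G) : A2 M N ≤ A1 M N := (cor_le_right _ _).trans inf_le_left

theorem A2_le_B (M N : Subgroup G) : A2 M N ≤ A1 N M := (cor_le_right _ _).trans inf_le_right

theorem A2_le_left (M N : Subgroup G) : A2 M N ≤ M := cor_le_left _ _

theorem A2_le_right (M N : Subgroup G) : A2 M N ≤ N := (A2_le_A M N).trans (A1_le_right M N)

theorem M_norm_A2 (M N : Subgroup G) : M ≤ Subgroup.normalizer (A2 M N : Set G) := M_le_norm_cor _ _

theorem A_norm_A2' (M N : Subgroup G) : A1 M N ≤ Subgroup.normalizer (A2 M N : Set G) :=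
  (A1_le_left M N).trans (M_norm_A2 M N)

theorem B_norm_A2 (M N : Subgroup G) : A1 N M ≤ Subgroup.normalizer (A2 M N : Set G) :=
  (A1_le_right N M).trans (M_norm_A2 M N)

theorem le_A2 {M N U : Subgroup G} (hUM : U ≤ M) (hUA : U ≤ A1 M N) (hUB : U ≤ A1 N M)
    (hn : M ≤ Subgroup.normalizer (U : Set G)) : U ≤ A2 M N :=
  le_cor hUM (le_inf hUA hUB) hn

/-- The membership criterion for the first core. -/
theorem Pair.mem_A1 (P : Pair M N) {V : Subgroup G} (hV : V ≠ ⊥) (hVN : V ≤ N)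
    (hn : N ≤ Subgroup.normalizer (V : Set G)) {x : G} (hxM : x ∈ M)
    (h : ∀ t ∈ M, t * x * t⁻¹ ∈ Subgroup.normalizer (V : Set G)) : x ∈ A1 M N := by
  rw [mem_cor]
  refine ⟨hxM, fun t ht => ⟨M.mul_mem (M.mul_mem ht hxM) (M.inv_mem ht), ?_⟩⟩
  exact P.mem_of_norm hV hVN hn (h t ht)

/-- Both first cores are normal in their join. -/
theorem RS_sup_left (M N : Subgroup G) : RS (A1 M N ⊔ A1 N M) (A1 M N) :=
  RS.of_norm le_sup_left (sup_le Subgroup.le_normalizer (B_norm_A1 M N))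

theorem RS_sup_right (M N : Subgroup G) : RS (A1 M N ⊔ A1 N M) (A1 N M) :=
  RS.of_norm le_sup_right (sup_le (B_norm_A1 N M) Subgroup.le_normalizer)

/-! ## Step 1: the layers of the second cores vanish -/

section Steps

variable [Finite G]

/-- `E(X) ≤ Y`. -/
theorem Pair.Elay_le_other (P : Pair M N) (hY : A2 N M ≠ ⊥) : Elay (A2 M N) ≤ A2 N M := by
  intro x hx
  have hxX : x ∈ A2 M N := Elay_le _ hx
  rw [mem_cor]
  refine ⟨A2_le_right M N hxX, fun h hh => ⟨?_, ?_⟩⟩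
  · exact conj_mem_of_norm (M_norm_A1 N M hh) (A2_le_B M N hxX)
  · have h1 : h * x * h⁻¹ ∈ A1 N M := conj_mem_of_norm (M_norm_A1 N M hh) (A2_le_B M N hxX)
    refine P.mem_A1 hY (A2_le_left N M) (M_norm_A2 N M) (A1_le_right N M h1) fun t ht => ?_
    -- reduce to components
    let H : Subgroup G := (Subgroup.normalizer (A2 N M : Set G)).comap (MulAut.conj (t * h)).toMonoidHom
    suffices hE : Elay (A2 M N) ≤ H by
      have := hE hx
      have h2 : (MulAut.conj (t * h)).toMonoidHom x ∈ Subgroup.normalizer (A2 N M : Set G) := this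
      have e : (MulAut.conj (t * h)).toMonoidHom x = t * (h * x * h⁻¹) * t⁻¹ := by
        simp [mul_assoc]
      rwa [e] at h2
    refine Elay_le_of fun C hC => ?_
    intro c hc
    set C' : Subgroup G := C.map (A2 M N).subtype with hC'
    have hRS1 : RS (A1 N M) (A2 M N) := RS.of_norm (A2_le_B M N) (B_norm_A2 M N)
    have hRS2 : RS (A1 N M) (cj h C') := ((hRS1.trans (RS.image hC)).conj_of_norm (M_norm_A1 N M hh))
    have hRS3 : RS (A1 M N) (A2 N M) := RS.of_norm (A2_le_B N M) (B_norm_A2 N M)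
    have hRS4 : RS (A1 M N) (cj t⁻¹ (A2 N M)) :=
      hRS3.conj_of_norm (M_norm_A1 M N (M.inv_mem ht))
    have hle := ((RS_sup_right M N).trans hRS2).comp_le_norm (qs_cj (qs_image hC))
      ((RS_sup_left M N).trans hRS4)
    have h5 := hle (conj_mem_cj (h := h) hc)
    rw [mem_norm_cj] at h5
    have e : (MulAut.conj (t * h)).toMonoidHom c = t⁻¹⁻¹ * (h * c * h⁻¹) * t⁻¹ := by
      simp [mul_assoc]
    show (MulAut.conj (t * h)).toMonoidHom c ∈ Subgroup.normalizer (A2 N M : Set G)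
    rwa [e]

/-- `E(X) = 1`. -/
theorem Pair.Elay_eq_bot (P : Pair M N) (hX : A2 M N ≠ ⊥) (hY : A2 N M ≠ ⊥) :
    Elay (A2 M N) = ⊥ := by
  have h1 : Elay (A2 M N) ≤ Elay (A2 N M) :=
    Elay_le_Elay' (P.Elay_le_other hY) ((A2_le_A N M).trans (B_norm_A2 M N))
  have h2 : Elay (A2 N M) ≤ Elay (A2 M N) :=
    Elay_le_Elay' (P.symm.Elay_le_other hX) ((A2_le_A M N).trans (B_norm_A2 N M))
  have he : Elay (A2 M N) = Elay (A2 N M) := le_antisymm h1 h2
  refine P.bot_of_both ((Elay_le _).trans (A2_le_left M N)) ((Elay_le _).trans (A2_le_right M N))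
    ((M_norm_A2 M N).trans (norm_le_norm_Elay _)) ?_
  rw [he]
  exact (M_norm_A2 N M).trans (norm_le_norm_Elay _)

/-! ## Step 2: a single prime -/

theorem norm_le_norm_Oc (K : Subgroup G) (p : ℕ) [Fact p.Prime] :
    Subgroup.normalizer (K : Set G) ≤ Subgroup.normalizer (Oc p K : Set G) :=
  le_norm_of_conj fun _ hn _ hx => conj_mem_Oc_of_normalizer hn hx

theorem M_norm_Oc (K : Subgroup G) (p : ℕ) : K ≤ Subgroup.normalizer (Oc p K : Set G) :=
  le_norm_of_conj fun _ hn _ hx => conj_mem_Oc hn hx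

theorem comm_norm_of_comm {V Q : Subgroup G} {x t : G} (ht : t⁻¹ ∈ Subgroup.normalizer (Q : Set G))
    (hVQ : V ≤ Q) (h : ∀ b ∈ Q, x * b = b * x) : t * x * t⁻¹ ∈ Subgroup.normalizer (V : Set G) := by
  apply Subgroup.centralizer_le_normalizer
  rw [Subgroup.mem_centralizer_iff]
  intro v hv
  have h1 : t⁻¹ * v * t ∈ Q := by
    have := conj_mem_of_norm ht (hVQ hv)
    simpa using this
  have h2 := h _ h1
  calc v * (t * x * t⁻¹) = t * ((t⁻¹ * v * t) * x) * t⁻¹ := by group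
    _ = t * (x * (t⁻¹ * v * t)) * t⁻¹ := by rw [h2]
    _ = t * x * t⁻¹ * v := by group

/-- If `O_σ(Y) ≠ 1` then `O_r(B₁) ≤ Y` for `r ≠ σ`. -/
theorem Pair.key2P (P : Pair M N) {r σ : ℕ} [Fact r.Prime] [Fact σ.Prime] (hrσ : r ≠ σ)
    (hV : Oc σ (A2 N M) ≠ ⊥) : Oc r (A1 N M) ≤ A2 N M := by
  have hPQ := comm_of_mutual hrσ (isPGroup_Oc r (A1 N M)) (isPGroup_Oc σ (A1 M N))
    (((Oc_le r _).trans (B_norm_A1 M N)).trans (norm_le_norm_Oc _ _))
    (((Oc_le σ _).trans (B_norm_A1 N M)).trans (norm_le_norm_Oc _ _))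
  have hVQ : Oc σ (A2 N M) ≤ Oc σ (A1 M N) := Oc_le_Oc_of_normal (A2_le_B N M) (B_norm_A2 N M)
  have hVN : Oc σ (A2 N M) ≤ N := (Oc_le σ _).trans (A2_le_left N M)
  have hVn : N ≤ Subgroup.normalizer (Oc σ (A2 N M) : Set G) :=
    (M_norm_A2 N M).trans (norm_le_norm_Oc _ _)
  have hA : Oc r (A1 N M) ≤ A1 M N := by
    intro x hx
    refine P.mem_A1 hV hVN hVn (A1_le_right N M (Oc_le r _ hx)) fun t ht => ?_
    refine comm_norm_of_comm (Q := Oc σ (A1 M N)) ?_ hVQ fun b hb => hPQ x hx b hb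
    exact norm_le_norm_Oc _ _ (M_norm_A1 M N (M.inv_mem ht))
  exact le_A2 ((Oc_le r _).trans (A1_le_left N M)) (Oc_le r _) hA
    ((M_norm_A1 N M).trans (norm_le_norm_Oc _ _))

theorem Pair.key2P' (P : Pair M N) {r σ : ℕ} [Fact r.Prime] [Fact σ.Prime] (hrσ : r ≠ σ)
    (hV : Oc σ (A2 N M) ≠ ⊥) : Oc r (A1 N M) ≤ Oc r (A2 N M) :=
  le_Oc (P.key2P hrσ hV) (isPGroup_Oc r _) fun _ hh _ hx => conj_mem_Oc (A2_le_A N M hh) hx

theorem Oc_X_le_B (M N : Subgroup G) (r : ℕ) [Fact r.Prime] : Oc r (A2 M N) ≤ Oc r (A1 N M) :=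
  Oc_le_Oc_of_normal (A2_le_B M N) (B_norm_A2 M N)

theorem Oc_X_le_A (M N : Subgroup G) (r : ℕ) [Fact r.Prime] : Oc r (A2 M N) ≤ Oc r (A1 M N) :=
  Oc_le_Oc_of_normal (A2_le_A M N) (A_norm_A2' M N)

theorem Oc_A_le_M (M N : Subgroup G) (r : ℕ) [Fact r.Prime] : Oc r (A1 M N) ≤ Oc r M :=
  Oc_le_Oc_of_normal (A1_le_left M N) (M_norm_A1 M N)

theorem Pair.two_primes (P : Pair M N) {r σ : ℕ} [Fact r.Prime] [Fact σ.Prime] (hrσ : r ≠ σ)
    (hX : Oc r (A2 M N) ≠ ⊥) (hY : Oc σ (A2 N M) ≠ ⊥) : False := by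
  have h1 : Oc r (A2 M N) ≤ Oc r (A2 N M) := (Oc_X_le_B M N r).trans (P.key2P' hrσ hY)
  have h2 : Oc σ (A2 N M) ≤ Oc σ (A2 M N) := (Oc_X_le_B N M σ).trans (P.symm.key2P' hrσ.symm hX)
  have h3 : Oc σ (A2 M N) ≠ ⊥ := by
    intro h
    rw [h, le_bot_iff] at h2
    exact hY h2
  have h4 : Oc r (A2 N M) ≤ Oc r (A2 M N) := (Oc_X_le_B N M r).trans (P.symm.key2P' hrσ h3)
  have he : Oc r (A2 M N) = Oc r (A2 N M) := le_antisymm h1 h4
  apply hX
  refine P.bot_of_both ((Oc_le r _).trans (A2_le_left M N)) ((Oc_le r _).trans (A2_le_right M N))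
    ((M_norm_A2 M N).trans (norm_le_norm_Oc _ _)) ?_
  rw [he]
  exact (M_norm_A2 N M).trans (norm_le_norm_Oc _ _)

theorem Elay_eq_bot_iff (X : Subgroup G) : Elay X = ⊥ ↔ layer ↥X = ⊥ :=
  Subgroup.map_eq_bot_iff_of_injective _ X.subtype_injective

theorem Oc_eq_bot_iff (X : Subgroup G) (r : ℕ) : Oc r X = ⊥ ↔ pCore r ↥X = ⊥ :=
  Subgroup.map_eq_bot_iff_of_injective _ X.subtype_injective

theorem exists_Oc_ne_bot {X : Subgroup G} (hX : X ≠ ⊥) (hE : Elay X = ⊥) :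
    ∃ r : ℕ, r.Prime ∧ Oc r X ≠ ⊥ := by
  by_contra hcon
  push_neg at hcon
  have hfit : fittingSubgroup ↥X = ⊥ := by
    rw [fittingSubgroup_eq_iSup_pCore]
    refine le_bot_iff.mp (iSup_le fun r => ?_)
    exact le_of_eq ((Oc_eq_bot_iff X _).mp (hcon r r.2))
  have hF : generalizedFittingSubgroup ↥X = ⊥ := by
    unfold generalizedFittingSubgroup
    rw [hfit, (Elay_eq_bot_iff X).mp hE, sup_bot_eq]
  have h := centralizer_generalizedFitting_le (G := ↥X)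
  rw [hF] at h
  apply hX
  rw [eq_bot_iff]
  intro x hx
  have h1 : (⟨x, hx⟩ : ↥X) ∈ (⊥ : Subgroup ↥X) := h (by
    rw [Subgroup.mem_centralizer_iff]
    intro y hy
    simp at hy
    simp [hy])
  rw [Subgroup.mem_bot] at h1 ⊢
  exact congrArg Subtype.val h1

/-- `F*(X) = O_p(X)` as soon as `E(X) = 1` and `O_τ(X) = 1` for `τ ≠ p`. -/
theorem fstar_eq_pCore {X : Subgroup G} {p : ℕ} [Fact p.Prime] (hE : Elay X = ⊥)
    (h : ∀ τ : ℕ, τ.Prime → τ ≠ p → Oc τ X = ⊥) :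
    generalizedFittingSubgroup ↥X = pCore p ↥X := by
  unfold generalizedFittingSubgroup
  rw [(Elay_eq_bot_iff X).mp hE, bot_sup_eq, fittingSubgroup_eq_iSup_pCore]
  apply le_antisymm
  · refine iSup_le fun r => ?_
    by_cases hr : r.1 = p
    · have : r = ⟨p, Fact.out⟩ := Subtype.ext hr
      rw [this]
    · rw [(Oc_eq_bot_iff X _).mp (h r r.2 hr)]
      exact bot_le
  · exact le_iSup (f := fun r : {q : ℕ // q.Prime} => pCore r.1 ↥X) (⟨p, Fact.out⟩ : {q : ℕ // q.Prime})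

/-- The prime `p`. -/
theorem Pair.exists_prime (P : Pair M N) (hX : A2 M N ≠ ⊥) (hY : A2 N M ≠ ⊥) :
    ∃ p : ℕ, p.Prime ∧ Oc p (A2 M N) ≠ ⊥ ∧ Oc p (A2 N M) ≠ ⊥ ∧
      (∀ τ : ℕ, τ.Prime → τ ≠ p → Oc τ (A2 M N) = ⊥) ∧
      (∀ τ : ℕ, τ.Prime → τ ≠ p → Oc τ (A2 N M) = ⊥) := by
  obtain ⟨p, hp, hpX⟩ := exists_Oc_ne_bot hX (P.Elay_eq_bot hX hY)
  obtain ⟨q, hq, hqY⟩ := exists_Oc_ne_bot hY (P.symm.Elay_eq_bot hY hX)
  have := Fact.mk hp
  have := Fact.mk hq
  have hpq : p = q := by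
    by_contra hne
    exact P.two_primes hne hpX hqY
  subst hpq
  refine ⟨p, hp, hpX, hqY, fun τ hτ hne => ?_, fun τ hτ hne => ?_⟩
  · by_contra hc
    have := Fact.mk hτ
    exact P.two_primes hne hc hqY
  · by_contra hc
    have := Fact.mk hτ
    exact P.two_primes hne.symm hpX hc

/-! ## Step 3: `F*(M) = O_p(M)` -/

theorem Pair.Oc_M_bot (P : Pair M N) {p τ : ℕ} [Fact p.Prime] [Fact τ.Prime] (hne : τ ≠ p)
    (hX : Oc p (A2 M N) ≠ ⊥) (hY : Oc p (A2 N M) ≠ ⊥) (hτ : Oc τ (A2 M N) = ⊥) : Oc τ M = ⊥ := by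
  have hVQ : Oc p (A2 N M) ≤ Oc p M :=
    ((Oc_le_Oc_of_normal (A2_le_B N M) (B_norm_A2 N M))).trans (Oc_A_le_M M N p)
  have hR : Oc τ M ≤ A1 M N := by
    intro x hx
    refine P.mem_A1 hY ((Oc_le p _).trans (A2_le_left N M)) ((M_norm_A2 N M).trans (norm_le_norm_Oc _ _))
      (Oc_le τ _ hx) fun t ht => ?_
    refine comm_norm_of_comm (Q := Oc p M) (M_norm_Oc M p (M.inv_mem ht)) hVQ fun b hb => ?_
    exact comm_of_mutual hne (isPGroup_Oc τ M) (isPGroup_Oc p M)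
      ((Oc_le τ _).trans (M_norm_Oc M p)) ((Oc_le p _).trans (M_norm_Oc M τ)) x hx b hb
  have h1 : Oc τ M ≤ Oc τ (A1 M N) :=
    le_Oc hR (isPGroup_Oc τ M) fun _ hh _ hx => conj_mem_Oc (A1_le_left M N hh) hx
  have h2 := h1.trans (P.symm.key2P' hne hX)
  rwa [hτ, le_bot_iff] at h2

theorem Pair.Elay_M_bot (P : Pair M N) {p : ℕ} [Fact p.Prime]
    (hX : Oc p (A2 M N) ≠ ⊥) (hY : Oc p (A2 N M) ≠ ⊥) (hEX : Elay (A2 M N) = ⊥) : Elay M = ⊥ := by
  have hVQ : Oc p (A2 N M) ≤ Oc p M :=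
    ((Oc_le_Oc_of_normal (A2_le_B N M) (B_norm_A2 N M))).trans (Oc_A_le_M M N p)
  have h1 : Elay M ≤ A1 M N := by
    intro x hx
    refine P.mem_A1 hY ((Oc_le p _).trans (A2_le_left N M)) ((M_norm_A2 N M).trans (norm_le_norm_Oc _ _))
      (Elay_le M hx) fun t ht => ?_
    refine comm_norm_of_comm (Q := Oc p M) (M_norm_Oc M p (M.inv_mem ht)) hVQ fun b hb => ?_
    exact Elay_comm_Ffit M hx (Ofit_le_Ffit M p hb)
  have h2 : Elay M ≤ A1 N M := by
    intro x hx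
    refine P.symm.mem_A1 hX ((Oc_le p _).trans (A2_le_left M N)) ((M_norm_A2 M N).trans (norm_le_norm_Oc _ _))
      (A1_le_right M N (h1 hx)) fun h hh => ?_
    let H : Subgroup G := (Subgroup.normalizer (Oc p (A2 M N) : Set G)).comap (MulAut.conj h).toMonoidHom
    suffices hE : Elay M ≤ H by
      have h2 : (MulAut.conj h).toMonoidHom x ∈ Subgroup.normalizer (Oc p (A2 M N) : Set G) := hE hx
      have e : (MulAut.conj h).toMonoidHom x = h * x * h⁻¹ := by simp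
      rwa [e] at h2
    refine Elay_le_of fun C hC => ?_
    intro c hc
    have hCE : C.map M.subtype ≤ Elay M := Subgroup.map_mono (comp_le_layer hC)
    have hRS : RS (A1 M N) (C.map M.subtype) := by
      have := (RS.image hC).inter (hCE.trans h1)
      rwa [inf_eq_right.mpr (A1_le_left M N)] at this
    have hRS2 : RS (A1 N M) (Oc p (A1 N M)) := RS.of_norm (Oc_le p _) (M_norm_Oc _ p)
    have hcomm := ((RS_sup_left M N).trans hRS).comp_comm_pgroup (qs_image hC)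
      ((RS_sup_right M N).trans hRS2) (isPGroup_Oc p _)
    show (MulAut.conj h).toMonoidHom c ∈ Subgroup.normalizer (Oc p (A2 M N) : Set G)
    have e : (MulAut.conj h).toMonoidHom c = h * c * h⁻¹ := by simp
    rw [e]
    exact comm_norm_of_comm (Q := Oc p (A1 N M))
      (norm_le_norm_Oc _ _ (M_norm_A1 N M (N.inv_mem hh))) (Oc_X_le_B M N p) (hcomm c hc)
  have h3 : Elay M ≤ A2 M N := le_A2 (Elay_le M) h1 h2 (norm_le_norm_Elay M |> fun h => (Subgroup.le_normalizer).trans h)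
  have h4 : Elay M ≤ Elay (A2 M N) :=
    Elay_le_Elay' h3 ((A2_le_left M N).trans Subgroup.le_normalizer)
  rwa [hEX, le_bot_iff] at h4

/-! ## Step 4: the second cores are `p`-groups -/

theorem mem_norm_inf {P P' : Subgroup G} {y : G} (h1 : y ∈ Subgroup.normalizer (P : Set G))
    (h2 : y ∈ Subgroup.normalizer (P' : Set G)) : y ∈ Subgroup.normalizer ((P ⊓ P' : Subgroup G) : Set G) := by
  rw [Subgroup.mem_normalizer_iff] at h1 h2 ⊢
  intro x
  simp only [Subgroup.mem_inf]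
  rw [h1 x, h2 x]

/-- Two actions which agree modulo `T` on `P` have agreeing powers. -/
theorem iter_act {P T : Subgroup G} {u z : G} (huP : u ∈ Subgroup.normalizer (P : Set G))
    (huT : u ∈ Subgroup.normalizer (T : Set G)) (hzP : z ∈ Subgroup.normalizer (P : Set G))
    (h : ∀ a ∈ P, (u * a * u⁻¹) * (z * a * z⁻¹)⁻¹ ∈ T) (n : ℕ) :
    ∀ a ∈ P, (u ^ n * a * (u ^ n)⁻¹) * (z ^ n * a * (z ^ n)⁻¹)⁻¹ ∈ T := by
  induction n with
  | zero =>
    intro a _
    simp [T.one_mem]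
  | succ n ih =>
    intro a ha
    have h1 := conj_mem_of_norm huT (ih a ha)
    have hc : z ^ n * a * (z ^ n)⁻¹ ∈ P := by
      have : z ^ n ∈ Subgroup.normalizer (P : Set G) := Subgroup.pow_mem _ hzP n
      exact conj_mem_of_norm this ha
    have h2 := h _ hc
    have e : (u ^ (n + 1) * a * (u ^ (n + 1))⁻¹) * (z ^ (n + 1) * a * (z ^ (n + 1))⁻¹)⁻¹ =
        (u * ((u ^ n * a * (u ^ n)⁻¹) * (z ^ n * a * (z ^ n)⁻¹)⁻¹) * u⁻¹) *
          ((u * (z ^ n * a * (z ^ n)⁻¹) * u⁻¹) * (z * (z ^ n * a * (z ^ n)⁻¹) * z⁻¹)⁻¹) := by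
      rw [pow_succ', pow_succ']
      group
    rw [e]
    exact T.mul_mem h1 h2

/-- The key action lemma. -/
theorem key_act {p : ℕ} {P P' : Subgroup G} {y u : G}
    (hyP : y ∈ Subgroup.normalizer (P : Set G)) (hyP' : y ∈ Subgroup.normalizer (P' : Set G))
    (huP : u ∈ Subgroup.normalizer (P : Set G)) (huP' : u ∈ Subgroup.normalizer (P' : Set G))
    (hy : (orderOf y).Coprime p) {k : ℕ} (hu : u ^ p ^ k = 1)
    (h1 : ∀ a ∈ P, a⁻¹ * (y * u) * a * (y * u)⁻¹ ∈ P') :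
    ∀ a ∈ P, a⁻¹ * y * a * y⁻¹ ∈ P' := by
  set T : Subgroup G := P ⊓ P' with hT
  have hyT : y ∈ Subgroup.normalizer (T : Set G) := mem_norm_inf hyP hyP'
  have huT : u ∈ Subgroup.normalizer (T : Set G) := mem_norm_inf huP huP'
  have hzP : y⁻¹ ∈ Subgroup.normalizer (P : Set G) := Subgroup.inv_mem _ hyP
  have hA : ∀ b ∈ P, (u * b * u⁻¹) * (y⁻¹ * b * y⁻¹⁻¹)⁻¹ ∈ T := by
    intro b hb
    have h2 := h1 b⁻¹ (P.inv_mem hb)
    have h3 : (y * u) * b⁻¹ * (y * u)⁻¹ ∈ P :=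
      conj_mem_of_norm (Subgroup.mul_mem _ hyP huP) (P.inv_mem hb)
    have h4 : b * ((y * u) * b⁻¹ * (y * u)⁻¹) ∈ T := by
      refine ⟨P.mul_mem hb h3, ?_⟩
      have e : b⁻¹⁻¹ * (y * u) * b⁻¹ * (y * u)⁻¹ = b * ((y * u) * b⁻¹ * (y * u)⁻¹) := by group
      rwa [e] at h2
    have h5 := conj_mem_of_norm (Subgroup.inv_mem _ hyT) h4
    have h6 := T.inv_mem h5
    have e : (u * b * u⁻¹) * (y⁻¹ * b * y⁻¹⁻¹)⁻¹ = (y⁻¹ * (b * ((y * u) * b⁻¹ * (y * u)⁻¹)) * y⁻¹⁻¹)⁻¹ := by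
      group
    rw [e]
    exact h6
  have hB := iter_act huP huT hzP hA (p ^ k)
  rw [hu] at hB
  set w : G := y⁻¹ ^ p ^ k with hw
  have hB' : ∀ b ∈ P, ((1 : G) * b * (1 : G)⁻¹) * (w * b * w⁻¹)⁻¹ ∈ T := hB
  have hwP : w ∈ Subgroup.normalizer (P : Set G) := Subgroup.pow_mem _ hzP _
  have hC := iter_act (u := 1) (z := w) (Subgroup.one_mem _) (Subgroup.one_mem _) hwP hB'
  have hcop : (p ^ k).Coprime (orderOf y⁻¹) := by
    rw [orderOf_inv]
    exact (Nat.Coprime.pow_right k hy).symm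
  obtain ⟨s, hs⟩ := exists_pow_eq_self_of_coprime hcop
  intro a ha
  have hb : y * a⁻¹ * y⁻¹ ∈ P := conj_mem_of_norm hyP (P.inv_mem ha)
  have h7 := hC s _ hb
  have hs' : w ^ s = y⁻¹ := hs
  rw [one_pow, hs'] at h7
  have h8 := T.inv_mem h7
  have e : a⁻¹ * y * a * y⁻¹ = ((1 * (y * a⁻¹ * y⁻¹) * 1⁻¹) * (y⁻¹ * (y * a⁻¹ * y⁻¹) * y⁻¹⁻¹)⁻¹)⁻¹ := by
    group
  rw [e]
  exact h8.2

/-- The subgroup `[U, X']`, where `X'` is the set of `p'`-elements of `X`. -/
def Com (p : ℕ) (X U : Subgroup G) : Subgroup G :=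
  Subgroup.closure {z | ∃ y, y ∈ X ∧ (orderOf y).Coprime p ∧ ∃ u ∈ U, z = u⁻¹ * y * u * y⁻¹}

theorem Com_mem {p : ℕ} {X U : Subgroup G} {y u : G} (hy : y ∈ X) (hc : (orderOf y).Coprime p)
    (hu : u ∈ U) : u⁻¹ * y * u * y⁻¹ ∈ Com p X U :=
  Subgroup.subset_closure ⟨y, hy, hc, u, hu, rfl⟩

theorem Com_le {p : ℕ} {X U : Subgroup G} (hX : X ≤ Subgroup.normalizer (U : Set G)) :
    Com p X U ≤ U := by
  rw [Com, Subgroup.closure_le]
  rintro _ ⟨y, hy, _, u, hu, rfl⟩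
  have h1 := conj_mem_of_norm (hX hy) hu
  have e : u⁻¹ * y * u * y⁻¹ = u⁻¹ * (y * u * y⁻¹) := by group
  show u⁻¹ * y * u * y⁻¹ ∈ U
  rw [e]
  exact U.mul_mem (U.inv_mem hu) h1

theorem Com_norm {p : ℕ} {M X U : Subgroup G} (hMX : M ≤ Subgroup.normalizer (X : Set G))
    (hMU : M ≤ Subgroup.normalizer (U : Set G)) : M ≤ Subgroup.normalizer (Com p X U : Set G) := by
  refine le_norm_of_conj ?_
  intro a ha x hx
  have : Com p X U ≤ (Com p X U).comap (MulAut.conj a).toMonoidHom := by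
    rw [Com, Subgroup.closure_le]
    rintro _ ⟨y, hy, hc, u, hu, rfl⟩
    have h1 : a * y * a⁻¹ ∈ X := conj_mem_of_norm (hMX ha) hy
    have h2 : a * u * a⁻¹ ∈ U := conj_mem_of_norm (hMU ha) hu
    have h3 : (orderOf (a * y * a⁻¹)).Coprime p := by rwa [orderOf_conj_eq]
    have h4 := Com_mem h1 h3 h2
    show (MulAut.conj a).toMonoidHom (u⁻¹ * y * u * y⁻¹) ∈ Subgroup.closure _
    have e : (MulAut.conj a).toMonoidHom (u⁻¹ * y * u * y⁻¹) =
        (a * u * a⁻¹)⁻¹ * (a * y * a⁻¹) * (a * u * a⁻¹) * (a * y * a⁻¹)⁻¹ := by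
      simp only [MulEquiv.toMonoidHom_eq_coe, MonoidHom.coe_coe, MulAut.conj_apply]
      group
    rw [e]
    exact h4
  have h5 := this hx
  have e : (MulAut.conj a).toMonoidHom x = a * x * a⁻¹ := by simp
  rwa [Subgroup.mem_comap, e] at h5

/-- The property transferred along the chain. -/
def Pr (p : ℕ) (X N : Subgroup G) (c : G) (U : Subgroup G) : Prop :=
  ∀ h ∈ N, cj h (Com p X U) ≤ cj (c * h) U

section Fixed

variable {p : ℕ} [Fact p.Prime] {c : G}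

theorem B_norm_cj {b : G} {U : Subgroup G} (hb : b ∈ N) (hU : M ≤ Subgroup.normalizer (U : Set G)) :
    A1 N M ≤ Subgroup.normalizer (cj b U : Set G) :=
  le_norm_cj (M_norm_A1 N M hb) ((A1_le_right N M).trans hU)

theorem pr_of {U : Subgroup G} (hU : M ≤ Subgroup.normalizer (U : Set G)) (hcN : c ∈ N)
    (hc : ∀ y ∈ A1 N M, ∃ k : ℕ, (y⁻¹ * (c * y * c⁻¹)) ^ p ^ k = 1)
    (H : ∀ h ∈ N, ∀ a ∈ cj h U, ∀ y ∈ A2 M N, (orderOf y).Coprime p →
      a⁻¹ * ((c * h) * y * (c * h)⁻¹) * a * ((c * h) * y * (c * h)⁻¹)⁻¹ ∈ cj (c * h) U) :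
    Pr p (A2 M N) N c U := by
  intro h hh
  rw [Subgroup.map_le_iff_le_comap, Com, Subgroup.closure_le]
  rintro _ ⟨y, hy, hyc, u, hu, rfl⟩
  show (MulAut.conj h).toMonoidHom (u⁻¹ * y * u * y⁻¹) ∈ cj (c * h) U
  set yh := h * y * h⁻¹ with hyh
  have hyhB : yh ∈ A1 N M := conj_mem_of_norm (M_norm_A1 N M hh) (A2_le_B M N hy)
  have hch : c * h ∈ N := N.mul_mem hcN hh
  have hcyB : c * yh * c⁻¹ ∈ A1 N M := conj_mem_of_norm (M_norm_A1 N M hcN) hyhB
  have hu'B : yh⁻¹ * (c * yh * c⁻¹) ∈ A1 N M := Subgroup.mul_mem _ (Subgroup.inv_mem _ hyhB) hcyB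
  obtain ⟨k, hk⟩ := hc yh hyhB
  have hcop : (orderOf yh).Coprime p := by rw [hyh, orderOf_conj_eq]; exact hyc
  have hkey := key_act (P := cj h U) (P' := cj (c * h) U) (y := yh) (u := yh⁻¹ * (c * yh * c⁻¹))
    (B_norm_cj hh hU hyhB) (B_norm_cj hch hU hyhB) (B_norm_cj hh hU hu'B) (B_norm_cj hch hU hu'B)
    hcop hk (fun a ha => by
      have e1 : yh * (yh⁻¹ * (c * yh * c⁻¹)) = (c * h) * y * (c * h)⁻¹ := by
        rw [hyh]; group
      rw [e1]
      exact H h hh a ha y hy hyc)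
  have h9 := hkey (h * u * h⁻¹) (conj_mem_cj hu)
  have e : (MulAut.conj h).toMonoidHom (u⁻¹ * y * u * y⁻¹) =
      (h * u * h⁻¹)⁻¹ * yh * (h * u * h⁻¹) * yh⁻¹ := by
    simp only [MulEquiv.toMonoidHom_eq_coe, MonoidHom.coe_coe, MulAut.conj_apply]
    rw [hyh]
    group
  rw [e]
  exact h9

/-- The inductive step. -/
theorem pr_step {U : Subgroup G} (hU : M ≤ Subgroup.normalizer (U : Set G)) (hcN : c ∈ N)
    (hc : ∀ y ∈ A1 N M, ∃ k : ℕ, (y⁻¹ * (c * y * c⁻¹)) ^ p ^ k = 1)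
    (hPr : Pr p (A2 M N) N c U) : Pr p (A2 M N) N c (Com p (A2 M N) U) := by
  refine pr_of (Com_norm (M_norm_A2 M N) hU) hcN hc ?_
  intro h hh a ha y hy hyc
  obtain ⟨v, hv, rfl⟩ := hPr h hh ha
  have h1 := Com_mem (p := p) hy hyc hv
  have h2 := conj_mem_cj (h := c * h) h1
  have e : ((MulAut.conj (c * h)).toMonoidHom v)⁻¹ * ((c * h) * y * (c * h)⁻¹) *
      ((MulAut.conj (c * h)).toMonoidHom v) * ((c * h) * y * (c * h)⁻¹)⁻¹ =
      (c * h) * (v⁻¹ * y * v * y⁻¹) * (c * h)⁻¹ := by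
    simp only [MulEquiv.toMonoidHom_eq_coe, MonoidHom.coe_coe, MulAut.conj_apply]
    group
  rw [e]
  exact h2

/-- The base of the induction. -/
theorem pr_base (hcN : c ∈ N)
    (hc : ∀ y ∈ A1 N M, ∃ k : ℕ, (y⁻¹ * (c * y * c⁻¹)) ^ p ^ k = 1) :
    Pr p (A2 M N) N c (Oc p (A2 M N)) := by
  have hW : M ≤ Subgroup.normalizer (Oc p (A2 M N) : Set G) := (M_norm_A2 M N).trans (norm_le_norm_Oc _ _)
  refine pr_of hW hcN hc ?_
  intro h hh a ha y hy hyc
  set g := c * h with hg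
  have hgN : g ∈ N := N.mul_mem hcN hh
  rw [mem_cj]
  set W := Oc p (A2 M N) with hWdef
  set b := g⁻¹ * h with hb
  have hbN : b ∈ N := N.mul_mem (N.inv_mem hgN) hh
  have ha0 : g⁻¹ * a * g ∈ cj b W := by
    rw [mem_cj]
    rw [mem_cj] at ha
    have e : b⁻¹ * (g⁻¹ * a * g) * b = h⁻¹ * a * h := by rw [hb]; group
    rw [e]; exact ha
  set a0 := g⁻¹ * a * g with ha0def
  -- `X ∩ W^b ≤ W`
  have hWb : cj b W ≤ A1 N M :=
    cj_le_of_norm (M_norm_A1 N M hbN) (((Oc_le p _).trans (A2_le_B M N)))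
  have hS : A2 M N ⊓ cj b W ≤ W := by
    refine le_Oc inf_le_left ((isPGroup_cj (isPGroup_Oc p _)).to_le inf_le_right) ?_
    intro x hx z hz
    exact ⟨Subgroup.mul_mem _ (Subgroup.mul_mem _ hx hz.1) (Subgroup.inv_mem _ hx),
      conj_mem_of_norm (B_norm_cj hbN hW (A2_le_B M N hx)) hz.2⟩
  have hz : a0⁻¹ * y * a0 * y⁻¹ ∈ A2 M N ⊓ cj b W := by
    constructor
    · have h1 : a0⁻¹ * y * a0 ∈ A2 M N := by
        have := conj_mem_of_norm (B_norm_A2 M N (Subgroup.inv_mem _ (hWb ha0))) hy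
        simpa using this
      exact Subgroup.mul_mem _ h1 (Subgroup.inv_mem _ hy)
    · have h1 : y * a0 * y⁻¹ ∈ cj b W := conj_mem_of_norm (B_norm_cj hbN hW (A2_le_B M N hy)) ha0
      have e : a0⁻¹ * y * a0 * y⁻¹ = a0⁻¹ * (y * a0 * y⁻¹) := by group
      rw [e]
      exact Subgroup.mul_mem _ (Subgroup.inv_mem _ ha0) h1
  have h2 := hS hz
  have e : g⁻¹ * (a⁻¹ * (g * y * g⁻¹) * a * (g * y * g⁻¹)⁻¹) * g = a0⁻¹ * y * a0 * y⁻¹ := by
    rw [ha0def]; group
  rw [e]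
  exact h2

/-- The element criterion: `c` lies in the first core of `N`. -/
theorem Pair.c_mem (P : Pair M N) (hcN : c ∈ N)
    (hc : ∀ y ∈ A1 N M, ∃ k : ℕ, (y⁻¹ * (c * y * c⁻¹)) ^ p ^ k = 1)
    (hF : ∀ y ∈ A2 M N, (∀ u ∈ Oc p (A2 M N), y * u = u * y) → y ∈ Oc p (A2 M N))
    {y₀ : G} (hy₀ : y₀ ∈ A2 M N) (hy₀c : (orderOf y₀).Coprime p) (hy₀1 : y₀ ≠ 1) : c ∈ A1 N M := by
  set X := A2 M N with hX
  set W := Oc p X with hW
  let S : Set (Subgroup G) := {U | M ≤ Subgroup.normalizer (U : Set G) ∧ U ≤ W ∧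
    (∃ y ∈ X, (orderOf y).Coprime p ∧ ∃ u ∈ U, y * u ≠ u * y) ∧ Pr p X N c U}
  have hWM : M ≤ Subgroup.normalizer (W : Set G) := (M_norm_A2 M N).trans (norm_le_norm_Oc _ _)
  have hWp : IsPGroup p W := isPGroup_Oc p _
  have hne : S.Nonempty := by
    refine ⟨W, hWM, le_rfl, ?_, pr_base hcN hc⟩
    refine ⟨y₀, hy₀, hy₀c, ?_⟩
    by_contra hcon
    push_neg at hcon
    have h1 := hF y₀ hy₀ hcon
    exact hy₀1 (eq_one_of_pow_eq_one_of_coprime hWp h1 hy₀c (pow_orderOf_eq_one y₀))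
  obtain ⟨U, hUmin⟩ := S.toFinite.exists_minimal hne
  obtain ⟨hUM, hUW, ⟨y₁, hy₁, hy₁c, u₁, hu₁, hyu₁⟩, hUPr⟩ := hUmin.prop
  have hXM : X ≤ Subgroup.normalizer (U : Set G) := (A2_le_left M N).trans hUM
  have hUp : IsPGroup p U := hWp.to_le hUW
  have hCom : Com p X U ∈ S := by
    refine ⟨Com_norm (M_norm_A2 M N) hUM, (Com_le hXM).trans hUW, ?_, pr_step hUM hcN hc hUPr⟩
    by_contra hcon
    push_neg at hcon
    apply hyu₁
    refine commute_of_conj_eq_mul hUp (a := u₁) (c := u₁⁻¹ * y₁ * u₁ * y₁⁻¹) ?_ hy₁c ?_ ?_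
    · exact Com_le hXM (Com_mem hy₁ hy₁c hu₁)
    · group
    · exact hcon y₁ hy₁ hy₁c _ (Com_mem hy₁ hy₁c hu₁)
  have hEq : Com p X U = U := le_antisymm (Com_le hXM) (hUmin.le_of_le hCom (Com_le hXM))
  have hUne : U ≠ ⊥ := by
    rintro rfl
    apply hyu₁
    rw [Subgroup.mem_bot] at hu₁
    simp [hu₁]
  have hPr : ∀ h ∈ N, cj h U ≤ cj (c * h) U := by
    intro h hh
    have := hUPr h hh
    rwa [hEq] at this
  have hnorm : ∀ h ∈ N, h⁻¹ * c * h ∈ M := by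
    intro h hh
    apply P.symm.mem_of_norm hUne (hUW.trans ((Oc_le p _).trans (A2_le_left M N))) hUM
    rw [← mem_norm_cj]
    -- `cj h U` is normalized by `c`
    have hcard : Nat.card (cj h U) = Nat.card (cj (c * h) U) := by
      rw [Subgroup.card_map_of_injective (MulAut.conj h).injective,
        Subgroup.card_map_of_injective (MulAut.conj (c * h)).injective]
    have heq : cj h U = cj (c * h) U :=
      Subgroup.eq_of_le_of_card_ge (hPr h hh) (le_of_eq hcard.symm)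
    rw [Subgroup.mem_normalizer_iff]
    intro x
    have hx1 : c * x * c⁻¹ ∈ cj (c * h) U ↔ x ∈ cj h U := by
      rw [mem_cj, mem_cj]
      have e : (c * h)⁻¹ * (c * x * c⁻¹) * (c * h) = h⁻¹ * x * h := by group
      rw [e]
    rw [← heq] at hx1
    exact hx1.symm
  rw [mem_cor]
  refine ⟨hcN, fun t ht => ⟨N.mul_mem (N.mul_mem ht hcN) (N.inv_mem ht), ?_⟩⟩
  have := hnorm t⁻¹ (N.inv_mem ht)
  simpa using this

end Fixed

/-- `O_p` of conjugate subgroups: order comparison. -/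
theorem card_Oc_le_of_conj {p : ℕ} [Fact p.Prime] {M N : Subgroup G} {g : G} (hg : N = cj g M) :
    Nat.card (Oc p N) ≤ Nat.card (Oc p M) := by
  have hle : cj g⁻¹ (Oc p N) ≤ Oc p M := by
    refine le_Oc ?_ (isPGroup_cj (isPGroup_Oc p N)) ?_
    · intro x hx
      rw [mem_cj] at hx
      have h1 := Oc_le p N hx
      rw [hg, mem_cj] at h1
      simpa [mul_assoc] using h1
    · intro t ht x hx
      rw [mem_cj] at hx ⊢
      have h2 : g⁻¹⁻¹ * t * g⁻¹ ∈ N := by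
        rw [hg, mem_cj]
        simpa [mul_assoc] using ht
      have h3 := conj_mem_Oc h2 hx
      have e : g⁻¹⁻¹ * (t * x * t⁻¹) * g⁻¹ = (g⁻¹⁻¹ * t * g⁻¹) * (g⁻¹⁻¹ * x * g⁻¹) * (g⁻¹⁻¹ * t * g⁻¹)⁻¹ := by
        group
      rw [e]
      exact h3
  have h1 := Subgroup.card_le_of_le hle
  rwa [Subgroup.card_map_of_injective (MulAut.conj g⁻¹).injective] at h1

/-- Both `O_p(N) ≤ B₁` and `O_p(M) ∩ N ≤ B₁`, if `X` is not a `p`-group; contradiction. -/
theorem Pair.isP_X (P : Pair M N) {p : ℕ} [Fact p.Prime] (hX : Oc p (A2 M N) ≠ ⊥) (hY : Oc p (A2 N M) ≠ ⊥)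
    (hF : ∀ y ∈ A2 M N, (∀ u ∈ Oc p (A2 M N), y * u = u * y) → y ∈ Oc p (A2 M N)) :
    IsPGroup p (A2 M N) := by
  refine isPGroup_of_coprime_trivial fun y₀ hy₀ hy₀c => ?_
  by_contra hy₀1
  -- `Q₂ ≤ B₁`
  have hQ2 : Oc p N ≤ A1 N M := by
    intro c hc
    refine P.c_mem (Oc_le p N hc) (fun y hy => ?_) hF hy₀ hy₀c hy₀1
    have h1 : y⁻¹ * c * y ∈ Oc p N := by
      have := conj_mem_Oc (N.inv_mem (A1_le_left N M hy)) hc
      simpa using this
    have h2 : y⁻¹ * (c * y * c⁻¹) ∈ Oc p N := by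
      have e : y⁻¹ * (c * y * c⁻¹) = (y⁻¹ * c * y) * c⁻¹ := by group
      rw [e]
      exact Subgroup.mul_mem _ h1 (Subgroup.inv_mem _ hc)
    obtain ⟨k, hk⟩ := isPGroup_Oc p N ⟨_, h2⟩
    exact ⟨k, by simpa using congrArg Subtype.val hk⟩
  have hQ1 : Oc p M ⊓ N ≤ A1 N M := by
    rintro c ⟨hc, hcN⟩
    refine P.c_mem hcN (fun y hy => ?_) hF hy₀ hy₀c hy₀1
    have hyM : y ∈ M := A1_le_right N M hy
    have h1 : y⁻¹ * c * y ∈ Oc p M := by
      have := conj_mem_Oc (M.inv_mem hyM) hc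
      simpa using this
    have h2 : y⁻¹ * (c * y * c⁻¹) ∈ Oc p M := by
      have e : y⁻¹ * (c * y * c⁻¹) = (y⁻¹ * c * y) * c⁻¹ := by group
      rw [e]
      exact Subgroup.mul_mem _ h1 (Subgroup.inv_mem _ hc)
    obtain ⟨k, hk⟩ := isPGroup_Oc p M ⟨_, h2⟩
    exact ⟨k, by simpa using congrArg Subtype.val hk⟩
  have hQ12 : Oc p M ⊓ N ≤ Oc p N := by
    have h1 : Oc p M ⊓ A1 N M ≤ Oc p (A1 N M) := by
      refine le_Oc inf_le_right ((isPGroup_Oc p M).to_le inf_le_left) ?_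
      intro h hh x hx
      exact ⟨conj_mem_Oc (A1_le_right N M hh) hx.1, Subgroup.mul_mem _ (Subgroup.mul_mem _ hh hx.2) (Subgroup.inv_mem _ hh)⟩
    have h2 : Oc p M ⊓ N ≤ Oc p M ⊓ A1 N M := le_inf inf_le_left hQ1
    exact h2.trans (h1.trans (Oc_A_le_M N M p))
  have hQ2ne : Oc p N ≠ ⊥ := by
    intro h
    apply hY
    have h1 : Oc p (A2 N M) ≤ Oc p N := (Oc_X_le_A N M p).trans (Oc_A_le_M N M p)
    rwa [h, le_bot_iff] at h1
  -- `Q₁ ≤ Q₂`
  have hQ2M : Oc p N ≤ M := hQ2.trans (A1_le_right N M)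
  have hle : Oc p M ≤ Oc p N := by
    by_contra hcon
    have hTp : IsPGroup p ↥(Oc p N ⊔ Oc p M) := by
      refine IsPGroup.to_sup_of_normal_right' (isPGroup_Oc p N) (isPGroup_Oc p M) ?_
      exact hQ2M.trans (M_norm_Oc M p)
    have hlt : Oc p N < Oc p N ⊔ Oc p M := by
      refine lt_of_le_of_ne le_sup_left fun h => hcon ?_
      rw [h]
      exact le_sup_right
    obtain ⟨x, hxT, hxQ, hxn⟩ := exists_mem_normalizer_of_lt hTp hlt
    have hxN : x ∈ N := P.mem_of_norm hQ2ne (Oc_le p N) (M_norm_Oc N p) hxn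
    obtain ⟨b, hb, a, ha, rfl⟩ := exists_mul_of_mem_sup (hQ2M.trans (M_norm_Oc M p)) hxT
    have haN : a ∈ N := by
      have := N.mul_mem (N.inv_mem (Oc_le p N hb)) hxN
      simpa using this
    exact hxQ (Subgroup.mul_mem _ hb (hQ12 ⟨ha, haN⟩))
  obtain ⟨g, hg⟩ := P.conj
  have heq : Oc p M = Oc p N :=
    Subgroup.eq_of_le_of_card_ge hle (card_Oc_le_of_conj hg)
  have hbot : Oc p M = ⊥ := by
    refine P.bot_of_both (Oc_le p M) (by rw [heq]; exact Oc_le p N) (M_norm_Oc M p) ?_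
    rw [heq]
    exact M_norm_Oc N p
  apply hX
  have h1 : Oc p (A2 M N) ≤ Oc p M := (Oc_X_le_A M N p).trans (Oc_A_le_M M N p)
  rwa [hbot, le_bot_iff] at h1

/-- The centralizer condition for `X`, from `F*(X) = O_p(X)`. -/
theorem cen_le_Oc {X : Subgroup G} {p : ℕ} [Fact p.Prime] (hE : Elay X = ⊥)
    (h : ∀ τ : ℕ, τ.Prime → τ ≠ p → Oc τ X = ⊥) :
    ∀ y ∈ X, (∀ u ∈ Oc p X, y * u = u * y) → y ∈ Oc p X := by
  intro y hy hcom
  have hF := fstar_eq_pCore hE h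
  have h1 : (⟨y, hy⟩ : ↥X) ∈ Subgroup.centralizer (generalizedFittingSubgroup ↥X : Set ↥X) := by
    rw [Subgroup.mem_centralizer_iff, hF]
    intro u hu
    apply Subtype.ext
    exact (hcom u.1 ⟨u, hu, rfl⟩).symm
  have h2 := centralizer_generalizedFitting_le h1
  rw [hF] at h2
  exact ⟨⟨y, hy⟩, h2, rfl⟩

/-- **The Thompson–Wielandt theorem.** -/
theorem Pair.main (P : Pair M N) (hX : A2 M N ≠ ⊥) (hY : A2 N M ≠ ⊥) :
    ∃ p : ℕ, p.Prime ∧ IsPGroup p ↥(A2 M N ⊔ A2 N M) ∧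
      generalizedFittingSubgroup ↥M = pCore p ↥M ∧
      generalizedFittingSubgroup ↥(A1 M N) = pCore p ↥(A1 M N) ∧
      generalizedFittingSubgroup ↥N = pCore p ↥N ∧
      generalizedFittingSubgroup ↥(A1 N M) = pCore p ↥(A1 N M) := by
  obtain ⟨p, hp, hpX, hpY, hτX, hτY⟩ := P.exists_prime hX hY
  have := Fact.mk hp
  have hEX := P.Elay_eq_bot hX hY
  have hEY := P.symm.Elay_eq_bot hY hX
  have hEM := P.Elay_M_bot hpX hpY hEX
  have hEN := P.symm.Elay_M_bot hpY hpX hEY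
  have hOM : ∀ τ : ℕ, τ.Prime → τ ≠ p → Oc τ M = ⊥ := fun τ hτ hne => by
    have := Fact.mk hτ
    exact P.Oc_M_bot hne hpX hpY (hτX τ hτ hne)
  have hON : ∀ τ : ℕ, τ.Prime → τ ≠ p → Oc τ N = ⊥ := fun τ hτ hne => by
    have := Fact.mk hτ
    exact P.symm.Oc_M_bot hne hpY hpX (hτY τ hτ hne)
  have hEA : Elay (A1 M N) = ⊥ := by
    have := Elay_le_of_normal (A1_le_left M N) (M_norm_A1 M N)
    rwa [hEM, le_bot_iff] at this
  have hEB : Elay (A1 N M) = ⊥ := by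
    have := Elay_le_of_normal (A1_le_left N M) (M_norm_A1 N M)
    rwa [hEN, le_bot_iff] at this
  have hOA : ∀ τ : ℕ, τ.Prime → τ ≠ p → Oc τ (A1 M N) = ⊥ := fun τ hτ hne => by
    have := Fact.mk hτ
    have h1 := Oc_A_le_M M N τ
    rwa [hOM τ hτ hne, le_bot_iff] at h1
  have hOB : ∀ τ : ℕ, τ.Prime → τ ≠ p → Oc τ (A1 N M) = ⊥ := fun τ hτ hne => by
    have := Fact.mk hτ
    have h1 := Oc_A_le_M N M τ
    rwa [hON τ hτ hne, le_bot_iff] at h1
  refine ⟨p, hp, ?_, fstar_eq_pCore hEM hOM, fstar_eq_pCore hEA hOA, fstar_eq_pCore hEN hON,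
    fstar_eq_pCore hEB hOB⟩
  have hXp : IsPGroup p (A2 M N) := P.isP_X hpX hpY (cen_le_Oc hEX hτX)
  have hYp : IsPGroup p (A2 N M) := P.symm.isP_X hpY hpX (cen_le_Oc hEY hτY)
  have hXle : A2 M N ≤ Oc p M :=
    le_Oc (A2_le_left M N) hXp fun _ hh _ hx => conj_mem_of_norm (M_norm_A2 M N hh) hx
  have hYle : A2 N M ≤ Oc p M := by
    refine le_trans ?_ (Oc_A_le_M M N p)
    exact le_Oc (A2_le_B N M) hYp fun _ hh _ hx => conj_mem_of_norm (B_norm_A2 N M hh) hx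
  exact (isPGroup_Oc p M).to_le (sup_le hXle hYle)

end Steps

end Cfsg.Agent.Lib.ThompsonWielandt
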