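import Mathlib
import Cfsg.Agent.Lib.BNPair

/-!
# Lifting a group with a (B,N)-pair along a homomorphism

If subgroups `B̃`, `Ñ` of `Γ` are mapped isomorphically onto `B`, `N`, compatibly on `B ⊓ N`, and the lifts of the
distinguished generators satisfy the rank one relations with `B̃`, then `σ : Γ → G` is injective on the subgroup generated by
`B̃` and `Ñ`. This is the theorem of Tits that `G` is the amalgam of `N` and the rank one parabolics.
-/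

set_option autoImplicit false
set_option linter.unusedSectionVars false
set_option linter.unusedVariables false

namespace Cfsg.Agent.Lib.TitsLift

open Cfsg Cfsg.Agent.Lib.BNPair

variable {Γ G : Type*} [Group Γ] [Group G]

/-- The data of a lift. -/
structure Lift (P : Cfsg.BNPair G) (σ : Γ →* G) (Bt Nt : Subgroup Γ) : Prop where
  Bmap : ∀ x ∈ Bt, σ x ∈ P.B
  Bsurj : ∀ b ∈ P.B, ∃ x ∈ Bt, σ x = b
  Binj : ∀ x ∈ Bt, σ x = 1 → x = 1
  Nmap : ∀ x ∈ Nt, σ x ∈ P.N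
  Nsurj : ∀ n ∈ P.N, ∃ x ∈ Nt, σ x = n
  BN : ∀ x ∈ Nt, σ x ∈ P.B → x ∈ Bt
  lift : ∀ s ∈ P.S, ∃ st ∈ Nt, σ st = s ∧
    (∀ b ∈ Bt, s * σ b * s⁻¹ ∈ P.B → st * b * st⁻¹ ∈ Bt) ∧
    (∀ b ∈ Bt, st * b * st⁻¹ ∈ Bt ∨ ∃ b₁ ∈ Bt, ∃ b₂ ∈ Bt, st * b * st⁻¹ = b₁ * st * b₂)

section BN

variable {P : Cfsg.BNPair G}

/-- A descent: a conjugate into `B` by `n` which `s` shortens, is already a conjugate into `B` by `s`. -/
lemma conj_mem_of_descent {s b n : G} (hs : s ∈ P.S) (hb : b ∈ P.B) (hn : n ∈ P.N) (hlen : len P (s * n) < len P n)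
    (hc : n⁻¹ * b * n ∈ P.B) : s * b * s⁻¹ ∈ P.B := by
  by_contra hy
  set m := s * n with hm
  have hmN : m ∈ P.N := P.N.mul_mem (S_mem_N hs) hn
  have hlm : len P m < len P (s * m) := by
    rw [hm, len_S_mul_S_mul hs hn]
    exact hlen
  have h1 := T1 (s := s) (n := s⁻¹) (x := s⁻¹) (b := b) hs (P.N.inv_mem (S_mem_N hs)) hb (self_mem_dc _)
  have e11 : s * s⁻¹ = 1 := mul_inv_cancel s
  rw [e11, dc_one] at h1
  rcases h1 with h1 | h1
  · exact hy h1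
  obtain ⟨b₁, hb₁, b₂, hb₂, e⟩ := mem_dc.1 h1
  have e1 : s * b * s⁻¹ * m = m * (n⁻¹ * b * n) := by
    rw [hm]
    group
  have h2 : s * b * s⁻¹ * m ∈ dc P m := by
    rw [e1]
    simpa using mul_mem_dc (self_mem_dc m) P.B.one_mem hc
  have h3 : s * b * s⁻¹ * m ∈ dc P (s * m) := by
    rw [e]
    have e2 : b₁ * s⁻¹ * b₂ * m = b₁ * (s * ((s * s)⁻¹ * b₂) * m) := by group
    rw [e2]
    have h4 := mem_dc_of_len_lt hs (P.B.mul_mem (S_sq_inv_mem hs) hb₂) hmN hlm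
    simpa using mul_mem_dc h4 hb₁ P.B.one_mem
  have h5 : dc P (s * m) = dc P m := mem_dc_of_mem_of_mem h2 h3
  have h6 := (dc_eq_iff (P := P) (P.N.mul_mem (S_mem_N hs) hmN) hmN).1 h5
  have h7 := len_congr (P := P) h6
  exact len_S_mul_ne hs hmN h7

/-- The factorisation of `B` attached to `s` and `n` which `s` lengthens. -/
lemma factor {s b n : G} (hs : s ∈ P.S) (hb : b ∈ P.B) (hn : n ∈ P.N) (hlen : len P n < len P (s * n)) :
    ∃ c ∈ P.B, ∃ x ∈ P.B, b = c * x ∧ s * c * s⁻¹ ∈ P.B ∧ n⁻¹ * x * n ∈ P.B := by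
  have h0 := mem_dc_of_len_lt hs hb hn hlen
  obtain ⟨b₁, hb₁, b₂, hb₂, e⟩ := mem_dc.1 h0
  set c' := s⁻¹ * b₁⁻¹ * s with hc'
  have hsnN : s * n ∈ P.N := P.N.mul_mem (S_mem_N hs) hn
  have hc'B : c' ∈ P.B := by
    by_contra hy
    have h1 := T1_inv (s := s) (n := s) (x := s) (b := b₁⁻¹) hs (S_mem_N hs) (P.B.inv_mem hb₁) (self_mem_dc _)
    have e2 : s⁻¹ * b₁⁻¹ * s ∈ dc P s := by
      rcases h1 with h1 | h1
      · exfalso
        apply hy
        have e3 : dc P (s * s) = (P.B : Set G) := by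
          rw [← dc_one (P := P)]
          apply dc_eq_dc_of_inv_mul_mem
          simpa using P.B.inv_mem (P.sq_mem s hs)
        rw [e3] at h1
        exact h1
      · exact h1
    obtain ⟨b₃, hb₃, b₄, hb₄, e3⟩ := mem_dc.1 e2
    have e4 : (c' * b) * n = n * b₂ := by
      have e5 : s * b * n = b₁ * (s * n) * b₂ := e
      rw [hc']
      calc s⁻¹ * b₁⁻¹ * s * b * n = s⁻¹ * b₁⁻¹ * (s * b * n) := by group
        _ = s⁻¹ * b₁⁻¹ * (b₁ * (s * n) * b₂) := by rw [e5]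
        _ = n * b₂ := by group
    have h6 : (c' * b) * n ∈ dc P n := by
      rw [e4]
      simpa using mul_mem_dc (self_mem_dc n) P.B.one_mem hb₂
    have h7 : (c' * b) * n ∈ dc P (s * n) := by
      rw [hc', e3]
      have e6 : b₃ * s * b₄ * b * n = b₃ * (s * (b₄ * b) * n) := by group
      rw [e6]
      have h8 := mem_dc_of_len_lt hs (P.B.mul_mem hb₄ hb) hn hlen
      simpa using mul_mem_dc h8 hb₃ P.B.one_mem
    have h9 : dc P (s * n) = dc P n := mem_dc_of_mem_of_mem h6 h7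
    have h10 := (dc_eq_iff (P := P) hsnN hn).1 h9
    have h11 := len_congr (P := P) h10
    exact len_S_mul_ne hs hn h11
  refine ⟨c'⁻¹, P.B.inv_mem hc'B, c' * b, P.B.mul_mem hc'B hb, by group, ?_, ?_⟩
  · have e2 : s * c'⁻¹ * s⁻¹ = b₁ := by
      rw [hc']
      group
    rw [e2]
    exact hb₁
  · have e4 : n⁻¹ * (c' * b) * n = b₂ := by
      have e5 : s * b * n = b₁ * (s * n) * b₂ := e
      rw [hc']
      calc n⁻¹ * (s⁻¹ * b₁⁻¹ * s * b) * n = n⁻¹ * s⁻¹ * b₁⁻¹ * (s * b * n) := by group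
        _ = n⁻¹ * s⁻¹ * b₁⁻¹ * (b₁ * (s * n) * b₂) := by rw [e5]
        _ = b₂ := by group
    rw [e4]
    exact hb₂

end BN

namespace Lift

variable {P : Cfsg.BNPair G} {σ : Γ →* G} {Bt Nt : Subgroup Γ} (L : Lift P σ Bt Nt)

include L

/-- Conjugates of `B̃` by `Ñ` into `B` are in `B̃`. -/
lemma conj_mem : ∀ (k : ℕ) (n : Γ), n ∈ Nt → len P (σ n) = k → ∀ b ∈ Bt, σ (n⁻¹ * b * n) ∈ P.B → n⁻¹ * b * n ∈ Bt := by
  intro k
  induction k using Nat.strong_induction_on with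
  | _ k ih =>
    intro n hn hk b hb hc
    have hnN := L.Nmap n hn
    by_cases h0 : len P (σ n) = 0
    · have h1 := (len_eq_zero_iff hnN).1 h0
      have h2 := L.BN n hn h1
      exact Bt.mul_mem (Bt.mul_mem (Bt.inv_mem h2) hb) h2
    · obtain ⟨s, hs, hd⟩ := exists_descent hnN h0
      obtain ⟨st, hst, hsσ, h1, -⟩ := L.lift s hs
      have hbB := L.Bmap b hb
      have hc' : (σ n)⁻¹ * σ b * σ n ∈ P.B := by
        simpa using hc
      have h2 : s * σ b * s⁻¹ ∈ P.B := conj_mem_of_descent hs hbB hnN (by omega) hc'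
      have h3 := h1 b hb h2
      have hm : st * n ∈ Nt := Nt.mul_mem hst hn
      have hlen : len P (σ (st * n)) < k := by
        rw [map_mul, hsσ]
        omega
      have e : n⁻¹ * b * n = (st * n)⁻¹ * (st * b * st⁻¹) * (st * n) := by group
      rw [e]
      apply ih _ hlen _ hm rfl _ h3
      rw [← e]
      exact hc

/-- The image of `B̃ Ñ B̃`. -/
def Z (Bt Nt : Subgroup Γ) : Set Γ := {x | ∃ b₁ ∈ Bt, ∃ m ∈ Nt, ∃ b₂ ∈ Bt, x = b₁ * m * b₂}

omit L in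
lemma Z_left {y x : Γ} (hy : y ∈ Bt) (hx : x ∈ Z Bt Nt) : y * x ∈ Z Bt Nt := by
  obtain ⟨b₁, hb₁, m, hm, b₂, hb₂, rfl⟩ := hx
  exact ⟨y * b₁, Bt.mul_mem hy hb₁, m, hm, b₂, hb₂, by group⟩

omit L in
lemma Z_right {y x : Γ} (hy : y ∈ Bt) (hx : x ∈ Z Bt Nt) : x * y ∈ Z Bt Nt := by
  obtain ⟨b₁, hb₁, m, hm, b₂, hb₂, rfl⟩ := hx
  exact ⟨b₁, hb₁, m, hm, b₂ * y, Bt.mul_mem hb₂ hy, by group⟩

/-- The key step, when `s` lengthens. -/
lemma step_long {st b n : Γ} (hs : σ st ∈ P.S) (hst : st ∈ Nt) (h1 : ∀ b ∈ Bt, σ st * σ b * (σ st)⁻¹ ∈ P.B → st * b * st⁻¹ ∈ Bt)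
    (hb : b ∈ Bt) (hn : n ∈ Nt) (hlen : len P (σ n) < len P (σ st * σ n)) : st * b * n ∈ Z Bt Nt := by
  obtain ⟨c, hc, x, hx, e, hc', hx'⟩ := factor hs (L.Bmap b hb) (L.Nmap n hn) hlen
  obtain ⟨ct, hct, rfl⟩ := L.Bsurj c hc
  obtain ⟨xt, hxt, rfl⟩ := L.Bsurj x hx
  have hbe : b = ct * xt := by
    have h2 : σ ((ct * xt)⁻¹ * b) = 1 := by
      rw [map_mul, map_inv, map_mul, e]
      group
    have h3 := L.Binj _ (Bt.mul_mem (Bt.inv_mem (Bt.mul_mem hct hxt)) hb) h2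
    rw [inv_mul_eq_one] at h3
    exact h3.symm
  have h4 : n⁻¹ * xt * n ∈ Bt := by
    apply L.conj_mem _ n hn rfl xt hxt
    simpa using hx'
  refine ⟨st * ct * st⁻¹, h1 ct hct hc', st * n, Nt.mul_mem hst hn, n⁻¹ * xt * n, h4, ?_⟩
  rw [hbe]
  group

/-- The step for a lift of a generator. -/
lemma step {st : Γ} (hs : σ st ∈ P.S) (hst : st ∈ Nt) (h1 : ∀ b ∈ Bt, σ st * σ b * (σ st)⁻¹ ∈ P.B → st * b * st⁻¹ ∈ Bt)
    (h2 : ∀ b ∈ Bt, st * b * st⁻¹ ∈ Bt ∨ ∃ b₁ ∈ Bt, ∃ b₂ ∈ Bt, st * b * st⁻¹ = b₁ * st * b₂) {b n : Γ} (hb : b ∈ Bt) (hn : n ∈ Nt) :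
    st * b * n ∈ Z Bt Nt := by
  have hnN := L.Nmap n hn
  rcases lt_or_gt_of_ne (len_S_mul_ne hs hnN) with hlt | hlt
  · have hm : st * n ∈ Nt := Nt.mul_mem hst hn
    have e : st * b * n = (st * b * st⁻¹) * (st * n) := by group
    rw [e]
    rcases h2 b hb with h3 | ⟨b₁, hb₁, b₂, hb₂, h3⟩
    · exact ⟨_, h3, _, hm, 1, Bt.one_mem, by simp⟩
    · rw [h3]
      have e2 : b₁ * st * b₂ * (st * n) = b₁ * (st * b₂ * (st * n)) := by group
      rw [e2]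
      apply Z_left hb₁
      apply L.step_long hs hst h1 hb₂ hm
      rw [map_mul, len_S_mul_S_mul hs hnN]
      exact hlt
  · exact L.step_long hs hst h1 hb hn hlt

/-- Left multiplication by lifts of words. -/
lemma word_left (x : Γ) (hx : x ∈ Z Bt Nt) (l : List G) (hl : IsWordIn P.S l) :
    ∃ y ∈ Nt, σ y = l.prod ∧ y * x ∈ Z Bt Nt := by
  induction l with
  | nil => exact ⟨1, Nt.one_mem, by simp, by simpa using hx⟩
  | cons s l ih =>
    obtain ⟨y, hy, e, hyx⟩ := ih hl.tail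
    obtain ⟨st, hst, hsσ, h1, h2⟩ := L.lift s hl.head
    refine ⟨st * y, Nt.mul_mem hst hy, by rw [map_mul, hsσ, e, List.prod_cons], ?_⟩
    obtain ⟨b₁, hb₁, m, hm, b₂, hb₂, e2⟩ := hyx
    rw [mul_assoc, e2]
    have e3 : st * (b₁ * m * b₂) = st * b₁ * m * b₂ := by group
    rw [e3]
    apply Z_right hb₂
    exact L.step (by rw [hsσ]; exact hl.head) hst (by rwa [hsσ]) h2 hb₁ hm

/-- Left multiplication by `Ñ`. -/
lemma N_left {y x : Γ} (hy : y ∈ Nt) (hx : x ∈ Z Bt Nt) : y * x ∈ Z Bt Nt := by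
  obtain ⟨l, hl, h1⟩ := exists_word (P := P) (L.Nmap y hy)
  obtain ⟨y', hy', e, h2⟩ := L.word_left x hx l hl
  -- `y = y' * h` with `h` in `B̃`
  have h3 : σ (y⁻¹ * y') ∈ P.B := by
    rw [map_mul, map_inv, e]
    exact h1
  have h4 := L.BN _ (Nt.mul_mem (Nt.inv_mem hy) hy') h3
  -- use the word for `y'` against `h⁻¹ x`
  have h5 : (y⁻¹ * y')⁻¹ * x ∈ Z Bt Nt := Z_left (Bt.inv_mem h4) hx
  obtain ⟨y'', hy'', e', h6⟩ := L.word_left _ h5 l hl
  have h7 : y'' = y' := by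
    have h8 : σ (y'⁻¹ * y'') = 1 := by
      rw [map_mul, map_inv, e, e']
      simp
    have h9 := L.BN _ (Nt.mul_mem (Nt.inv_mem hy') hy'') (by rw [h8]; exact P.B.one_mem)
    have h10 := L.Binj _ h9 h8
    rw [inv_mul_eq_one] at h10
    exact h10.symm
  rw [h7] at h6
  have e2 : y' * ((y⁻¹ * y')⁻¹ * x) = y * x := by group
  rwa [e2] at h6

/-- The subgroup generated lies in `Z`. -/
lemma sup_le_Z {g : Γ} (hg : g ∈ Bt ⊔ Nt) : g ∈ Z Bt Nt := by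
  rw [Subgroup.sup_eq_closure] at hg
  induction hg using Subgroup.closure_induction_left with
  | one => exact ⟨1, Bt.one_mem, 1, Nt.one_mem, 1, Bt.one_mem, by simp⟩
  | mul_left x hx y _ ih =>
    rcases hx with hx | hx
    · exact Z_left hx ih
    · exact L.N_left hx ih
  | inv_mul_cancel x hx y _ ih =>
    rcases hx with hx | hx
    · exact Z_left (Bt.inv_mem hx) ih
    · exact L.N_left (Nt.inv_mem hx) ih

/-- Injectivity on the subgroup generated by `B̃` and `Ñ`. -/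
theorem inj {g : Γ} (hg : g ∈ Bt ⊔ Nt) (h1 : σ g = 1) : g = 1 := by
  obtain ⟨b₁, hb₁, m, hm, b₂, hb₂, rfl⟩ := L.sup_le_Z hg
  have h2 : σ m ∈ P.B := by
    have e : σ m = (σ b₁)⁻¹ * (σ b₂)⁻¹ := by
      rw [map_mul, map_mul] at h1
      have e2 : σ m = (σ b₁)⁻¹ * (σ b₁ * σ m * σ b₂) * (σ b₂)⁻¹ := by group
      rw [e2, h1]
      group
    rw [e]
    exact P.B.mul_mem (P.B.inv_mem (L.Bmap _ hb₁)) (P.B.inv_mem (L.Bmap _ hb₂))
  exact L.Binj _ (Bt.mul_mem (Bt.mul_mem hb₁ (L.BN m hm h2)) hb₂) h1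

/-- The section. -/
theorem exists_section : ∃ s : G →* Γ, ∀ g, σ (s g) = g := by
  classical
  let S₀ : Subgroup Γ := Bt ⊔ Nt
  let σ₀ : S₀ →* G := σ.comp S₀.subtype
  have hinj : Function.Injective σ₀ := by
    rw [injective_iff_map_eq_one]
    intro a ha
    exact Subtype.ext (L.inj a.2 ha)
  have hsurj : Function.Surjective σ₀ := by
    have h1 : (⊤ : Subgroup G) ≤ σ₀.range := by
      rw [← P.sup_eq_top, sup_le_iff]
      constructor
      · intro b hb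
        obtain ⟨x, hx, e⟩ := L.Bsurj b hb
        exact ⟨⟨x, Subgroup.mem_sup_left hx⟩, e⟩
      · intro b hb
        obtain ⟨x, hx, e⟩ := L.Nsurj b hb
        exact ⟨⟨x, Subgroup.mem_sup_right hx⟩, e⟩
    intro g
    exact h1 (Subgroup.mem_top g)
  let e := MulEquiv.ofBijective σ₀ ⟨hinj, hsurj⟩
  exact ⟨S₀.subtype.comp e.symm.toMonoidHom, fun g => e.apply_symm_apply g⟩

end Lift

end Cfsg.Agent.Lib.TitsLift
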