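import Mathlib
import Cfsg.Agent.Lib.SchurCoset46

/-!
# Twisted coset systems

Let `N` be an abelian normal subgroup of `E` with coordinates `φ : N → V`, `x` a family of elements of `E`, and
`S` a subgroup of `E` meeting `N` trivially.  Along a coset graph of the image of `S`, the elements
`t c * x i * (t (T c (2 * i)))⁻¹` are products of an element of `N` and an element of `S`.  The values of `φ` on the
`N`-parts, read in the frame of `t c`, satisfy a system of linear equations, one for each closed path.  If they vanish,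
the subgroup generated by `x` lies in a union of cosets of `S`.
-/

set_option autoImplicit false

namespace Cfsg.Agent.Lib.TwCoset

open Cfsg.Agent.Lib.SchurCoset46

universe u v

variable {E : Type u} [Group E] {V : Type v} [AddCommGroup V]

/-- Coordinates on a normal subgroup. -/
structure Crd (N : Subgroup E) (φ : E → V) : Prop where
  nrm : ∀ a ∈ N, ∀ g : E, g * a * g⁻¹ ∈ N
  add : ∀ a ∈ N, ∀ b ∈ N, φ (a * b) = φ a + φ b
  inj : ∀ a ∈ N, φ a = 0 → a = 1
  two : ∀ v : V, v + v = 0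

namespace Crd

variable {N : Subgroup E} {φ : E → V}

theorem map_one (C : Crd N φ) : φ 1 = 0 := by
  have h := C.add 1 N.one_mem 1 N.one_mem
  rw [mul_one] at h
  exact left_eq_add.mp h

theorem map_inv (C : Crd N φ) {a : E} (ha : a ∈ N) : φ a⁻¹ = φ a := by
  have h := C.add a ha a⁻¹ (N.inv_mem ha)
  rw [mul_inv_cancel, C.map_one] at h
  have h2 := C.two (φ a)
  have : φ a + φ a⁻¹ = φ a + φ a := by rw [← h, h2]
  exact add_left_cancel this

theorem comm (C : Crd N φ) {a b : E} (ha : a ∈ N) (hb : b ∈ N) : a * b = b * a := by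
  have h1 : a * b * (b * a)⁻¹ ∈ N := N.mul_mem (N.mul_mem ha hb) (N.inv_mem (N.mul_mem hb ha))
  have h2 : φ (a * b * (b * a)⁻¹) = 0 := by
    rw [C.add _ (N.mul_mem ha hb) _ (N.inv_mem (N.mul_mem hb ha)), C.map_inv (N.mul_mem hb ha),
      C.add a ha b hb, C.add b hb a ha, add_comm (φ b), C.two]
  exact mul_inv_eq_one.mp (C.inj _ h1 h2)

theorem conj_self (C : Crd N φ) {a b : E} (ha : a ∈ N) (hb : b ∈ N) : a * b * a⁻¹ = b := by
  rw [C.comm ha hb]; group

end Crd

/-- A twisted linear expression along a word. -/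
def Hw (T : ℕ → ℕ → ℕ) (A : ℕ → V → V) (Φ : ℕ → ℕ → V) : ℕ → List ℕ → V
  | _, [] => 0
  | c, l :: w => if l % 2 = 0 then Φ c (l / 2) + A l (Hw T A Φ (T c l) w)
      else A l (Φ (T c l) (l / 2) + Hw T A Φ (T c l) w)

theorem Hw_nil (T : ℕ → ℕ → ℕ) (A : ℕ → V → V) (Φ : ℕ → ℕ → V) (c : ℕ) : Hw T A Φ c [] = 0 := rfl

theorem Hw_cons (T : ℕ → ℕ → ℕ) (A : ℕ → V → V) (Φ : ℕ → ℕ → V) (c l : ℕ) (w : List ℕ) :
    Hw T A Φ c (l :: w) = if l % 2 = 0 then Φ c (l / 2) + A l (Hw T A Φ (T c l) w)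
      else A l (Φ (T c l) (l / 2) + Hw T A Φ (T c l) w) := rfl

/-- The Schreier elements. -/
noncomputable def ee (T : ℕ → ℕ → ℕ) (par : ℕ → ℕ × ℕ) (x : ℕ → E) (c i : ℕ) : E :=
  tOf x par c * x i * (tOf x par (T c (2 * i)))⁻¹

/-- Their parts in `N`. -/
noncomputable def nn (T : ℕ → ℕ → ℕ) (par : ℕ → ℕ × ℕ) (x : ℕ → E) (y : ℕ → ℕ → E) (c i : ℕ) : E :=
  ee T par x c i * (y c i)⁻¹

/-- The value on an edge, in the frame of its source. -/
noncomputable def Phi (T : ℕ → ℕ → ℕ) (par : ℕ → ℕ × ℕ) (x : ℕ → E) (y : ℕ → ℕ → E) (φ : E → V) (c i : ℕ) : V :=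
  φ ((tOf x par c)⁻¹ * nn T par x y c i * tOf x par c)

/-- The hypotheses of the system. -/
structure Sys (N : Subgroup E) (φ : E → V) (S : Subgroup E) (n m : ℕ) (T : ℕ → ℕ → ℕ) (par : ℕ → ℕ × ℕ)
    (x : ℕ → E) (y : ℕ → ℕ → E) (A : ℕ → V → V) : Prop where
  crd : Crd N φ
  tab : Tab n m T par
  SN : ∀ a ∈ S, a ∈ N → a = 1
  y_mem : ∀ c, c < n → ∀ i, i < m → y c i ∈ S
  n_mem : ∀ c, c < n → ∀ i, i < m → nn T par x y c i ∈ N
  act : ∀ l, ∀ a ∈ N, φ (lett x l * a * (lett x l)⁻¹) = A l (φ a)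
  act_add : ∀ l u v, A l (u + v) = A l u + A l v

variable {N : Subgroup E} {φ : E → V} {S : Subgroup E} {n m : ℕ} {T : ℕ → ℕ → ℕ} {par : ℕ → ℕ × ℕ}
  {x : ℕ → E} {y : ℕ → ℕ → E} {A : ℕ → V → V}

/-- Decomposition of a letter. -/
theorem letter_dec (Y : Sys N φ S n m T par x y A) {c l : ℕ} (hc : c < n) (hl : l < 2 * m) :
    ∃ a ∈ N, ∃ s ∈ S, tOf x par c * lett x l * (tOf x par (T c l))⁻¹ = a * s ∧
      φ ((tOf x par c)⁻¹ * a * tOf x par c) =
        if l % 2 = 0 then Phi T par x y φ c (l / 2) else A l (Phi T par x y φ (T c l) (l / 2)) := by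
  have C := Y.crd
  obtain ⟨i, hi⟩ : ∃ i, i = l / 2 := ⟨_, rfl⟩
  rcases Nat.mod_two_eq_zero_or_one l with h0 | h1
  · have hl2 : l = 2 * i := by omega
    have him : i < m := by omega
    rw [if_pos h0, ← hi]
    refine ⟨nn T par x y c i, Y.n_mem c hc i him, y c i, Y.y_mem c hc i him, ?_, rfl⟩
    rw [hl2, lett_even]
    simp [nn, ee]
  · have hl2 : l = 2 * i + 1 := by omega
    have him : i < m := by omega
    rw [if_neg (by omega), ← hi]
    have hd : T c l < n := Y.tab.T_lt c hc l hl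
    have hodd : T (T c l) (2 * i) = c := by
      rw [hl2]
      exact Y.tab.T_odd c hc i him
    set d := T c l with hd'
    have hn := Y.n_mem d hd i him
    have hy := Y.y_mem d hd i him
    set a := nn T par x y d i with ha
    set s := y d i with hs
    refine ⟨s⁻¹ * a⁻¹ * s, ?_, s⁻¹, S.inv_mem hy, ?_, ?_⟩
    · simpa using C.nrm _ (N.inv_mem hn) s⁻¹
    · -- a * s = t_d * x_i * t_c⁻¹
      have e : a * s = tOf x par d * x i * (tOf x par c)⁻¹ := by
        rw [ha, hs]
        simp [nn, ee, hodd]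
      have e2 : tOf x par c * lett x l * (tOf x par d)⁻¹ = (a * s)⁻¹ := by
        rw [e, hl2, lett_odd]
        group
      rw [e2]
      group
    · have e : s * tOf x par c = a⁻¹ * (tOf x par d * x i) := by
        have e1 : a * s = tOf x par d * x i * (tOf x par c)⁻¹ := by
          rw [ha, hs]
          simp [nn, ee, hodd]
        calc s * tOf x par c = a⁻¹ * ((a * s) * tOf x par c) := by group
          _ = a⁻¹ * (tOf x par d * x i) := by rw [e1]; group
      have e3 : (tOf x par c)⁻¹ * (s⁻¹ * a⁻¹ * s) * tOf x par c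
          = (s * tOf x par c)⁻¹ * a⁻¹ * (s * tOf x par c) := by group
      rw [e3, e]
      have e4 : (a⁻¹ * (tOf x par d * x i))⁻¹ * a⁻¹ * (a⁻¹ * (tOf x par d * x i))
          = lett x l * ((tOf x par d)⁻¹ * a⁻¹ * tOf x par d) * (lett x l)⁻¹ := by
        rw [hl2, lett_odd]
        group
      rw [e4, Y.act l _ (by simpa using C.nrm _ (N.inv_mem hn) (tOf x par d)⁻¹)]
      congr 1
      have e5 : (tOf x par d)⁻¹ * a⁻¹ * tOf x par d = ((tOf x par d)⁻¹ * a * tOf x par d)⁻¹ := by group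
      rw [e5, C.map_inv (by simpa using C.nrm _ hn (tOf x par d)⁻¹)]
      rfl

/-- The decomposition along a word. -/
theorem word_dec (Y : Sys N φ S n m T par x y A) (w : List ℕ) (hw : ∀ l ∈ w, l < 2 * m) :
    ∀ c, c < n → ∃ a ∈ N, ∃ s ∈ S, tOf x par c * evW x w * (tOf x par (endV T c w))⁻¹ = a * s ∧
      φ ((tOf x par c)⁻¹ * a * tOf x par c) = Hw T A (Phi T par x y φ) c w := by
  have C := Y.crd
  induction w with
  | nil =>
    intro c _
    refine ⟨1, N.one_mem, 1, S.one_mem, ?_, ?_⟩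
    · simp [evW, endV]
    · simp [C.map_one, Hw_nil]
  | cons l w ih =>
    intro c hc
    have hl : l < 2 * m := hw l List.mem_cons_self
    have hd : T c l < n := Y.tab.T_lt c hc l hl
    obtain ⟨a₁, ha₁, s₁, hs₁, e₁, f₁⟩ := letter_dec Y hc hl
    obtain ⟨a₂, ha₂, s₂, hs₂, e₂, f₂⟩ := ih (fun l' h' => hw l' (List.mem_cons_of_mem _ h')) (T c l) hd
    refine ⟨a₁ * (s₁ * a₂ * s₁⁻¹), N.mul_mem ha₁ (C.nrm a₂ ha₂ s₁), s₁ * s₂, S.mul_mem hs₁ hs₂, ?_, ?_⟩
    · have h1 : tOf x par c * evW x (l :: w) * (tOf x par (endV T c (l :: w)))⁻¹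
          = (tOf x par c * lett x l * (tOf x par (T c l))⁻¹) *
            (tOf x par (T c l) * evW x w * (tOf x par (endV T (T c l) w))⁻¹) := by
        simp only [evW, endV]
        group
      rw [h1, e₁, e₂]
      group
    · -- the frame
      have g₁ : (tOf x par c)⁻¹ * a₁ * tOf x par c ∈ N := by
        simpa using C.nrm _ ha₁ (tOf x par c)⁻¹
      have g₂ : (tOf x par (T c l))⁻¹ * a₂ * tOf x par (T c l) ∈ N := by
        simpa using C.nrm _ ha₂ (tOf x par (T c l))⁻¹
      have hb : lett x l * ((tOf x par (T c l))⁻¹ * a₂ * tOf x par (T c l)) * (lett x l)⁻¹ ∈ N :=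
        C.nrm _ g₂ _
      have e3 : (tOf x par c)⁻¹ * (a₁ * (s₁ * a₂ * s₁⁻¹)) * tOf x par c =
          ((tOf x par c)⁻¹ * a₁ * tOf x par c) *
            (lett x l * ((tOf x par (T c l))⁻¹ * a₂ * tOf x par (T c l)) * (lett x l)⁻¹) := by
        have e4 : s₁ = a₁⁻¹ * (tOf x par c * lett x l * (tOf x par (T c l))⁻¹) := by
          rw [e₁]; group
        have e5 : (tOf x par c)⁻¹ * (s₁ * a₂ * s₁⁻¹) * tOf x par c =
            ((tOf x par c)⁻¹ * a₁⁻¹ * tOf x par c) *
            (lett x l * ((tOf x par (T c l))⁻¹ * a₂ * tOf x par (T c l)) * (lett x l)⁻¹) *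
            ((tOf x par c)⁻¹ * a₁⁻¹ * tOf x par c)⁻¹ := by
          rw [e4]; group
        have g₃ : (tOf x par c)⁻¹ * a₁⁻¹ * tOf x par c ∈ N := by
          simpa using C.nrm _ (N.inv_mem ha₁) (tOf x par c)⁻¹
        rw [C.conj_self g₃ hb] at e5
        rw [← e5]
        group
      rw [e3, C.add _ g₁ _ hb, f₁, Y.act l _ g₂, f₂, Hw_cons]
      split_ifs with h0
      · rfl
      · rw [Y.act_add]

/-- The equation of a closed word. -/
theorem row_eq (Y : Sys N φ S n m T par x y A) {w : List ℕ} (hw : ∀ l ∈ w, l < 2 * m) {c : ℕ} (hc : c < n)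
    (hcl : endV T c w = c) (hN : evW x w ∈ N) :
    Hw T A (Phi T par x y φ) c w = φ (evW x w) := by
  have C := Y.crd
  obtain ⟨a, ha, s, hs, e, f⟩ := word_dec Y w hw c hc
  rw [hcl] at e
  have h1 : tOf x par c * evW x w * (tOf x par c)⁻¹ ∈ N := C.nrm _ hN _
  have h2 : s = a⁻¹ * (tOf x par c * evW x w * (tOf x par c)⁻¹) := by
    rw [e]; group
  have h3 : s ∈ N := h2 ▸ N.mul_mem (N.inv_mem ha) h1
  have h4 := Y.SN s hs h3
  rw [h4, mul_one] at e
  rw [← f, ← e]
  congr 1
  group

/-- An edge with the Schreier element in the subgroup has value zero. -/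
theorem Phi_zero_of_mem (Y : Sys N φ S n m T par x y A) {c i : ℕ} (hc : c < n) (hi : i < m)
    (h : ee T par x c i ∈ S) : Phi T par x y φ c i = 0 := by
  have C := Y.crd
  have h1 : nn T par x y c i ∈ S := S.mul_mem h (S.inv_mem (Y.y_mem c hc i hi))
  have h2 := Y.SN _ h1 (Y.n_mem c hc i hi)
  rw [Phi, h2]
  simp [C.map_one]

/-- Edges of the tree have value zero. -/
theorem tree_zero (Y : Sys N φ S n m T par x y A) {c : ℕ} (hc : c < n) (h0 : 0 < c) :
    if (par c).2 % 2 = 0 then Phi T par x y φ (par c).1 ((par c).2 / 2) = 0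
    else Phi T par x y φ c ((par c).2 / 2) = 0 := by
  obtain ⟨h1, h2, h3⟩ := Y.tab.par_lt c hc h0
  have ht := tOf_pos x par h0 h1
  have hp : (par c).1 < n := h1.trans hc
  split_ifs with h
  · have hl2 : (par c).2 = 2 * ((par c).2 / 2) := by omega
    apply Phi_zero_of_mem Y hp (by omega)
    have e : ee T par x (par c).1 ((par c).2 / 2) = 1 := by
      rw [ee, ← hl2, h3, ht]
      conv_lhs => rw [hl2]
      rw [lett_even, ← hl2]
      group
    rw [e]
    exact S.one_mem
  · have hl2 : (par c).2 = 2 * ((par c).2 / 2) + 1 := by omega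
    have him : (par c).2 / 2 < m := by omega
    apply Phi_zero_of_mem Y hc him
    have hT : T c (2 * ((par c).2 / 2)) = (par c).1 := by
      have := Y.tab.T_odd (par c).1 hp _ him
      rw [← hl2, h3] at this
      exact this
    have e : ee T par x c ((par c).2 / 2) = 1 := by
      rw [ee, hT, ht]
      conv_lhs => rw [hl2]
      rw [lett_odd, show (2 * ((par c).2 / 2) + 1) / 2 = (par c).2 / 2 by omega]
      group
    rw [e]
    exact S.one_mem

/-- When all edges vanish, the subgroup generated by `x` lies in finitely many cosets. -/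
theorem cover (Y : Sys N φ S n m T par x y A) (h : ∀ c, c < n → ∀ i, i < m → Phi T par x y φ c i = 0) :
    ∀ g ∈ Subgroup.closure (x '' Set.Iio m), ∃ c, c < n ∧ ∃ s ∈ S, g = s * tOf x par c := by
  have C := Y.crd
  have key : ∀ c, c < n → ∀ i, i < m → ee T par x c i ∈ S := by
    intro c hc i hi
    have h1 := C.inj _ (by simpa using C.nrm _ (Y.n_mem c hc i hi) (tOf x par c)⁻¹) (h c hc i hi)
    have h2 : nn T par x y c i = 1 := by
      have : nn T par x y c i = tOf x par c * ((tOf x par c)⁻¹ * nn T par x y c i * tOf x par c) * (tOf x par c)⁻¹ := by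
        group
      rw [this, h1]
      group
    have h3 : ee T par x c i = y c i := by
      have : ee T par x c i = nn T par x y c i * y c i := by simp [nn]
      rw [this, h2, one_mul]
    rw [h3]
    exact Y.y_mem c hc i hi
  intro g hg
  induction hg using Subgroup.closure_induction_right with
  | one =>
    exact ⟨0, Y.tab.n_pos, 1, S.one_mem, by simp [tOf_zero]⟩
  | mul_right a _ b hb ih =>
    obtain ⟨c, hc, s, hs, rfl⟩ := ih
    obtain ⟨i, hi, rfl⟩ := hb
    have hi' : i < m := hi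
    have hd := Y.tab.T_lt c hc (2 * i) (by omega)
    refine ⟨T c (2 * i), hd, s * ee T par x c i, S.mul_mem hs (key c hc i hi'), ?_⟩
    simp only [ee]
    group
  | mul_inv_cancel a _ b hb ih =>
    obtain ⟨c, hc, s, hs, rfl⟩ := ih
    obtain ⟨i, hi, rfl⟩ := hb
    have hi' : i < m := hi
    have hd := Y.tab.T_lt c hc (2 * i + 1) (by omega)
    have hodd := Y.tab.T_odd c hc i hi'
    have hk := key _ hd i hi'
    refine ⟨T c (2 * i + 1), hd, s * (ee T par x (T c (2 * i + 1)) i)⁻¹, S.mul_mem hs (S.inv_mem hk), ?_⟩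
    simp only [ee, hodd]
    group

/-! ### Change of lifts -/

/-- The formal inverse of a letter. -/
def invL (l : ℕ) : ℕ := if l % 2 = 0 then l + 1 else l - 1

theorem lett_invL (x : ℕ → E) (l : ℕ) : lett x (invL l) = (lett x l)⁻¹ := by
  unfold invL
  obtain ⟨i, hi⟩ : ∃ i, i = l / 2 := ⟨_, rfl⟩
  rcases Nat.mod_two_eq_zero_or_one l with h0 | h1
  · have hl2 : l = 2 * i := by omega
    rw [if_pos h0, hl2, lett_even, lett_odd]
  · have hl2 : l = 2 * i + 1 := by omega
    rw [if_neg (by omega), hl2, show 2 * i + 1 - 1 = 2 * i by omega, lett_even, lett_odd, inv_inv]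

/-- The effect of the change of lifts on a letter. -/
def zz (A : ℕ → V → V) (b : ℕ → V) (l : ℕ) : V := if l % 2 = 0 then b (l / 2) else A (l - 1) (b (l / 2))

/-- The difference of the representatives. -/
noncomputable def DD (par : ℕ → ℕ × ℕ) (x x' : ℕ → E) (c : ℕ) : E := (tOf x par c)⁻¹ * tOf x' par c

/-- The values of the difference, computed along the tree. -/
def Yv (A : ℕ → V → V) (z : ℕ → V) (par : ℕ → ℕ × ℕ) : ℕ → ℕ → V
  | 0, _ => 0
  | f + 1, c => if c = 0 then 0 else A (invL (par c).2) (Yv A z par f (par c).1) + z (par c).2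

section Gauge

variable (w : ℕ → E)

/-- The product of a letter. -/
theorem lett_q (C : Crd N φ) (hA : ∀ l, ∀ a ∈ N, φ (lett x l * a * (lett x l)⁻¹) = A l (φ a))
    (hw : ∀ i, w i ∈ N) (l : ℕ) :
    (lett x l)⁻¹ * lett (fun i => x i * w i) l ∈ N ∧
      φ ((lett x l)⁻¹ * lett (fun i => x i * w i) l) = zz A (fun i => φ (w i)) l := by
  obtain ⟨i, hi⟩ : ∃ i, i = l / 2 := ⟨_, rfl⟩
  rcases Nat.mod_two_eq_zero_or_one l with h0 | h1
  · have hl2 : l = 2 * i := by omega
    have e : (lett x l)⁻¹ * lett (fun i => x i * w i) l = w i := by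
      rw [hl2, lett_even, lett_even]
      group
    rw [e, zz, if_pos h0, ← hi]
    exact ⟨hw i, rfl⟩
  · have hl2 : l = 2 * i + 1 := by omega
    have e : (lett x l)⁻¹ * lett (fun i => x i * w i) l = lett x (2 * i) * (w i)⁻¹ * (lett x (2 * i))⁻¹ := by
      rw [hl2, lett_odd, lett_odd, lett_even]
      group
    rw [e, zz, if_neg (by omega), ← hi, show l - 1 = 2 * i by omega]
    refine ⟨C.nrm _ (N.inv_mem (hw i)) _, ?_⟩
    rw [hA _ _ (N.inv_mem (hw i)), C.map_inv (hw i)]

theorem lett_act' (C : Crd N φ) (hA : ∀ l, ∀ a ∈ N, φ (lett x l * a * (lett x l)⁻¹) = A l (φ a))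
    (hw : ∀ i, w i ∈ N) (l : ℕ) {a : E} (ha : a ∈ N) :
    φ (lett (fun i => x i * w i) l * a * (lett (fun i => x i * w i) l)⁻¹) = A l (φ a) := by
  obtain ⟨hq, -⟩ := lett_q w C hA hw l
  set q := (lett x l)⁻¹ * lett (fun i => x i * w i) l with hq'
  have e : lett (fun i => x i * w i) l = lett x l * q := by
    rw [hq']; group
  rw [e]
  have e2 : lett x l * q * a * (lett x l * q)⁻¹ = lett x l * (q * a * q⁻¹) * (lett x l)⁻¹ := by group
  rw [e2, C.conj_self hq ha, hA l a ha]

theorem DD_facts (C : Crd N φ) (hA : ∀ l, ∀ a ∈ N, φ (lett x l * a * (lett x l)⁻¹) = A l (φ a))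
    (hw : ∀ i, w i ∈ N) (htab : Tab n m T par) :
    ∀ f c, c ≤ f → c < n → DD par x (fun i => x i * w i) c ∈ N ∧
      φ (DD par x (fun i => x i * w i) c) = Yv A (zz A (fun i => φ (w i))) par (f + 1) c := by
  intro f
  induction f with
  | zero =>
    intro c hc _
    obtain rfl : c = 0 := by omega
    simp only [DD, tOf_zero, Yv, if_true]
    simp [C.map_one]
  | succ f ih =>
    intro c hc hcn
    rcases Nat.eq_zero_or_pos c with rfl | h0
    · simp only [DD, tOf_zero, Yv, if_true]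
      simp [C.map_one]
    · obtain ⟨h1, h2, h3⟩ := htab.par_lt c hcn h0
      obtain ⟨hm, he⟩ := ih (par c).1 (by omega) (h1.trans hcn)
      obtain ⟨hq, hq2⟩ := lett_q w C hA hw (par c).2
      have e : DD par x (fun i => x i * w i) c =
          ((lett x (par c).2)⁻¹ * DD par x (fun i => x i * w i) (par c).1 * lett x (par c).2) *
            ((lett x (par c).2)⁻¹ * lett (fun i => x i * w i) (par c).2) := by
        simp only [DD]
        rw [tOf_pos x par h0 h1, tOf_pos (fun i => x i * w i) par h0 h1]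
        group
      have hconj : (lett x (par c).2)⁻¹ * DD par x (fun i => x i * w i) (par c).1 * lett x (par c).2 ∈ N := by
        simpa using C.nrm _ hm (lett x (par c).2)⁻¹
      rw [e]
      refine ⟨N.mul_mem hconj hq, ?_⟩
      rw [C.add _ hconj _ hq, hq2, Yv, if_neg (by omega), ← he]
      congr 1
      have := hA (invL (par c).2) _ hm
      rw [lett_invL, inv_inv] at this
      exact this

/-- The change of lifts. -/
theorem gauge (Y : Sys N φ S n m T par x y A) (hw : ∀ i, w i ∈ N) :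
    Sys N φ S n m T par (fun i => x i * w i) y A ∧
      ∀ c, c < n → ∀ i, i < m → Phi T par (fun i => x i * w i) y φ c i = Phi T par x y φ c i +
        φ (DD par x (fun i => x i * w i) c) +
          A (2 * i) (φ (w i) + φ (DD par x (fun i => x i * w i) (T c (2 * i)))) := by
  have C := Y.crd
  have hA := Y.act
  set x' : ℕ → E := fun i => x i * w i with hx'
  have hD : ∀ c, c < n → DD par x x' c ∈ N := fun c hc =>
    (DD_facts w C hA hw Y.tab c c le_rfl hc).1
  have key : ∀ c, c < n → ∀ i, i < m →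
      (tOf x par c)⁻¹ * nn T par x' y c i * tOf x par c =
        DD par x x' c * (lett x (2 * i) * (w i * (DD par x x' (T c (2 * i)))⁻¹) * (lett x (2 * i))⁻¹) *
          ((tOf x par c)⁻¹ * nn T par x y c i * tOf x par c) := by
    intro c _ i _
    simp only [nn, ee, DD, lett_even, hx']
    group
  have mem : ∀ c, c < n → ∀ i, i < m →
      DD par x x' c * (lett x (2 * i) * (w i * (DD par x x' (T c (2 * i)))⁻¹) * (lett x (2 * i))⁻¹) *
          ((tOf x par c)⁻¹ * nn T par x y c i * tOf x par c) ∈ N := by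
    intro c hc i hi
    have hd : T c (2 * i) < n := Y.tab.T_lt c hc _ (by omega)
    refine N.mul_mem (N.mul_mem (hD c hc) (C.nrm _ (N.mul_mem (hw i) (N.inv_mem (hD _ hd))) _)) ?_
    simpa using C.nrm _ (Y.n_mem c hc i hi) (tOf x par c)⁻¹
  have hn' : ∀ c, c < n → ∀ i, i < m → nn T par x' y c i ∈ N := by
    intro c hc i hi
    have h1 := C.nrm _ (mem c hc i hi) (tOf x par c)
    rw [← key c hc i hi] at h1
    have e : tOf x par c * ((tOf x par c)⁻¹ * nn T par x' y c i * tOf x par c) * (tOf x par c)⁻¹ =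
        nn T par x' y c i := by group
    rwa [e] at h1
  refine ⟨⟨C, Y.tab, Y.SN, Y.y_mem, hn', fun l a ha => lett_act' w C hA hw l ha, Y.act_add⟩, ?_⟩
  intro c hc i hi
  have hd : T c (2 * i) < n := Y.tab.T_lt c hc _ (by omega)
  have h1 : (tOf x' par c)⁻¹ * nn T par x' y c i * tOf x' par c =
      (DD par x x' c)⁻¹ * ((tOf x par c)⁻¹ * nn T par x' y c i * tOf x par c) * ((DD par x x' c)⁻¹)⁻¹ := by
    simp only [DD]
    group
  have hframe : (tOf x par c)⁻¹ * nn T par x' y c i * tOf x par c ∈ N := by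
    simpa using C.nrm _ (hn' c hc i hi) (tOf x par c)⁻¹
  rw [Phi, h1, C.conj_self (N.inv_mem (hD c hc)) hframe, key c hc i hi]
  have h2 : (tOf x par c)⁻¹ * nn T par x y c i * tOf x par c ∈ N := by
    simpa using C.nrm _ (Y.n_mem c hc i hi) (tOf x par c)⁻¹
  have h3 := N.mul_mem (hw i) (N.inv_mem (hD _ hd))
  have h4 := C.nrm _ h3 (lett x (2 * i))
  rw [C.add _ (N.mul_mem (hD c hc) h4) _ h2, C.add _ (hD c hc) _ h4, hA _ _ h3, C.add _ (hw i) _ (N.inv_mem (hD _ hd)),
    C.map_inv (hD _ hd), Phi]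
  abel

end Gauge

/-- A bound for the order of the subgroup generated by a family with vanishing edges. -/
theorem card_closure_le [Finite E] (Y : Sys N φ S n m T par x y A)
    (h : ∀ c, c < n → ∀ i, i < m → Phi T par x y φ c i = 0) :
    Nat.card ↥(Subgroup.closure (x '' Set.Iio m)) ≤ n * Nat.card ↥S := by
  classical
  have hc := cover Y h
  let f : Fin n × ↥S → E := fun p => (p.2 : E) * tOf x par p.1
  have hsub : ((Subgroup.closure (x '' Set.Iio m) : Subgroup E) : Set E) ⊆ Set.range f := by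
    intro g hg
    obtain ⟨c, hcn, s, hs, rfl⟩ := hc g hg
    exact ⟨(⟨c, hcn⟩, ⟨s, hs⟩), rfl⟩
  have h1 : Nat.card ↥(Subgroup.closure (x '' Set.Iio m)) ≤ Nat.card (Set.range f) := by
    exact Nat.card_mono (Set.finite_range f) hsub
  have h2 : Nat.card (Set.range f) ≤ Nat.card (Fin n × ↥S) :=
    Nat.card_le_card_of_surjective (Set.rangeFactorization f) Set.rangeFactorization_surjective
  rw [Nat.card_prod, Nat.card_fin] at h2
  exact h1.trans h2

end Cfsg.Agent.Lib.TwCoset
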