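import Mathlib
import Cfsg.Agent.Lib.TwCoset

/-!
# Solving twisted coset systems with coordinates in eleven bits

Linear forms in finitely many bits, with values in eleven coordinates, are structures of eleven masks.  A certificate
gives each variable of a twisted coset system as such a form, in triangular order.
-/

set_option autoImplicit false

namespace Cfsg.Agent.Lib.TwSolve

open Cfsg.Agent.Lib.SchurCoset46 Cfsg.Agent.Lib.TwCoset

/-- The coordinates. -/
abbrev V11 := Fin 11 → ZMod 2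

/-- Forcing a number to a literal. -/
def frc {α : Type} (n : ℕ) (f : ℕ → α) : α := Nat.casesOn n (f 0) (fun m => f (Nat.succ m))

theorem frc_eq {α : Type} (n : ℕ) (f : ℕ → α) : frc n f = f n := by
  cases n <;> rfl

/-- Eleven forms. -/
structure F11 where
  a0 : ℕ
  a1 : ℕ
  a2 : ℕ
  a3 : ℕ
  a4 : ℕ
  a5 : ℕ
  a6 : ℕ
  a7 : ℕ
  a8 : ℕ
  a9 : ℕ
  a10 : ℕ

/-- The entries. -/
def F11.get (F : F11) : Fin 11 → ℕ := ![F.a0, F.a1, F.a2, F.a3, F.a4, F.a5, F.a6, F.a7, F.a8, F.a9, F.a10]

/-- The entries, by a number. -/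
def F11.getN (F : F11) : ℕ → ℕ
  | 0 => F.a0
  | 1 => F.a1
  | 2 => F.a2
  | 3 => F.a3
  | 4 => F.a4
  | 5 => F.a5
  | 6 => F.a6
  | 7 => F.a7
  | 8 => F.a8
  | 9 => F.a9
  | 10 => F.a10
  | _ => 0

/-- The forms, evaluated. -/
def mkF (a0 a1 a2 a3 a4 a5 a6 a7 a8 a9 a10 : ℕ) : F11 :=
  frc a0 fun a0 => frc a1 fun a1 => frc a2 fun a2 => frc a3 fun a3 => frc a4 fun a4 => frc a5 fun a5 =>
  frc a6 fun a6 => frc a7 fun a7 => frc a8 fun a8 => frc a9 fun a9 => frc a10 fun a10 =>
  F11.mk a0 a1 a2 a3 a4 a5 a6 a7 a8 a9 a10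

theorem mkF_eq (a0 a1 a2 a3 a4 a5 a6 a7 a8 a9 a10 : ℕ) :
    mkF a0 a1 a2 a3 a4 a5 a6 a7 a8 a9 a10 = F11.mk a0 a1 a2 a3 a4 a5 a6 a7 a8 a9 a10 := by
  simp only [mkF, frc_eq]

/-- A row of a matrix. -/
structure R11 where
  b0 : Bool
  b1 : Bool
  b2 : Bool
  b3 : Bool
  b4 : Bool
  b5 : Bool
  b6 : Bool
  b7 : Bool
  b8 : Bool
  b9 : Bool
  b10 : Bool

/-- The entries of a row. -/
def R11.get (r : R11) : Fin 11 → Bool := ![r.b0, r.b1, r.b2, r.b3, r.b4, r.b5, r.b6, r.b7, r.b8, r.b9, r.b10]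

/-- The sum of the forms selected by a row. -/
def selR (r : R11) (F : F11) : ℕ :=
  Nat.xor (cond r.b0 F.a0 0) (Nat.xor (cond r.b1 F.a1 0) (Nat.xor (cond r.b2 F.a2 0) (Nat.xor (cond r.b3 F.a3 0)
    (Nat.xor (cond r.b4 F.a4 0) (Nat.xor (cond r.b5 F.a5 0) (Nat.xor (cond r.b6 F.a6 0) (Nat.xor (cond r.b7 F.a7 0)
    (Nat.xor (cond r.b8 F.a8 0) (Nat.xor (cond r.b9 F.a9 0) (cond r.b10 F.a10 0))))))))))

/-- A matrix. -/
structure M11 where
  r0 : R11
  r1 : R11
  r2 : R11
  r3 : R11
  r4 : R11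
  r5 : R11
  r6 : R11
  r7 : R11
  r8 : R11
  r9 : R11
  r10 : R11

/-- The rows of a matrix. -/
def M11.get (M : M11) : Fin 11 → R11 := ![M.r0, M.r1, M.r2, M.r3, M.r4, M.r5, M.r6, M.r7, M.r8, M.r9, M.r10]

/-- A matrix times forms. -/
def actF (M : M11) (F : F11) : F11 :=
  mkF (selR M.r0 F) (selR M.r1 F) (selR M.r2 F) (selR M.r3 F) (selR M.r4 F) (selR M.r5 F) (selR M.r6 F) (selR M.r7 F)
    (selR M.r8 F) (selR M.r9 F) (selR M.r10 F)

/-- The sum of forms. -/
def addF (F G : F11) : F11 :=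
  F11.casesOn F fun a0 a1 a2 a3 a4 a5 a6 a7 a8 a9 a10 =>
    F11.casesOn G fun b0 b1 b2 b3 b4 b5 b6 b7 b8 b9 b10 =>
      F11.mk (Nat.xor a0 b0) (Nat.xor a1 b1) (Nat.xor a2 b2) (Nat.xor a3 b3) (Nat.xor a4 b4) (Nat.xor a5 b5)
        (Nat.xor a6 b6) (Nat.xor a7 b7) (Nat.xor a8 b8) (Nat.xor a9 b9) (Nat.xor a10 b10)

/-- The zero forms. -/
def zeroF : F11 := ⟨0, 0, 0, 0, 0, 0, 0, 0, 0, 0, 0⟩

/-- The test for zero forms. -/
def isZeroF (F : F11) : Bool :=
  Nat.beq F.a0 0 && Nat.beq F.a1 0 && Nat.beq F.a2 0 && Nat.beq F.a3 0 && Nat.beq F.a4 0 && Nat.beq F.a5 0 &&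
    Nat.beq F.a6 0 && Nat.beq F.a7 0 && Nat.beq F.a8 0 && Nat.beq F.a9 0 && Nat.beq F.a10 0

/-- The forms of a block of parameters. -/
def idChk (F : F11) (b : ℕ) : Bool :=
  Nat.beq F.a0 (Nat.pow 2 b) && Nat.beq F.a1 (Nat.pow 2 (b + 1)) && Nat.beq F.a2 (Nat.pow 2 (b + 2)) &&
    Nat.beq F.a3 (Nat.pow 2 (b + 3)) && Nat.beq F.a4 (Nat.pow 2 (b + 4)) && Nat.beq F.a5 (Nat.pow 2 (b + 5)) &&
    Nat.beq F.a6 (Nat.pow 2 (b + 6)) && Nat.beq F.a7 (Nat.pow 2 (b + 7)) && Nat.beq F.a8 (Nat.pow 2 (b + 8)) &&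
    Nat.beq F.a9 (Nat.pow 2 (b + 9)) && Nat.beq F.a10 (Nat.pow 2 (b + 10))

/-! ### Semantics -/

/-- The value of a form. -/
def evB (P : ℕ → ZMod 2) (W f : ℕ) : ZMod 2 := ∑ b ∈ Finset.range W, if f.testBit b = true then P b else 0

theorem z2_add_self (a : ZMod 2) : a + a = 0 := CharTwo.add_self_eq_zero a

theorem z2_add_self_pi (v : V11) : v + v = 0 := by
  funext t
  exact z2_add_self (v t)

theorem evB_xor (P : ℕ → ZMod 2) (W a b : ℕ) : evB P W (Nat.xor a b) = evB P W a + evB P W b := by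
  unfold evB
  rw [← Finset.sum_add_distrib]
  apply Finset.sum_congr rfl
  intro i _
  have h : (Nat.xor a b).testBit i = (a ^^^ b).testBit i := rfl
  rw [h, Nat.testBit_xor]
  cases a.testBit i <;> cases b.testBit i <;> simp [z2_add_self]

theorem evB_hxor (P : ℕ → ZMod 2) (W a b : ℕ) : evB P W (a ^^^ b) = evB P W a + evB P W b :=
  evB_xor P W a b

theorem evB_zero (P : ℕ → ZMod 2) (W : ℕ) : evB P W 0 = 0 := by
  simp [evB]

theorem evB_cond (P : ℕ → ZMod 2) (W : ℕ) (c : Bool) (a : ℕ) :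
    evB P W (cond c a 0) = if c = true then evB P W a else 0 := by
  cases c <;> simp [evB_zero]

theorem evB_two_pow (P : ℕ → ZMod 2) {W b : ℕ} (h : b < W) : evB P W (2 ^ b) = P b := by
  unfold evB
  rw [Finset.sum_eq_single b]
  · simp
  · intro i _ hi
    simp [Ne.symm hi]
  · intro hb
    exact absurd (Finset.mem_range.mpr h) hb

theorem evB_of_zero {P : ℕ → ZMod 2} {W : ℕ} (h : ∀ b, b < W → P b = 0) (f : ℕ) : evB P W f = 0 := by
  unfold evB
  apply Finset.sum_eq_zero
  intro i hi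
  simp [h i (Finset.mem_range.mp hi)]

/-- The vector of values of forms. -/
def semF (P : ℕ → ZMod 2) (W : ℕ) (F : F11) : V11 := fun t => evB P W (F.get t)

/-- A row times a vector. -/
def mulR (r : R11) (v : V11) : ZMod 2 := ∑ j, if r.get j = true then v j else 0

/-- A matrix times a vector. -/
def mA (M : M11) (v : V11) : V11 := fun t => mulR (M.get t) v

theorem evB_selR (P : ℕ → ZMod 2) (W : ℕ) (r : R11) (F : F11) :
    evB P W (selR r F) = mulR r (semF P W F) := by
  unfold selR mulR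
  simp only [evB_xor, evB_cond, Fin.sum_univ_succ, Fin.sum_univ_zero]
  simp [R11.get, semF, F11.get, Fin.succ]
  rfl

theorem sem_act (P : ℕ → ZMod 2) (W : ℕ) (M : M11) (F : F11) :
    semF P W (actF M F) = mA M (semF P W F) := by
  funext t
  fin_cases t <;> simp [actF, mkF_eq, semF, F11.get, mA, M11.get, evB_selR]

theorem sem_add (P : ℕ → ZMod 2) (W : ℕ) (F G : F11) :
    semF P W (addF F G) = semF P W F + semF P W G := by
  obtain ⟨a0, a1, a2, a3, a4, a5, a6, a7, a8, a9, a10⟩ := F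
  obtain ⟨b0, b1, b2, b3, b4, b5, b6, b7, b8, b9, b10⟩ := G
  funext t
  fin_cases t <;> simp [addF, semF, F11.get, evB_hxor]

theorem sem_zero (P : ℕ → ZMod 2) (W : ℕ) : semF P W zeroF = 0 := by
  funext t
  fin_cases t <;> simp [zeroF, semF, F11.get, evB_zero]

theorem beq_of_eq {a b : ℕ} (h : a = b) : Nat.beq a b = true := by
  subst h
  exact Nat.beq_refl a

theorem beq_false_of_ne {a b : ℕ} (h : a ≠ b) : Nat.beq a b = false := by
  rw [Bool.eq_false_iff]
  intro h2
  exact h (Nat.eq_of_beq_eq_true h2)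

theorem sem_of_isZero (P : ℕ → ZMod 2) (W : ℕ) {F : F11} (h : isZeroF F = true) : semF P W F = 0 := by
  obtain ⟨a0, a1, a2, a3, a4, a5, a6, a7, a8, a9, a10⟩ := F
  simp only [isZeroF, Bool.and_eq_true] at h
  obtain ⟨⟨⟨⟨⟨⟨⟨⟨⟨⟨h0, h1⟩, h2⟩, h3⟩, h4⟩, h5⟩, h6⟩, h7⟩, h8⟩, h9⟩, h10⟩ := h
  obtain rfl := Nat.eq_of_beq_eq_true h0
  obtain rfl := Nat.eq_of_beq_eq_true h1
  obtain rfl := Nat.eq_of_beq_eq_true h2
  obtain rfl := Nat.eq_of_beq_eq_true h3
  obtain rfl := Nat.eq_of_beq_eq_true h4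
  obtain rfl := Nat.eq_of_beq_eq_true h5
  obtain rfl := Nat.eq_of_beq_eq_true h6
  obtain rfl := Nat.eq_of_beq_eq_true h7
  obtain rfl := Nat.eq_of_beq_eq_true h8
  obtain rfl := Nat.eq_of_beq_eq_true h9
  obtain rfl := Nat.eq_of_beq_eq_true h10
  exact sem_zero P W

theorem sem_of_idChk (P : ℕ → ZMod 2) {W : ℕ} {F : F11} {b : ℕ} (h : idChk F b = true) (hb : b + 11 ≤ W)
    (t : Fin 11) : semF P W F t = P (b + t.1) := by
  have hget : ∀ t : Fin 11, F.get t = 2 ^ (b + t.1) := by
    obtain ⟨a0, a1, a2, a3, a4, a5, a6, a7, a8, a9, a10⟩ := F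
    simp only [idChk, Bool.and_eq_true] at h
    obtain ⟨⟨⟨⟨⟨⟨⟨⟨⟨⟨h0, h1⟩, h2⟩, h3⟩, h4⟩, h5⟩, h6⟩, h7⟩, h8⟩, h9⟩, h10⟩ := h
    intro t
    fin_cases t
    · exact Nat.eq_of_beq_eq_true h0
    · exact Nat.eq_of_beq_eq_true h1
    · exact Nat.eq_of_beq_eq_true h2
    · exact Nat.eq_of_beq_eq_true h3
    · exact Nat.eq_of_beq_eq_true h4
    · exact Nat.eq_of_beq_eq_true h5
    · exact Nat.eq_of_beq_eq_true h6
    · exact Nat.eq_of_beq_eq_true h7
    · exact Nat.eq_of_beq_eq_true h8
    · exact Nat.eq_of_beq_eq_true h9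
    · exact Nat.eq_of_beq_eq_true h10
  have ht := t.2
  rw [semF, hget]
  exact evB_two_pow P (by omega)

theorem mA_add (M : M11) (u v : V11) : mA M (u + v) = mA M u + mA M v := by
  funext t
  simp only [mA, mulR, Pi.add_apply]
  rw [← Finset.sum_add_distrib]
  apply Finset.sum_congr rfl
  intro j _
  split_ifs <;> simp

/-! ### The system, symbolically -/

/-- The variable of a letter. -/
def vOf (m c l d : ℕ) : ℕ := cond (Nat.beq (Nat.mod l 2) 0) (Nat.add (Nat.mul c m) (Nat.div l 2)) (Nat.add (Nat.mul d m) (Nat.div l 2))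

theorem vOf_even {m c l d : ℕ} (h : l % 2 = 0) : vOf m c l d = c * m + l / 2 := by
  have : Nat.beq (Nat.mod l 2) 0 = true := beq_of_eq h
  simp only [vOf, this, cond_true]
  rfl

theorem vOf_odd {m c l d : ℕ} (h : l % 2 ≠ 0) : vOf m c l d = d * m + l / 2 := by
  have : Nat.beq (Nat.mod l 2) 0 = false := by
    rw [Bool.eq_false_iff]
    intro h2
    exact h (Nat.eq_of_beq_eq_true h2)
  simp only [vOf, this, cond_false]
  rfl

/-- The symbolic evaluation of a word. -/
def Hs (m : ℕ) (T : ℕ → ℕ → ℕ) (Af : ℕ → F11 → F11) (val : ℕ → F11) : ℕ → List ℕ → F11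
  | _, [] => zeroF
  | c, l :: w => frc (T c l) fun d => frc (vOf m c l d) fun u =>
      cond (Nat.beq (Nat.mod l 2) 0)
        (addF (val u) (Af l (Hs m T Af val d w)))
        (Af l (addF (val u) (Hs m T Af val d w)))

/-- The form version of the function on edges. -/
abbrev phV {α : Type} (m : ℕ) (F : ℕ → α) : ℕ → ℕ → α := fun c i => F (c * m + i)

theorem sem_Hs (P : ℕ → ZMod 2) (W m : ℕ) (T : ℕ → ℕ → ℕ) {Af : ℕ → F11 → F11} {A : ℕ → M11}
    (hAf : ∀ l F, Af l F = actF (A l) F) (val : ℕ → F11) (w : List ℕ) :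
    ∀ c, semF P W (Hs m T Af val c w) = Hw T (fun l => mA (A l)) (phV m fun v => semF P W (val v)) c w := by
  induction w with
  | nil => intro c; exact sem_zero P W
  | cons l w ih =>
    intro c
    rw [Hs, frc_eq, frc_eq, Hw_cons]
    by_cases h : l % 2 = 0
    · have : Nat.beq (Nat.mod l 2) 0 = true := beq_of_eq h
      rw [this, cond_true, if_pos h, sem_add, hAf, sem_act, ih, vOf_even h]
    · have : Nat.beq (Nat.mod l 2) 0 = false := by
        rw [Bool.eq_false_iff]
        intro h2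
        exact h (Nat.eq_of_beq_eq_true h2)
      rw [this, cond_false, if_neg h, hAf, sem_act, sem_add, ih, vOf_odd h]

/-- All variables of a word are the given one, or of lower rank. -/
def pcOK (m NV : ℕ) (T : ℕ → ℕ → ℕ) (rk : ℕ → ℕ) (v rv : ℕ) : ℕ → List ℕ → Bool
  | _, [] => true
  | c, l :: w => frc (T c l) fun d => frc (vOf m c l d) fun u =>
      (Nat.beq u v || (Nat.blt u NV && Nat.blt (rk u) rv)) && pcOK m NV T rk v rv d w

/-- The number of occurrences of a variable in a word. -/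
def pcN (m : ℕ) (T : ℕ → ℕ → ℕ) (v : ℕ) : ℕ → List ℕ → ℕ
  | _, [] => 0
  | c, l :: w => frc (T c l) fun d => frc (vOf m c l d) fun u =>
      cond (Nat.beq u v) (Nat.succ (pcN m T v d w)) (pcN m T v d w)

section Cancel

variable {m NV : ℕ} {T : ℕ → ℕ → ℕ} {rk : ℕ → ℕ} {v rv : ℕ} {F G : ℕ → V11} {A : ℕ → V11 → V11}

/-- Words without the variable. -/
theorem Hw_eq_of_no (hlow : ∀ u, u < NV → rk u < rv → F u = G u) (w : List ℕ) :
    ∀ c, pcOK m NV T rk v rv c w = true → pcN m T v c w = 0 → Hw T A (phV m F) c w = Hw T A (phV m G) c w := by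
  induction w with
  | nil => intro c _ _; rfl
  | cons l w ih =>
    intro c h1 h2
    rw [pcOK, frc_eq, frc_eq] at h1
    rw [pcN, frc_eq, frc_eq] at h2
    simp only [Bool.and_eq_true, Bool.or_eq_true] at h1
    obtain ⟨h3, h4⟩ := h1
    by_cases hu : vOf m c l (T c l) = v
    · have : Nat.beq (vOf m c l (T c l)) v = true := beq_of_eq hu
      rw [this, cond_true] at h2
      exact absurd h2 (Nat.succ_ne_zero _)
    · have hb : Nat.beq (vOf m c l (T c l)) v = false := by
        rw [Bool.eq_false_iff]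
        intro h5
        exact hu (Nat.eq_of_beq_eq_true h5)
      rw [hb, cond_false] at h2
      have hlt : vOf m c l (T c l) < NV ∧ rk (vOf m c l (T c l)) < rv := by
        rcases h3 with h5 | h5
        · rw [hb] at h5
          exact absurd h5 (by simp)
        · simpa using h5
      have hFG := hlow _ hlt.1 hlt.2
      have hrest := ih _ h4 h2
      rw [Hw_cons, Hw_cons]
      by_cases h : l % 2 = 0
      · rw [vOf_even h] at hFG
        simp only [if_pos h, phV, hFG, ← hrest]
      · rw [vOf_odd h] at hFG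
        simp only [if_neg h, phV, hFG, ← hrest]

/-- Words with the variable once. -/
theorem eq_of_once (hlow : ∀ u, u < NV → rk u < rv → F u = G u) (hinj : ∀ l a b, A l a = A l b → a = b) (w : List ℕ) :
    ∀ c, pcOK m NV T rk v rv c w = true → pcN m T v c w = 1 → Hw T A (phV m F) c w = Hw T A (phV m G) c w → F v = G v := by
  induction w with
  | nil => intro c _ h _; simp [pcN] at h
  | cons l w ih =>
    intro c h1 h2 h3
    rw [pcOK, frc_eq, frc_eq] at h1
    rw [pcN, frc_eq, frc_eq] at h2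
    simp only [Bool.and_eq_true, Bool.or_eq_true] at h1
    obtain ⟨h4, h5⟩ := h1
    rw [Hw_cons, Hw_cons] at h3
    by_cases hu : vOf m c l (T c l) = v
    · have : Nat.beq (vOf m c l (T c l)) v = true := beq_of_eq hu
      rw [this, cond_true] at h2
      have h6 : pcN m T v (T c l) w = 0 := by omega
      have hrest : Hw T A (phV m F) (T c l) w = Hw T A (phV m G) (T c l) w := Hw_eq_of_no hlow w _ h5 h6
      rw [← hrest] at h3
      by_cases h : l % 2 = 0
      · rw [vOf_even h] at hu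
        simp only [if_pos h, phV] at h3
        rw [← hu]
        exact add_right_cancel h3
      · rw [vOf_odd h] at hu
        simp only [if_neg h, phV] at h3
        rw [← hu]
        exact add_right_cancel (hinj _ _ _ h3)
    · have hb : Nat.beq (vOf m c l (T c l)) v = false := by
        rw [Bool.eq_false_iff]
        intro h6
        exact hu (Nat.eq_of_beq_eq_true h6)
      rw [hb, cond_false] at h2
      have hlt : vOf m c l (T c l) < NV ∧ rk (vOf m c l (T c l)) < rv := by
        rcases h4 with h6 | h6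
        · rw [hb] at h6
          exact absurd h6 (by simp)
        · simpa using h6
      have hFG := hlow _ hlt.1 hlt.2
      apply ih _ h5 h2
      by_cases h : l % 2 = 0
      · rw [vOf_even h] at hFG
        simp only [if_pos h, phV, hFG] at h3
        exact hinj _ _ _ (add_left_cancel h3)
      · rw [vOf_odd h] at hFG
        simp only [if_neg h, phV, hFG] at h3
        exact add_left_cancel (hinj _ _ _ h3)

end Cancel

/-! ### The certificate for the variables -/

section Cert

variable (n m R W NV : ℕ) (T : ℕ → ℕ → ℕ) (par : ℕ → ℕ × ℕ) (Af : ℕ → F11 → F11) (rels : ℕ → List ℕ) (val : ℕ → F11)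
  (rk kd pr : ℕ → ℕ)

/-- The test of a row used to solve for a variable. -/
def stepChk (v j c : ℕ) : Bool :=
  Nat.blt c n && Nat.blt j R && Nat.beq (endV T c (rels j)) c &&
    frc (Nat.add (Nat.mul n m) j) fun rl => frc (rk v) fun rv =>
      cond (Nat.beq v rl)
        (pcOK m NV T rk v rv c (rels j) && Nat.beq (pcN m T v c (rels j)) 0)
        (Nat.blt (rk rl) rv && pcOK m NV T rk v rv c (rels j) && Nat.beq (pcN m T v c (rels j)) 1) &&
      isZeroF (addF (Hs m T Af val c (rels j)) (val rl))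

/-- The test of a variable. -/
def varChk (v : ℕ) : Bool :=
  frc (kd v) fun k => frc (Nat.mod k 4) fun k4 => frc (Nat.div k 4) fun q =>
    cond (Nat.beq k4 0) (Nat.beq v 0 && isZeroF (val v))
      (cond (Nat.beq k4 1) (Nat.blt 0 q && Nat.blt q n && Nat.beq (treeVar m par q) v && isZeroF (val v))
        (cond (Nat.beq k4 2) (Nat.beq (pr q) v && Nat.ble (Nat.add (Nat.mul 11 q) 11) W && idChk (val v) (Nat.mul 11 q))
          (stepChk n m R NV T Af rels val rk v (Nat.mod q R) (Nat.div q R))))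

/-- The parameters as a function on bits. -/
def Pv (pr : ℕ → ℕ) (F : ℕ → V11) (b : ℕ) : ZMod 2 := F (pr (b / 11)) ⟨b % 11, Nat.mod_lt _ (by norm_num)⟩

theorem v11_eq_of_add_eq_zero {a b : V11} (h : a + b = 0) : a = b := by
  funext t
  have h1 := congrFun h t
  simp only [Pi.add_apply, Pi.zero_apply] at h1
  have h2 := z2_add_self (b t)
  exact add_right_cancel (h1.trans h2.symm)

variable {n m R W NV T par Af rels val rk kd pr}

/-- The variables are given by their forms. -/
theorem solve_forms {A : ℕ → M11} (hAf : ∀ l F, Af l F = actF (A l) F)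
    (hall : ∀ v, v < NV → varChk n m R W NV T par Af rels val rk kd pr v = true)
    (hNV : n * m + R ≤ NV) {F : ℕ → V11} (hz0 : F 0 = 0)
    (hzt : ∀ c, 0 < c → c < n → F (treeVar m par c) = 0)
    (hrow : ∀ j, j < R → ∀ c, c < n → endV T c (rels j) = c →
      Hw T (fun l => mA (A l)) (phV m F) c (rels j) = F (n * m + j))
    (hinj : ∀ l a b, mA (A l) a = mA (A l) b → a = b) :
    ∀ v, v < NV → F v = semF (Pv pr F) W (val v) := by
  have key : ∀ r v, rk v = r → v < NV → F v = semF (Pv pr F) W (val v) := by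
    intro r
    induction r using Nat.strong_induction_on with
    | _ r ih =>
      intro v hv hvN
      have hc := hall v hvN
      simp only [varChk, frc_eq] at hc
      have hmod : Nat.mod (kd v) 4 = kd v % 4 := rfl
      have hdiv : Nat.div (kd v) 4 = kd v / 4 := rfl
      rw [hmod, hdiv] at hc
      obtain ⟨q, hq⟩ : ∃ q, q = kd v / 4 := ⟨_, rfl⟩
      rw [← hq] at hc
      have hlt4 : kd v % 4 < 4 := Nat.mod_lt _ (by norm_num)
      obtain h0 | h1 | h2 | h3 : kd v % 4 = 0 ∨ kd v % 4 = 1 ∨ kd v % 4 = 2 ∨ kd v % 4 = 3 := by omega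
      · rw [h0] at hc
        simp only [Nat.beq_refl, cond_true, Bool.and_eq_true] at hc
        obtain rfl := Nat.eq_of_beq_eq_true hc.1
        rw [hz0, sem_of_isZero _ _ hc.2]
      · rw [h1] at hc
        simp only [show Nat.beq 1 0 = false from rfl, cond_false, Nat.beq_refl, cond_true, Bool.and_eq_true] at hc
        obtain ⟨⟨⟨h5, h6⟩, h7⟩, h8⟩ := hc
        have h5' : 0 < q := by simpa using h5
        have h6' : q < n := by simpa using h6
        have h7' := Nat.eq_of_beq_eq_true h7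
        rw [sem_of_isZero _ _ h8, ← h7', hzt q h5' h6']
      · rw [h2] at hc
        simp only [show Nat.beq 2 0 = false from rfl, show Nat.beq 2 1 = false from rfl, cond_false, Nat.beq_refl,
          cond_true, Bool.and_eq_true] at hc
        obtain ⟨⟨h5, h6⟩, h7⟩ := hc
        have h5' := Nat.eq_of_beq_eq_true h5
        have h6' : 11 * q + 11 ≤ W := by simpa [Nat.ble_eq] using h6
        funext t
        rw [sem_of_idChk _ h7 h6' t, Pv]
        have e1 : (Nat.mul 11 q + t.1) / 11 = q := by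
          have ht := t.2
          show (11 * q + t.1) / 11 = q
          omega
        have e2 : (Nat.mul 11 q + t.1) % 11 = t.1 := by
          have ht := t.2
          show (11 * q + t.1) % 11 = t.1
          omega
        simp only [e1, e2, h5']
      · rw [h3] at hc
        simp only [show Nat.beq 3 0 = false from rfl, show Nat.beq 3 1 = false from rfl,
          show Nat.beq 3 2 = false from rfl, cond_false] at hc
        obtain ⟨j, hj⟩ : ∃ j, j = Nat.mod q R := ⟨_, rfl⟩
        obtain ⟨c, hc'⟩ : ∃ c, c = Nat.div q R := ⟨_, rfl⟩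
        rw [← hj, ← hc'] at hc
        simp only [stepChk, frc_eq, Bool.and_eq_true] at hc
        obtain ⟨⟨⟨hcn, hjR⟩, hcl⟩, hmid, hzero⟩ := hc
        have hcn' : c < n := by simpa using hcn
        have hjR' : j < R := by simpa using hjR
        have hcl' := Nat.eq_of_beq_eq_true hcl
        have hadd : Nat.add (Nat.mul n m) j = n * m + j := rfl
        rw [hadd] at hmid hzero
        set G : ℕ → V11 := fun u => semF (Pv pr F) W (val u) with hG
        have hlow : ∀ u, u < NV → rk u < rk v → F u = G u := fun u hu hlt =>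
          ih (rk u) (hv ▸ hlt) u rfl hu
        have hrl : n * m + j < NV := by omega
        -- the form of the row
        have hs : semF (Pv pr F) W (Hs m T Af val c (rels j)) = G (n * m + j) := by
          apply v11_eq_of_add_eq_zero
          rw [← sem_add, sem_of_isZero _ _ hzero]
        rw [sem_Hs _ _ _ _ hAf] at hs
        have hrw := hrow j hjR' c hcn' hcl'
        by_cases hvr : v = n * m + j
        · rw [hvr, beq_of_eq rfl, cond_true] at hmid
          simp only [Bool.and_eq_true] at hmid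
          have hvrk : rk (n * m + j) < rk v ∨ True := Or.inr trivial
          rw [← hvr] at hmid
          have h6 := Hw_eq_of_no (A := fun l => mA (A l)) (F := F) (G := G) hlow (rels j) c hmid.1
            (Nat.eq_of_beq_eq_true hmid.2)
          rw [hvr]
          rw [← hrw, h6, hs]
        · rw [beq_false_of_ne hvr, cond_false] at hmid
          simp only [Bool.and_eq_true] at hmid
          obtain ⟨⟨h5, h6⟩, h7⟩ := hmid
          have h5' : rk (n * m + j) < rk v := by simpa using h5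
          have h8 := hlow _ hrl h5'
          exact eq_of_once (A := fun l => mA (A l)) hlow hinj (rels j) c h6 (Nat.eq_of_beq_eq_true h7)
            (by rw [hrw, h8, hs])
  exact fun v hv => key _ v rfl hv

end Cert

/-! ### The relations among the parameters -/

section Rel

variable (n m R W NV : ℕ) (T : ℕ → ℕ → ℕ) (Af : ℕ → F11 → F11) (rels : ℕ → List ℕ) (val : ℕ → F11)
  (rr : ℕ → ℕ × ℕ) (combo : ℕ → List (ℕ × ℕ)) (J : ℕ)

/-- A row of the relations, when it is valid. -/
def relF (q : ℕ) : F11 :=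
  frc (rr q).1 fun j => frc (rr q).2 fun c =>
    cond (Nat.blt c n && Nat.blt j R && Nat.beq (endV T c (rels j)) c &&
        pcOK m NV T (fun _ => 0) NV 1 c (rels j) && Nat.beq (pcN m T NV c (rels j)) 0)
      (addF (Hs m T Af val c (rels j)) (val (Nat.add (Nat.mul n m) j))) zeroF

/-- The sum of a list of relations. -/
def xorC (Rel : ℕ → F11) : List (ℕ × ℕ) → ℕ
  | [] => 0
  | p :: L => Nat.xor ((Rel p.1).getN p.2) (xorC Rel L)

/-- The test of a bit. -/
def bitChk (W : ℕ) (Rel : ℕ → F11) (combo : ℕ → List (ℕ × ℕ)) (J b : ℕ) : Bool :=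
  Nat.testBit J b || Nat.beq (Nat.land (xorC Rel (combo b)) (Nat.xor (Nat.pow 2 W - 1) J)) (Nat.pow 2 b)

variable {n m R W NV T Af rels val rr combo J}

theorem evB_getN_of_sem {P : ℕ → ZMod 2} {W : ℕ} {F : F11} (h : semF P W F = 0) (t : ℕ) : evB P W (F.getN t) = 0 := by
  have e : ∀ t : Fin 11, evB P W (F.get t) = 0 := fun t => congrFun h t
  by_cases ht : t < 11
  · have := e ⟨t, ht⟩
    interval_cases t <;> exact this
  · have : F.getN t = 0 := by
      unfold F11.getN
      split <;> first | rfl | omega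
    rw [this, evB_zero]

theorem evB_of_land {P : ℕ → ZMod 2} {W b X J : ℕ} (hb : b < W) (hJ : ∀ b', b' < W → J.testBit b' = true → P b' = 0)
    (h : Nat.land X (Nat.xor (Nat.pow 2 W - 1) J) = Nat.pow 2 b) : evB P W X = P b := by
  have hbit : ∀ b', b' < W → J.testBit b' = false → X.testBit b' = decide (b = b') := by
    intro b' hb' hJb
    have h1 : (X &&& ((2 ^ W - 1) ^^^ J)) = 2 ^ b := h
    have h2 := congrArg (fun z => Nat.testBit z b') h1
    simp only [Nat.testBit_land, Nat.testBit_xor, Nat.testBit_two_pow_sub_one, hJb, Nat.testBit_two_pow] at h2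
    simpa [hb'] using h2
  unfold evB
  rw [Finset.sum_eq_single b]
  · by_cases hJb : J.testBit b = true
    · rw [hJ b hb hJb]
      simp
    · have := hbit b hb (by simpa using hJb)
      simp [this]
  · intro i hi hne
    have hi' := Finset.mem_range.mp hi
    by_cases hJb : J.testBit i = true
    · rw [hJ i hi' hJb]
      simp
    · have := hbit i hi' (by simpa using hJb)
      simp [this, Ne.symm hne]
  · intro h3
    exact absurd (Finset.mem_range.mpr hb) h3

/-- Linear forms along a word, when the variables have the same value. -/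
theorem Hw_congr_low {F G : ℕ → V11} {Af : ℕ → V11 → V11} (h : ∀ u, u < NV → F u = G u) (w : List ℕ) (c : ℕ)
    (h1 : pcOK m NV T (fun _ => 0) NV 1 c w = true) (h2 : pcN m T NV c w = 0) :
    Hw T Af (phV m F) c w = Hw T Af (phV m G) c w :=
  Hw_eq_of_no (rk := fun _ => 0) (rv := 1) (v := NV) (fun u hu _ => h u hu) w c h1 h2

/-- The forms of the relations vanish. -/
theorem relF_zero {F : ℕ → V11} {P : ℕ → ZMod 2} {A : ℕ → M11} (hAf : ∀ l F, Af l F = actF (A l) F)
    (hF : ∀ v, v < NV → F v = semF P W (val v)) (hNV : n * m + R ≤ NV)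
    (hrow : ∀ j, j < R → ∀ c, c < n → endV T c (rels j) = c →
      Hw T (fun l => mA (A l)) (phV m F) c (rels j) = F (n * m + j)) (q : ℕ) :
    semF P W (relF n m R NV T Af rels val rr q) = 0 := by
  simp only [relF, frc_eq]
  obtain ⟨j, hj⟩ : ∃ j, j = (rr q).1 := ⟨_, rfl⟩
  obtain ⟨c, hc⟩ : ∃ c, c = (rr q).2 := ⟨_, rfl⟩
  rw [← hj, ← hc]
  cases hv : (Nat.blt c n && Nat.blt j R && Nat.beq (endV T c (rels j)) c &&
        pcOK m NV T (fun _ => 0) NV 1 c (rels j) && Nat.beq (pcN m T NV c (rels j)) 0) with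
  | false => rw [cond_false]; exact sem_zero P W
  | true =>
    rw [cond_true, sem_add, sem_Hs _ _ _ _ hAf]
    simp only [Bool.and_eq_true] at hv
    obtain ⟨⟨⟨⟨h1, h2⟩, h3⟩, h4⟩, h5⟩ := hv
    have h1' : c < n := by simpa using h1
    have h2' : j < R := by simpa using h2
    have h6 := hrow j h2' c h1' (Nat.eq_of_beq_eq_true h3)
    have h7 := Hw_congr_low (Af := fun l => mA (A l)) (F := F) (G := fun v => semF P W (val v))
      (fun u hu => hF u hu) (rels j) c h4 (Nat.eq_of_beq_eq_true h5)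
    rw [← h7, h6, hF _ (by omega)]
    have hadd : Nat.add (Nat.mul n m) j = n * m + j := rfl
    rw [hadd]
    funext t
    simp [z2_add_self]

theorem evB_xorC {P : ℕ → ZMod 2} {Rel : ℕ → F11} (h : ∀ q, semF P W (Rel q) = 0) (L : List (ℕ × ℕ)) :
    evB P W (xorC Rel L) = 0 := by
  induction L with
  | nil => exact evB_zero P W
  | cons p L ih =>
    rw [xorC, evB_xor, ih, evB_getN_of_sem (h p.1), add_zero]

/-- A solution of the system vanishing on the bits `J` is zero. -/
theorem solve_zero {rk kd pr : ℕ → ℕ} {par : ℕ → ℕ × ℕ} {Rel : ℕ → F11} {A : ℕ → M11}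
    (hAf : ∀ l F, Af l F = actF (A l) F)
    (hall : ∀ v, v < NV → varChk n m R W NV T par Af rels val rk kd pr v = true)
    (hbit : ∀ b, b < W → bitChk W Rel combo J b = true)
    (hNV : n * m + R ≤ NV) {F : ℕ → V11} (hz0 : F 0 = 0)
    (hzt : ∀ c, 0 < c → c < n → F (treeVar m par c) = 0)
    (hrow : ∀ j, j < R → ∀ c, c < n → endV T c (rels j) = c →
      Hw T (fun l => mA (A l)) (phV m F) c (rels j) = F (n * m + j))
    (hinj : ∀ l a b, mA (A l) a = mA (A l) b → a = b)
    (hRel : (∀ v, v < NV → F v = semF (Pv pr F) W (val v)) → ∀ q, semF (Pv pr F) W (Rel q) = 0)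
    (hJ : ∀ b, b < W → J.testBit b = true → Pv pr F b = 0) :
    ∀ v, v < NV → F v = 0 := by
  have hF := solve_forms hAf hall hNV hz0 hzt hrow hinj
  have hrel := hRel hF
  have hP : ∀ b, b < W → Pv pr F b = 0 := by
    intro b hb
    have h1 := hbit b hb
    simp only [bitChk, Bool.or_eq_true] at h1
    rcases h1 with h2 | h2
    · exact hJ b hb h2
    · have h3 := evB_of_land hb hJ (Nat.eq_of_beq_eq_true h2)
      rw [← h3]
      exact evB_xorC hrel _
  intro v hv
  rw [hF v hv]
  funext t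
  exact evB_of_zero hP _

end Rel

end Cfsg.Agent.Lib.TwSolve
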