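import Mathlib
import Cfsg.Agent.Lib.TwSolve

/-!
# One level of a twisted coset system

Changing the lift of the second generator, some parameters of the system can be made to vanish; when the certificate
says these determine the others, the subgroup generated by the new lifts lies in a union of cosets.
-/

set_option autoImplicit false

namespace Cfsg.Agent.Lib.TwLevel

open Cfsg.Agent.Lib.SchurCoset46 Cfsg.Agent.Lib.TwCoset Cfsg.Agent.Lib.TwSolve
open Cfsg.Agent.Lib

/-- The forms of the coordinates. -/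
def idF : F11 := ⟨1, 2, 4, 8, 16, 32, 64, 128, 256, 512, 1024⟩

/-- The effect on a letter of a change of the lift of the second generator, as forms. -/
def zzF (A : ℕ → M11) (l : ℕ) : F11 :=
  cond (Nat.beq (Nat.div l 2) 1) (cond (Nat.beq (Nat.mod l 2) 0) idF (actF (A (Nat.sub l 1)) idF)) zeroF

/-- The change of the representatives, as forms. -/
def YF (A : ℕ → M11) (par : ℕ → ℕ × ℕ) : ℕ → ℕ → F11
  | 0, _ => zeroF
  | f + 1, c => cond (Nat.beq c 0) zeroF
      (addF (actF (A (invL (par c).2)) (YF A par f (par c).1)) (zzF A (par c).2))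

/-- The change of the value on an edge, as forms. -/
def LF (A : ℕ → M11) (T : ℕ → ℕ → ℕ) (par : ℕ → ℕ × ℕ) (c i : ℕ) : F11 :=
  frc (T c (2 * i)) fun d =>
    addF (YF A par (c + 1) c)
      (actF (A (2 * i)) (addF (cond (Nat.beq i 1) idF zeroF) (YF A par (d + 1) d)))

/-- The bits of a vector. -/
def yb (y : V11) (b : ℕ) : ZMod 2 := if h : b < 11 then y ⟨b, h⟩ else 0

/-- The change of lifts. -/
def bY (y : V11) (i : ℕ) : V11 := if i = 1 then y else 0

theorem sem_idF (y : V11) : semF (yb y) 11 idF = y := by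
  funext t
  have h : idF.get t = 2 ^ t.1 := by
    fin_cases t <;> rfl
  rw [semF, h, evB_two_pow _ t.2, yb, dif_pos t.2]

theorem mA_zero (M : M11) : mA M 0 = 0 := by
  funext t
  simp [mA, mulR]

theorem sem_zzF (A : ℕ → M11) (y : V11) (l : ℕ) :
    semF (yb y) 11 (zzF A l) = zz (fun l => mA (A l)) (bY y) l := by
  unfold zzF zz bY
  by_cases h1 : l / 2 = 1
  · have e1 : Nat.beq (Nat.div l 2) 1 = true := TwSolve.beq_of_eq h1
    rw [e1, cond_true]
    by_cases h2 : l % 2 = 0
    · have e2 : Nat.beq (Nat.mod l 2) 0 = true := TwSolve.beq_of_eq h2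
      rw [e2, cond_true, if_pos h2, if_pos h1, sem_idF]
    · have e2 : Nat.beq (Nat.mod l 2) 0 = false := TwSolve.beq_false_of_ne h2
      rw [e2, cond_false, if_neg h2, if_pos h1, sem_act, sem_idF]
      rfl
  · have e1 : Nat.beq (Nat.div l 2) 1 = false := TwSolve.beq_false_of_ne h1
    rw [e1, cond_false, sem_zero]
    by_cases h2 : l % 2 = 0
    · rw [if_pos h2, if_neg h1]
    · rw [if_neg h2, if_neg h1]
      exact (mA_zero _).symm

theorem sem_YF (A : ℕ → M11) (par : ℕ → ℕ × ℕ) (y : V11) (f : ℕ) :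
    ∀ c, semF (yb y) 11 (YF A par f c) = Yv (fun l => mA (A l)) (zz (fun l => mA (A l)) (bY y)) par f c := by
  induction f with
  | zero => intro c; exact sem_zero _ _
  | succ f ih =>
    intro c
    rw [YF, Yv]
    by_cases h : c = 0
    · rw [if_pos h, TwSolve.beq_of_eq h, cond_true, sem_zero]
    · rw [if_neg h, TwSolve.beq_false_of_ne h, cond_false, sem_add, sem_act, ih, sem_zzF]

theorem sem_LF (A : ℕ → M11) (T : ℕ → ℕ → ℕ) (par : ℕ → ℕ × ℕ) (y : V11) (c i : ℕ) :
    semF (yb y) 11 (LF A T par c i) =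
      Yv (fun l => mA (A l)) (zz (fun l => mA (A l)) (bY y)) par (c + 1) c +
        mA (A (2 * i)) (bY y i + Yv (fun l => mA (A l)) (zz (fun l => mA (A l)) (bY y)) par (T c (2 * i) + 1) (T c (2 * i))) := by
  rw [LF, frc_eq, sem_add, sem_act, sem_add, sem_YF, sem_YF]
  congr 3
  unfold bY
  by_cases h : i = 1
  · rw [TwSolve.beq_of_eq h, cond_true, sem_idF, if_pos h]
  · rw [TwSolve.beq_false_of_ne h, cond_false, sem_zero, if_neg h]

/-- The parity of the bits in common, below `n`. -/
def dotB : ℕ → ℕ → ℕ → Bool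
  | 0, _, _ => false
  | n + 1, f, q => Bool.xor (dotB n f q) (Nat.testBit f n && Nat.testBit q n)

theorem evB_dotB (f q n : ℕ) :
    evB (fun b => if q.testBit b = true then 1 else 0) n f = if dotB n f q = true then 1 else 0 := by
  induction n with
  | zero => simp [evB, dotB]
  | succ n ih =>
    have h1 : evB (fun b => if q.testBit b = true then 1 else 0) (n + 1) f =
        evB (fun b => if q.testBit b = true then 1 else 0) n f +
          if f.testBit n = true then (if q.testBit n = true then 1 else 0) else 0 := by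
      simp only [evB]
      rw [Finset.sum_range_succ]
    rw [h1, ih, dotB]
    cases dotB n f q <;> cases f.testBit n <;> cases q.testBit n <;> simp
    exact z2_add_self 1

/-- The vector with prescribed values on forms. -/
theorem exists_y {K : ℕ} (f qq : ℕ → ℕ) (hchk : ∀ k, k < K → ∀ k', k' < K → dotB 11 (f k') (qq k) = decide (k = k'))
    (β : ℕ → ZMod 2) : ∃ y : V11, ∀ k', k' < K → evB (yb y) 11 (f k') = β k' := by
  refine ⟨fun t => ∑ k ∈ Finset.range K, β k * (if (qq k).testBit t.1 = true then 1 else 0), fun k' hk' => ?_⟩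
  have h1 : ∀ k ∈ Finset.range K, β k * evB (fun b => if (qq k).testBit b = true then 1 else 0) 11 (f k') =
      if k = k' then β k' else 0 := by
    intro k hk
    rw [evB_dotB, hchk k (Finset.mem_range.mp hk) k' hk']
    by_cases h : k = k'
    · subst h; simp
    · simp [h]
  have h2 : ∑ k ∈ Finset.range K, β k * evB (fun b => if (qq k).testBit b = true then 1 else 0) 11 (f k') = β k' := by
    rw [Finset.sum_congr rfl h1, Finset.sum_ite_eq' (Finset.range K) k' (fun _ => β k')]
    simp [hk']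
  rw [← h2]
  unfold evB
  simp only [Finset.mul_sum]
  rw [Finset.sum_comm]
  apply Finset.sum_congr rfl
  intro b hb
  have hb' := Finset.mem_range.mp hb
  by_cases hf : (f k').testBit b = true
  · simp [hf, yb, hb']
  · simp [hf]

universe u

variable {E : Type u} [Group E]

/-- The function on variables. -/
noncomputable def Fv (n m : ℕ) (T : ℕ → ℕ → ℕ) (par : ℕ → ℕ × ℕ) (x : ℕ → E) (y : ℕ → ℕ → E) (φ : E → V11)
    (rels : ℕ → List ℕ) (v : ℕ) : V11 :=
  if v < n * m then Phi T par x y φ (v / m) (v % m) else φ (evW x (rels (v - n * m)))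

theorem Hw_congr_tab {n m : ℕ} {T : ℕ → ℕ → ℕ} {par : ℕ → ℕ × ℕ} (ht : Tab n m T par) {Af : ℕ → V11 → V11}
    {Φ Ψ : ℕ → ℕ → V11} (h : ∀ c, c < n → ∀ i, i < m → Φ c i = Ψ c i) (w : List ℕ) (hw : ∀ l ∈ w, l < 2 * m) :
    ∀ c, c < n → Hw T Af Φ c w = Hw T Af Ψ c w := by
  induction w with
  | nil => intro c _; rfl
  | cons l w ih =>
    intro c hc
    have hl := hw l List.mem_cons_self
    have hd := ht.T_lt c hc l hl
    have hr := ih (fun l' h' => hw l' (List.mem_cons_of_mem _ h')) _ hd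
    rw [Hw_cons, Hw_cons, hr, h c hc (l / 2) (by omega), h _ hd (l / 2) (by omega)]

theorem phV_Fv {n m : ℕ} {T : ℕ → ℕ → ℕ} {par : ℕ → ℕ × ℕ} {x : ℕ → E} {y : ℕ → ℕ → E} {φ : E → V11}
    {rels : ℕ → List ℕ} {c i : ℕ} (hc : c < n) (hi : i < m) :
    phV m (Fv n m T par x y φ rels) c i = Phi T par x y φ c i := by
  have h1 : c * m + i < n * m := by
    calc c * m + i < c * m + m := by omega
      _ = (c + 1) * m := by ring
      _ ≤ n * m := Nat.mul_le_mul_right _ hc
  have h2 : (c * m + i) / m = c := by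
    rw [Nat.add_comm, Nat.add_mul_div_right _ _ (by omega), Nat.div_eq_of_lt hi]
    omega
  have h3 : (c * m + i) % m = i := by
    rw [Nat.add_comm, Nat.add_mul_mod_self_right, Nat.mod_eq_of_lt hi]
  simp only [phV, Fv, if_pos h1, h2, h3]

variable {N : Subgroup E} {φ : E → V11} {S : Subgroup E} {n m : ℕ} {T : ℕ → ℕ → ℕ} {par : ℕ → ℕ × ℕ}
  {x : ℕ → E} {y : ℕ → ℕ → E} {A : ℕ → M11}

/-- Invertibility of the letter matrices. -/
theorem mA_inj (Y : Sys N φ S n m T par x y (fun l => mA (A l))) (hsurj : ∀ v : V11, ∃ u ∈ N, φ u = v) (l : ℕ)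
    (a b : V11) (h : mA (A l) a = mA (A l) b) : a = b := by
  have key : ∀ v : V11, mA (A (invL l)) (mA (A l) v) = v := by
    intro v
    obtain ⟨u, hu, rfl⟩ := hsurj v
    have h1 := Y.act l u hu
    have h2 := Y.act (invL l) _ (Y.crd.nrm u hu (lett x l))
    rw [h1, lett_invL] at h2
    rw [← h2]
    congr 1
    group
  rw [← key a, ← key b, h]

/-- The system satisfied by the values on the variables. -/
theorem hrow_Fv (Y : Sys N φ S n m T par x y (fun l => mA (A l))) {rels : ℕ → List ℕ} {R : ℕ}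
    (hlet : ∀ j, j < R → ∀ l ∈ rels j, l < 2 * m) (hN : ∀ j, j < R → evW x (rels j) ∈ N)
    {j : ℕ} (hj : j < R) {c : ℕ} (hc : c < n) (hcl : endV T c (rels j) = c) :
    Hw T (fun l => mA (A l)) (phV m (Fv n m T par x y φ rels)) c (rels j) = Fv n m T par x y φ rels (n * m + j) := by
  have h1 := row_eq Y (hlet j hj) hc hcl (hN j hj)
  have h2 := Hw_congr_tab (Af := fun l => mA (A l)) Y.tab (Φ := phV m (Fv n m T par x y φ rels))
    (Ψ := Phi T par x y φ) (fun c hc i hi => phV_Fv hc hi) (rels j) (hlet j hj) c hc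
  rw [h2, h1, Fv, if_neg (by omega)]
  simp

/-- The edges vanish when the parameters in `J` do. -/
theorem edges_zero (Y : Sys N φ S n m T par x y (fun l => mA (A l))) (hsurj : ∀ v : V11, ∃ u ∈ N, φ u = v)
    {rels : ℕ → List ℕ} {R W NV J : ℕ} {val : ℕ → F11} {rk kd pr : ℕ → ℕ} {Rel : ℕ → F11} {combo : ℕ → List (ℕ × ℕ)}
    {Af : ℕ → F11 → F11} (hAf : ∀ l F, Af l F = actF (A l) F)
    (hm : 0 < m) (hNV : n * m + R ≤ NV)
    (hall : ∀ v, v < NV → varChk n m R W NV T par Af rels val rk kd pr v = true)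
    (hbit : ∀ b, b < W → bitChk W Rel combo J b = true)
    (hlet : ∀ j, j < R → ∀ l ∈ rels j, l < 2 * m) (hN : ∀ j, j < R → evW x (rels j) ∈ N)
    (hx0 : x 0 ∈ S) (hT00 : T 0 (2 * 0) = 0)
    (hRel : (∀ v, v < NV → Fv n m T par x y φ rels v = semF (Pv pr (Fv n m T par x y φ rels)) W (val v)) →
      ∀ q, semF (Pv pr (Fv n m T par x y φ rels)) W (Rel q) = 0)
    (hJ : ∀ b, b < W → J.testBit b = true → Pv pr (Fv n m T par x y φ rels) b = 0) :
    ∀ c, c < n → ∀ i, i < m → Phi T par x y φ c i = 0 := by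
  have hn := Y.tab.n_pos
  have hz0 : Fv n m T par x y φ rels 0 = 0 := by
    have h1 : phV m (Fv n m T par x y φ rels) 0 0 = Phi T par x y φ 0 0 := phV_Fv hn hm
    simp only [phV] at h1
    rw [show 0 * m + 0 = 0 by omega] at h1
    rw [h1]
    apply Phi_zero_of_mem Y hn hm
    simp only [ee, hT00, tOf_zero]
    simpa using hx0
  have hzt : ∀ c, 0 < c → c < n → Fv n m T par x y φ rels (treeVar m par c) = 0 := by
    intro c h0 hc
    have h1 := tree_zero Y hc h0
    obtain ⟨h2, h3, h4⟩ := Y.tab.par_lt c hc h0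
    unfold treeVar
    by_cases h : (par c).2 % 2 = 0
    · rw [if_pos h] at h1
      rw [TwSolve.beq_of_eq h, cond_true]
      have h5 := phV_Fv (n := n) (m := m) (T := T) (par := par) (x := x) (y := y) (φ := φ) (rels := rels)
        (c := (par c).1) (i := (par c).2 / 2) (h2.trans hc) (by omega)
      simp only [phV] at h5
      rw [h5, h1]
    · rw [if_neg h] at h1
      rw [TwSolve.beq_false_of_ne h, cond_false]
      have h5 := phV_Fv (n := n) (m := m) (T := T) (par := par) (x := x) (y := y) (φ := φ) (rels := rels)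
        (c := c) (i := (par c).2 / 2) hc (by omega)
      simp only [phV] at h5
      rw [h5, h1]
  have h0 := solve_zero hAf hall hbit hNV hz0 hzt (fun j hj c hc hcl => hrow_Fv Y hlet hN hj hc hcl)
    (mA_inj Y hsurj) hRel hJ
  intro c hc i hi
  have h1 := phV_Fv (n := n) (m := m) (T := T) (par := par) (x := x) (y := y) (φ := φ) (rels := rels) hc hi
  rw [← h1]
  simp only [phV]
  apply h0
  have : c * m + i < n * m := by
    calc c * m + i < c * m + m := by omega
      _ = (c + 1) * m := by ring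
      _ ≤ n * m := Nat.mul_le_mul_right _ hc
  omega

/-- The change of lifts annihilates the pivot values. -/
theorem exists_gauge (Y : Sys N φ S n m T par x y (fun l => mA (A l))) (hsurj : ∀ v : V11, ∃ u ∈ N, φ u = v)
    {K : ℕ} (pc pi : ℕ → ℕ) (pt : ℕ → Fin 11) (qq : ℕ → ℕ)
    (hpc : ∀ k, k < K → pc k < n) (hpi : ∀ k, k < K → pi k < m)
    (hchk : ∀ k, k < K → ∀ k', k' < K →
      dotB 11 ((LF A T par (pc k') (pi k')).get (pt k')) (qq k) = decide (k = k')) :
    ∃ u ∈ N, Sys N φ S n m T par (fun i => x i * (if i = 1 then u else 1)) y (fun l => mA (A l)) ∧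
      ∀ k, k < K → Phi T par (fun i => x i * (if i = 1 then u else 1)) y φ (pc k) (pi k) (pt k) = 0 := by
  have C := Y.crd
  obtain ⟨y₀, hy₀⟩ := exists_y (K := K) (fun k' => (LF A T par (pc k') (pi k')).get (pt k')) qq hchk
    (fun k => Phi T par x y φ (pc k) (pi k) (pt k))
  obtain ⟨u, hu, rfl⟩ := hsurj y₀
  refine ⟨u, hu, ?_⟩
  set w : ℕ → E := fun i => if i = 1 then u else 1 with hw'
  have hw : ∀ i, w i ∈ N := by
    intro i
    simp only [hw']
    split_ifs
    · exact hu
    · exact N.one_mem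
  have hwφ : (fun i => φ (w i)) = bY (φ u) := by
    funext i
    simp only [hw', bY]
    split_ifs
    · rfl
    · exact C.map_one
  obtain ⟨hS, hf⟩ := gauge w Y hw
  refine ⟨hS, fun k hk => ?_⟩
  have h1 := hf (pc k) (hpc k hk) (pi k) (hpi k hk)
  have hd : T (pc k) (2 * pi k) < n := Y.tab.T_lt _ (hpc k hk) _ (by have := hpi k hk; omega)
  have h2 := (DD_facts w C Y.act hw Y.tab (pc k) (pc k) le_rfl (hpc k hk)).2
  have h3 := (DD_facts w C Y.act hw Y.tab _ (T (pc k) (2 * pi k)) le_rfl hd).2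
  rw [hwφ] at h2 h3
  have h4 := hy₀ k hk
  have h5 := congrFun (sem_LF A T par (φ u) (pc k) (pi k)) (pt k)
  rw [← h2, ← h3] at h5
  have h6 : (bY (φ u) (pi k)) = φ (w (pi k)) := (congrFun hwφ (pi k)).symm
  rw [h6] at h5
  have h7 : semF (yb (φ u)) 11 (LF A T par (pc k) (pi k)) (pt k) = Phi T par x y φ (pc k) (pi k) (pt k) := h4
  rw [h1]
  rw [h7] at h5
  have h8 : (Phi T par x y φ (pc k) (pi k) + φ (DD par x (fun i => x i * w i) (pc k)) +
      mA (A (2 * pi k)) (φ (w (pi k)) + φ (DD par x (fun i => x i * w i) (T (pc k) (2 * pi k))))) (pt k) =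
      Phi T par x y φ (pc k) (pi k) (pt k) + (φ (DD par x (fun i => x i * w i) (pc k)) +
      mA (A (2 * pi k)) (φ (w (pi k)) + φ (DD par x (fun i => x i * w i) (T (pc k) (2 * pi k))))) (pt k) := by
    simp only [Pi.add_apply, add_assoc]
  rw [h8, ← h5]
  exact z2_add_self _

theorem get_eq_getN (F : F11) (t : Fin 11) : F.get t = F.getN t.1 := by
  fin_cases t <;> rfl

/-- The gauge in terms of bits of the parameters. -/
theorem gauge_bits (Y : Sys N φ S n m T par x y (fun l => mA (A l))) (hsurj : ∀ v : V11, ∃ u ∈ N, φ u = v)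
    {K : ℕ} {pr pb qq : ℕ → ℕ} {rels : ℕ → List ℕ} (hm : 0 < m) (hpb : ∀ k, k < K → pr (pb k / 11) < n * m)
    (hchk : ∀ k, k < K → ∀ k', k' < K →
      dotB 11 ((LF A T par (pr (pb k' / 11) / m) (pr (pb k' / 11) % m)).getN (pb k' % 11)) (qq k) = decide (k = k')) :
    ∃ u ∈ N, Sys N φ S n m T par (fun i => x i * (if i = 1 then u else 1)) y (fun l => mA (A l)) ∧
      ∀ k, k < K → Pv pr (Fv n m T par (fun i => x i * (if i = 1 then u else 1)) y φ rels) (pb k) = 0 := by
  obtain ⟨u, hu, hS, hf⟩ := exists_gauge (K := K) (A := A) Y hsurj (fun k => pr (pb k / 11) / m) (fun k => pr (pb k / 11) % m)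
    (fun k => ⟨pb k % 11, Nat.mod_lt _ (by norm_num)⟩) qq
    (fun k hk => Nat.div_lt_of_lt_mul (by rw [Nat.mul_comm]; exact hpb k hk))
    (fun k _ => Nat.mod_lt _ hm)
    (fun k hk k' hk' => by rw [get_eq_getN]; exact hchk k hk k' hk')
  refine ⟨u, hu, hS, fun k hk => ?_⟩
  simp only [Pv, Fv, if_pos (hpb k hk)]
  exact hf k hk

end Cfsg.Agent.Lib.TwLevel
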