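import Mathlib
import Cfsg.Agent.Lib.TwLevel

/-!
# Chains of twisted coset systems

The generic steps: a complement over a subgroup of odd order by Schur–Zassenhaus, the systems built from words giving
the Schreier elements, and one level of the chain.
-/

set_option autoImplicit false

namespace Cfsg.Agent.Lib.TwChain

open Cfsg.Agent.Lib.SchurCoset46 Cfsg.Agent.Lib.TwCoset Cfsg.Agent.Lib.TwSolve Cfsg.Agent.Lib.TwLevel

universe u v

variable {E : Type u} [Group E] {G : Type v} [Group G]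

theorem map_tOf (f : E →* G) (x : ℕ → E) (par : ℕ → ℕ × ℕ) :
    ∀ c, f (tOf x par c) = tOf (fun i => f (x i)) par c := by
  intro c
  induction c using Nat.strong_induction_on with
  | _ c ih =>
    cases c with
    | zero => simp [tOf_zero]
    | succ d =>
      by_cases h : (par (d + 1)).1 < d + 1
      · rw [tOf_pos x par (Nat.succ_pos d) h, tOf_pos _ par (Nat.succ_pos d) h, map_mul, ih _ h, map_lett]
      · rw [tOf, dif_neg h, tOf, dif_neg h, map_one]

/-- Two generators as a family. -/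
def pick {α : Type*} (a b : α) (i : ℕ) : α := if i = 0 then a else b

@[simp] theorem pick_zero {α : Type*} (a b : α) : pick a b 0 = a := rfl
@[simp] theorem pick_succ {α : Type*} (a b : α) (i : ℕ) : pick a b (i + 1) = b := rfl

theorem map_pick (f : E →* G) (a b : E) : (fun i => f (pick a b i)) = pick (f a) (f b) := by
  funext i
  cases i <;> rfl

theorem xor0l (a : ℕ) : Nat.xor 0 a = a := Nat.zero_xor a

theorem xor0r (a : ℕ) : Nat.xor a 0 = a := Nat.xor_zero a

/-- Matrices for the letters of two generators. -/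
def A4 (A0 A1 A2 A3 : M11) (l : ℕ) : M11 :=
  cond (Nat.beq (Nat.div l 2) 0) (cond (Nat.beq (Nat.mod l 2) 0) A0 A1) (cond (Nat.beq (Nat.mod l 2) 0) A2 A3)

/-- Conjugation by lifts of an element acts by a matrix. -/
def Acts (π : E →* G) (φ : E → V11) (N : Subgroup E) (g : G) (M : M11) : Prop :=
  ∀ e, π e = g → ∀ a ∈ N, φ (e * a * e⁻¹) = mA M (φ a)

theorem acts_all {π : E →* G} {φ : E → V11} {N : Subgroup E} {s₀ s₁ : G} {A0 A1 A2 A3 : M11}
    (h0 : Acts π φ N s₀ A0) (h1 : Acts π φ N s₀⁻¹ A1) (h2 : Acts π φ N s₁ A2) (h3 : Acts π φ N s₁⁻¹ A3) (l : ℕ) :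
    Acts π φ N (lett (pick s₀ s₁) l) (A4 A0 A1 A2 A3 l) := by
  obtain ⟨i, hi⟩ : ∃ i, i = l / 2 := ⟨_, rfl⟩
  unfold A4
  have hd : Nat.div l 2 = i := hi.symm
  have hm : Nat.mod l 2 = l % 2 := rfl
  rw [hd, hm]
  rcases Nat.mod_two_eq_zero_or_one l with h | h
  · have hl : l = 2 * i := by omega
    rw [h, show Nat.beq 0 0 = true from rfl, cond_true, cond_true]
    conv => arg 4; rw [hl, lett_even]
    cases i with
    | zero => exact h0
    | succ i => exact h2
  · have hl : l = 2 * i + 1 := by omega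
    rw [h, show Nat.beq 1 0 = false from rfl, cond_false, cond_false]
    conv => arg 4; rw [hl, lett_odd]
    cases i with
    | zero => exact h1
    | succ i => exact h3

theorem evW_mem {S : Subgroup E} {z : ℕ → E} (h : ∀ i, z i ∈ S) (w : List ℕ) : evW z w ∈ S := by
  induction w with
  | nil => exact S.one_mem
  | cons l w ih =>
    refine S.mul_mem ?_ ih
    unfold lett
    split_ifs
    · exact h _
    · exact S.inv_mem (h _)

theorem evW_append (x : ℕ → E) (a b : List ℕ) : evW x (a ++ b) = evW x a * evW x b := by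
  induction a with
  | nil => simp [evW]
  | cons l a ih => simp [evW, ih, mul_assoc]

variable {N : Subgroup E} {φ : E → V11} {S : Subgroup E} {n m : ℕ} {T : ℕ → ℕ → ℕ} {par : ℕ → ℕ × ℕ}

/-- The system from words for the Schreier elements. -/
theorem sys_of_words (π : E →* G) (hN : ∀ a, a ∈ N ↔ π a = 1) (C : Crd N φ) (tab : Tab n m T par)
    (SN : ∀ a ∈ S, a ∈ N → a = 1) {x : ℕ → E} {s k : ℕ → G} {z : ℕ → E} (hx : ∀ i, π (x i) = s i)
    (hz : ∀ i, z i ∈ S) (hzk : ∀ i, π (z i) = k i) {Wv : ℕ → ℕ → List ℕ}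
    (hW : ∀ c, c < n → ∀ i, i < m → tOf s par c * s i * (tOf s par (T c (2 * i)))⁻¹ = evW k (Wv c i))
    {A : ℕ → M11} (hact : ∀ l, Acts π φ N (lett s l) (A l)) :
    Sys N φ S n m T par x (fun c i => evW z (Wv c i)) (fun l => mA (A l)) := by
  have hfx : (fun i => π (x i)) = s := funext hx
  have hfz : (fun i => π (z i)) = k := funext hzk
  refine ⟨C, tab, SN, fun c _ i _ => evW_mem hz _, fun c hc i hi => ?_, fun l a ha => ?_, fun l u v => mA_add _ u v⟩
  · rw [hN]
    simp only [nn, ee, map_mul, map_inv, map_tOf, hfx, map_evW, hfz, hx]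
    rw [hW c hc i hi]
    simp
  · exact hact l _ (by rw [map_lett, hfx]) a ha

/-- The data of a level. -/
structure LD where
  n : ℕ
  R : ℕ
  W : ℕ
  NV : ℕ
  K : ℕ
  T : ℕ → ℕ → ℕ
  par : ℕ → ℕ × ℕ
  A : ℕ → M11
  Af : ℕ → F11 → F11
  rels : ℕ → List ℕ
  val : ℕ → F11
  rk : ℕ → ℕ
  kd : ℕ → ℕ
  pr : ℕ → ℕ
  Rel : ℕ → F11
  combo : ℕ → List (ℕ × ℕ)
  J : ℕ
  pb : ℕ → ℕ
  qq : ℕ → ℕ

/-- The facts about the data of a level. -/
structure LD.Ok (L : LD) : Prop where
  tab : Tab L.n 2 L.T L.par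
  hNV : L.n * 2 + L.R ≤ L.NV
  hAf : ∀ l F, L.Af l F = actF (L.A l) F
  hall : ∀ v, v < L.NV → varChk L.n 2 L.R L.W L.NV L.T L.par L.Af L.rels L.val L.rk L.kd L.pr v = true
  hbit : ∀ b, b < L.W → bitChk L.W L.Rel L.combo L.J b = true
  hlet : ∀ j, j < L.R → ∀ l ∈ L.rels j, l < 2 * 2
  hT00 : L.T 0 (2 * 0) = 0
  hpb : ∀ k, k < L.K → L.pr (L.pb k / 11) < L.n * 2
  hq : ∀ k, k < L.K → ∀ k', k' < L.K →
    dotB 11 ((LF L.A L.T L.par (L.pr (L.pb k' / 11) / 2) (L.pr (L.pb k' / 11) % 2)).getN (L.pb k' % 11)) (L.qq k) =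
      decide (k = k')

/-- The lifts after the change of the second one. -/
def xg (x₀ x₁ u : E) (i : ℕ) : E := pick x₀ x₁ i * (if i = 1 then u else 1)

theorem xg_zero (x₀ x₁ u : E) : xg x₀ x₁ u 0 = x₀ := by simp [xg]

theorem xg_one (x₀ x₁ u : E) : xg x₀ x₁ u 1 = x₁ * u := by simp [xg]

theorem map_xg (π : E →* G) (hN : ∀ a, a ∈ N ↔ π a = 1) {u : E} (hu : u ∈ N) (x₀ x₁ : E) (i : ℕ) :
    π (xg x₀ x₁ u i) = pick (π x₀) (π x₁) i := by
  simp only [xg]
  rw [map_mul]
  have : π (if i = 1 then u else 1) = 1 := by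
    split_ifs
    · exact (hN u).1 hu
    · exact map_one π
  rw [this, mul_one]
  cases i <;> rfl

/-- One level: a change of lifts annihilating the parameters chosen. -/
theorem level_gauge {L : LD} (hL : L.Ok) {x₀ x₁ : E} {y : ℕ → ℕ → E}
    (Y : Sys N φ S L.n 2 L.T L.par (pick x₀ x₁) y (fun l => mA (L.A l)))
    (hsurj : ∀ v : V11, ∃ u ∈ N, φ u = v) :
    ∃ u ∈ N, Sys N φ S L.n 2 L.T L.par (xg x₀ x₁ u) y (fun l => mA (L.A l)) ∧
      ∀ k, k < L.K → Pv L.pr (Fv L.n 2 L.T L.par (xg x₀ x₁ u) y φ L.rels) (L.pb k) = 0 :=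
  gauge_bits Y hsurj (by norm_num) hL.hpb hL.hq

/-- When the remaining parameters vanish, so do all edges. -/
theorem level_zero {L : LD} (hL : L.Ok) {x : ℕ → E} {y : ℕ → ℕ → E}
    (Y : Sys N φ S L.n 2 L.T L.par x y (fun l => mA (L.A l)))
    (hsurj : ∀ v : V11, ∃ u ∈ N, φ u = v)
    (hN : ∀ j, j < L.R → evW x (L.rels j) ∈ N) (hx0 : x 0 ∈ S)
    (hRel : (∀ v, v < L.NV → Fv L.n 2 L.T L.par x y φ L.rels v = semF (Pv L.pr (Fv L.n 2 L.T L.par x y φ L.rels)) L.W (L.val v)) →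
      ∀ q, semF (Pv L.pr (Fv L.n 2 L.T L.par x y φ L.rels)) L.W (L.Rel q) = 0)
    (hJ : ∀ b, b < L.W → L.J.testBit b = true → Pv L.pr (Fv L.n 2 L.T L.par x y φ L.rels) b = 0) :
    ∀ c, c < L.n → ∀ i, i < 2 → Phi L.T L.par x y φ c i = 0 :=
  edges_zero Y hsurj hL.hAf (by norm_num) hL.hNV hL.hall hL.hbit hL.hlet hN hx0 hL.hT00 hRel hJ

theorem mulR_add (r : R11) (u v : V11) : mulR r (u + v) = mulR r u + mulR r v := by
  simp only [mulR, Pi.add_apply]
  rw [← Finset.sum_add_distrib]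
  apply Finset.sum_congr rfl
  intro j _
  split_ifs <;> simp

/-- The equality coming from conjugacy of two involutions. -/
theorem fusion_eq (π : E →* G) (hN : ∀ a, a ∈ N ↔ π a = 1) (C : Crd N φ) {a c h : E} {τ : R11} {Mh A3 : M11}
    (hac : π (h * a * h⁻¹) = π c)
    (haa : a * a ∈ N)
    (hActs : ∀ b ∈ N, φ (h * b * h⁻¹) = mA Mh (φ b))
    (hA3 : ∀ b ∈ N, φ (c⁻¹ * b * c) = mA A3 (φ b))
    (hcc : c * c ∈ N)
    (hτ : ∀ v, mulR τ (mA A3 v) = mulR τ v) :
    mulR τ (mA Mh (φ (a * a))) + mulR τ (φ (c * c)) = 0 := by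
  set b := h * a * h⁻¹ with hb
  have hn : c⁻¹ * b ∈ N := by
    rw [hN, map_mul, map_inv, hac]
    simp
  have hbb : b * b = h * (a * a) * h⁻¹ := by
    rw [hb]; group
  have e1 : b * b = (c * c) * ((c⁻¹ * (c⁻¹ * b) * c) * (c⁻¹ * b)) := by
    group
  have h1 : c⁻¹ * (c⁻¹ * b) * c ∈ N := by
    simpa using C.nrm _ hn c⁻¹
  have h2 : φ (b * b) = φ (c * c) + (mA A3 (φ (c⁻¹ * b)) + φ (c⁻¹ * b)) := by
    rw [e1, C.add _ hcc _ (N.mul_mem h1 hn), C.add _ h1 _ hn, hA3 _ hn]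
  have h3 : φ (b * b) = mA Mh (φ (a * a)) := by
    rw [hbb, hActs _ haa]
  rw [← h3, h2, mulR_add, mulR_add, hτ, z2_add_self, add_zero, z2_add_self]

/-- The form of the relation coming from conjugacy of two involutions. -/
def extForm (τ : R11) (Mh : M11) (F G : F11) : F11 :=
  ⟨Nat.xor (selR τ (actF Mh F)) (selR τ G), 0, 0, 0, 0, 0, 0, 0, 0, 0, 0⟩

theorem sem_extForm (P : ℕ → ZMod 2) (W : ℕ) (τ : R11) (Mh : M11) (F G : F11)
    (h : mulR τ (mA Mh (semF P W F)) + mulR τ (semF P W G) = 0) : semF P W (extForm τ Mh F G) = 0 := by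
  funext t
  fin_cases t <;> simp [extForm, semF, F11.get, evB_zero] 
  have e : evB P W ((selR τ (actF Mh F)) ^^^ (selR τ G)) = evB P W (selR τ (actF Mh F)) + evB P W (selR τ G) :=
    evB_xor P W _ _
  rw [e, evB_selR, evB_selR, sem_act]
  exact h

/-! ### A subgroup of order 21 and Schur–Zassenhaus -/

/-- A complement over a subgroup of order prime to the normal subgroup. -/
theorem exists_S0 [Finite E] (π : E →* G) (hsurjπ : Function.Surjective π) (hN : ∀ a, a ∈ N ↔ π a = 1)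
    (K₀ : Subgroup G) (hcop : Nat.Coprime (Nat.card N) (Nat.card K₀)) :
    ∃ S₀ : Subgroup E, (∀ a ∈ S₀, a ∈ N → a = 1) ∧ (∀ k ∈ K₀, ∃ a ∈ S₀, π a = k) ∧ Nat.card S₀ ≤ Nat.card K₀ := by
  classical
  let Q : Subgroup E := K₀.comap π
  let f : Q →* K₀ := π.subgroupComap K₀
  have hf : Function.Surjective f := π.subgroupComap_surjective_of_surjective K₀ hsurjπ
  haveI : Finite K₀ := Finite.of_surjective f hf
  have hcard : Nat.card f.ker = Nat.card N := by
    apply Nat.card_congr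
    refine ⟨fun a => ⟨a.1.1, (hN _).2 ?_⟩, fun a => ⟨⟨a.1, ?_⟩, ?_⟩, fun a => rfl, fun a => rfl⟩
    · exact congrArg Subtype.val a.2
    · show π a.1 ∈ K₀
      rw [(hN _).1 a.2]
      exact K₀.one_mem
    · apply Subtype.ext
      exact (hN _).1 a.2
  have hidx : f.ker.index = Nat.card K₀ := by
    rw [Subgroup.index_ker, MonoidHom.range_eq_top.mpr hf]
    simp
  obtain ⟨H, hH⟩ := Subgroup.exists_right_complement'_of_coprime (N := f.ker) (by rw [hcard, hidx]; exact hcop)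
  refine ⟨H.map Q.subtype, ?_, ?_, ?_⟩
  · rintro _ ⟨h, hh, rfl⟩ hn
    have h1 : h ∈ f.ker := by
      apply Subtype.ext
      exact (hN _).1 hn
    have h2 : h = 1 := by
      have := hH.disjoint.le_bot ⟨h1, hh⟩
      simpa using this
    rw [h2]
    simp
  · intro k hk
    obtain ⟨q, hq⟩ := hf ⟨k, hk⟩
    obtain ⟨⟨a, h⟩, e⟩ := (Subgroup.isComplement'_def.mp hH).2 q
    have e' : (a : Q) * (h : Q) = q := e
    refine ⟨(h : Q).1, ⟨h, h.2, rfl⟩, ?_⟩
    have h1 : f a = 1 := a.2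
    have h2 : f q = f h := by rw [← e', map_mul, h1, one_mul]
    have h3 := congrArg Subtype.val (hq.symm.trans h2)
    exact h3.symm
  · apply Nat.card_le_card_of_injective (fun a : H.map Q.subtype => f ⟨a.1, by
      obtain ⟨h, _, e⟩ := a.2
      rw [← e]
      exact h.2⟩)
    rintro ⟨_, h₁, hh₁, rfl⟩ ⟨_, h₂, hh₂, rfl⟩ e
    have h3 : f (h₁⁻¹ * h₂) = 1 := by
      have e' : f h₁ = f h₂ := e
      rw [map_mul, map_inv, e']
      simp
    have h4 : h₁⁻¹ * h₂ = 1 := by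
      have := hH.disjoint.le_bot ⟨h3, H.mul_mem (H.inv_mem hh₁) hh₂⟩
      simpa using this
    have h5 : h₁ = h₂ := by
      rw [inv_mul_eq_one] at h4
      exact h4
    subst h5
    rfl

/-- The order of the subgroup generated by an element of order `7` and an element of order `3` normalizing it. -/
theorem card_7_3 [Finite G] {s z : G} {e : ℕ} (hs : s ^ 7 = 1) (hz : z ^ 3 = 1) (hs1 : s ≠ 1) (hz1 : z ≠ 1)
    (hzs : z * s * z⁻¹ = s ^ e) : Nat.card ↥(Subgroup.closure (pick s z '' Set.Iio 2)) = 21 := by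
  classical
  set K₀ := Subgroup.closure (pick s z '' Set.Iio 2) with hK₀
  have hsK : s ∈ K₀ := Subgroup.subset_closure ⟨0, by simp, rfl⟩
  have hzK : z ∈ K₀ := Subgroup.subset_closure ⟨1, by simp, rfl⟩
  have key : ∀ b : ℕ, z ^ b * s = s ^ (e ^ b) * z ^ b := by
    intro b
    induction b with
    | zero => simp
    | succ b ih =>
      have h1 : z * s ^ (e ^ b) = (s ^ e) ^ (e ^ b) * z := by
        rw [← hzs, conj_pow, inv_mul_cancel_right]
      rw [pow_succ' z b, mul_assoc, ih, ← mul_assoc, h1, pow_succ' e b, pow_mul, mul_assoc]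
  have hmem : ∀ g ∈ K₀, ∃ a b : ℕ, g = s ^ a * z ^ b := by
    intro g hg
    have stepS : ∀ g : G, (∃ a b : ℕ, g = s ^ a * z ^ b) → ∃ a b : ℕ, g * s = s ^ a * z ^ b := by
      rintro _ ⟨a, b, rfl⟩
      refine ⟨a + e ^ b, b, ?_⟩
      rw [mul_assoc, key, ← mul_assoc, pow_add]
    have stepZ : ∀ g : G, (∃ a b : ℕ, g = s ^ a * z ^ b) → ∃ a b : ℕ, g * z = s ^ a * z ^ b := by
      rintro _ ⟨a, b, rfl⟩
      exact ⟨a, b + 1, by rw [pow_succ, mul_assoc]⟩
    have stepSp : ∀ (k : ℕ) (g : G), (∃ a b : ℕ, g = s ^ a * z ^ b) → ∃ a b : ℕ, g * s ^ k = s ^ a * z ^ b := by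
      intro k
      induction k with
      | zero => intro g h; simpa using h
      | succ k ih =>
        intro g h
        rw [pow_succ, ← mul_assoc]
        exact stepS _ (ih g h)
    have stepZp : ∀ (k : ℕ) (g : G), (∃ a b : ℕ, g = s ^ a * z ^ b) → ∃ a b : ℕ, g * z ^ k = s ^ a * z ^ b := by
      intro k
      induction k with
      | zero => intro g h; simpa using h
      | succ k ih =>
        intro g h
        rw [pow_succ, ← mul_assoc]
        exact stepZ _ (ih g h)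
    have hsi : s⁻¹ = s ^ 6 := by
      rw [inv_eq_iff_mul_eq_one, ← pow_succ']
      exact hs
    have hzi : z⁻¹ = z ^ 2 := by
      rw [inv_eq_iff_mul_eq_one, ← pow_succ']
      exact hz
    induction hg using Subgroup.closure_induction_right with
    | one => exact ⟨0, 0, by simp⟩
    | mul_right a _ b hb ih =>
      obtain ⟨i, hi, rfl⟩ := hb
      have hi' : i < 2 := hi
      interval_cases i
      · exact stepS _ ih
      · exact stepZ _ ih
    | mul_inv_cancel a _ b hb ih =>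
      obtain ⟨i, hi, rfl⟩ := hb
      have hi' : i < 2 := hi
      interval_cases i
      · show ∃ a_1 b, a * s⁻¹ = _
        rw [hsi]
        exact stepSp 6 _ ih
      · show ∃ a_1 b, a * z⁻¹ = _
        rw [hzi]
        exact stepZp 2 _ ih
  haveI : Fact (Nat.Prime 7) := ⟨by norm_num⟩
  haveI : Fact (Nat.Prime 3) := ⟨by norm_num⟩
  have hos : orderOf s = 7 := orderOf_eq_prime hs hs1
  have hoz : orderOf z = 3 := orderOf_eq_prime hz hz1
  have hle : Nat.card K₀ ≤ 21 := by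
    let f : Fin 7 × Fin 3 → G := fun p => s ^ p.1.1 * z ^ p.2.1
    have hsub : (K₀ : Set G) ⊆ Set.range f := by
      intro g hg
      obtain ⟨a, b, rfl⟩ := hmem g hg
      refine ⟨(⟨a % 7, Nat.mod_lt _ (by norm_num)⟩, ⟨b % 3, Nat.mod_lt _ (by norm_num)⟩), ?_⟩
      simp only [f]
      rw [← pow_mod_orderOf s a, ← pow_mod_orderOf z b, hos, hoz]
    have h1 : Nat.card K₀ ≤ Nat.card (Set.range f) := Nat.card_mono (Set.finite_range f) hsub
    have h2 : Nat.card (Set.range f) ≤ Nat.card (Fin 7 × Fin 3) :=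
      Nat.card_le_card_of_surjective (Set.rangeFactorization f) Set.rangeFactorization_surjective
    have h3 : Nat.card (Fin 7 × Fin 3) = 21 := by simp
    omega
  have hd7 : 7 ∣ Nat.card K₀ := by
    rw [← hos, ← Subgroup.orderOf_mk s hsK]
    exact orderOf_dvd_natCard _
  have hd3 : 3 ∣ Nat.card K₀ := by
    rw [← hoz, ← Subgroup.orderOf_mk z hzK]
    exact orderOf_dvd_natCard _
  have hpos : 0 < Nat.card K₀ := Nat.card_pos
  omega

end Cfsg.Agent.Lib.TwChain
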