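import Cfsg.Agent.Lib.TwTor32D

/-!
# Cyclic twisted tori from an irreducible polynomial
-/

set_option autoImplicit false
set_option linter.unusedSectionVars false
set_option linter.unusedVariables false
set_option linter.unusedSimpArgs false

namespace Cfsg.Agent.Lib.TwTor32

open Cfsg Cfsg.Lie Cfsg.Agent.Lib.Chev Matrix Cfsg.Agent.Lib.ChevFix
open Polynomial

variable {K : Type*} [Field K] {T : Tabs} {X' : Extra} {R : RootTab} {D : ChevalleyDatum}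

/-- Characters of prime order of the twisted quotient of the lattice. -/
theorem exists_char_prime [Fintype K] (B : Fin D.rank → Fin D.rank → ℤ)
    (hB : ∀ k j : Fin D.rank, ∑ i : Fin D.rank, B i k * D.cartan i (D.simple j) = if j = k then 1 else 0)
    (A : Matrix (Fin D.rank) (Fin D.rank) ℤ) (P : ℤ[X]) (hchar : A.charpoly = P) (q : ℕ) {ℓ : ℕ} (hℓ : ℓ.Prime)
    (hd : (ℓ : ℤ) ∣ P.eval (q : ℤ)) (hK : ℓ ∣ Fintype.card K - 1) :
    ∃ c : Fin D.rank → Kˣ, (∀ v, Xc c (A *ᵥ v) = Xc c v ^ q) ∧ (∀ v, Xc c v ^ ℓ = 1) ∧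
      ∃ j, Xc c (Pi.single j 1) ≠ 1 := by
  classical
  haveI : Fact ℓ.Prime := ⟨hℓ⟩
  set φ := Int.castRingHom (ZMod ℓ) with hφ
  set Ā := A.map φ with hĀ
  have hdet : (Matrix.scalar (Fin D.rank) ((q : ℤ) : ZMod ℓ) - Ā).det = 0 := by
    rw [← Matrix.eval_charpoly, hĀ, Matrix.charpoly_map, hchar]
    have h1 : (P.map φ).eval (φ (q : ℤ)) = φ (P.eval (q : ℤ)) := Polynomial.eval_map_apply _ _
    have h2 : φ (q : ℤ) = ((q : ℤ) : ZMod ℓ) := rfl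
    rw [h2] at h1
    rw [h1]
    exact (ZMod.intCast_zmod_eq_zero_iff_dvd _ _).2 hd
  obtain ⟨a, hane, ha⟩ := Matrix.exists_vecMul_eq_zero_iff.2 hdet
  have hcast : ∀ v : Fin D.rank → ℤ, (fun i => ((A *ᵥ v) i : ZMod ℓ)) = Ā *ᵥ (fun i => (v i : ZMod ℓ)) := by
    intro v
    funext i
    exact RingHom.map_mulVec φ A v i
  set b : Fin D.rank → ℤ := fun j => ((a j).val : ℤ) with hb
  have hbcast : ∀ v : Fin D.rank → ℤ, (((b ⬝ᵥ v : ℤ)) : ZMod ℓ) = a ⬝ᵥ (fun i => (v i : ZMod ℓ)) := by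
    intro v
    simp [dotProduct, hb]
  have hkey : ∀ v : Fin D.rank → ZMod ℓ, a ⬝ᵥ (Ā *ᵥ v) = ((q : ℤ) : ZMod ℓ) * (a ⬝ᵥ v) := by
    intro v
    have h1 : a ⬝ᵥ ((Matrix.scalar (Fin D.rank) ((q : ℤ) : ZMod ℓ) - Ā) *ᵥ v) = 0 := by
      rw [Matrix.dotProduct_mulVec, ha, zero_dotProduct]
    rw [Matrix.sub_mulVec, dotProduct_sub, sub_eq_zero] at h1
    rw [← h1]
    have e : (Matrix.scalar (Fin D.rank) ((q : ℤ) : ZMod ℓ)) *ᵥ v = ((q : ℤ) : ZMod ℓ) • v := by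
      rw [Matrix.scalar_apply]
      funext i
      rw [Matrix.mulVec_diagonal]
      simp
    rw [e, dotProduct_smul, smul_eq_mul]
  have hcardK : ℓ ∣ Nat.card Kˣ := by
    rw [Nat.card_eq_fintype_card, Fintype.card_units]
    exact hK
  obtain ⟨ζ, hζ⟩ := exists_prime_orderOf_dvd_card' ℓ hcardK
  have hζℓ : ζ ^ ℓ = 1 := by
    rw [← hζ]
    exact pow_orderOf_eq_one ζ
  refine ⟨cOf B (fun j => ζ ^ b j), ?_, ?_, ?_⟩
  · intro v
    rw [Xc_cOf B hB, Xc_cOf B hB, ← zpow_natCast, ← _root_.zpow_mul]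
    apply zpow_eq_zpow_iff_modEq.2
    rw [hζ]
    apply (ZMod.intCast_eq_intCast_iff _ _ _).1
    rw [hbcast, hcast, hkey]
    push_cast
    rw [hbcast, mul_comm]
  · intro v
    rw [Xc_cOf B hB, ← zpow_natCast, ← _root_.zpow_mul, mul_comm, _root_.zpow_mul, zpow_natCast, hζℓ, _root_.one_zpow]
  · obtain ⟨j, hj⟩ := Function.ne_iff.1 hane
    refine ⟨j, ?_⟩
    rw [Xc_cOf B hB]
    intro h1
    have h2 := (orderOf_dvd_iff_zpow_eq_one).2 h1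
    rw [hζ] at h2
    have h3 := (ZMod.intCast_zmod_eq_zero_iff_dvd _ _).2 h2
    rw [hbcast] at h3
    apply hj
    simpa [dotProduct, Pi.single_apply] using h3

theorem chi_tw_of_X (hF : Full T X' R D) {ρ : Equiv.Perm (Fin D.nroots)} (hρ : ρ ∈ hF.Wk Set.univ)
    (c : Fin D.rank → Kˣ) (q : ℕ) (h : ∀ v, Xc c (mat hF ρ *ᵥ v) = Xc c v ^ q) (s : Fin D.nroots) :
    chiT D c (ρ s) = chiT D c s ^ q := by
  rw [← Xc_rc hF c (ρ s).2, ← Xc_rc hF c s.2, mat_rc hF hρ, h]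

theorem exists_V [Fintype K] (hF : Full T X' R D) (B : Fin D.rank → Fin D.rank → ℤ)
    (hB : ∀ k j : Fin D.rank, ∑ i : Fin D.rank, B i k * D.cartan i (D.simple j) = if j = k then 1 else 0)
    (hl : 0 < D.rank) {ρ : Equiv.Perm (Fin D.nroots)} (hρ : ρ ∈ hF.Wk Set.univ) (P k g : ℤ[X]) (h : ℕ)
    (hPk : P * k = X ^ h - 1) (hmon : P.Monic) (hirr : Irreducible (P.map (Int.castRingHom ℚ)))
    (hdeg : P.natDegree = D.rank) (hzero : aeval (mat hF ρ) P = 0) (q : ℕ)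
    (hg : g.eval (q : ℤ) = (derivative P).eval (q : ℤ)) (e : Fin D.nroots) {ℓ : ℕ} (hℓ : ℓ.Prime)
    (hd : (ℓ : ℤ) ∣ P.eval (q : ℤ)) (hK : ℓ ∣ Fintype.card K - 1) (hℓh : ¬ ℓ ∣ h) (hℓq : ¬ ℓ ∣ q)
    (hℓW : ¬ ℓ ∣ Nat.card ↥(hF.Wk Set.univ)) :
    ∃ j, ¬ (ℓ : ℤ) ∣ (aeval (mat hF ρ) g *ᵥ rcV R D e) j := by
  classical
  haveI : Fact ℓ.Prime := ⟨hℓ⟩
  have hchar := charpoly_eq hl (mat hF ρ) P hmon hirr hdeg hzero
  obtain ⟨c, hc1, hc2, j₀, hj₀⟩ := exists_char_prime (K := K) B hB (mat hF ρ) P hchar q hℓ hd hK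
  have htw := chi_tw_of_X hF hρ c q hc1
  have hirrM := irr_of_zero (mat hF ρ) P hirr hdeg hzero
  have hpow : ∀ s : Fin D.nroots, chiT D c s ^ ℓ = 1 := by
    intro s
    rw [← Xc_rc hF c s.2]
    exact hc2 _
  have hne : ∃ s : Fin D.nroots, chiT D c s ≠ 1 := by
    refine ⟨hF.pF j₀, ?_⟩
    rw [← Xc_rc hF c (hF.pF j₀).2, rcV_pF]
    exact hj₀
  have hstab := fun (g' : Equiv.Perm (Fin D.nroots)) (hg' : g' ∈ hF.Wk Set.univ) hfix =>
    stab_trivial hF hρ hirrM c q htw hℓ hpow hne hℓW hg' hfix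
  obtain ⟨hreg, -⟩ := reg_of_stab hF c hstab
  have he : chiT D c e ≠ 1 := hreg e e.2
  have hord : orderOf (chiT D c e) = ℓ := orderOf_eq_prime (hpow e) he
  have hrZ : Prime (ℓ : ℤ) := Nat.prime_iff_prime_int.1 hℓ
  have hℓh' : ¬ (ℓ : ℤ) ∣ (h : ℤ) := fun h1 => hℓh (by exact_mod_cast h1)
  have hℓq' : ¬ (ℓ : ℤ) ∣ (q : ℤ) := fun h1 => hℓq (by exact_mod_cast h1)
  have hder := deriv_aux P k h hPk (q : ℤ) (ℓ : ℤ) hrZ hd hℓh' hℓq'
  by_contra hall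
  push Not at hall
  have h1 : Xc c (aeval (mat hF ρ) g *ᵥ rcV R D e) = 1 := by
    unfold Xc
    apply Finset.prod_eq_one
    intro j _
    obtain ⟨t, ht⟩ := hall j
    rw [ht, _root_.zpow_mul, zpow_natCast]
    have h2 := hc2 (Pi.single j 1)
    rw [Xc_single] at h2
    rw [h2, _root_.one_zpow]
  rw [Xc_aeval c q hc1, Xc_rc hF c e.2] at h1
  have h2 := (orderOf_dvd_iff_zpow_eq_one).2 h1
  rw [hord, hg] at h2
  exact hder.2 h2

end Cfsg.Agent.Lib.TwTor32
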