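import Cfsg.Agent.Lib.TwE6Tab32
import Cfsg.Agent.Lib.StE632H
import Cfsg.Agent.Lib.TwTor32E

/-!
# The Weyl group of type E6: every element is conjugate to one of the representatives of the table
-/

set_option autoImplicit false
set_option linter.unusedSectionVars false
set_option linter.unusedVariables false
set_option linter.unusedSimpArgs false

namespace Cfsg.Agent.Lib.TwE6W32

open Cfsg Cfsg.Lie Cfsg.Agent.Lib.Chev Matrix Cfsg.Agent.Lib.ChevFix Cfsg.Agent.Lib.TwTor32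
open Cfsg.Agent.Lib.TwE6Tab32 Cfsg.Agent.Lib.StE632 Equiv

noncomputable section


/-- A permutation of the roots with the images of the simple roots of a row. -/
def Rep (τ : Perm (Fin chevE6.nroots)) (idx : ℕ) : Prop :=
  ∀ i : Fin chevE6.rank, ((τ (hFE.pF i) : Fin chevE6.nroots) : ℕ) = img (row idx) i

theorem wB_ok : allBelow (fun j => allBelow (fun s => Nat.beq (app (wB j) s) (TabE6.X.wf j s)) 72) 6 = true := by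
  decide +kernel

theorem wB_spec {j s : ℕ} (hj : j < 6) (hs : s < 72) : app (wB j) s = TabE6.X.wf j s :=
  Nat.eq_of_beq_eq_true (allBelow_spec _ _ (allBelow_spec _ _ wB_ok j hj) s hs)

theorem row0_ok : allBelow (fun i => Nat.beq (img (row 0) i) (chevE6.simple i)) 6 = true := by
  decide +kernel

theorem chkN_spec {idx : ℕ} (h : idx < 51840) {j : ℕ} (hj : j < 6) : nxt (row idx) j < 51840 ∧
    ∀ i < 6, img (row (nxt (row idx) j)) i = app (wB j) (img (row idx) i) := by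
  have h1 := allD_spec _ _ _ chkN_ok idx (Nat.zero_le _) (by norm_num; omega)
  have h2 : Nat.ble 51840 idx = false := by
    cases hh : Nat.ble 51840 idx with
    | false => rfl
    | true =>
      have := Nat.le_of_ble_eq_true hh
      omega
  rw [h2, Bool.false_or] at h1
  unfold chkN at h1
  rw [withW_eq] at h1
  have h3 := allBelow_spec _ _ h1 j hj
  rw [Bool.and_eq_true, withW_eq] at h3
  refine ⟨Nat.le_of_ble_eq_true h3.1, fun i hi => ?_⟩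
  exact Nat.eq_of_beq_eq_true (allBelow_spec _ _ h3.2 i hi)

theorem chkF_spec {idx : ℕ} (h : idx < 51840) (h25 : 25 ≤ idx) : pj (row idx) < 6 ∧ pi (row idx) < idx ∧
    ∀ i < 6, tauS (row idx) (pj (row idx)) i < 72 ∧
      img (row (pi (row idx))) i = app (wB (pj (row idx))) (tauS (row idx) (pj (row idx)) i) := by
  have h1 := allD_spec _ _ _ chkF_ok idx (Nat.zero_le _) (by norm_num; omega)
  have h2 : Nat.ble 51840 idx = false := by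
    cases hh : Nat.ble 51840 idx with
    | false => rfl
    | true =>
      have := Nat.le_of_ble_eq_true hh
      omega
  rw [h2, Bool.false_or] at h1
  unfold chkF at h1
  have h3 : Nat.blt idx 25 = false := by
    cases hh : Nat.blt idx 25 with
    | false => rfl
    | true =>
      have : idx + 1 ≤ 25 := Nat.le_of_ble_eq_true hh
      omega
  rw [h3, Bool.false_or, withW_eq, Bool.and_eq_true, withW_eq, Bool.and_eq_true] at h1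
  obtain ⟨⟨a1, a2⟩, a3⟩ := h1
  refine ⟨Nat.le_of_ble_eq_true a1, Nat.le_of_ble_eq_true a2, fun i hi => ?_⟩
  have a4 := allBelow_spec _ _ a3 i hi
  rw [Bool.and_eq_true] at a4
  exact ⟨Nat.le_of_ble_eq_true a4.1, Nat.eq_of_beq_eq_true a4.2⟩

/-- Every element of the Weyl group has a row. -/
theorem mem_table {τ : Perm (Fin chevE6.nroots)} (hτ : τ ∈ hFE.Wk Set.univ) : ∃ idx < 51840, Rep τ idx := by
  refine hFE.Wk_induction_left (J := Set.univ) (p := fun τ => ∃ idx < 51840, Rep τ idx) ?_ ?_ τ hτ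
  · refine ⟨0, by norm_num, fun i => ?_⟩
    exact (Nat.eq_of_beq_eq_true (allBelow_spec _ _ row0_ok i i.2)).symm
  · rintro σ j hj - ⟨idx, hidx, hrep⟩
    obtain ⟨h1, h2⟩ := chkN_spec hidx hj
    refine ⟨nxt (row idx) j, h1, fun i => ?_⟩
    rw [h2 i i.2, Equiv.Perm.mul_apply, hFE.wPerm_apply, ← hrep i, wB_spec hj (σ (hFE.pF i)).2]

theorem nT_ok : allBelow (fun a => Nat.blt (nT a) 72 &&
    allBelow (fun m => decide (RootE6T.R.rcAt (nT a) m = - RootE6T.R.rcAt a m)) 6) 72 = true := by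
  decide +kernel

set_option maxRecDepth 100000 in
theorem sT_ok : allBelow (fun a => allBelow (fun b => Nat.beq (sT a b) 127 ||
    allBelow (fun m => decide (RootE6T.R.rcAt (sT a b) m = RootE6T.R.rcAt a m + RootE6T.R.rcAt b m)) 6) 72) 72 = true := by
  decide +kernel

theorem wf_ok : allBelow (fun j => allBelow (fun i => allBelow (fun m =>
    decide (RootE6T.R.rcAt (TabE6.X.wf j (chevE6.simple i)) m =
      (if m = i then 1 else 0) - (if m = j then chevE6.cartan j (chevE6.simple i) else 0))) 6) 6) 6 = true := by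
  decide +kernel

theorem adj_ok : allBelow (fun j => allBelow (fun i =>
    (Nat.beq i j && decide (chevE6.cartan j (chevE6.simple i) = 2)) ||
    (!Nat.beq i j && adjT j i && decide (chevE6.cartan j (chevE6.simple i) = -1)) ||
    (!Nat.beq i j && !adjT j i && decide (chevE6.cartan j (chevE6.simple i) = 0))) 6) 6 = true := by
  decide +kernel

theorem rc_tau {τ : Perm (Fin chevE6.nroots)} (hτ : τ ∈ hFE.Wk Set.univ) (i j : Fin chevE6.rank) :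
    rcV RootE6T.R chevE6 (τ (hFE.wPerm j.2 (hFE.pF i))) =
      rcV RootE6T.R chevE6 (τ (hFE.pF i)) - chevE6.cartan j (chevE6.simple i) • rcV RootE6T.R chevE6 (τ (hFE.pF j)) := by
  classical
  have e : rcV RootE6T.R chevE6 (hFE.wPerm j.2 (hFE.pF i)) =
      Pi.single i 1 - chevE6.cartan j (chevE6.simple i) • Pi.single j 1 := by
    funext m
    have h1 := of_decide_eq_true (allBelow_spec _ _ (allBelow_spec _ _ (allBelow_spec _ _ wf_ok j j.2) i i.2) m m.2)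
    show RootE6T.R.rcAt (TabE6.X.wf j (chevE6.simple i)) m = _
    rw [h1]
    simp only [Pi.sub_apply, Pi.smul_apply, smul_eq_mul, Pi.single_apply, Fin.ext_iff]
    split_ifs <;> simp
  rw [mat_rc hFE hτ, e, Matrix.mulVec_sub, Matrix.mulVec_smul, Matrix.mulVec_single_one, Matrix.mulVec_single_one]
  rfl

theorem rcV_ext {s t : ℕ} (hs : s < 72) (ht : t < 72) (h : ∀ m < 6, RootE6T.R.rcAt s m = RootE6T.R.rcAt t m) : s = t := by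
  apply rcV_inj hFE hs ht
  funext m
  exact h m m.2

theorem tau_spec {τ : Perm (Fin chevE6.nroots)} (hτ : τ ∈ hFE.Wk Set.univ) {idx : ℕ} (hrep : Rep τ idx)
    (i j : Fin chevE6.rank) (hlt : tauS (row idx) j i < 72) :
    ((τ (hFE.wPerm j.2 (hFE.pF i)) : Fin chevE6.nroots) : ℕ) = tauS (row idx) j i := by
  have h1 := rc_tau hτ i j
  have hc : ∀ m < 6, RootE6T.R.rcAt (τ (hFE.wPerm j.2 (hFE.pF i))) m =
      RootE6T.R.rcAt (img (row idx) i) m - chevE6.cartan j (chevE6.simple i) * RootE6T.R.rcAt (img (row idx) j) m := by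
    intro m hm
    have := congrFun h1 ⟨m, hm⟩
    simp only [Pi.sub_apply, Pi.smul_apply, smul_eq_mul] at this
    rw [← hrep i, ← hrep j]
    exact this
  apply rcV_ext (τ (hFE.wPerm j.2 (hFE.pF i))).2 hlt
  intro m hm
  rw [hc m hm]
  have hA := allBelow_spec _ _ (allBelow_spec _ _ adj_ok j j.2) i i.2
  have hi1 : img (row idx) i < 72 := by
    rw [← hrep i]
    exact (τ (hFE.pF i)).2
  have hj1 : img (row idx) j < 72 := by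
    rw [← hrep j]
    exact (τ (hFE.pF j)).2
  unfold tauS
  by_cases hij : (i : ℕ) = j
  · have e1 : Nat.beq (i : ℕ) j = true := nb_t hij
    rw [e1] at hA ⊢
    simp only [Bool.true_and, Bool.not_true, Bool.false_and, Bool.or_false, decide_eq_true_eq] at hA
    rw [hA, cond_true]
    have h3 := allBelow_spec _ _ nT_ok _ hj1
    rw [Bool.and_eq_true] at h3
    rw [of_decide_eq_true (allBelow_spec _ _ h3.2 m hm)]
    have e2 : i = j := Fin.ext hij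
    rw [e2]
    ring
  · have e1 : Nat.beq (i : ℕ) j = false := nb_f hij
    rw [e1] at hA ⊢
    rw [cond_false]
    simp only [Bool.false_and, Bool.not_false, Bool.true_and, Bool.false_or, Bool.or_eq_true, Bool.and_eq_true,
      decide_eq_true_eq, Bool.not_eq_true'] at hA
    rcases hA with ⟨h3, h4⟩ | ⟨h3, h4⟩
    · rw [h3, cond_true, h4]
      have hlt2 : sT (img (row idx) i) (img (row idx) j) < 72 := by
        unfold tauS at hlt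
        rw [e1, cond_false, h3, cond_true] at hlt
        exact hlt
      have h5 := allBelow_spec _ _ (allBelow_spec _ _ sT_ok _ hi1) _ hj1
      rw [Bool.or_eq_true] at h5
      rcases h5 with h5 | h5
      · have := Nat.eq_of_beq_eq_true h5
        omega
      · rw [of_decide_eq_true (allBelow_spec _ _ h5 m hm)]
        ring
    · rw [h3, cond_false, h4]
      ring

/-- **Reduction to the representatives** of the classes. -/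
theorem forest (Q : Perm (Fin chevE6.nroots) → Prop)
    (hQ : ∀ (j : ℕ) (hj : j < chevE6.rank), ∀ τ ∈ hFE.Wk Set.univ, Q τ → Q (hFE.wPerm hj * τ * hFE.wPerm hj))
    (hroot : ∀ idx < 25, ∀ τ ∈ hFE.Wk Set.univ, Rep τ idx → Q τ) :
    ∀ τ ∈ hFE.Wk Set.univ, Q τ := by
  have key : ∀ idx, idx < 51840 → ∀ τ ∈ hFE.Wk Set.univ, Rep τ idx → Q τ := by
    intro idx
    induction idx using Nat.strong_induction_on with
    | _ idx ih =>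
      intro hidx τ hτ hrep
      by_cases h25 : idx < 25
      · exact hroot idx h25 τ hτ hrep
      · obtain ⟨hj, hp, h3⟩ := chkF_spec hidx (by omega)
        set j := pj (row idx) with hjdef
        have hj' : j < chevE6.rank := hj
        have hWj : hFE.wPerm hj' ∈ hFE.Wk Set.univ := hFE.wPerm_mem hj' (Set.mem_univ _)
        have hτ' : hFE.wPerm hj' * τ * hFE.wPerm hj' ∈ hFE.Wk Set.univ := mul_mem (mul_mem hWj hτ) hWj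
        have hrep' : Rep (hFE.wPerm hj' * τ * hFE.wPerm hj') (pi (row idx)) := by
          intro i
          obtain ⟨a1, a2⟩ := h3 i i.2
          rw [a2, Equiv.Perm.mul_apply, Equiv.Perm.mul_apply, hFE.wPerm_apply]
          have e := tau_spec hτ hrep i ⟨j, hj'⟩ a1
          rw [← e, wB_spec hj (τ _).2]
        have h4 := ih _ hp (by omega) _ hτ' hrep'
        have h5 := hQ j hj' _ hτ' h4
        have e : hFE.wPerm hj' * (hFE.wPerm hj' * τ * hFE.wPerm hj') * hFE.wPerm hj' = τ := by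
          have hs := hFE.wPerm_mul_self hj'
          calc hFE.wPerm hj' * (hFE.wPerm hj' * τ * hFE.wPerm hj') * hFE.wPerm hj'
              = (hFE.wPerm hj' * hFE.wPerm hj') * τ * (hFE.wPerm hj' * hFE.wPerm hj') := by group
            _ = τ := by rw [hs]; group
        rwa [e] at h5
  intro τ hτ
  obtain ⟨idx, h1, h2⟩ := mem_table hτ
  exact key idx h1 τ hτ h2


/-- The matrices of the representatives of the conjugacy classes, their squares and fourth powers. -/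
def ALL : List (List (List ℤ)) := [[[1,0,0,0,0,0],[0,1,0,0,0,0],[0,0,1,0,0,0],[0,0,0,1,0,0],[0,0,0,0,1,0],[0,0,0,0,0,1]],[[0,1,0,0,0,-1],[0,0,1,0,0,-1],[1,1,0,0,0,-1],[0,1,1,0,0,-1],[0,0,0,1,0,-1],[0,0,0,0,1,-1]],[[-1,0,1,0,0,0],[0,1,0,0,0,0],[0,0,1,0,0,0],[0,0,0,1,0,0],[0,0,0,0,1,0],[0,0,0,0,0,1]],[[-1,0,1,0,0,0],[0,-1,0,1,0,0],[0,0,1,0,0,0],[0,0,0,1,0,0],[0,0,0,0,1,0],[0,0,0,0,0,1]],[[-1,0,1,0,0,0],[0,1,0,0,0,0],[-1,0,0,1,0,0],[0,0,0,1,0,0],[0,0,0,0,1,0],[0,0,0,0,0,1]],[[-1,0,1,0,0,0],[0,-1,0,1,0,0],[-1,0,0,1,0,0],[0,0,0,1,0,0],[0,0,0,0,1,0],[0,0,0,0,0,1]],[[-1,0,1,0,0,0],[0,-1,0,1,0,0],[0,0,1,0,0,0],[0,0,0,1,0,0],[0,0,0,1,-1,1],[0,0,0,0,0,1]],[[-1,0,1,0,0,0],[0,1,0,0,0,0],[-1,0,0,1,0,0],[-1,1,0,0,1,0],[0,0,0,0,1,0],[0,0,0,0,0,1]],[[-1,0,1,0,0,0],[0,-1,0,1,0,0],[-1,0,0,1,0,0],[-1,-1,0,1,1,0],[0,0,0,0,1,0],[0,0,0,0,0,1]],[[-1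,0,1,0,0,0],[0,-1,0,1,0,0],[-1,0,0,1,0,0],[0,0,0,1,0,0],[0,0,0,1,-1,1],[0,0,0,0,0,1]],[[-1,0,1,0,0,0],[0,-1,0,1,0,0],[0,0,1,0,0,0],[0,-1,1,0,1,0],[0,-1,1,0,0,1],[0,0,0,0,0,1]],[[-1,0,1,0,0,0],[0,1,0,0,0,0],[-1,0,0,1,0,0],[0,0,0,1,0,0],[0,0,0,1,-1,1],[0,0,0,1,-1,0]],[[1,0,0,0,0,0],[0,-1,0,1,0,0],[1,0,-1,1,0,0],[1,-1,-1,1,1,0],[1,-1,-1,1,0,1],[0,0,0,0,0,1]],[[-1,0,1,0,0,0],[0,-1,0,1,0,0],[-1,0,0,1,0,0],[-1,-1,0,1,1,0],[-1,-1,0,1,0,1],[0,0,0,0,0,1]],[[-1,0,1,0,0,0],[0,-1,0,1,0,0],[-1,0,0,1,0,0],[-1,-1,0,1,1,0],[0,0,0,0,1,0],[0,0,0,0,1,-1]],[[-1,0,1,0,0,0],[0,-1,0,1,0,0],[-1,0,0,1,0,0],[0,0,0,1,0,0],[0,0,0,1,-1,1],[0,0,0,1,-1,0]],[[-1,0,1,0,0,0],[0,1,0,0,0,0],[-1,0,0,1,0,0],[-1,1,0,0,1,0],[-1,1,0,0,0,1],[-1,1,0,0,0,0]],[[1,0,0,0,0,0],[1,0,-1,0,1,0],[1,0,-1,1,0,0],[2,0,-2,1,0,1],[1,-1,-1,1,0,1],[0,0,0,0,0,1]],[[-1,0,1,0,0,0],[-1,0,0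,0,1,0],[-1,0,0,1,0,0],[-2,0,0,1,0,1],[-1,-1,0,1,0,1],[0,0,0,0,0,1]],[[-1,0,1,0,0,0],[-1,0,0,0,1,0],[-1,0,0,1,0,0],[-2,0,0,1,0,1],[-1,-1,0,1,0,1],[-1,-1,0,1,0,0]],[[0,0,-1,1,0,0],[-1,0,0,0,1,0],[0,-1,-1,1,1,0],[-1,-1,-1,1,1,1],[-1,-1,-1,1,1,0],[0,0,-1,0,1,0]],[[1,0,0,0,0,0],[1,-1,0,0,0,1],[2,0,-1,0,0,1],[2,0,0,-1,0,2],[1,0,0,0,-1,2],[0,0,0,0,0,1]],[[-1,0,1,0,0,0],[-1,-1,1,0,0,1],[-2,0,1,0,0,1],[-2,0,2,-1,0,2],[-1,0,1,0,-1,2],[0,0,0,0,0,1]],[[-1,0,1,0,0,0],[-1,-1,1,0,0,1],[-2,0,1,0,0,1],[-2,0,2,-1,0,2],[-1,0,1,0,-1,2],[-1,0,1,0,-1,1]],[[-1,0,0,0,0,1],[-1,-1,0,0,1,0],[-1,-1,-1,1,0,1],[-1,-1,-1,0,1,1],[-1,-1,0,0,0,1],[-1,0,0,0,0,0]]]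

def ALL2 : List (List (List ℤ)) := [[[1,0,0,0,0,0],[0,1,0,0,0,0],[0,0,1,0,0,0],[0,0,0,1,0,0],[0,0,0,0,1,0],[0,0,0,0,0,1]],[[0,0,1,0,-1,0],[1,1,0,0,-1,0],[0,1,1,0,-1,-1],[1,1,1,0,-1,-1],[0,1,1,0,-1,0],[0,0,0,1,-1,0]],[[1,0,0,0,0,0],[0,1,0,0,0,0],[0,0,1,0,0,0],[0,0,0,1,0,0],[0,0,0,0,1,0],[0,0,0,0,0,1]],[[1,0,0,0,0,0],[0,1,0,0,0,0],[0,0,1,0,0,0],[0,0,0,1,0,0],[0,0,0,0,1,0],[0,0,0,0,0,1]],[[0,0,-1,1,0,0],[0,1,0,0,0,0],[1,0,-1,1,0,0],[0,0,0,1,0,0],[0,0,0,0,1,0],[0,0,0,0,0,1]],[[0,0,-1,1,0,0],[0,1,0,0,0,0],[1,0,-1,1,0,0],[0,0,0,1,0,0],[0,0,0,0,1,0],[0,0,0,0,0,1]],[[1,0,0,0,0,0],[0,1,0,0,0,0],[0,0,1,0,0,0],[0,0,0,1,0,0],[0,0,0,0,1,0],[0,0,0,0,0,1]],[[0,0,-1,1,0,0],[0,1,0,0,0,0],[0,1,-1,0,1,0],[1,1,-1,0,1,0],[0,0,0,0,1,0],[0,0,0,0,0,1]],[[0,0,-1,1,0,0],[-1,0,0,0,1,0],[0,-1,-1,1,1,0],[0,0,-1,0,2,0],[0,0,0,0,1,0],[0,0,0,0,0,1]],[[0,0,-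1,1,0,0],[0,1,0,0,0,0],[1,0,-1,1,0,0],[0,0,0,1,0,0],[0,0,0,0,1,0],[0,0,0,0,0,1]],[[1,0,0,0,0,0],[0,0,1,-1,1,0],[0,0,1,0,0,0],[0,0,2,-1,0,1],[0,1,1,-1,0,1],[0,0,0,0,0,1]],[[0,0,-1,1,0,0],[0,1,0,0,0,0],[1,0,-1,1,0,0],[0,0,0,1,0,0],[0,0,0,1,0,-1],[0,0,0,0,1,-1]],[[1,0,0,0,0,0],[1,0,-1,0,1,0],[1,-1,0,0,1,0],[2,-1,-1,0,1,1],[1,0,0,-1,1,1],[0,0,0,0,0,1]],[[0,0,-1,1,0,0],[-1,0,0,0,1,0],[0,-1,-1,1,1,0],[-1,-1,-1,1,1,1],[0,0,-1,0,1,1],[0,0,0,0,0,1]],[[0,0,-1,1,0,0],[-1,0,0,0,1,0],[0,-1,-1,1,1,0],[0,0,-1,0,2,0],[0,0,0,0,1,0],[0,0,0,0,0,1]],[[0,0,-1,1,0,0],[0,1,0,0,0,0],[1,0,-1,1,0,0],[0,0,0,1,0,0],[0,0,0,1,0,-1],[0,0,0,0,1,-1]],[[0,0,-1,1,0,0],[0,1,0,0,0,0],[0,1,-1,0,1,0],[0,2,-1,0,0,1],[0,2,-1,0,0,0],[1,1,-1,0,0,0]],[[1,0,0,0,0,0],[1,-1,0,0,0,1],[2,0,-1,0,0,1],[2,0,0,-1,0,2],[1,0,0,0,-1,2],[0,0,0,0,0,1]],[[0,0,-1,1,0,0],[0,-1,-1,1,0,1],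[-1,0,-1,1,0,1],[0,0,-2,1,0,2],[0,0,-1,1,-1,2],[0,0,0,0,0,1]],[[0,0,-1,1,0,0],[0,-1,-1,1,0,1],[-1,0,-1,1,0,1],[-1,-1,-2,2,0,1],[-1,-1,-1,2,-1,1],[0,0,-1,1,-1,1]],[[-1,0,0,0,0,1],[-1,-1,0,0,1,0],[-1,-1,-1,1,0,1],[-1,-1,-1,0,1,1],[-1,-1,0,0,0,1],[-1,0,0,0,0,0]],[[1,0,0,0,0,0],[0,1,0,0,0,0],[0,0,1,0,0,0],[0,0,0,1,0,0],[0,0,0,0,1,0],[0,0,0,0,0,1]],[[-1,0,0,0,0,1],[0,1,-1,0,0,1],[0,0,-1,0,0,2],[0,0,-2,1,0,2],[0,0,-1,0,1,1],[0,0,0,0,0,1]],[[-1,0,0,0,0,1],[-1,1,0,0,-1,1],[-1,0,0,0,-1,2],[-2,0,0,1,-2,2],[-2,0,1,0,-1,1],[-1,0,0,0,0,0]],[[0,0,0,0,0,-1],[1,0,0,0,-1,0],[1,1,0,-1,0,-1],[1,1,1,-1,-1,-1],[1,1,0,0,-1,-1],[1,0,0,0,0,-1]]]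

def ALL4 : List (List (List ℤ)) := [[[1,0,0,0,0,0],[0,1,0,0,0,0],[0,0,1,0,0,0],[0,0,0,1,0,0],[0,0,0,0,1,0],[0,0,0,0,0,1]],[[0,0,0,0,0,-1],[1,0,0,0,-1,0],[1,1,0,-1,0,-1],[1,1,1,-1,-1,-1],[1,1,0,0,-1,-1],[1,0,0,0,0,-1]],[[1,0,0,0,0,0],[0,1,0,0,0,0],[0,0,1,0,0,0],[0,0,0,1,0,0],[0,0,0,0,1,0],[0,0,0,0,0,1]],[[1,0,0,0,0,0],[0,1,0,0,0,0],[0,0,1,0,0,0],[0,0,0,1,0,0],[0,0,0,0,1,0],[0,0,0,0,0,1]],[[-1,0,1,0,0,0],[0,1,0,0,0,0],[-1,0,0,1,0,0],[0,0,0,1,0,0],[0,0,0,0,1,0],[0,0,0,0,0,1]],[[-1,0,1,0,0,0],[0,1,0,0,0,0],[-1,0,0,1,0,0],[0,0,0,1,0,0],[0,0,0,0,1,0],[0,0,0,0,0,1]],[[1,0,0,0,0,0],[0,1,0,0,0,0],[0,0,1,0,0,0],[0,0,0,1,0,0],[0,0,0,0,1,0],[0,0,0,0,0,1]],[[1,0,0,0,0,0],[0,1,0,0,0,0],[0,0,1,0,0,0],[0,0,0,1,0,0],[0,0,0,0,1,0],[0,0,0,0,0,1]],[[0,1,0,-1,1,0],[0,0,1,-1,1,0],[1,1,0,-1,1,0],[0,1,1,-1,1,0],[0,0,0,0,1,0],[0,0,0,0,0,1]],[[-1,0,1,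0,0,0],[0,1,0,0,0,0],[-1,0,0,1,0,0],[0,0,0,1,0,0],[0,0,0,0,1,0],[0,0,0,0,0,1]],[[1,0,0,0,0,0],[0,1,0,0,0,0],[0,0,1,0,0,0],[0,0,0,1,0,0],[0,0,0,0,1,0],[0,0,0,0,0,1]],[[-1,0,1,0,0,0],[0,1,0,0,0,0],[-1,0,0,1,0,0],[0,0,0,1,0,0],[0,0,0,1,-1,1],[0,0,0,1,-1,0]],[[1,0,0,0,0,0],[1,1,0,-1,0,1],[1,0,1,-1,0,1],[1,1,1,-1,-1,2],[0,1,1,-1,0,1],[0,0,0,0,0,1]],[[-1,0,0,0,0,1],[0,0,0,-1,1,1],[0,0,-1,0,0,2],[0,0,0,-1,0,3],[0,1,0,-1,0,2],[0,0,0,0,0,1]],[[0,1,0,-1,1,0],[0,0,1,-1,1,0],[1,1,0,-1,1,0],[0,1,1,-1,1,0],[0,0,0,0,1,0],[0,0,0,0,0,1]],[[-1,0,1,0,0,0],[0,1,0,0,0,0],[-1,0,0,1,0,0],[0,0,0,1,0,0],[0,0,0,1,-1,1],[0,0,0,1,-1,0]],[[0,1,0,0,-1,1],[0,1,0,0,0,0],[0,2,0,0,-1,0],[1,2,0,0,-1,0],[0,1,1,0,-1,0],[0,0,0,1,-1,0]],[[1,0,0,0,0,0],[0,1,0,0,0,0],[0,0,1,0,0,0],[0,0,0,1,0,0],[0,0,0,0,1,0],[0,0,0,0,0,1]],[[1,0,-1,0,0,1],[1,1,0,-1,0,1],[1,0,0,-1,0,2]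,[2,0,0,-1,0,2],[1,0,0,-1,1,1],[0,0,0,0,0,1]],[[0,-1,-1,1,0,0],[0,0,-1,1,-1,0],[0,-1,-1,1,-1,1],[0,-1,-1,1,-1,0],[0,0,-1,0,0,0],[1,0,-1,0,0,0]],[[0,0,0,0,0,-1],[1,0,0,0,-1,0],[1,1,0,-1,0,-1],[1,1,1,-1,-1,-1],[1,1,0,0,-1,-1],[1,0,0,0,0,-1]],[[1,0,0,0,0,0],[0,1,0,0,0,0],[0,0,1,0,0,0],[0,0,0,1,0,0],[0,0,0,0,1,0],[0,0,0,0,0,1]],[[1,0,0,0,0,0],[0,1,0,0,0,0],[0,0,1,0,0,0],[0,0,0,1,0,0],[0,0,0,0,1,0],[0,0,0,0,0,1]],[[0,0,0,0,0,-1],[1,1,-1,0,0,-1],[1,0,-1,0,1,-2],[2,0,-2,1,0,-2],[2,0,-1,0,0,-1],[1,0,0,0,0,-1]],[[-1,0,0,0,0,1],[-1,-1,0,0,1,0],[-1,-1,-1,1,0,1],[-1,-1,-1,0,1,1],[-1,-1,0,0,0,1],[-1,0,0,0,0,0]]]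

/-- Inverses, up to a factor, of the values of the cyclotomic polynomial. -/
def CC : List (List (List ℤ)) := [[[1,0,0,0,0,0],[0,1,0,0,0,0],[0,0,1,0,0,0],[0,0,0,1,0,0],[0,0,0,0,1,0],[0,0,0,0,0,1]],[[1,0,0,0,0,0],[0,1,0,0,0,0],[0,0,1,0,0,0],[0,0,0,1,0,0],[0,0,0,0,1,0],[0,0,0,0,0,1]],[[1,0,0,0,0,0],[0,1,0,0,0,0],[0,0,1,0,0,0],[0,0,0,1,0,0],[0,0,0,0,1,0],[0,0,0,0,0,1]],[[1,0,0,0,0,0],[0,1,0,0,0,0],[0,0,1,0,0,0],[0,0,0,1,0,0],[0,0,0,0,1,0],[0,0,0,0,0,1]],[[1,0,-1,1,0,0],[0,2,0,0,0,0],[1,0,0,1,0,0],[0,0,0,2,0,0],[0,0,0,0,2,0],[0,0,0,0,0,2]],[[1,0,-1,1,0,0],[0,2,0,0,0,0],[1,0,0,1,0,0],[0,0,0,2,0,0],[0,0,0,0,2,0],[0,0,0,0,0,2]],[[1,0,0,0,0,0],[0,1,0,0,0,0],[0,0,1,0,0,0],[0,0,0,1,0,0],[0,0,0,0,1,0],[0,0,0,0,0,1]],[[2,0,-1,1,0,0],[0,3,0,0,0,0],[0,1,1,0,1,0],[1,1,-1,2,1,0],[0,0,0,0,3,0],[0,0,0,0,0,3]],[[0,2,-1,0,0,0],[-2,0,2,-1,1,0],[1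,0,-1,1,0,0],[-1,1,0,0,1,0],[0,0,0,0,1,0],[0,0,0,0,0,1]],[[1,0,-1,1,0,0],[0,2,0,0,0,0],[1,0,0,1,0,0],[0,0,0,2,0,0],[0,0,0,0,2,0],[0,0,0,0,0,2]],[[3,0,0,0,0,0],[0,2,1,-1,1,0],[0,0,3,0,0,0],[0,0,2,1,0,1],[0,1,1,-1,2,1],[0,0,0,0,0,3]],[[1,0,-1,1,0,0],[0,2,0,0,0,0],[1,0,0,1,0,0],[0,0,0,2,0,0],[0,0,0,1,1,-1],[0,0,0,0,1,0]],[[2,0,0,0,0,0],[1,1,-1,0,1,0],[1,-1,1,0,1,0],[2,-1,-1,1,1,1],[1,0,0,-1,2,1],[0,0,0,0,0,2]],[[0,0,-1,1,0,0],[-1,0,0,0,1,0],[0,-1,-1,1,1,0],[-1,-1,-1,1,1,1],[0,0,-1,0,1,1],[0,0,0,0,0,1]],[[0,2,-1,0,0,0],[-2,0,2,-1,1,0],[1,0,-1,1,0,0],[-1,1,0,0,1,0],[0,0,0,0,1,0],[0,0,0,0,0,1]],[[1,0,-1,1,0,0],[0,2,0,0,0,0],[1,0,0,1,0,0],[0,0,0,2,0,0],[0,0,0,1,1,-1],[0,0,0,0,1,0]],[[1,0,-1,1,0,0],[0,2,0,0,0,0],[0,1,0,0,1,0],[0,2,-1,1,0,1],[0,2,-1,0,1,0],[1,1,-1,0,0,1]],[[3,0,0,0,0,0],[1,1,0,0,0,1],[2,0,1,0,0,1],[2,0,0,1,0,2],[1,0,0,0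,1,2],[0,0,0,0,0,3]],[[3,0,-3,3,0,0],[0,2,-3,2,0,3],[-3,0,0,3,0,3],[0,0,-6,6,0,6],[0,0,-3,2,2,5],[0,0,0,0,0,6]],[[0,0,-1,1,-1,2],[-1,0,-1,1,-1,2],[-2,-1,-1,2,-1,2],[-1,-1,-3,3,-2,3],[-1,-1,-2,2,-1,2],[-1,0,0,0,-1,2]],[[0,0,0,0,0,1],[-1,0,0,0,1,0],[-1,-1,0,1,0,1],[-1,-1,-1,1,1,1],[-1,-1,0,0,1,1],[-1,0,0,0,0,1]],[[1,0,0,0,0,0],[0,1,0,0,0,0],[0,0,1,0,0,0],[0,0,0,1,0,0],[0,0,0,0,1,0],[0,0,0,0,0,1]],[[1,0,0,0,0,1],[0,3,-1,0,0,1],[0,0,1,0,0,2],[0,0,-2,3,0,2],[0,0,-1,0,3,1],[0,0,0,0,0,3]],[[0,0,0,0,0,1],[-1,2,0,0,-1,1],[-1,0,1,0,-1,2],[-2,0,0,2,-2,2],[-2,0,1,0,0,1],[-1,0,0,0,0,1]],[[1,0,0,0,0,-1],[1,1,0,0,-1,0],[1,1,1,-1,0,-1],[1,1,1,0,-1,-1],[1,1,0,0,0,-1],[1,0,0,0,0,0]]]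

def MM : List ℤ := [1,0,1,1,2,2,1,3,1,2,3,2,2,1,1,2,2,3,6,1,2,1,3,2,2]

/-- A root, a prime and a vector for each class: the multiple of the root by the prime is the difference of the vector
and its image. -/
def GX : List ℕ := [0,0,15,15,14,25,15,14,10,25,24,14,18,4,35,25,13,18,25,0,0,18,4,0,0]

def GP : List ℤ := [2,2,2,2,3,2,2,2,5,2,2,3,2,2,2,2,2,2,2,3,2,2,2,2,3]

def GW : List (List ℤ) := [[0,0,0,0,0,0],[0,2,2,6,6,4],[1,0,0,0,0,0],[1,0,0,0,0,0],[2,0,1,0,0,0],[0,1,0,0,0,0],[1,0,0,0,0,0],[1,0,0,-1,0,0],[3,2,1,-1,0,0],[0,1,0,0,0,0],[0,1,0,0,-1,0],[2,0,1,0,0,0],[0,2,2,2,0,0],[2,1,2,0,-1,0],[0,0,0,0,0,1],[0,1,0,0,0,0],[1,0,0,-1,-2,-1],[0,1,2,2,1,0],[0,1,0,0,-1,0],[4,3,5,3,1,-1],[2,2,2,2,0,0],[0,1,1,2,1,0],[2,1,2,2,1,0],[2,2,2,3,2,0],[2,3,3,4,2,1]]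

/-- The entry of a matrix written as lists. -/
def ent (L : List (List ℤ)) (m k : ℕ) : ℤ := (L.getD m []).getD k 0

/-- The matrix of a representative. -/
def AM (idx : ℕ) : Matrix (Fin chevE6.rank) (Fin chevE6.rank) ℤ := fun m k => ent (ALL.getD idx []) m k

def AM2 (idx : ℕ) : Matrix (Fin chevE6.rank) (Fin chevE6.rank) ℤ := fun m k => ent (ALL2.getD idx []) m k

def AM4 (idx : ℕ) : Matrix (Fin chevE6.rank) (Fin chevE6.rank) ℤ := fun m k => ent (ALL4.getD idx []) m k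

def CM (idx : ℕ) : Matrix (Fin chevE6.rank) (Fin chevE6.rank) ℤ := fun m k => ent (CC.getD idx []) m k

/-- An entry of a matrix, as an integer. -/
def mE (A : Matrix (Fin chevE6.rank) (Fin chevE6.rank) ℤ) (m k : Fin chevE6.rank) : ℤ := A m k

/-- The certificates for the matrices of the representatives. -/
theorem certA : ∀ idx : Fin 25, ∀ m k : Fin chevE6.rank, RootE6T.R.rcAt (img (row idx) k) m = mE (AM idx) m k := by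
  decide +kernel

theorem certB : ∀ idx : Fin 25, ∀ m k : Fin chevE6.rank, mE (AM idx * AM idx) m k = mE (AM2 idx) m k ∧
    mE (AM2 idx * AM2 idx) m k = mE (AM4 idx) m k := by
  decide +kernel

theorem certC : ∀ idx : Fin 25, idx ≠ 1 → MM.getD idx 0 ≠ 0 ∧ ∀ m k : Fin chevE6.rank,
    (CM idx * (AM4 idx - AM2 idx + 1)) m k = (MM.getD idx 0 • (1 : Matrix (Fin chevE6.rank) (Fin chevE6.rank) ℤ)) m k := by
  decide +kernel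

theorem certD : ∀ idx : Fin 25, idx ≠ 0 → GX.getD idx 0 < 72 ∧
    (GP.getD idx 0 = 2 ∨ GP.getD idx 0 = 3 ∨ GP.getD idx 0 = 5) ∧ ∀ m : Fin chevE6.rank,
    GP.getD idx 0 * RootE6T.R.rcAt (GX.getD idx 0) m = (AM idx *ᵥ (fun k : Fin chevE6.rank => (GW.getD idx []).getD k 0)) m -
      (GW.getD idx []).getD m 0 := by
  decide +kernel

theorem mat_of_rep {τ : Perm (Fin chevE6.nroots)} {idx : ℕ} (h25 : idx < 25) (h : Rep τ idx) : mat hFE τ = AM idx := by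
  ext m k
  show RootE6T.R.rcAt (τ (hFE.pF k)) m = _
  rw [h k]
  exact certA ⟨idx, h25⟩ m k

/-- The value of the cyclotomic polynomial of order twelve. -/
def Phi (A : Matrix (Fin chevE6.rank) (Fin chevE6.rank) ℤ) : Matrix (Fin chevE6.rank) (Fin chevE6.rank) ℤ :=
  A * A * (A * A) - A * A + 1

theorem mat_conj {τ : Perm (Fin chevE6.nroots)} (hτ : τ ∈ hFE.Wk Set.univ) {j : ℕ} (hj : j < chevE6.rank) :
    mat hFE (hFE.wPerm hj * τ * hFE.wPerm hj) = mat hFE (hFE.wPerm hj) * mat hFE τ * mat hFE (hFE.wPerm hj) := by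
  have hW := hFE.wPerm_mem (J := Set.univ) hj (Set.mem_univ _)
  rw [mat_mul hFE (mul_mem hW hτ) hW, mat_mul hFE hW hτ]

theorem mat_sq {j : ℕ} (hj : j < chevE6.rank) : mat hFE (hFE.wPerm hj) * mat hFE (hFE.wPerm hj) = 1 := by
  have hW := hFE.wPerm_mem (J := Set.univ) hj (Set.mem_univ _)
  rw [← mat_mul hFE hW hW, hFE.wPerm_mul_self, mat_one]

theorem Phi_conj (S A : Matrix (Fin chevE6.rank) (Fin chevE6.rank) ℤ) (hS : S * S = 1) :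
    Phi (S * A * S) = S * Phi A * S := by
  unfold Phi
  have e1 : S * A * S * (S * A * S) = S * (A * A) * S := by
    calc S * A * S * (S * A * S) = S * A * (S * S) * A * S := by simp only [mul_assoc]
      _ = _ := by rw [hS]; simp only [mul_assoc, mul_one]
  have e2 : S * (A * A) * S * (S * (A * A) * S) = S * (A * A * (A * A)) * S := by
    calc S * (A * A) * S * (S * (A * A) * S) = S * (A * A) * (S * S) * (A * A) * S := by simp only [mul_assoc]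
      _ = _ := by rw [hS]; simp only [mul_assoc, mul_one]
  rw [e1, e2, mul_add, add_mul, mul_sub, sub_mul, mul_one, hS]

/-- Elements with a trivial value of the cyclotomic polynomial on no nonzero vector. -/
def Sing (τ : Perm (Fin chevE6.nroots)) : Prop :=
  ∃ u : Fin chevE6.rank → ℤ, u ≠ 0 ∧ Phi (mat hFE τ) *ᵥ u = 0

variable {K : Type*} [Field K]

/-- **The classification**: an element of the Weyl group with an eigenvalue which is a primitive root of unity of order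
twelve is conjugate to the Coxeter element, by an element fixed by any automorphism. -/
theorem classify (σ : K ≃+* K) {τ : Perm (Fin chevE6.nroots)} (hτ : τ ∈ hFE.Wk Set.univ) (hS : Sing τ) :
    ∃ y : ↥(chevE6.monomialSubgroup K), glM chevE6 (σ : K →+* K) y.1 = y.1 ∧
      Rep (hFE.rhoN K y * τ * (hFE.rhoN K y)⁻¹) 1 := by
  refine forest (fun τ => Sing τ → ∃ y : ↥(chevE6.monomialSubgroup K), glM chevE6 (σ : K →+* K) y.1 = y.1 ∧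
      Rep (hFE.rhoN K y * τ * (hFE.rhoN K y)⁻¹) 1) ?_ ?_ τ hτ hS
  · intro j hj τ hτ h1 h2
    have hS1 := mat_sq hj
    have hτ2 : Sing τ := by
      obtain ⟨u, hu, hu0⟩ := h2
      rw [mat_conj hτ hj, Phi_conj _ _ hS1, ← Matrix.mulVec_mulVec, ← Matrix.mulVec_mulVec] at hu0
      have hSS : ∀ x, mat hFE (hFE.wPerm hj) *ᵥ (mat hFE (hFE.wPerm hj) *ᵥ x) = x := by
        intro x
        rw [Matrix.mulVec_mulVec, hS1, Matrix.one_mulVec]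
      refine ⟨mat hFE (hFE.wPerm hj) *ᵥ u, ?_, ?_⟩
      · intro h0
        apply hu
        rw [← hSS u, h0, Matrix.mulVec_zero]
      · rw [← hSS (Phi (mat hFE τ) *ᵥ (mat hFE (hFE.wPerm hj) *ᵥ u)), hu0, Matrix.mulVec_zero]
    obtain ⟨y, hy1, hy2⟩ := h1 hτ2
    refine ⟨y * hFE.nN hj, ?_, ?_⟩
    · show glM chevE6 (σ : K →+* K) (y.1 * hFE.nS j) = y.1 * hFE.nS j
      rw [map_mul, Fix.sg_nS hFE σ, hy1]
    · have e : hFE.rhoN K (y * hFE.nN hj) * (hFE.wPerm hj * τ * hFE.wPerm hj) * (hFE.rhoN K (y * hFE.nN hj))⁻¹ =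
          hFE.rhoN K y * τ * (hFE.rhoN K y)⁻¹ := by
        rw [map_mul, hFE.rhoN_nN]
        have hs := hFE.wPerm_mul_self hj
        have hi := hFE.wPerm_inv hj
        calc hFE.rhoN K y * hFE.wPerm hj * (hFE.wPerm hj * τ * hFE.wPerm hj) * (hFE.rhoN K y * hFE.wPerm hj)⁻¹
            = hFE.rhoN K y * (hFE.wPerm hj * hFE.wPerm hj) * τ * (hFE.wPerm hj * (hFE.wPerm hj)⁻¹) * (hFE.rhoN K y)⁻¹ := by
              group
          _ = _ := by rw [hs, mul_inv_cancel]; group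
      rw [e]
      exact hy2
  · intro idx h25 τ hτ hrep hS
    by_cases h1 : idx = 1
    · subst h1
      refine ⟨1, ?_, ?_⟩
      · simp
      · rw [map_one]
        simpa using hrep
    · exfalso
      obtain ⟨u, hu, hu0⟩ := hS
      rw [mat_of_rep h25 hrep] at hu0
      have hn : (⟨idx, h25⟩ : Fin 25) ≠ 1 := by
        intro h2
        apply h1
        exact congrArg Fin.val h2
      obtain ⟨hm, hC⟩ := certC ⟨idx, h25⟩ hn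
      have hB := certB ⟨idx, h25⟩
      have e2 : AM idx * AM idx = AM2 idx := by
        ext m k
        exact (hB m k).1
      have e4 : AM2 idx * AM2 idx = AM4 idx := by
        ext m k
        exact (hB m k).2
      have eC : CM idx * Phi (AM idx) = MM.getD idx 0 • 1 := by
        ext m k
        unfold Phi
        rw [e2, e4]
        exact hC m k
      have h3 : (MM.getD idx 0 • (1 : Matrix (Fin chevE6.rank) (Fin chevE6.rank) ℤ)) *ᵥ u = 0 := by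
        rw [← eC, ← Matrix.mulVec_mulVec, hu0, Matrix.mulVec_zero]
      rw [Matrix.smul_mulVec, Matrix.one_mulVec] at h3
      apply hu
      funext i
      have h4 := congrFun h3 i
      simp only [Pi.smul_apply, smul_eq_mul, Pi.zero_apply] at h4
      rcases mul_eq_zero.1 h4 with h5 | h5
      · exact absurd h5 hm
      · exact h5

/-- The property behind the triviality of stabilisers. -/
def Good (τ : Perm (Fin chevE6.nroots)) : Prop :=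
  ∃ (x : Fin chevE6.nroots) (p : ℤ) (w : Fin chevE6.rank → ℤ), (p = 2 ∨ p = 3 ∨ p = 5) ∧
    p • rcV RootE6T.R chevE6 x = mat hFE τ *ᵥ w - w

theorem good_all {τ : Perm (Fin chevE6.nroots)} (hτ : τ ∈ hFE.Wk Set.univ) : τ = 1 ∨ Good τ := by
  refine forest (fun τ => τ = 1 ∨ Good τ) ?_ ?_ τ hτ
  · intro j hj τ hτ h
    have hs := hFE.wPerm_mul_self hj
    rcases h with rfl | ⟨x, p, w, hp, h⟩
    · left
      rw [mul_one, hs]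
    · right
      have hS1 := mat_sq hj
      have hW := hFE.wPerm_mem (J := Set.univ) hj (Set.mem_univ _)
      refine ⟨hFE.wPerm hj x, p, mat hFE (hFE.wPerm hj) *ᵥ w, hp, ?_⟩
      rw [mat_rc hFE hW, ← Matrix.mulVec_smul, h, mat_conj hτ hj, Matrix.mulVec_sub, Matrix.mulVec_mulVec, Matrix.mulVec_mulVec]
      congr 2
      rw [mul_assoc, hS1, mul_one]
  · intro idx h25 τ hτ hrep
    by_cases h0 : idx = 0
    · subst h0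
      left
      ext s
      have h1 : mat hFE τ = 1 := by
        rw [mat_of_rep h25 hrep]
        ext m k
        exact (by decide +kernel : ∀ m k : Fin chevE6.rank, mE (AM 0) m k = mE (1 : Matrix (Fin chevE6.rank) (Fin chevE6.rank) ℤ) m k) m k
      have h2 := mat_rc hFE hτ s
      rw [h1, Matrix.one_mulVec] at h2
      exact congrArg (fun n : ℕ => n) (rcV_inj hFE (τ s).2 s.2 h2)
    · right
      have hn : (⟨idx, h25⟩ : Fin 25) ≠ 0 := by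
        intro h2
        apply h0
        exact congrArg Fin.val h2
      obtain ⟨h1, h2, h3⟩ := certD ⟨idx, h25⟩ hn
      refine ⟨⟨GX.getD idx 0, h1⟩, GP.getD idx 0, fun k => (GW.getD idx []).getD k 0, h2, ?_⟩
      rw [mat_of_rep h25 hrep]
      funext m
      exact h3 m

/-- **Stabilisers**: an element of the Weyl group fixing a torus element without small values on the roots is trivial. -/
theorem stab_one (c : Fin chevE6.rank → Kˣ)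
    (hc : ∀ (x : Fin chevE6.nroots), chiT chevE6 c x ^ 2 ≠ 1 ∧ chiT chevE6 c x ^ 3 ≠ 1 ∧ chiT chevE6 c x ^ 5 ≠ 1)
    {h : Perm (Fin chevE6.nroots)} (hh : h ∈ hFE.Wk Set.univ)
    (hfix : ∀ s : Fin chevE6.nroots, chiT chevE6 c (h s) = chiT chevE6 c s) : h = 1 := by
  rcases good_all hh with h1 | ⟨x, p, w, hp, h1⟩
  · exact h1
  · exfalso
    have h2 : ∀ v, Xc c (mat hFE h *ᵥ v) = Xc c v ^ 1 :=
      Xc_twist hFE hh c 1 (fun s => by rw [hfix, pow_one])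
    have h3 : Xc c (p • rcV RootE6T.R chevE6 x) = 1 := by
      rw [h1, sub_eq_add_neg, Xc_add]
      have h4 : Xc c (-w) = (Xc c w)⁻¹ := by
        have e : -w = (-1 : ℤ) • w := by simp
        rw [e, Xc_smul, _root_.zpow_neg_one]
      rw [h4, h2, pow_one, mul_inv_cancel]
    rw [Xc_smul, Xc_rc hFE c x.2] at h3
    obtain ⟨a1, a2, a3⟩ := hc x
    rcases hp with rfl | rfl | rfl
    · exact a1 (by exact_mod_cast h3)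
    · exact a2 (by exact_mod_cast h3)
    · exact a3 (by exact_mod_cast h3)

end

end Cfsg.Agent.Lib.TwE6W32
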