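import Mathlib
import Cfsg.Agent.Lib.TwChain
import Cfsg.Agent.S2037

/-!
# Twisted coset systems for the group `M₂₃`: checks on permutations
-/

set_option autoImplicit false

namespace Cfsg.Agent.Lib.TwM23Core

open Cfsg Cfsg.Spor Cfsg.Agent.Lib.Golay Cfsg.Agent.Lib.GolaySift Cfsg.Agent.Lib.MathieuOut
  Cfsg.Agent.Lib.SchurCoset46 Cfsg.Agent.Lib.SchurCosetGolay46 Cfsg.Agent.Lib.TwSolve Cfsg.Agent.Lib.TwChain

/-- A plain loop. -/
def allV (P : ℕ → Bool) (n : ℕ) : Bool := Nat.rec true (fun m ih => cond (P m) ih false) n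

theorem of_allV {P : ℕ → Bool} {n : ℕ} (h : allV P n = true) : ∀ q, q < n → P q = true := by
  induction n with
  | zero => intro q hq; omega
  | succ n ih =>
    have h1 : cond (P n) (allV P n) false = true := h
    cases h2 : P n with
    | false =>
      rw [h2] at h1
      exact absurd h1 (by simp)
    | true =>
      rw [h2] at h1
      intro q hq
      rcases Nat.lt_succ_iff_lt_or_eq.mp hq with h3 | rfl
      · exact ih h1 q h3
      · exact h2

/-- The test of a row of a coset table. -/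
def tabRow (n : ℕ) (T : ℕ → ℕ → ℕ) (par : ℕ → ℕ × ℕ) (c : ℕ) : Bool :=
  frc (T c 0) fun a0 => frc (T c 1) fun a1 => frc (T c 2) fun a2 => frc (T c 3) fun a3 =>
    Nat.blt a0 n && Nat.blt a1 n && Nat.blt a2 n && Nat.blt a3 n &&
    Nat.beq (T a0 1) c && Nat.beq (T a1 0) c && Nat.beq (T a2 3) c && Nat.beq (T a3 2) c &&
    (Nat.beq c 0 || (Nat.blt (par c).1 c && Nat.blt (par c).2 4 && Nat.beq (T (par c).1 (par c).2) c))

theorem tab_of_chk {n : ℕ} {T : ℕ → ℕ → ℕ} {par : ℕ → ℕ × ℕ} (hn : 0 < n) (h : allV (tabRow n T par) n = true) :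
    Tab n 2 T par := by
  have key := fun c hc => of_allV h c hc
  simp only [tabRow, frc_eq, Bool.and_eq_true, Bool.or_eq_true, Nat.blt_eq] at key
  refine ⟨hn, ?_, ?_, ?_, ?_⟩
  · intro c hc l hl
    obtain ⟨⟨⟨⟨⟨⟨⟨⟨h0, h1⟩, h2⟩, h3⟩, -⟩, -⟩, -⟩, -⟩, -⟩ := key c hc
    interval_cases l
    · exact h0
    · exact h1
    · exact h2
    · exact h3
  · intro c hc i hi
    obtain ⟨⟨⟨⟨⟨⟨⟨⟨h0, h1⟩, h2⟩, h3⟩, h4⟩, h5⟩, h6⟩, h7⟩, -⟩ := key c hc
    interval_cases i
    · exact Nat.eq_of_beq_eq_true h4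
    · exact Nat.eq_of_beq_eq_true h6
  · intro c hc i hi
    obtain ⟨⟨⟨⟨⟨⟨⟨⟨h0, h1⟩, h2⟩, h3⟩, h4⟩, h5⟩, h6⟩, h7⟩, -⟩ := key c hc
    interval_cases i
    · exact Nat.eq_of_beq_eq_true h5
    · exact Nat.eq_of_beq_eq_true h7
  · intro c hc h0
    obtain ⟨-, h8⟩ := key c hc
    rcases h8 with h9 | ⟨⟨h9, h10⟩, h11⟩
    · have := Nat.eq_of_beq_eq_true h9
      omega
    · exact ⟨h9, h10, Nat.eq_of_beq_eq_true h11⟩

/-- The test of a row of the table of representatives. -/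
def tpRow (cL tp : ℕ → ℕ) (par : ℕ → ℕ × ℕ) (c : ℕ) : Bool :=
  cond (Nat.beq c 0) (Nat.beq (tp 0) idC) (Nat.beq (tp c) (comp (tp (par c).1) (cL (par c).2)))

/-- The test of the relators. -/
def relRow (cL : ℕ → ℕ) (rels : ℕ → List ℕ) (j : ℕ) : Bool :=
  (rels j).all (fun l => Nat.blt l 4) && eqC (wordC cL (rels j)) idC

/-- The test of a Schreier element. -/
def edgeRow (cL kL tp : ℕ → ℕ) (T : ℕ → ℕ → ℕ) (Wv : ℕ → List ℕ) (e : ℕ) : Bool :=
  frc (Nat.div e 2) fun c => frc (Nat.mod e 2) fun i =>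
    (Wv e).all (fun l => Nat.blt l 4) &&
      eqC (comp (tp c) (cL (Nat.mul 2 i))) (comp (wordC kL (Wv e)) (tp (T c (Nat.mul 2 i))))

section Level

variable {s k : ℕ → ↥M23} {cL kL tp : ℕ → ℕ} {n R : ℕ} {T : ℕ → ℕ → ℕ} {par : ℕ → ℕ × ℕ} {rels : ℕ → List ℕ}
  {Wv : ℕ → List ℕ}

/-- Coercion of families. -/
abbrev cf (s : ℕ → ↥M23) : ℕ → Equiv.Perm GolayPt := fun i => (s i : Equiv.Perm GolayPt)

theorem rep_tOf (hs : ∀ l, l < 2 * 2 → Rep (lett (cf s) l) (cL l)) (htab : Tab n 2 T par)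
    (htp : ∀ c, c < n → tpRow cL tp par c = true) :
    ∀ c, c < n → Rep (tOf (cf s) par c) (tp c) := by
  intro c
  induction c using Nat.strong_induction_on with
  | _ c ih =>
    intro hc
    have h1 := htp c hc
    simp only [tpRow] at h1
    rcases Nat.eq_zero_or_pos c with rfl | h0
    · simp only [show Nat.beq 0 0 = true from rfl, cond_true] at h1
      rw [tOf_zero, Nat.eq_of_beq_eq_true h1]
      exact rep_one
    · have hne : Nat.beq c 0 = false := TwSolve.beq_false_of_ne (by omega)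
      rw [hne, cond_false] at h1
      obtain ⟨h2, h3, h4⟩ := htab.par_lt c hc h0
      rw [tOf_pos _ par h0 h2, Nat.eq_of_beq_eq_true h1]
      exact (ih _ h2 (h2.trans hc)).mul (hs _ h3)

theorem level_rel (hs : ∀ l, l < 2 * 2 → Rep (lett (cf s) l) (cL l)) (hrel : ∀ j, j < R → relRow cL rels j = true) :
    (∀ j, j < R → ∀ l ∈ rels j, l < 2 * 2) ∧ ∀ j, j < R → evW s (rels j) = 1 := by
  have key := fun j hj => hrel j hj
  simp only [relRow, Bool.and_eq_true, List.all_eq_true, Nat.blt_eq] at key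
  refine ⟨fun j hj l hl => (key j hj).1 l hl, fun j hj => ?_⟩
  apply Subtype.ext
  have h1 := map_evW M23.subtype s (rels j)
  have h2 : ((evW s (rels j) : ↥M23) : Equiv.Perm GolayPt) = evW (cf s) (rels j) := h1
  rw [h2]
  exact eq_of_eqC (rep_evW (m := 2) hs _ (fun l hl => (key j hj).1 l hl)) rep_one (key j hj).2

theorem level_edge (hs : ∀ l, l < 2 * 2 → Rep (lett (cf s) l) (cL l)) (hk : ∀ l, l < 2 * 2 → Rep (lett (cf k) l) (kL l))
    (htab : Tab n 2 T par) (htp : ∀ c, c < n → tpRow cL tp par c = true)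
    (hedge : ∀ e, e < 2 * n → edgeRow cL kL tp T Wv e = true) :
    ∀ c, c < n → ∀ i, i < 2 → tOf s par c * s i * (tOf s par (T c (2 * i)))⁻¹ = evW k (Wv (2 * c + i)) := by
  intro c hc i hi
  have h1 := hedge (2 * c + i) (by omega)
  have e1 : Nat.div (2 * c + i) 2 = c := by
    show (2 * c + i) / 2 = c
    omega
  have e2 : Nat.mod (2 * c + i) 2 = i := by
    show (2 * c + i) % 2 = i
    omega
  simp only [edgeRow, frc_eq, Bool.and_eq_true, List.all_eq_true, Nat.blt_eq, e1, e2] at h1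
  obtain ⟨h2, h3⟩ := h1
  have hd : T c (2 * i) < n := htab.T_lt c hc _ (by omega)
  have hsi : Rep (cf s i) (cL (2 * i)) := by
    have := hs (2 * i) (by omega)
    rwa [lett_even] at this
  have hrw : Rep (evW (cf k) (Wv (2 * c + i))) (wordC kL (Wv (2 * c + i))) := rep_evW (m := 2) hk _ h2
  have hr1 := (rep_tOf hs htab htp c hc).mul hsi
  have hr2 := hrw.mul (rep_tOf hs htab htp _ hd)
  have h4 := eq_of_eqC hr1 hr2 h3
  have h5 : (tOf s par c * s i : ↥M23) = evW k (Wv (2 * c + i)) * tOf s par (T c (2 * i)) := by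
    apply Subtype.ext
    have m1 := map_tOf M23.subtype s par c
    have m2 := map_tOf M23.subtype s par (T c (2 * i))
    have m3 := map_evW M23.subtype k (Wv (2 * c + i))
    have m1' : ((tOf s par c : ↥M23) : Equiv.Perm GolayPt) = tOf (cf s) par c := m1
    have m2' : ((tOf s par (T c (2 * i)) : ↥M23) : Equiv.Perm GolayPt) = tOf (cf s) par (T c (2 * i)) := m2
    have m3' : ((evW k (Wv (2 * c + i)) : ↥M23) : Equiv.Perm GolayPt) = evW (cf k) (Wv (2 * c + i)) := m3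
    show ((tOf s par c : ↥M23) : Equiv.Perm GolayPt) * (s i : Equiv.Perm GolayPt) =
      ((evW k (Wv (2 * c + i)) : ↥M23) : Equiv.Perm GolayPt) * ((tOf s par (T c (2 * i)) : ↥M23) : Equiv.Perm GolayPt)
    rw [m1', m2', m3']
    exact h4
  rw [h5]
  group

end Level

end Cfsg.Agent.Lib.TwM23Core
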