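import Mathlib
import Cfsg.Agent.Lib.TwM23Core

/-! Data: coset tables of `M₂₃` over the octad stabiliser, and of the octad stabiliser over a subgroup of order `21`. -/

set_option autoImplicit false
set_option maxRecDepth 100000

namespace Cfsg.Agent.Lib.TwM23G

open Cfsg.Agent.Lib.TwM23Core

/-- a permutation -/
def cS1 : ℕ := nat_lit 964861608865879294228920183389815153

/-- a permutation -/
def cS1i : ℕ := nat_lit 973091204450645713477666636973807746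

/-- a permutation -/
def cG2 : ℕ := nat_lit 984492497713449494260413366512433191

/-- a permutation -/
def cG2i : ℕ := nat_lit 984492497713449494260413366512433191

/-- a permutation -/
def cS2 : ℕ := nat_lit 975082325194118816885143113970485382

/-- a permutation -/
def cS2i : ℕ := nat_lit 975082325194118816885143113970485382

/-- a permutation -/
def cZ3 : ℕ := nat_lit 976963880987518958075674522090292725

/-- a permutation -/
def cZ3i : ℕ := nat_lit 972284982477739571479541200409827796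

/-- a permutation -/
def cH : ℕ := nat_lit 960153484464639284405426986430180423

/-- a permutation -/
def cHi : ℕ := nat_lit 970526783934922722066134772565607984

/-- Four codes by letter. -/
def c4 (a b c d l : ℕ) : ℕ :=
  cond (Nat.beq l 0) a (cond (Nat.beq l 1) b (cond (Nat.beq l 2) c d))

/-- The letters of the first level. -/
def cL1 (l : ℕ) : ℕ := c4 cS1 cS1i cG2 cG2i l
/-- The letters of the second level. -/
def cL2 (l : ℕ) : ℕ := c4 cS1 cS1i cS2 cS2i l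
/-- The letters of the subgroup of order `21`. -/
def kL2 (l : ℕ) : ℕ := c4 cS1 cS1i cZ3 cZ3i l

/-- a chunk -/
def tT2_0 (_ : ℕ) : ℕ := nat_lit 0x741d0700706c1b01c1a018060641805c1702006058160540505014014130100404811040100100c00c0303c0e0340d030030080202c0a024090080801c070180101405004040000000c020040100000
/-- a chunk -/
def tT2_1 (_ : ℕ) : ℕ := nat_lit 0xec3b0e8100e4390403803c0f050370d8360d40f0380e0d0330c832038310c0300bc0d0b82e0342d0300c0b02b02c0b0a8290a02809c0b0280a0981d094250282408c230880908421024200200807c1e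
/-- a chunk -/
def tT2_2 (_ : ℕ) : ℕ := nat_lit 0x1605815c190601815855150540605314852144171405005c4f1384e134161304c0584b054151284312449090151204811c1404c13118451104404c270481210c421044110012044110fc3e0f43d0443c
/-- a chunk -/
def tT2_3 (_ : ℕ) : ℕ := nat_lit 0x1c8721c4211c0700846f080201b86d0e83a0804007c1f1b0620f03c1ac1f0781e1a8691a0680786719866074650701c19063188620c41c184611801b17c5f06c5e0681a1745c16c5b068350641916859
/-- a chunk -/
def tT2_4 (_ : ℕ) : ℕ := nat_lit 0x220880ac870a82a1c08610c432142a0a4291148411c470a483208821c82809c2720480098261fc7e12c4b1f4261f07c1ec251e87a0944c090241e4781344d0a0231dc7708c76088221d4741cc730f022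
/-- a chunk -/
def tT2_5 (_ : ℕ) : ℕ := nat_lit 0xcc332889b284a10cca027c9f27832258960c8930c4312749c26c9b26830264990c0980bc2f25c962549514c2f194652502e24c930b8920b42d2449023c8f0b4570b02c2388d2308c22c2c0ac2b22889
/-- a chunk -/
def tT2_6 (_ : ℕ) : ℕ := nat_lit 0x2e0b80f8b718c632d83d2d4b50f4b41a86a2cc3b2c8b219c3a1b06c2c439214850e4b00e0382bcae2b4ad0e06b0dc372b0ab158560dc7d2a8aa2a4361b86e0d8a80d4350eca70d034298a5290a428c34
/-- a chunk -/
def tT2_7 (_ : ℕ) : ℕ := nat_lit 0x300c03404833ccf120ce334cd1944711846330cb328ca3244611445320c7318c631444310c4110c310842308c12e4b91087221c87300412fcbf104be100402f4bc0fc3f1d84a2ecbb2e83f0f83e2e44e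
/-- a chunk -/
def tT2_8 (_ : ℕ) : ℕ := nat_lit 0x14c53374e6394e53905238ce3148e214451384c4380e021c5137cdf378502c4b1140dd13c4f370db1d47513c8b368da138d91a46920c4d360d8130c935cd712c851284a358d5350d434c49348d2124d1
/-- a chunk -/
def tT2_9 (_ : ℕ) : ℕ := nat_lit 0x1745d405003fcff3f85d3f4fd3f05b3ecfb16cfa1685a17cf93e0f83dc5a164593d8f53d0f4164f33c8f23c4581705c160f015c573bcee3b4ed3b05615455170e53aceb154ea3a4e93a05439ce7150c8
/-- a chunk -/
def tT2_10 (_ : ℕ) : ℕ := nat_lit 0x47d1f478684751d1a11c19c6746d1a465194606645d1719916190644551444d13448644451118d1043d0f1890e4350d4306142d0b1850a180604250841d0728060419064145f1785e4110340902178a3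
/-- a chunk -/
def tT2_11 (_ : ℕ) : ℕ := nat_lit 0x1d0743fd374d9361d1354d1344cc734c9321cd311c4714c12f4b92e2dc711d8764b4701bc6f4b12b4a92a1bcba364d94a46e1b46d37d283c4f11b527499264946c1ac6b49123224894886a485211a520
/-- a chunk -/
def tT2_12 (_ : ℕ) : ℕ := nat_lit 0x1f87e53543415051f94c1f47d52d4a4310c5247c521481f1471ec7b51945511442107b50d432407a4e1381e8e81e47950941501404fc791e0782313e4f53d1e13c4ed3b4e877370dc1dd391fc7f4e075
/-- a chunk -/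
def tT2_13 (_ : ℕ) : ℕ := nat_lit 0x2288a584b5581603988a57d5f2248f304c1354885795e2215721886574d42d8b62195c2108456d5820c83569595615855c824e539208dc204813695655555550812008054d52545512015053d4f5387f
/-- a chunk -/
def tT2_14 (_ : ℕ) : ℕ := nat_lit 0x5c5715e0955dd7725576250945d5745cd733a894248925c9715c170248ec244914c56f5b96e31c91240905b5195b16c23cde2388e24cfe5ad6b5a88e2348d5a56859d6723566595655908c22c8b58d62
/-- a chunk -/
def tT2_15 (_ : ℕ) : ℕ := nat_lit 0x2789e644bf641903949e2749d63d8e6358d6309d2709c62d8a625892718861d8726d342689a61985611843cc9a60d83520996098226581260986017f5f97e260f725c975f57c2d0b45ec975e97a25979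
/-- a chunk -/
def tT2_16 (_ : ℕ) : ℕ := nat_lit 0x29ca7695a468da329d25298a65e907330cc688a6294a5685a0481202959f41104678a46759d2919c28ca34359b288a266902338ce664a242509660a165d9728596280a0419956519464c9f6058127d92
/-- a chunk -/
def tT2_17 (_ : ℕ) : ℕ := nat_lit 0x2bcaf53dbd6a9aa6f0af2b8ae6edba6e5b92b9b86ddb76d8ad6d5b52b5b42b0ac39db36c9b26c4ac2acab6c1ad6bdaf2adae6b5ad6b0aa6adab2a9aa2a4a9565a96a1a8440a92a0a869d5b699a62a112
/-- a chunk -/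
def tT2_18 (_ : ℕ) : ℕ := nat_lit 0x745d12edd02e8ba73dce4a128570b9735cd578b8731cc2e1cb2dcb7729c9721c849cb64b52d2d5c7719c62d1292ccb3715c44c531438b370dc35c4b2709c22c9c1701c0480b12c0b06fdbe4290a2c122
/-- a chunk -/
def tT2_19 (_ : ℕ) : ℕ := nat_lit 0x781e04f0c5689a2311df30cc35fdde775dd30d3f308c2731dc76ddb768c2354d5305d931cc74d4c0761d82fdd72f8be759d5685a12f9382f4bd3e599751d45bcbd2f0bc719d3495252f0e9749d250cbb
/-- a chunk -/
def tT2_20 (_ : ℕ) : ℕ := nat_lit 0x340d07d91f7d5f5530d066d9b740cf7d1f43394e7cdf37c8cd7c5f1335657c1f07bccc32ccb7b8f67b5ed32dec705c17acca7a9ea329e9324c97a1e7320c833d30799e6794c6791e4319e3314c5789e1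
/-- a chunk -/
def tT2_21 (_ : ℕ) : ℕ := nat_lit 0x374dd8320b36cdb8292c82609820da81e073652d81a06444d881605810d780e0335d13358d6362028060136cd680200351ff34cd3779fe7f5fd540d37f1fc638d27edfb349fa344d17e5f87ddf734554
/-- a chunk -/
def tT2_22 (_ : ℕ) : ℕ := nat_lit 0x892243a5333a0e888e226799e884e7398e6881a3390e487e1e8761d598e48721c86ce386a1a38e19388e2861c685e173896a384e152a1685615850e184e13848e0846113821083e0f650df378de83a0d
/-- a chunk -/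
def tT2_23 (_ : ℕ) : ℕ := nat_lit 0x6a5a93d13d3ccf38e6388de378d8f283a0e3ca35711c45e4f13c0f08d10d8ce333c17b8ca328c4ef3b8ee8c22f8ba2e3ba2d8b22c8aced621883b62a3b0ec8a62889e27704eb3bcef3ad243a8ea89a25
/-- a chunk -/
def tT2_24 (_ : ℕ) : ℕ := nat_lit 0x93e4f7e8fd93a4e3f5533f0fc9364c92e4b620fc92a4a924fb922483ee473e8fa91a455d1743e98c3e4f97624490e43908f8906413e2403dcf78fe3e3d8f68f5c23d4f58f237401003d63b8ea3a7f8f4
/-- a chunk -/
def tT2_25 (_ : ℕ) : ℕ := nat_lit 0x99665429a25b56d991094210898df098a62422615354d41e607adeb97d0697a5e4d1058f63d9750440d039725b96a5a40e599625840a57405019216195a56955017b1ec4025494e53948ff3f8fe94650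
/-- a chunk -/
def tT2_26 (_ : ℕ) : ℕ := nat_lit 0x459169e6419e278459b14551545e779da769d515451149d2734791e452725fd7f44e71449129c26f9ba6e9b511441109026c9ae6b9a90f9a66943dd84390e5b2684f93e67d0c4d53599d0b99a6642e27
/-- a chunk -/
def tT2_27 (_ : ℕ) : ℕ := nat_lit 0x9324ca3521a328c4868ba2a8a47e89a22886e11ea1e87a191d715c5476854711ca11cf91e47471bc46d1ba0e82a0681a011b4691a805f59fe7f46a7e84a124667d461189f27b9ea7a6b9188862196117
/-- a chunk -/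
def tT2_28 (_ : ℕ) : ℕ := nat_lit 0xa769d6e52ea729c4ba9b4b12ca6a0f4ad2ba653b9ce734ae98a5e97a592a7f9fe4aa954a529a5293a4a924a24849d2759d326e9ba8dd265ed7b49a3349124a469048d2360e8f5194648d72489229428e
/-- a chunk -/
def tT2_29 (_ : ℕ) : ℕ := nat_lit 0xab6ad4fa14ab2ac4f5554f13caaeaaaa6a94eea84e93aa9e20822087653aa56954e5da4dd3769187a9aa64dea5a3a8e7f136a92a44daa34cd3379e65a46914caa24c130a56a14bd2fa829fa7a9e4bd4d
/-- a chunk -/
def tT2_30 (_ : ℕ) : ℕ := nat_lit 0xae6b97b149afabe8ed4851d47af6bc6499251def6699aaed465154581e70aeaba516b99f27cae144adeb7511d4509427eeb6adab6a314250541ad6b4aaeab506b3acab29cd40ac6b1502b04fd3fabeae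
/-- a chunk -/
def tT2_31 (_ : ℕ) : ℕ := nat_lit 0xb2ecb55aca725c95558055154826ab54d53b09d654952889e6b26c95498f98260b2151b1ec75467f54150b1ac5b12c4b0d4f5394e6d5f45314c7d67952d4ba8ec2b06c1ab54b5294a86ac052549676bf
/-- a chunk -/
def tT2_32 (_ : ℕ) : ℕ := nat_lit 0x58561736d65f17ca1d60b56d5582d4b4ed3a755fb4ad257ed18ae2ba615e5755d819fd769dab295d5715cb41ea56d5bb3e095695aada23842109c55a56559af2ce8fe3f5626d55d57905b555956b36cc
/-- a chunk -/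
def tT2_33 (_ : ℕ) : ℕ := nat_lit 0xba6e9ba16ba12845aee75a96ab9ae55a569b925eb8ee3b89695a168b85f1b82e05a2dfb7adeb756759966b7251b6edb596ad5916489669b6ada77d6458d63ab2d96cdb3b616358962b5ec48120458ac7
/-- a chunk -/
def tT2_34 (_ : ℕ) : ℕ := nat_lit 0xbdef75dee45d976bdaf58fa3e5da315d575bd2be82a0abcd759fa7e5d2f2bc6f1b697388a225cef05c972682ef98e63bb9709f67d5c2155bd6fb06edbb2ec8156e8a2285b9fb6c1b0bad6dbaaea76d6c
/-- a chunk -/
def tT2_35 (_ : ℕ) : ℕ := nat_lit 0x80a02929848b62d613086619899983c1f078cd82c1b06605ee60180c1699c1304c0d7ec0b025fb015f57d609c59725cc017dbfeff5f2febf6fdbf17a5e5797123c5e178bee58beafa8b578be6f9be177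
/-- a chunk -/
def tT2_36 (_ : ℕ) : ℕ := nat_lit 0x63d8f9a6ee6398ec5714a5294ae98d6fdbf637136318c996b862d8bc4a3fc4711c418b6298a71d946e1b862b0fc3b0eb4d89c370d6270cc2f0b61e6a61986c2a9da7e9f9b186615856be01c2709615a6
/-- a chunk -/
def tT2_37 (_ : ℕ) : ℕ := nat_lit 0xc7f1fc6d9a66599872f89c671965988da36c7997aeebb65f0765996bd71dbcaf265a5d655958c9b0c731c6571b64d93c6b19c631895193c5f1764a5564591a16e994250a9591c5b1685d9094a52641c0
/-- a chunk -/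
def tT2_38 (_ : ℕ) : ℕ := nat_lit 0xcbb2e6a32d69da7cb32bcab2a809a7ca72969a42695a5afb28b42d0911a5691a48564fc9f2768f26c9725c45a1681a0c923d67d9f7524bc8f239859e89a26b259d6719cc8b21c8320672647e5f966efc
/-- a chunk -/
def tT2_39 (_ : ℕ) : ℕ := nat_lit 0x6d1b47e3378aa2a6d280896256ceeb7a1e8cd9b2cd7356cb346c5b1ccf32afebf7d1af6b9aea7abacc7316b6fb6b1accc32fb7edf9c9acb52d4ac1ab72dcb6ade2c0f036aa759765d6a604aaaaa7a9a8
/-- a chunk -/
def tT2_40 (_ : ℕ) : ℕ := nat_lit 0xc330c70b09759d6702dcbeefbd09bf6f9beacde5d07416fb026f5bdc5ed5d03406f73f6f1bccfb3d6edbbc3a0ecf33cba5bbcef3b6ea5387a1ece9b9ce739a5db7ccf336df386d9b6cd729c6f1b9f9b6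
/-- a chunk -/
def tT2_41 (_ : ℕ) : ℕ := nat_lit 0x90a427474e741d0c4e7873dcf90e0c739ceb2f4dd334c73b3aa6699d2dcda6a9a8e9ccaf2bc72e0a729cad2a83d2749a85ca765d9725d29364dd21c8b92e47234771dc7d1b4574dd3d11c3ccb3270f43
/-- a chunk -/
def tT2_42 (_ : ℕ) : ℕ := nat_lit 0xd735cd6de0d6b5a7833177ddf859f2779ded661378de37f5dd9c270776cf771dcd6357d5b5677305d5755c99db75dd7d52e8d4f5375e52755d5d4b16b3ace755f3d475174eddd435074a96d0f43d3dd1
/-- a chunk -/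
def tT2_43 (_ : ℕ) : ℕ := nat_lit 0x9e6797c2e37b9ee8b26bd9f67d99eda62987b60396e5bae5eb7a5e99e24d7bdef7a6bbb66d992de879de7d96f6795e579a05d9364d8de4d8b6279361d836078e8c789e2d7f5e785e1cab5dbbeef78674
/-- a chunk -/
def tT2_44 (_ : ℕ) : ℕ := nat_lit 0xcdb36aaa06a8ea380f72dc771dc200cbf2f803527fdffdbe9cdbb6e7fe087e9fadb663d6358c61f97e1f8842d8db36cda5f7c4f137df6b7d9f68476ad9765cfdf6da7697cdfc7c9f2da224bd2f47c6ec
/-- a chunk -/
def tT2_45 (_ : ℕ) : ℕ := nat_lit 0x9d675866e286218def60deb7aa8a18de779a3a1785a16daf7785214de229ae2b884ef1ddf77b1e12ddb76dd611dd37483f738360da2b509d2748371f8320cbde4682e0bd9f53d5f5782f0a9aa6acb607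
/-- a chunk -/
def tT2_46 (_ : ℕ) : ℕ := nat_lit 0xac2b089f11dd77593e26e0380892ff88e23b037fc93249f62188220d26e687e1f94e86de378a9a1fb86e187b54c3f0fbaa1ddfb7e8777da4e938be1c86e1baff6ddf37cb7e1bb9ee7de61a86619d5774
/-- a chunk -/
def tT2_47 (_ : ℕ) : ℕ := nat_lit 0x8d635bb78ae27898d7008d234d1f88e1f8798234a368d9de328c631e1b858c230e1333cff3f97a308be2fce6d3e0f83ade2ec67198ba5ab02c0e022ccdf37bca2b966598aaf38a629b6762e0b828a381
/-- a chunk -/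
def tT2_48 (_ : ℕ) : ℕ := nat_lit 0xb9ae691f1091a46c7e8791645cbb93a3e8f9173991244e4b91e4791b464390240a3f24c8b228fb908f23c96f8f8ee3bc9f3be3b8eaa23a8e639e376f9ca72dea398e238a2f42c771d8e38ce2f8bbfa36
/-- a chunk -/
def tT2_49 (_ : ℕ) : ℕ := nat_lit 0x97e5fb530ec6b1ae6a5cc070196b6595e57e2b68a028095e5fc7b1ee6656bd6f595b4695655cdec895254e628a94651a9370d5354e5e4ee5b9693b30b16c59329ee5795e424a92649bbe67e5394c3e49
/-- a chunk -/
def tT2_50 (_ : ℕ) : ℕ := nat_lit 0xb32cc9db979be6fe870de779d9bed0e4390cf66ee83a09bb7c9b66de7eb19b26ca0722cd3349af879a268e7b06d4b529a2a799e67e0b89baeebc266699264d439dc2308ca662e739c98b9b98661cd383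
/-- a chunk -/
def tT2_51 (_ : ℕ) : ℕ := nat_lit 0xbe2f8a26c3ea7a9df288ea3a8a232ca1a86e9fa6a1685c1ba5dcf73a6e84a0e83c32f7e93a4a0b5cbcef39ff18b3ecfe0e7c9ee7be6e81ca3289ef20a0a82be67aa42909eba39de77abba2e0781c5276
/-- a chunk -/
def tT2_52 (_ : ℕ) : ℕ := nat_lit 0xec3b0db2a0e2b8aa7fafd775da73a4a6e9bdcf4bebbaed329aeb7add7297a5a96eb2eae7b9ee2294eb3aca4efdeafabc6692e4b92a4b99e6398d5a91a82a0a43a0e8fa3c0a8da2e8be4faaa2689e1767
/-- a chunk -/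
def tT2_53 (_ : ℕ) : ℕ := nat_lit 0xecfb3edeb2edbb6acbb5d374dac7adabeafce34aed3b4e72afabaaed8764e5f97eceacb22c8e26a9b46d1aa7b2aa2a8e8344a9ea7e46e0c5715b9ea6a96a5b4b86c9b26b32a4a8aa2ea7b1a86a1b5723
/-- a chunk -/
def tT2_54 (_ : ℕ) : ℕ := nat_lit 0xeebbac12cbb2acae53b8ed7b5b8ec9b1ac6ebf4fd8761b16dbe4f93b1395b0ac2ddec6ee7b9c72c1af6bdd02d2e6f9bdcabdb0ec3c76b7ad6b5d6b63ee3b8d92b5ad2b4bc7b3daf6bad35aaceb3b7ba7
/-- a chunk -/
def tT2_55 (_ : ℕ) : ℕ := nat_lit 0xef7bdbb379b96e5e9b7be3f8fb97acb8ae2caf3eefbbedfadeb76dde3303b72dcdfee1ba2e8e06dab62d8b6f69b5ed7ef7b6bbaeeed2d7b5ad6b83bcceb3ab5b4ce2388b3b66b36cdebbbbeefbbc5acd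
/-- a chunk -/
def tT2_56 (_ : ℕ) : ℕ := nat_lit 0xdf77dc1f9ac1705e8f84e1785e9304eabaac077ac0300eaba1d3b4ebff1cbfafec9758dcb72bf748bf2fcca380edfb7d4efae378dbeb40e7f9fe3af9bdaf6c8336bc2f0ecb25cc330bc378bb6ede1ef4
/-- a chunk -/
def tT2_57 (_ : ℕ) : ℕ := nat_lit 0xe1384eaf2ad2348e5b27cb72dc8f98c8721e8b5bd9b66c8735ef3bce3f1ee97a5d171ad1344e7717d6759cbf15c5314eff9ec4b12dabb4c4310ec76edab6ac3741d1745ef30bc2b0ac2f55cb32cc2312
/-- a chunk -/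
def tT2_58 (_ : ℕ) : ℕ := nat_lit 0xe9fa7d3b6cd2f4bedb71d2b4ad77a8d1f47df749d1b46ea39fe338cd078bcfb3eeeb51cf73deb7abebfafd833ceffbfcf37ee6799cefbfce338d378dd0b42ccb8eecbb2cc79cec7b1e2f2ecaf2bd0f56
/-- a chunk -/
def tT2_59 (_ : ℕ) : ℕ := nat_lit 0xe9ba6e9796def7beefbddff7fefb76e6b9add392dc370dc7bedbf6fee3a9da368ec3b7d8f63dbbbae1b86ee75fd7b5eddbaedb76dd7bb0d6f5be5775d7f5fd8b59e8ba2d5f82e87a1d4794d3f4fed7b9
/-- a node -/
def tT2_s1_3 (c : ℕ) : ℕ := cond (Nat.ble c (nat_lit 1)) (tT2_1 c) (tT2_2 c)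
/-- a node -/
def tT2_s0_3 (c : ℕ) : ℕ := cond (Nat.ble c (nat_lit 0)) (tT2_0 c) (tT2_s1_3 c)
/-- a node -/
def tT2_s3_5 (c : ℕ) : ℕ := cond (Nat.ble c (nat_lit 3)) (tT2_3 c) (tT2_4 c)
/-- a node -/
def tT2_s5_7 (c : ℕ) : ℕ := cond (Nat.ble c (nat_lit 5)) (tT2_5 c) (tT2_6 c)
/-- a node -/
def tT2_s3_7 (c : ℕ) : ℕ := cond (Nat.ble c (nat_lit 4)) (tT2_s3_5 c) (tT2_s5_7 c)
/-- a node -/
def tT2_s0_7 (c : ℕ) : ℕ := cond (Nat.ble c (nat_lit 2)) (tT2_s0_3 c) (tT2_s3_7 c)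
/-- a node -/
def tT2_s7_9 (c : ℕ) : ℕ := cond (Nat.ble c (nat_lit 7)) (tT2_7 c) (tT2_8 c)
/-- a node -/
def tT2_s9_11 (c : ℕ) : ℕ := cond (Nat.ble c (nat_lit 9)) (tT2_9 c) (tT2_10 c)
/-- a node -/
def tT2_s7_11 (c : ℕ) : ℕ := cond (Nat.ble c (nat_lit 8)) (tT2_s7_9 c) (tT2_s9_11 c)
/-- a node -/
def tT2_s11_13 (c : ℕ) : ℕ := cond (Nat.ble c (nat_lit 11)) (tT2_11 c) (tT2_12 c)
/-- a node -/
def tT2_s13_15 (c : ℕ) : ℕ := cond (Nat.ble c (nat_lit 13)) (tT2_13 c) (tT2_14 c)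
/-- a node -/
def tT2_s11_15 (c : ℕ) : ℕ := cond (Nat.ble c (nat_lit 12)) (tT2_s11_13 c) (tT2_s13_15 c)
/-- a node -/
def tT2_s7_15 (c : ℕ) : ℕ := cond (Nat.ble c (nat_lit 10)) (tT2_s7_11 c) (tT2_s11_15 c)
/-- a node -/
def tT2_s0_15 (c : ℕ) : ℕ := cond (Nat.ble c (nat_lit 6)) (tT2_s0_7 c) (tT2_s7_15 c)
/-- a node -/
def tT2_s16_18 (c : ℕ) : ℕ := cond (Nat.ble c (nat_lit 16)) (tT2_16 c) (tT2_17 c)
/-- a node -/
def tT2_s15_18 (c : ℕ) : ℕ := cond (Nat.ble c (nat_lit 15)) (tT2_15 c) (tT2_s16_18 c)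
/-- a node -/
def tT2_s18_20 (c : ℕ) : ℕ := cond (Nat.ble c (nat_lit 18)) (tT2_18 c) (tT2_19 c)
/-- a node -/
def tT2_s20_22 (c : ℕ) : ℕ := cond (Nat.ble c (nat_lit 20)) (tT2_20 c) (tT2_21 c)
/-- a node -/
def tT2_s18_22 (c : ℕ) : ℕ := cond (Nat.ble c (nat_lit 19)) (tT2_s18_20 c) (tT2_s20_22 c)
/-- a node -/
def tT2_s15_22 (c : ℕ) : ℕ := cond (Nat.ble c (nat_lit 17)) (tT2_s15_18 c) (tT2_s18_22 c)
/-- a node -/
def tT2_s22_24 (c : ℕ) : ℕ := cond (Nat.ble c (nat_lit 22)) (tT2_22 c) (tT2_23 c)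
/-- a node -/
def tT2_s24_26 (c : ℕ) : ℕ := cond (Nat.ble c (nat_lit 24)) (tT2_24 c) (tT2_25 c)
/-- a node -/
def tT2_s22_26 (c : ℕ) : ℕ := cond (Nat.ble c (nat_lit 23)) (tT2_s22_24 c) (tT2_s24_26 c)
/-- a node -/
def tT2_s26_28 (c : ℕ) : ℕ := cond (Nat.ble c (nat_lit 26)) (tT2_26 c) (tT2_27 c)
/-- a node -/
def tT2_s28_30 (c : ℕ) : ℕ := cond (Nat.ble c (nat_lit 28)) (tT2_28 c) (tT2_29 c)
/-- a node -/
def tT2_s26_30 (c : ℕ) : ℕ := cond (Nat.ble c (nat_lit 27)) (tT2_s26_28 c) (tT2_s28_30 c)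
/-- a node -/
def tT2_s22_30 (c : ℕ) : ℕ := cond (Nat.ble c (nat_lit 25)) (tT2_s22_26 c) (tT2_s26_30 c)
/-- a node -/
def tT2_s15_30 (c : ℕ) : ℕ := cond (Nat.ble c (nat_lit 21)) (tT2_s15_22 c) (tT2_s22_30 c)
/-- a node -/
def tT2_s0_30 (c : ℕ) : ℕ := cond (Nat.ble c (nat_lit 14)) (tT2_s0_15 c) (tT2_s15_30 c)
/-- a node -/
def tT2_s31_33 (c : ℕ) : ℕ := cond (Nat.ble c (nat_lit 31)) (tT2_31 c) (tT2_32 c)
/-- a node -/
def tT2_s30_33 (c : ℕ) : ℕ := cond (Nat.ble c (nat_lit 30)) (tT2_30 c) (tT2_s31_33 c)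
/-- a node -/
def tT2_s33_35 (c : ℕ) : ℕ := cond (Nat.ble c (nat_lit 33)) (tT2_33 c) (tT2_34 c)
/-- a node -/
def tT2_s35_37 (c : ℕ) : ℕ := cond (Nat.ble c (nat_lit 35)) (tT2_35 c) (tT2_36 c)
/-- a node -/
def tT2_s33_37 (c : ℕ) : ℕ := cond (Nat.ble c (nat_lit 34)) (tT2_s33_35 c) (tT2_s35_37 c)
/-- a node -/
def tT2_s30_37 (c : ℕ) : ℕ := cond (Nat.ble c (nat_lit 32)) (tT2_s30_33 c) (tT2_s33_37 c)
/-- a node -/
def tT2_s37_39 (c : ℕ) : ℕ := cond (Nat.ble c (nat_lit 37)) (tT2_37 c) (tT2_38 c)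
/-- a node -/
def tT2_s39_41 (c : ℕ) : ℕ := cond (Nat.ble c (nat_lit 39)) (tT2_39 c) (tT2_40 c)
/-- a node -/
def tT2_s37_41 (c : ℕ) : ℕ := cond (Nat.ble c (nat_lit 38)) (tT2_s37_39 c) (tT2_s39_41 c)
/-- a node -/
def tT2_s41_43 (c : ℕ) : ℕ := cond (Nat.ble c (nat_lit 41)) (tT2_41 c) (tT2_42 c)
/-- a node -/
def tT2_s43_45 (c : ℕ) : ℕ := cond (Nat.ble c (nat_lit 43)) (tT2_43 c) (tT2_44 c)
/-- a node -/
def tT2_s41_45 (c : ℕ) : ℕ := cond (Nat.ble c (nat_lit 42)) (tT2_s41_43 c) (tT2_s43_45 c)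
/-- a node -/
def tT2_s37_45 (c : ℕ) : ℕ := cond (Nat.ble c (nat_lit 40)) (tT2_s37_41 c) (tT2_s41_45 c)
/-- a node -/
def tT2_s30_45 (c : ℕ) : ℕ := cond (Nat.ble c (nat_lit 36)) (tT2_s30_37 c) (tT2_s37_45 c)
/-- a node -/
def tT2_s46_48 (c : ℕ) : ℕ := cond (Nat.ble c (nat_lit 46)) (tT2_46 c) (tT2_47 c)
/-- a node -/
def tT2_s45_48 (c : ℕ) : ℕ := cond (Nat.ble c (nat_lit 45)) (tT2_45 c) (tT2_s46_48 c)
/-- a node -/
def tT2_s48_50 (c : ℕ) : ℕ := cond (Nat.ble c (nat_lit 48)) (tT2_48 c) (tT2_49 c)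
/-- a node -/
def tT2_s50_52 (c : ℕ) : ℕ := cond (Nat.ble c (nat_lit 50)) (tT2_50 c) (tT2_51 c)
/-- a node -/
def tT2_s48_52 (c : ℕ) : ℕ := cond (Nat.ble c (nat_lit 49)) (tT2_s48_50 c) (tT2_s50_52 c)
/-- a node -/
def tT2_s45_52 (c : ℕ) : ℕ := cond (Nat.ble c (nat_lit 47)) (tT2_s45_48 c) (tT2_s48_52 c)
/-- a node -/
def tT2_s52_54 (c : ℕ) : ℕ := cond (Nat.ble c (nat_lit 52)) (tT2_52 c) (tT2_53 c)
/-- a node -/
def tT2_s54_56 (c : ℕ) : ℕ := cond (Nat.ble c (nat_lit 54)) (tT2_54 c) (tT2_55 c)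
/-- a node -/
def tT2_s52_56 (c : ℕ) : ℕ := cond (Nat.ble c (nat_lit 53)) (tT2_s52_54 c) (tT2_s54_56 c)
/-- a node -/
def tT2_s56_58 (c : ℕ) : ℕ := cond (Nat.ble c (nat_lit 56)) (tT2_56 c) (tT2_57 c)
/-- a node -/
def tT2_s58_60 (c : ℕ) : ℕ := cond (Nat.ble c (nat_lit 58)) (tT2_58 c) (tT2_59 c)
/-- a node -/
def tT2_s56_60 (c : ℕ) : ℕ := cond (Nat.ble c (nat_lit 57)) (tT2_s56_58 c) (tT2_s58_60 c)
/-- a node -/
def tT2_s52_60 (c : ℕ) : ℕ := cond (Nat.ble c (nat_lit 55)) (tT2_s52_56 c) (tT2_s56_60 c)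
/-- a node -/
def tT2_s45_60 (c : ℕ) : ℕ := cond (Nat.ble c (nat_lit 51)) (tT2_s45_52 c) (tT2_s52_60 c)
/-- a node -/
def tT2_s30_60 (c : ℕ) : ℕ := cond (Nat.ble c (nat_lit 44)) (tT2_s30_45 c) (tT2_s45_60 c)
/-- a node -/
def tT2_s0_60 (c : ℕ) : ℕ := cond (Nat.ble c (nat_lit 29)) (tT2_s0_30 c) (tT2_s30_60 c)
/-- the coset table -/
def tT2 (i : ℕ) : ℕ := Nat.land (Nat.shiftRight (tT2_s0_60 (Nat.shiftRight i (nat_lit 6))) (Nat.mul (nat_lit 10) (Nat.land i (nat_lit 63)))) (nat_lit 1023)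

/-- the coset table -/
def T2 (c l : ℕ) : ℕ := tT2 (Nat.add (Nat.mul c (nat_lit 4)) l)

/-- a chunk -/
def tP2_0 (_ : ℕ) : ℕ := nat_lit 0x4104003e03d03a03803503403202e02d02a02802502402201d01c01a01901501401201000e00d00a008005004002000
/-- a chunk -/
def tP2_1 (_ : ℕ) : ℕ := nat_lit 0x8508408208007e07d07a07807407207106d06c06a06806606506206005d05c05905805605505104e04c04a049046044
/-- a chunk -/
def tP2_2 (_ : ℕ) : ℕ := nat_lit 0xce0cc0c90c80c60c10c00be0bd0b90b80b60b40b20b10ae0ac0aa0a90a60a40a109e09a09909509409208d08c08a089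
/-- a chunk -/
def tP2_3 (_ : ℕ) : ℕ := nat_lit 0x12112011d11a11911611111010a1081051041020fe0fd0fa0f80f50f40ed0e90e50e40e20e00de0dc0d90d80d60d20d1
/-- a chunk -/
def tP2_4 (_ : ℕ) : ℕ := nat_lit 0x17617516d16c16a16916616416116015e15915615415115014e14914814614514114013e13c13813513012c12a125124
/-- a chunk -/
def tP2_5 (_ : ℕ) : ℕ := nat_lit 0x1d21d01cd1cc1c61c51c11be1bc1b91b61b41b11ae1a91a41a11a019e19919819219118c18818518418218117d17a178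
/-- a chunk -/
def tP2_6 (_ : ℕ) : ℕ := nat_lit 0x22a22922422122021a21821220e2092082062052022001fd1fa1f81f61f11f01ee1ed1e91e81e61e51e21e01dd1dc1d5
/-- a chunk -/
def tP2_7 (_ : ℕ) : ℕ := nat_lit 0x27a27927627527227026c26a26926526426226025e25d25825525425225124a24824624524223c23a23923623423122e
/-- a chunk -/
def tP2_8 (_ : ℕ) : ℕ := nat_lit 0x2be2bd2ba2b82b52b42b22b12ae2ac2a92a82a62a52a22a029e29c29a29929629429129028e28a28928528428227d27c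
/-- a chunk -/
def tP2_9 (_ : ℕ) : ℕ := nat_lit 0x31531030e30c30a3093043012fc2fa2f82f62f52f22f02ed2ec2ea2e52e12e02de2d92d42d02ce2cd2c92c82c52c22c0
/-- a chunk -/
def tP2_10 (_ : ℕ) : ℕ := nat_lit 0x37636e36936436135d35c35a35935034e34d34934834634434234133d33833533433132e32c329328326322319318316
/-- a chunk -/
def tP2_11 (_ : ℕ) : ℕ := nat_lit 0x3d03ce3c93c83c53c23c03bd3ba3b83b53b43b23ad3ac3aa3a43a239d39a39239138d38c38a38838638538138037d37a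
/-- a chunk -/
def tP2_12 (_ : ℕ) : ℕ := nat_lit 0x42842542242041c41941541140e40c4084064054003fd3fa3f53f43f23f13ed3ec3ea3e83e63e13e03de3da3d63d43d1
/-- a chunk -/
def tP2_13 (_ : ℕ) : ℕ := nat_lit 0x48548447c47947547447247046e46d46a46846446246145d45a45845645545245044c44a44544243d43c43a43142d42c
/-- a chunk -/
def tP2_14 (_ : ℕ) : ℕ := nat_lit 0x4f84f44f24ec4ea4e94e44de4dc4d94d84ce4c84c24be4bc4b94b84b24ae4ac4a94a84a64a049e49949849248e48c48a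
/-- a chunk -/
def tP2_15 (_ : ℕ) : ℕ := nat_lit 0x55855455254e54a54854554454253d53a53252e52d52a52652552151e51c51951651451151050a5095065045015004fe
/-- a chunk -/
def tP2_16 (_ : ℕ) : ℕ := nat_lit 0x5ad5ac5aa5a65a55a25a059d59a59459259158e58d58a58858658158057d57c57957657557256e56a56956656055e55a
/-- a chunk -/
def tP2_17 (_ : ℕ) : ℕ := nat_lit 0x61161060d6096046025f95f85f65f55f05e95e65e25e15dd5dc5da5d85d65d55d05cd5cc5ca5c15c05be5b95b85b55b1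
/-- a chunk -/
def tP2_18 (_ : ℕ) : ℕ := nat_lit 0x66966666165d65c65a65865665464e64d64864664564164063e63a63563463262e62d62a62862562461c61a619616614
/-- a chunk -/
def tP2_19 (_ : ℕ) : ℕ := nat_lit 0x6d26d06cc6c96c86c66bd6ba6b46b26b16ad6ac6a86a46a16a069e69d69869669569268c68568267e67967567267066c
/-- a chunk -/
def tP2_20 (_ : ℕ) : ℕ := nat_lit 0x74474273e73a73873573172c72a72972472172071e70d70c7087006fd6fa6f86f66f46f26ee6ed6e86e56dd6dc6da6d9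
/-- a chunk -/
def tP2_21 (_ : ℕ) : ℕ := nat_lit 0x7c07ba7b57b47ad7a67a47a179e79679179078c78a78678478178077e77a77577477277076d75e75c75675474c748745
/-- a chunk -/
def tP2_22 (_ : ℕ) : ℕ := nat_lit 0x86486286185d85a85284c84984583c83683483282e82c81d81980c8018007fe7fc7ea7e57e27dd7dc7da7d97cc7ca7c4
/-- a chunk -/
def tP2_23 (_ : ℕ) : ℕ := nat_lit 0x8d68d48d28d18c98c68c28c18be8b98b88b18ad8a88a68a089c89989088e88588287e87d87887587487186e86d869866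
/-- a chunk -/
def tP2_24 (_ : ℕ) : ℕ := nat_lit 0x97e97196895e95c95995895695294693993893092992692591c91a91691491290d9028f88f28ee8e98e68e58e28e08d9
/-- a chunk -/
def tP2_25 (_ : ℕ) : ℕ := nat_lit 0xa24a21a20a1aa16a11a0ea089fc9f19ee9ec9e99e89de9d99d89be9bc9b99b89b69b29ac9a29a099e999992989988986
/-- a chunk -/
def tP2_26 (_ : ℕ) : ℕ := nat_lit 0xac9ac8ac4abeabdabaab1aa5aa4aa2a9ea99a96a91a8aa86a81a7ca70a6ea69a5da5aa51a4ca49a48a45a40a35a2ea26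
/-- a chunk -/
def tP2_27 (_ : ℕ) : ℕ := nat_lit 0xbb0b96b94b8ab79b76b72b69b62b5eb5db5ab58b38b36b35b2db2ab25b1ab14b10b0ab05af6af5addad6ad5ad2ad0ace
/-- a chunk -/
def tP2_28 (_ : ℕ) : ℕ := nat_lit 0xca9c9dc8cc86c84c79c69c5dc55c52c4ac42c34c2dc2ac20c1cc16c11c04c02bfcbfabf4bf2be9be8be5bdabc2bc0bb6
/-- a chunk -/
def tP2_29 (_ : ℕ) : ℕ := nat_lit 0xe59deedd9dd0dc2dbeda2d8ed7dd7ad78d6ed65d5cd44d3ed38d2ed2ad1ed1ad04cfacf6cf1cf0cecce2cc8cc4cb9cae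
/-- a node -/
def tP2_s1_3 (c : ℕ) : ℕ := cond (Nat.ble c (nat_lit 1)) (tP2_1 c) (tP2_2 c)
/-- a node -/
def tP2_s0_3 (c : ℕ) : ℕ := cond (Nat.ble c (nat_lit 0)) (tP2_0 c) (tP2_s1_3 c)
/-- a node -/
def tP2_s3_5 (c : ℕ) : ℕ := cond (Nat.ble c (nat_lit 3)) (tP2_3 c) (tP2_4 c)
/-- a node -/
def tP2_s5_7 (c : ℕ) : ℕ := cond (Nat.ble c (nat_lit 5)) (tP2_5 c) (tP2_6 c)
/-- a node -/
def tP2_s3_7 (c : ℕ) : ℕ := cond (Nat.ble c (nat_lit 4)) (tP2_s3_5 c) (tP2_s5_7 c)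
/-- a node -/
def tP2_s0_7 (c : ℕ) : ℕ := cond (Nat.ble c (nat_lit 2)) (tP2_s0_3 c) (tP2_s3_7 c)
/-- a node -/
def tP2_s7_9 (c : ℕ) : ℕ := cond (Nat.ble c (nat_lit 7)) (tP2_7 c) (tP2_8 c)
/-- a node -/
def tP2_s9_11 (c : ℕ) : ℕ := cond (Nat.ble c (nat_lit 9)) (tP2_9 c) (tP2_10 c)
/-- a node -/
def tP2_s7_11 (c : ℕ) : ℕ := cond (Nat.ble c (nat_lit 8)) (tP2_s7_9 c) (tP2_s9_11 c)
/-- a node -/
def tP2_s11_13 (c : ℕ) : ℕ := cond (Nat.ble c (nat_lit 11)) (tP2_11 c) (tP2_12 c)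
/-- a node -/
def tP2_s13_15 (c : ℕ) : ℕ := cond (Nat.ble c (nat_lit 13)) (tP2_13 c) (tP2_14 c)
/-- a node -/
def tP2_s11_15 (c : ℕ) : ℕ := cond (Nat.ble c (nat_lit 12)) (tP2_s11_13 c) (tP2_s13_15 c)
/-- a node -/
def tP2_s7_15 (c : ℕ) : ℕ := cond (Nat.ble c (nat_lit 10)) (tP2_s7_11 c) (tP2_s11_15 c)
/-- a node -/
def tP2_s0_15 (c : ℕ) : ℕ := cond (Nat.ble c (nat_lit 6)) (tP2_s0_7 c) (tP2_s7_15 c)
/-- a node -/
def tP2_s16_18 (c : ℕ) : ℕ := cond (Nat.ble c (nat_lit 16)) (tP2_16 c) (tP2_17 c)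
/-- a node -/
def tP2_s15_18 (c : ℕ) : ℕ := cond (Nat.ble c (nat_lit 15)) (tP2_15 c) (tP2_s16_18 c)
/-- a node -/
def tP2_s18_20 (c : ℕ) : ℕ := cond (Nat.ble c (nat_lit 18)) (tP2_18 c) (tP2_19 c)
/-- a node -/
def tP2_s20_22 (c : ℕ) : ℕ := cond (Nat.ble c (nat_lit 20)) (tP2_20 c) (tP2_21 c)
/-- a node -/
def tP2_s18_22 (c : ℕ) : ℕ := cond (Nat.ble c (nat_lit 19)) (tP2_s18_20 c) (tP2_s20_22 c)
/-- a node -/
def tP2_s15_22 (c : ℕ) : ℕ := cond (Nat.ble c (nat_lit 17)) (tP2_s15_18 c) (tP2_s18_22 c)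
/-- a node -/
def tP2_s22_24 (c : ℕ) : ℕ := cond (Nat.ble c (nat_lit 22)) (tP2_22 c) (tP2_23 c)
/-- a node -/
def tP2_s24_26 (c : ℕ) : ℕ := cond (Nat.ble c (nat_lit 24)) (tP2_24 c) (tP2_25 c)
/-- a node -/
def tP2_s22_26 (c : ℕ) : ℕ := cond (Nat.ble c (nat_lit 23)) (tP2_s22_24 c) (tP2_s24_26 c)
/-- a node -/
def tP2_s26_28 (c : ℕ) : ℕ := cond (Nat.ble c (nat_lit 26)) (tP2_26 c) (tP2_27 c)
/-- a node -/
def tP2_s28_30 (c : ℕ) : ℕ := cond (Nat.ble c (nat_lit 28)) (tP2_28 c) (tP2_29 c)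
/-- a node -/
def tP2_s26_30 (c : ℕ) : ℕ := cond (Nat.ble c (nat_lit 27)) (tP2_s26_28 c) (tP2_s28_30 c)
/-- a node -/
def tP2_s22_30 (c : ℕ) : ℕ := cond (Nat.ble c (nat_lit 25)) (tP2_s22_26 c) (tP2_s26_30 c)
/-- a node -/
def tP2_s15_30 (c : ℕ) : ℕ := cond (Nat.ble c (nat_lit 21)) (tP2_s15_22 c) (tP2_s22_30 c)
/-- a node -/
def tP2_s0_30 (c : ℕ) : ℕ := cond (Nat.ble c (nat_lit 14)) (tP2_s0_15 c) (tP2_s15_30 c)
/-- the tree -/
def tP2 (i : ℕ) : ℕ := Nat.land (Nat.shiftRight (tP2_s0_30 (Nat.shiftRight i (nat_lit 5))) (Nat.mul (nat_lit 12) (Nat.land i (nat_lit 31)))) (nat_lit 4095)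

/-- the tree -/
def par2 (c : ℕ) : ℕ × ℕ := (Nat.div (tP2 c) (nat_lit 4), Nat.mod (tP2 c) (nat_lit 4))

/-- a chunk -/
def rels2_0 (e : ℕ) : List ℕ := (cond (Nat.ble e (nat_lit 3)) (cond (Nat.ble e (nat_lit 1)) (cond (Nat.ble e (nat_lit 0)) [nat_lit 2, nat_lit 2] [nat_lit 0, nat_lit 0, nat_lit 0, nat_lit 0, nat_lit 0, nat_lit 0, nat_lit 0]) (cond (Nat.ble e (nat_lit 2)) [nat_lit 0, nat_lit 2, nat_lit 0, nat_lit 2, nat_lit 0, nat_lit 2, nat_lit 0, nat_lit 3, nat_lit 0, nat_lit 3, nat_lit 0, nat_lit 3] [nat_lit 0, nat_lit 0, nat_lit 0, nat_lit 0, nat_lit 0, nat_lit 0, nat_lit 2, nat_lit 1, nat_lit 3, nat_lit 1, nat_lit 3, nat_lit 1, nat_lit 3, nat_lit 1, nat_lit 3, nat_lit 1, nat_lit 2])) (cond (Nat.ble e (nat_lit 5)) (cond (Nat.ble e (nat_lit 4)) [nat_lit 0, nat_lit 0, nat_lit 0, nat_lit 0, nat_lit 0, nat_lit 0, nat_lit 3, nat_lit 1, nat_lit 2, nat_lit 1, nat_lit 2,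 nat_lit 1, nat_lit 2, nat_lit 1, nat_lit 2, nat_lit 1, nat_lit 3] [nat_lit 0, nat_lit 0, nat_lit 0, nat_lit 0, nat_lit 0, nat_lit 0, nat_lit 3, nat_lit 1, nat_lit 3, nat_lit 1, nat_lit 3, nat_lit 1, nat_lit 2, nat_lit 1, nat_lit 2, nat_lit 1, nat_lit 2]) (cond (Nat.ble e (nat_lit 6)) [nat_lit 0, nat_lit 0, nat_lit 2, nat_lit 0, nat_lit 0, nat_lit 3, nat_lit 1, nat_lit 3, nat_lit 1, nat_lit 3, nat_lit 0, nat_lit 0, nat_lit 2, nat_lit 0, nat_lit 2, nat_lit 1, nat_lit 2] [nat_lit 0, nat_lit 0, nat_lit 2, nat_lit 0, nat_lit 2, nat_lit 1, nat_lit 2, nat_lit 0, nat_lit 0, nat_lit 3, nat_lit 0, nat_lit 0, nat_lit 3, nat_lit 1, nat_lit 3, nat_lit 1, nat_lit 2])))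
/-- a chunk -/
def rels2_1 (e : ℕ) : List ℕ := (cond (Nat.ble e (nat_lit 11)) (cond (Nat.ble e (nat_lit 9)) (cond (Nat.ble e (nat_lit 8)) [nat_lit 0, nat_lit 0, nat_lit 2, nat_lit 0, nat_lit 0, nat_lit 2, nat_lit 1, nat_lit 2, nat_lit 1, nat_lit 2, nat_lit 0, nat_lit 0, nat_lit 3, nat_lit 0, nat_lit 3, nat_lit 1, nat_lit 3] [nat_lit 0, nat_lit 0, nat_lit 2, nat_lit 0, nat_lit 0, nat_lit 3, nat_lit 1, nat_lit 3, nat_lit 1, nat_lit 3, nat_lit 0, nat_lit 0, nat_lit 3, nat_lit 0, nat_lit 2, nat_lit 1, nat_lit 2]) (cond (Nat.ble e (nat_lit 10)) [nat_lit 0, nat_lit 0, nat_lit 2, nat_lit 0, nat_lit 2, nat_lit 1, nat_lit 2, nat_lit 0, nat_lit 0, nat_lit 3, nat_lit 0, nat_lit 0, nat_lit 3, nat_lit 1, nat_lit 3, nat_lit 1, nat_lit 3] [nat_lit 0, nat_lit 0, nat_lit 2, nat_lit 1, nat_lit 2, nat_lit 1, nat_lit 2, nat_lit 0, nat_lit 0, nat_lit 3, nat_lit 0, nat_lit 3, nat_lit 1,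 nat_lit 3, nat_lit 0, nat_lit 0, nat_lit 3])) (cond (Nat.ble e (nat_lit 13)) (cond (Nat.ble e (nat_lit 12)) [nat_lit 0, nat_lit 0, nat_lit 2, nat_lit 0, nat_lit 3, nat_lit 1, nat_lit 3, nat_lit 0, nat_lit 0, nat_lit 3, nat_lit 0, nat_lit 0, nat_lit 2, nat_lit 1, nat_lit 2, nat_lit 1, nat_lit 2] [nat_lit 0, nat_lit 0, nat_lit 0, nat_lit 0, nat_lit 0, nat_lit 0, nat_lit 2, nat_lit 1, nat_lit 2, nat_lit 1, nat_lit 2, nat_lit 1, nat_lit 3, nat_lit 1, nat_lit 3, nat_lit 1, nat_lit 3]) (cond (Nat.ble e (nat_lit 14)) [nat_lit 0, nat_lit 0, nat_lit 2, nat_lit 0, nat_lit 0, nat_lit 2, nat_lit 1, nat_lit 3, nat_lit 1, nat_lit 3, nat_lit 0, nat_lit 0, nat_lit 3, nat_lit 0, nat_lit 3, nat_lit 1, nat_lit 2] [nat_lit 0, nat_lit 0, nat_lit 2, nat_lit 0, nat_lit 0, nat_lit 2, nat_lit 1, nat_lit 2, nat_lit 1, nat_lit 3, nat_lit 0, nat_lit 0, nat_lit 3, nat_lit 0, nat_lit 3, nat_lit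 1, nat_lit 3])))
/-- a chunk -/
def rels2_2 (e : ℕ) : List ℕ := (cond (Nat.ble e (nat_lit 19)) (cond (Nat.ble e (nat_lit 17)) (cond (Nat.ble e (nat_lit 16)) [nat_lit 0, nat_lit 0, nat_lit 2, nat_lit 0, nat_lit 0, nat_lit 2, nat_lit 1, nat_lit 3, nat_lit 1, nat_lit 3, nat_lit 0, nat_lit 0, nat_lit 3, nat_lit 0, nat_lit 2, nat_lit 1, nat_lit 2] [nat_lit 0, nat_lit 0, nat_lit 2, nat_lit 0, nat_lit 3, nat_lit 1, nat_lit 3, nat_lit 0, nat_lit 0, nat_lit 3, nat_lit 0, nat_lit 0, nat_lit 3, nat_lit 1, nat_lit 2, nat_lit 1, nat_lit 2]) (cond (Nat.ble e (nat_lit 18)) [nat_lit 0, nat_lit 0, nat_lit 2, nat_lit 0, nat_lit 0, nat_lit 3, nat_lit 1, nat_lit 3, nat_lit 1, nat_lit 3, nat_lit 0, nat_lit 0, nat_lit 3, nat_lit 0, nat_lit 3, nat_lit 1, nat_lit 2] [nat_lit 0, nat_lit 0, nat_lit 2, nat_lit 0, nat_lit 0, nat_lit 2, nat_lit 1, nat_lit 2, nat_lit 1, nat_lit 3, nat_lit 0, nat_lit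 0, nat_lit 3, nat_lit 0, nat_lit 3, nat_lit 1, nat_lit 2])) (cond (Nat.ble e (nat_lit 21)) (cond (Nat.ble e (nat_lit 20)) [nat_lit 0, nat_lit 0, nat_lit 2, nat_lit 0, nat_lit 2, nat_lit 1, nat_lit 3, nat_lit 0, nat_lit 0, nat_lit 3, nat_lit 0, nat_lit 0, nat_lit 3, nat_lit 1, nat_lit 2, nat_lit 1, nat_lit 2] [nat_lit 0, nat_lit 0, nat_lit 2, nat_lit 0, nat_lit 2, nat_lit 1, nat_lit 2, nat_lit 0, nat_lit 0, nat_lit 3, nat_lit 0, nat_lit 0, nat_lit 3, nat_lit 1, nat_lit 2, nat_lit 1, nat_lit 2]) (cond (Nat.ble e (nat_lit 22)) [nat_lit 0, nat_lit 0, nat_lit 2, nat_lit 0, nat_lit 2, nat_lit 1, nat_lit 3, nat_lit 0, nat_lit 0, nat_lit 3, nat_lit 0, nat_lit 0, nat_lit 3, nat_lit 1, nat_lit 3, nat_lit 1, nat_lit 2] [nat_lit 0, nat_lit 0, nat_lit 0, nat_lit 2, nat_lit 0, nat_lit 2, nat_lit 0, nat_lit 2, nat_lit 0, nat_lit 0, nat_lit 0, nat_lit 3, nat_lit 0, nat_lit 3, nat_lit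 1, nat_lit 3, nat_lit 0, nat_lit 0, nat_lit 3])))
/-- a chunk -/
def rels2_3 (e : ℕ) : List ℕ := (cond (Nat.ble e (nat_lit 27)) (cond (Nat.ble e (nat_lit 25)) (cond (Nat.ble e (nat_lit 24)) [nat_lit 0, nat_lit 0, nat_lit 0, nat_lit 2, nat_lit 0, nat_lit 2, nat_lit 0, nat_lit 2, nat_lit 0, nat_lit 0, nat_lit 0, nat_lit 2, nat_lit 0, nat_lit 3, nat_lit 1, nat_lit 3, nat_lit 0, nat_lit 0, nat_lit 3] [nat_lit 0, nat_lit 0, nat_lit 0, nat_lit 2, nat_lit 0, nat_lit 3, nat_lit 1, nat_lit 3, nat_lit 0, nat_lit 0, nat_lit 3, nat_lit 0, nat_lit 0, nat_lit 0, nat_lit 3, nat_lit 0, nat_lit 2, nat_lit 0, nat_lit 2]) (cond (Nat.ble e (nat_lit 26)) [nat_lit 0, nat_lit 0, nat_lit 0, nat_lit 2, nat_lit 0, nat_lit 2, nat_lit 0, nat_lit 3, nat_lit 0, nat_lit 0, nat_lit 0, nat_lit 3, nat_lit 0, nat_lit 3, nat_lit 1, nat_lit 3, nat_lit 0, nat_lit 0, nat_lit 2] [nat_lit 0, nat_lit 0, nat_lit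 0, nat_lit 2, nat_lit 0, nat_lit 2, nat_lit 1, nat_lit 2, nat_lit 0, nat_lit 0, nat_lit 2, nat_lit 0, nat_lit 0, nat_lit 0, nat_lit 3, nat_lit 0, nat_lit 3, nat_lit 0, nat_lit 3])) (cond (Nat.ble e (nat_lit 29)) (cond (Nat.ble e (nat_lit 28)) [nat_lit 0, nat_lit 0, nat_lit 0, nat_lit 2, nat_lit 0, nat_lit 2, nat_lit 1, nat_lit 2, nat_lit 0, nat_lit 0, nat_lit 3, nat_lit 0, nat_lit 0, nat_lit 0, nat_lit 3, nat_lit 0, nat_lit 3, nat_lit 0, nat_lit 2] [nat_lit 0, nat_lit 0, nat_lit 0, nat_lit 2, nat_lit 0, nat_lit 3, nat_lit 0, nat_lit 3, nat_lit 0, nat_lit 0, nat_lit 0, nat_lit 3, nat_lit 0, nat_lit 3, nat_lit 1, nat_lit 2, nat_lit 0, nat_lit 0, nat_lit 2]) (cond (Nat.ble e (nat_lit 30)) [nat_lit 0, nat_lit 0, nat_lit 0, nat_lit 2, nat_lit 0, nat_lit 3, nat_lit 0, nat_lit 3, nat_lit 0, nat_lit 0, nat_lit 0, nat_lit 3, nat_lit 0, nat_lit 2, nat_lit 1, nat_lit 2, nat_lit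 0, nat_lit 0, nat_lit 2] [nat_lit 0, nat_lit 0, nat_lit 0, nat_lit 2, nat_lit 0, nat_lit 2, nat_lit 0, nat_lit 3, nat_lit 0, nat_lit 0, nat_lit 0, nat_lit 3, nat_lit 0, nat_lit 3, nat_lit 1, nat_lit 2, nat_lit 0, nat_lit 0, nat_lit 2])))
/-- a chunk -/
def rels2_4 (e : ℕ) : List ℕ := (cond (Nat.ble e (nat_lit 35)) (cond (Nat.ble e (nat_lit 33)) (cond (Nat.ble e (nat_lit 32)) [nat_lit 0, nat_lit 0, nat_lit 0, nat_lit 2, nat_lit 0, nat_lit 2, nat_lit 1, nat_lit 2, nat_lit 0, nat_lit 0, nat_lit 3, nat_lit 0, nat_lit 0, nat_lit 0, nat_lit 3, nat_lit 0, nat_lit 3, nat_lit 0, nat_lit 3] [nat_lit 0, nat_lit 0, nat_lit 0, nat_lit 2, nat_lit 0, nat_lit 2, nat_lit 1, nat_lit 3, nat_lit 0, nat_lit 0, nat_lit 3, nat_lit 0, nat_lit 0, nat_lit 0, nat_lit 3, nat_lit 0, nat_lit 2, nat_lit 0, nat_lit 2]) (cond (Nat.ble e (nat_lit 34)) [nat_lit 0, nat_lit 0, nat_lit 0, nat_lit 2, nat_lit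 0, nat_lit 2, nat_lit 1, nat_lit 3, nat_lit 0, nat_lit 0, nat_lit 3, nat_lit 0, nat_lit 0, nat_lit 0, nat_lit 3, nat_lit 0, nat_lit 3, nat_lit 0, nat_lit 2] [nat_lit 0, nat_lit 0, nat_lit 0, nat_lit 0, nat_lit 0, nat_lit 2, nat_lit 0, nat_lit 2, nat_lit 0, nat_lit 3, nat_lit 1, nat_lit 1, nat_lit 3, nat_lit 1, nat_lit 1, nat_lit 3, nat_lit 0, nat_lit 3, nat_lit 1, nat_lit 2])) (cond (Nat.ble e (nat_lit 37)) (cond (Nat.ble e (nat_lit 36)) [nat_lit 0, nat_lit 0, nat_lit 0, nat_lit 0, nat_lit 0, nat_lit 3, nat_lit 1, nat_lit 1, nat_lit 2, nat_lit 0, nat_lit 2, nat_lit 1, nat_lit 2, nat_lit 1, nat_lit 1, nat_lit 2, nat_lit 0, nat_lit 3, nat_lit 0, nat_lit 3] [nat_lit 0, nat_lit 0, nat_lit 0, nat_lit 0, nat_lit 0, nat_lit 3, nat_lit 1, nat_lit 1, nat_lit 3, nat_lit 0, nat_lit 3, nat_lit 1, nat_lit 2, nat_lit 1, nat_lit 1, nat_lit 2, nat_lit 0, nat_lit 2, nat_lit 0, nat_lit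 2]) (cond (Nat.ble e (nat_lit 38)) [nat_lit 0, nat_lit 0, nat_lit 0, nat_lit 0, nat_lit 0, nat_lit 3, nat_lit 0, nat_lit 3, nat_lit 1, nat_lit 3, nat_lit 1, nat_lit 1, nat_lit 2, nat_lit 0, nat_lit 2, nat_lit 0, nat_lit 2, nat_lit 1, nat_lit 1, nat_lit 2] [nat_lit 0, nat_lit 0, nat_lit 0, nat_lit 0, nat_lit 0, nat_lit 3, nat_lit 0, nat_lit 3, nat_lit 0, nat_lit 3, nat_lit 1, nat_lit 1, nat_lit 2, nat_lit 1, nat_lit 1, nat_lit 2, nat_lit 0, nat_lit 2, nat_lit 1, nat_lit 2])))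
/-- a chunk -/
def rels2_5 (e : ℕ) : List ℕ := [nat_lit 0, nat_lit 2, nat_lit 0, nat_lit 2, nat_lit 0, nat_lit 2, nat_lit 0, nat_lit 2, nat_lit 0, nat_lit 2, nat_lit 0, nat_lit 2]
/-- a leaf -/
def rels2_l0 (_ e : ℕ) : List ℕ := rels2_0 e
/-- a leaf -/
def rels2_l1 (_ e : ℕ) : List ℕ := rels2_1 e
/-- a leaf -/
def rels2_l2 (_ e : ℕ) : List ℕ := rels2_2 e
/-- a node -/
def rels2_s1_3 (c e : ℕ) : List ℕ := cond (Nat.ble c (nat_lit 1)) (rels2_l1 c e) (rels2_l2 c e)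
/-- a node -/
def rels2_s0_3 (c e : ℕ) : List ℕ := cond (Nat.ble c (nat_lit 0)) (rels2_l0 c e) (rels2_s1_3 c e)
/-- a leaf -/
def rels2_l3 (_ e : ℕ) : List ℕ := rels2_3 e
/-- a leaf -/
def rels2_l4 (_ e : ℕ) : List ℕ := rels2_4 e
/-- a leaf -/
def rels2_l5 (_ e : ℕ) : List ℕ := rels2_5 e
/-- a node -/
def rels2_s4_6 (c e : ℕ) : List ℕ := cond (Nat.ble c (nat_lit 4)) (rels2_l4 c e) (rels2_l5 c e)
/-- a node -/
def rels2_s3_6 (c e : ℕ) : List ℕ := cond (Nat.ble c (nat_lit 3)) (rels2_l3 c e) (rels2_s4_6 c e)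
/-- a node -/
def rels2_s0_6 (c e : ℕ) : List ℕ := cond (Nat.ble c (nat_lit 2)) (rels2_s0_3 c e) (rels2_s3_6 c e)
/-- the relators -/
def rels2 (e : ℕ) : List ℕ := rels2_s0_6 (Nat.shiftRight e (nat_lit 3)) e

/-- a chunk -/
def tp2_0 (_ : ℕ) : ℕ := nat_lit 0xbda261c9243be0b44eac7168d50820b90b51b62a649d63ac4198288825e6b9ea65c043611d392a96082287a5a5bc0c251c122066343e2e652b6595a9ba0b482c4eb0e53232af68121544e6bb815804aa7ada8b4e276192490874ba2a962cb21b42f9a844b500e844e6bcc405112c0a06b6c8c7846ae7d2c5bbab11b0d391ed07a8ad20a8158109bb2265384f392130ae96916ad1a500bb6a583e8c5d9121a8017452799882b8c09504b04356fb304499aa7945d4bca91558cb71d9020cad7a6a898022bad25522936d9f27400118aa4618f1bbcb453623b3a4c3cd28582a180886bdab49ca307b9ac5a928398a418820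
/-- a chunk -/
def tp2_1 (_ : ℕ) : ℕ := nat_lit 0xb900994e2d4416c73ea309847516d4bb4d591c0a1cc24430b67d04e5c609b9e869c12ab3e4b70eac40221209a5bc0c919c0e7a16a09232b568c995a2bb2955ba30249b698c41398af52500bcc45186ab6b08e940085268fb18f1bb8c25b0a124a6f68eb03d23650109b86955d8ca830ee23c081a62d99642b92a27cc0b804e362a2e424cd916d4bd9346484a40d736c2af218a774420bca82858cd1926a3b8ab4552f60031bbd359b4b272c2864227b500350886bb22081eb30bdcd5c8c450923452c5b852560cd66cdf03caab40804551d1bd8556112a58d016c28e9440779a65b86a090d2f9a08b828c769456651d1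
/-- a chunk -/
def tp2_2 (_ : ℕ) : ℕ := nat_lit 0xbcc4559127935ea404cc756301d2c0bc23579cd30b2ce1ac0820a92515a9b8c145a2afb402764d2d5163270886b9c407c2880b072b2eb3244ce525a5ba2357b84a9c0870c92d594d61d180bae82620041b66e0a932b54af818f1b92a963e90922cb1b8c7544a1981a2b8d2274ccc912ca440ab3c681681f5bcc4680e2821d4c0b6969152b755e0b86a59b8d65b10a2492d7c40785062b852093aa863ced540c4596369d062ba8d1810123858e7a0439d13669575bb40593cca0cc70432ab3c52eb5082bbca66362899e0a759230d40b90894bac158212fb0c819328e69453518f1bca8263ab022ec81be2751813095a9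
/-- a chunk -/
def tp2_3 (_ : ℕ) : ℕ := nat_lit 0xb92a985a2d1c82a3bc085d04e61666bb68083aac459641a8b3798470c649b90027daa192dc8532271a68d81666baa3461c4f71256584d38140d42475ba0497ae2a2426c0caa375016694e6bad31922818398ab341325443798e5b8c556040b6cce47c8b6424d0545d4bbca695aac38da19ae8e5445022500ba2b49b0c3858f27900150a2d595c9bbe8922c13820eab0e32088cd71595bad201bc56405536b8c78469225585bb6b15900794eca4428e608a1199e9b9c54586a37118d928cf824a8b0271bb685812b69b02e50c0894447599e9ba8021a0b00b6646592f59a8774655b92221ccaa7498f3aeb06a4c8082d4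
/-- a chunk -/
def tp2_4 (_ : ℕ) : ℕ := nat_lit 0xbad317b6b274d0480cb6550cc38022b8ca254c105b50eb31320c687219f5bcc4060e36685d0392885a4b2555e6bc8a975a93221eb530c718aad80031ba8d561d2e7c89644e21800ad58874bd84674aa72214d7b1331968b84420b91266aa2e99c6c942960804f45565bac05920d00b1ca7cd2d20aa3b50f1ba0a69ac4f611501daae0a40d944f4b9c159304b7a9b31a12e09a24816d4bacc991010730277ccb64522368955b9d314300d5048e9c0437d4cb916d4b8ca6904479a2162280f6d52b645d4b9ea092cac785a39da2e5512480906bcc06b423279daa0b123750a440975bc0d164e813b952220ad7a403b5562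
/-- a chunk -/
def tp2_5 (_ : ℕ) : ℕ := nat_lit 0xbb8b4532b63902d82ccf9445318109bc0c25be8a0b8ec25928180b36c655b84b584d32629cb7da84680481c4e6bc814820a324da162e27b184f72555b8682b4cae5350458d2f65412844e6bb0451ba8d91de1b2a33254d05a500bb6b11c04b9b88c90528500d67d0e5bca250bd239b48a72ccc400563d215bbca95c80e6a143b1c4499a2c0d614bdaa67852460dca6ce278028858a45b90117a2ab38616628529968d72466bda34986ae1c10752d2d6180478a45ba9205b69345861838b278a2439995b84c058e8a3b21223eb3b144d425d1b8c14784a465a4a6a0503d4d35c5c9bccd591043441c75bd2d0822c552c5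
/-- a chunk -/
def tp2_6 (_ : ℕ) : ℕ := nat_lit 0xbbcb484c0a721abb04c76445222475bb8557c8c35a9109841624687625a5b8e2079c4cb488e5c12d0969341955bcd31790ce8058d3a84b45403952c5bb234940a47594f38528580536d466b9ea0636889bc8a72c41194d692611ba0a265ab20b4679a9305c4ce251e0b9c465b6a478ec154a8e980a862611baa85938cbb1ded192306244808275bc23421ccb4599254c017a6ae195a2ba8159868464107b2c4d1962e925e6b9d20242a14594e64e8b7c4d2189a5b8634249235c1e74384d994cc556c0ba28072844585f380cc76952cb5651bc8b1858036cc8a62e8e426af39822bda205c92c9a14379ea46d0ae80826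
/-- a chunk -/
def tp2_7 (_ : ℕ) : ℕ := nat_lit 0xbb8a69062463d563c0085a6ad98874b9120934b34056e65843852a7545e6ba8c29b28120e123bcab4540eb25b1bbe35434503a9930c92e1d01659486bb6a293e8150e70b2c0c3a62e41885bba299840d5b087448b67d4ca80874b922042a8f0cdd2b352c388c385565bbc4940e30628e40caab694d675260bbd20b34b03856354a2e99aa860894baa35938165bced0c2846092819a65bb4d1b3eae385485c8109a4a365082bb920b0ccc83e6d3a284908ab55431b9c1142a9683a727b0ad208cb0d469b8c497862c24aca5c00839ab3695d4b853180ccb91d4c9b6b6200487d1c5ba04052ea16d9c47c0b31a692644e6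
/-- a chunk -/
def tp2_8 (_ : ℕ) : ℕ := nat_lit 0xba22070e87559a17acb28552c99882bc01459e3661248728c30d453795a9bdaa65cc0f19c30620ad5244e94494bb0d4448ab1d82a3bc506a40e24675bca857b127b354b71001188d045671bbaa2920a182ceab0cc49a62d78194b8526936af2226e8280c1d23639562bb8d11a2a75cda453cb68092190194ba8a97da236b96899e8c900c120a15b85255484c9ac686922781a8f756c0bb811634cb09e0a7d8439d0a822655b8cc571d2cb124f4404d982a15c554bc226606b33bd4492c0d708a3b5109b928662ab0b224d1b933780413c565b8cd16cca13c9885b92a25056801f5b86896d8d054c833a00f7544b61651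
/-- a chunk -/
def tp2_9 (_ : ℕ) : ℕ := nat_lit 0xbb055b39230aa6b6c284798a794500bbaa9830cd53d633c8b30d044b0111ba045b28cc6ac903ba930a40f1d651bb134b3c439a8286c2b27440721965bc8c553e8b61dc120e33b00486a615bbcb41c8043d82b4344e644d355609bccd10904f6ba0c50d28916a75d2c0ba9351a22184da473c165d0c761642b90a90cea86b94780e2f9184c582d4ba0d10b0ab7ce4469c161d050555c9bb6293a8017a2439ac44b50b075586bb8c97b0b01b54b912a1b468798102b9e91542ae205169bc52618035a5a5bcc407ca2a41c900b8ad5a683b1995ba29598cac828ef93a21b240d59882bb1319b68b08ec883cc47081239555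
/-- a chunk -/
def tp2_10 (_ : ℕ) : ℕ := nat_lit 0xbd8d55be331a82c8104d3d0ae90109bce825b8d26bcf61b008224b00c555bd84523cc151dcd64a301d69358109bb2862204fb2a436ae27802a19a5c5bbc11206933a20cb0d2e596ad90946ba0c09aaa33da0e7928b6152d08a51ba815220afb31c3685303d0cb9c642bcc512368e92c2f828ac1d4d638109bb4d471c0352d0f0d8ac255329c602b9220834489b14708cb6952ae5a5e6ba28583a2bb364499d2f19aa150980bcca03a930b22436aea479a21609d4ba8095cccd43c700b232b54a43d1c2b869551d32241a3458ac7184f5c660b84a2b1e8d839ec1ad28254d254660b8d265a0567860773413544b265494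
/-- a chunk -/
def tp2_11 (_ : ℕ) : ℕ := nat_lit 0xbc0a044cca73c6d95a843c52165562bca89b10081c1d37a84b654a16c4e6bce344412473e411d80a394cd60975b90a04362c540f37044bb54c3925f4bc8516a8cf09c6c242b69952e5d100baa26848a43cd8f72d230d45668114bb815534c3b3c8c3844b4169382651bb8540b4047a26b640c7b54a352651bb0c581e819b9ed41232524435d6c0ba2a67aca454e0c68c52702960c4e9bda80810481c8ee0bd2d5d62a61a65b85317b4103d864920b361a8a75562bb2267c0a809db2b39249880b55474bb8540a8ad65a0f5c92839a2325660b901464e237b952822ad388c1596c9bad256404ab05036922e950cf38275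
/-- a chunk -/
def tp2_12 (_ : ℕ) : ℕ := nat_lit 0xba2a0b2caa205ae848436192f9c4f4bc04990c166a08b0aa879c6af71985b90027c29650d9244cab3c4cd0a5d5bb2a241cc35066b2422d7a40e952c5b8d3143ab269dec52e968140499822baa225ce8868df03c80cb16a4099c9bcc54928a71da08206af6822c5a5c6b91209ae8f620f01b621714d695542bbcb19d9320adc4642aa688c33d100b84c06ba9024d523a12cb162b7d462bb814404a79da505be2a224cc68875bb0c991e2e7a8646a2ab08053852c5bb6a242d321b1e7538b6850d320031bac05b1e930a86c2412d7c6ae91902bce29b381269deb0b0c880aa41d145baa35b1c530ad0c238cf680b092474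
/-- a chunk -/
def tp2_13 (_ : ℕ) : ℕ := nat_lit 0xbc22219caf72d0a9c8c4b52ac081a9b9c45942935d94f606a871a241a5a0b8c09930ca6903341e967962b70a15bb6351ae909a89261cc87153678820bc0a61da2f42dcd9c8413812c25155bce8520c4e0ae4882a2768136655e6bc22951ca494c235b8cf65696401a2bdaa58492b190ef9b84d450ca64420b9ca65aab683c247300d926289d062bc8d5658af40da75c28a2245370031bbd3464cce5589241c018444b69475b9c51730b01ca682352a5d4cf082d4bb22569ea492d10784d31a44a752c0ba849410cc0cec37340f3c69281575bb8146bd28b28249b2ab814521c4e6ba8d19328b79ed3190a1702a8825a2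
/-- a chunk -/
def tp2_14 (_ : ℕ) : ℕ := nat_lit 0xbc9203bcd644c6e6062a688a45d215bd8513912b53db243a900d4ac19a60b8e89228b37358bb3ea1908c8800f1ba92578c566c973440cc75681244e0ba2807123699e505bcad0d44c51869baca27b40e922643d92351a8c85431bc01571cab4286fb4e2190a84619a9b9ea59c056549eb2328344401725a6b84117da8760da874cc48552a59642bc0b17480b1a90db4eac39924089f4bb05454a2f810e80acc37240db1675bca915b1212390f6d8078184355665b8c4640412b1e7052cad652a47c5c9ba8b55b4c898ec13c92e7c44485180b868540eadb1d449acd2608107a5d1bd8c5229289358b1bc01746933d602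
/-- a chunk -/
def tp2_15 (_ : ℕ) : ℕ := nat_lit 0xba84992cd673d830c0b33c6a868094bad2682a2179c76436ac7145395080bb405710c342d500da933c452655e9b90a6b362159e039304a45013725f5bcc1480444629e875ab26952b198f1bbaa9b4a907cd81512271980b415a2bda2654ca37b24e3b4085a4500d494b9cd46840a7da4b60c4e424b025671b868019d2cb216a810b2788ce6c675bc2220b4127298bb3cc49a6a8194f4bc9260a2232367072ca77d2b660142bc0d57b62c54d0458c1670932094f4bac091daaf4414d9b287094d2209d1bb4491aaab23a679062f850b640186ba9350b692740ebb20b32444f19980b8c060da2763d129aa905d44e225a5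
/-- a chunk -/
def tp2_16 (_ : ℕ) : ℕ := nat_lit 0xba934b20136acef238ac088d01c655b90a6732963a9a85ceb21c53078820bcea01a84b231a7940b609a2f425d4ba80284cd2604eb7a22d216b61d1c9bdaa53ca2a435c41c12f9828c58826b8d3483ca7759126a8c158aac20271bc8093da8f4346c740aa9d62459822bbea53900b55a72430c180a2e1d1a9ba0a960cc753e70b2e320880e6d095b9055b352b0c0e3728ac40293945e6bb6a95100e8206b9ca870944cb19f1bbc54b400470d8a9b4a70a4c85d651b9125b204b3c02f72ab26c4d360074bbca66c04c1850752c1375124b5651bcea9b040f5357240c4e650a4818f1bbe82b12b070593548c71c4a8581a9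
/-- a chunk -/
def tp2_17 (_ : ℕ) : ℕ := nat_lit 0xb8cb520632b29ec3ac4d824c8981d4b86b158d275419244ccfb08ad251c0bb4a261cc19bdd622c081d68a94609b90145a04c7366778530944aab5466bb8a6229233b1ab4044fb469095660b8e22240b27aace3aeb3082886a586bdaa65c85362903812276968e7a420bc8c2258b05347373e88646a758029b9eb11c2927a02c5912eb180a989a5bad2023a2309df0448ad98aaa61ad4bc01599e2cb3dc190cca4512b215a2bb2869ac0451d10b04ad18932745f5bd8d50b8b35310339130688127c574bbaa5258476347393c08524d00d171bc8d1506879adaf190ac82448702d5b8ca22322a6ca6159eb6700c87a614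
/-- a chunk -/
def tp2_18 (_ : ℕ) : ℕ := nat_lit 0xbcea26da30506433acae7d12860086b9c465b0ad54e4f0c12375228202d5b92a655a2879d9090c0d70a8b09669bce800be364316a9104d718a785469bd8c209e906bdd342aa3224b25c580bcc4523e8b638ed54232400d60d469bc0c57a92e9b581392ab40a92182d1bad348340f20ec7932aa41a3371422bb0a97ce2869c23b38ca8568b20a40b8406734aa61e129bd24b522345562bb4c5786933da4a1a2306240470975bc2850b007b2de49b44a7262891875b9d220a292531d0b10c36d63378165baa9163d277424bb0c13254cd40825bd8c522047586039322e6d533501f4bca29638a48596809e8f500d31d5a2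
/-- a chunk -/
def tp2_19 (_ : ℕ) : ℕ := nat_lit 0xbca8544ea4b2e0d19c01744ca7a582b86a692d283bd835401375056215b1b8cc273d246b167820b6546a190274bc0b54584e58daf61293900c13c549b86a580e925a8ec7d92d20808999d1b8cb4b044f5119244c075a6ad845c6bc0d1b212c7366f38c44952aa59420ba2a2b068d591921ce27518af70209b9e85410169ba037b2215552b68a46b8ca95380d940936584b79a8744435bb054b2d2a20e4e836a1444a7999e0bb8d4b492c9be013a00a1d62b209a5bca8943aa778c2c59230980cab15a2ba8c009e32241b3b204b750af62475bd84542c016a88784aa3624cf9d1d1b8e26684133918b43c4a95536815d4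
/-- a chunk -/
def tp2_20 (_ : ℕ) : ℕ := nat_lit 0xbbeb125a9051d93748a1188cd5a500bda3493c4e38e706accc516a120109bb405b128c0c1d33aaab40923919f1bce8291d2a1b60443a2fb1aac59420bb0547aaa71a24175810214cb9c5a9b9ca07ac538288c1862db24ce95514bcc46428af09172b0ea76440d825d4bb4115beb319dcc822965092191885bc28945a2b7346f3cca49180160955bbc545b53619e0172233502ac91486bd8115b0529b54f184a441aae824f4b8e340c0ab9d9486caaf2184e3a580bb0c069e922217074e211892a7d6c5ba8146905699e4f1c0ce0a62c41575bd9266b0087102a9bcab85623908f4bccd47c8ad758302222a5d40338989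
/-- a chunk -/
def tp2_21 (_ : ℕ) : ℕ := nat_lit 0xbb629384ce191937ca964541050965ba12693a2482ecd38c419d4aa7d180bc8a2204cd5c10c7ba839c527502d5bb0d153d2e3ca019a2b62028d18965b9ca980c0824dec0aeb2b08cd75151b84d55c0527b8931d8aa3822d62514bc8055b4cc540e17cd28b5223209d5ba055834ae90ec72328a5c4c178269bb6a5622241acee0bcd69504a82660bad2272a2d60cf3906af800d645085bc8450a2ae62cf01b4d37823625149ba0b56c8035be0eb1227618530a554bd926406a79b8705b0445028f6c645b9c0243d2d205569c2326168b1d5c6bd85460523729e4836ab9980744645bc2a06ae8c7d9c150cb24444721a69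
/-- a chunk -/
def tp2_22 (_ : ℕ) : ℕ := nat_lit 0xbca20706b33a2035304459a8d7a6c5ba80563c4e3ca0b44e8321aadb2431bb6347b0501b90b91c16099249d545b8d319a00182a4d3baacb50af58886b9051b212a9398f82c07696930d466ba229590b0735ea9868c90047b1875bccc04592c3aa0f74841196ad5d091bb0a2434cb0d8733be84946ae82540bcc55958d050da17ad2e380ac45091bbd255bab26cd561c2244504c080e6bd8055aaaf09c64620d29c68e6a602ba8b545a2c3cc8f736830981258a09bb0a92484e68d67820cab02817c675bb806204af54acc69e334569058869ba0451b9365cd416be2781aa495180bae250aa833da0f74aa86004d9a486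
/-- a chunk -/
def tp2_23 (_ : ℕ) : ℕ := nat_lit 0xbb8067daa36aa08984526152725171ba0c962aa45c2cd08e879c40e78a45bcd35190d0748e862c4a6c4af0d2c0bc2221bd21511b372296580ac39a55b9eb40b804859636492d51453445e6bb046522241bed2586909940d3a5d5bae800c0cab3068792ae3a44d91671b8c063a2ad9b1cb8592f944aa08894ba8b173523b3c9209e904005359995b86823c22e22acd78eac598b390109bb12523a326d9703ce8a1d4c178900bcab42052f5386c6c048980c75c6c5bb68582c445487373ccc40127b4435bc81174d213ae0a1da844144d7d586b84b47340f24d123aaacb184382571bca82b4c105a1a453d233c4a175586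
/-- a chunk -/
def tp2_24 (_ : ℕ) : ℕ := nat_lit 0xba8a6721275860c78c046d053b4655b9e8074cb6221aa5b2321d44f82426bac066422e21da34584a954af0a674bc0d1b2ea83c86e784ad2080a65269bbe828322d53903390019d532b1566bb6a084a960b26f50cab21927445c2bbc092328874e411da2750aad81566b8e35b1d2493dcc9a0cb8140d08954bbc466c8a1b326e5a8083d2241d609bca806be28b31649a8c1388ae1a615ba0466ba830bcf2b1130554b35c580bd8c022d2d0a0ea78cb285693645c2bbaa27b003829ab984c4b522791509b92a65ce2c93510784a77092a182d4bbca909ccb412536b296182aa809d1ba2b17aa8e9ac813b0cd8013618a45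
/-- a chunk -/
def tp2_25 (_ : ℕ) : ℕ := nat_lit 0xbacc98068a7b868b104c382b3945a5b8d343a0536b98b0bc169162a85486baa2564c037d89281cc1426ad5d1c2bc0d5384ac229f3b0c4e5d22d92500b86256492b1a9137b44e3d004856c6b9ea9b04c8838727ac4d2168c50271b8d205422144d767baa46d04791586bb280b3a211cd4b91050794c76a515b9cc55044c2410f6dab27512358271bb6a9b48aa41c8183233580c37d1c2bb8056cccb80de80da84655323c542ba8a91ac109b4326584e446a779894bad20b2a2c6a2503bea1988ae1d086b8cd4b1c52239ec0ae28800ad9a555bb12693a877846d2584b516b384500bbc4668e3259d56742ac401240d265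
/-- a chunk -/
def tp2_26 (_ : ℕ) : ℕ := nat_lit 0xb86a093e2c59dd0990ad4513619942bcca9234127056f3b04a19ab685111bd9351ba2483ce144cca9080d61574bbab19d8487c8246b0078192a1d165ba9260a00e61d701ccadb568f24642b8cb49b4c15a9883b8522452f856c0bb5260c2a472ac863c529c40b1d0e5bb0c578c41736d351008946ab3d209bb63454eb058deeb1cc19144c22500bb4c23ce2f1c981712b65d0b052500b9e80b36a1591e394d28514cc70a11b84a9b328e4354758c509c4d27d480b9d269b68f229881bab2580a1b0a11b9c46831240bd6374813546ad416d4bb8b13a0d368c8b0aab2b268f80182bcd353bcb0922ce6ac0c50a8121871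
/-- a chunk -/
def tp2_27 (_ : ℕ) : ℕ := nat_lit 0xbc0a222e8d0c86a79cc8b452e65660bb626238ac42ed00aab33812f1d242bc045236ab0d86f54d28900ce650f1bb2295a8168224471ea3098af989b4bb84664d23792d2804a7682885d551b8c056204b3cdae7caaa0c690b2486bb8b40cc562350792d307980365551bc9205c281438936da2a654a3399e2b9e860b5327314bb104f400b31d611bb4c921c166217298caa70a8f0c615bbe825d8ad1aa0e092b339a2c92500b86b124c4b83c76534089268c718e5bb63559cc4932c853cae9a68118202baaa278cab936d361288724c1800f1b8c452292c6ba6b0c0d6952a87c4e0b86341bcb642d936cab03a40e21942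
/-- a chunk -/
def tp2_28 (_ : ℕ) : ℕ := nat_lit 0xbc8c55aaae985e4b344c3a62385100bb92258cd0628f299288682367d425ba0a022e309b1ea7044d92683b54e6bb4a253a8bb3cf3206a3400cc84649b92a608c4a3b6ce7ad32844ac98114b9cb423128729a11ac4f9c4d2802d5ba222248b07b267704165d4c36a554bce85231238354143eab3c4d670242ba2a982a8c691761b8d37962138a40bb6897062461e6383ccab00b240975bc0c5730563ce485a80d0a6247d075bd920710cf6b0303a2835562b90a65bda256bc1282d847044a9d68339909baa2223a8f3b110684c3b152b90275bb4c908c44428ee63eb39022b816d4bb8d11c928541eb23013b1681389b5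
/-- a chunk -/
def tp2_29 (_ : ℕ) : ℕ := nat_lit 0xbb81594cd059c2c792964144d1c549ba8a6758487b46b64a21202b33d209bacd52344780ecf92293624aa74420b9135834b61ac2754c489180e645f4baab49b050190325d807418ae7c5a9bb282b28cb2225073ca1182a79a5b1bc846b122343a136ae8a616a1780e9bcd256400d3b8835222179a92b0975baa34404ac24cf0736abb0932199e0b912054aaf832680b4ae18a8bb18f1bbc4552d3674864820c76c6819d580bbcc9206b690dcc9a23058a8d39540bb8460ac083914d8328f924a39d6d1b9d267b0101902b9344a4522e996d5ba9225ca2c986c37b4ae39aa480114bbcb56b84bb2a720b28880124198f1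
/-- a chunk -/
def tp2_30 (_ : ℕ) : ℕ := nat_lit 0xbacc54068c25a5073c4a9d4071c5a9bba3558caa3c19224c0f6d13640826bb80998e2c836cf920a43d68a58826bc8b441133b3a036b0c15880a7d4f1bc28958cca3b8322584d7c6b340185bceb10a850b358f42ca41d007925c6ba0a05922164eca6c0ce926a77d062baa850cc04b350762e301d44f919c9b92b10be9284c6ab1cce5a44c401a5bce348484851c8f0b4ce1d40bb1589bca826cea138de85d80451a2e82585bba2678412b118a834ab9d12740875bc0a96accf63ac124aa340a2755260b86857b92bb1207634d29c40a45462bae267aa8893a61b1ea36880c82485bd8c53c2af92e6d7200118a8c22551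
/-- a chunk -/
def tp2_31 (_ : ℕ) : ℕ := nat_lit 0xbc2a973c41531671a0166d0c499651bbcc20ccad43247590167522a82475bac552400143e4e63627b50aa1a666bce8660eadb383052044595323c5e0b928282923385f6622329980e6d565bb22044850790ea08cab6d68eb1a69bbe89638b35408890c41b540b698f1bcea262e8d0bacf520c71c41221609bbc401ba8485961434b2526b3618f1bb234228033ba6b442b6794c1909a9b9eb45cc44b0df0548cc6a62870025b8ea27412b9b4e4b4a2f4028151586b8cd4b4ab36214123c107244d3c565bca9578d244383369c4a600d0b1571bc0c0090523a96cb3e2d1d0a89d5c9b84061acb099152622a7b504e7a5b1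
/-- a chunk -/
def tp2_32 (_ : ℕ) : ℕ := nat_lit 0xbaea57a93244dc180e276804cb5086bc0b409cccb39f320e2a5d448901a9bb2b10a0b251d70b4c0d1a444799d4bb12638ca823e6a5ba216d01695602ba2913d93208dac22ab07080b995e6bd8d19401359daf6112e408a11d554bad22720ca9402c992837d4b6680f1ba04622eb383d8ab34a195123744e0b9e9144123649e122ab6994cb709a0b90c95bc0e3cc6cb42b20c4aa451a2bbe35b104c0ba133acaa1d0c8925a0b92a25be8770e6c448d00962ab01a9baa2599cc4941a1b2d287d40e60874bae8282aac6c9161be21700d33a485b8c4579e306ad0e930d6082b322554bb0c209e2858d5383aaf915246d2c0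
/-- a chunk -/
def tp2_33 (_ : ℕ) : ℕ := nat_lit 0xbb229b48cd741e11a8482028759675bb402b1e2b4488c704b35568379a09bb8490bcb64348a92e8c9d623818e0b9ea09412b9aacf1a041744c4651a5bc00941e23539eb230d698aa1915b4b86a278cd0659b392284380aa5a5d1bca854104f68583b422e5a6aa980e6bb6a692a271bc28240569a4ae58194bb44582aa17cdd642e241992790194bccc05c8a8506c33b62e7a69020995b9c156922b54ecf0a283724b060a46b92b141d219b9eb830b65500369a42bb68942c4f60e47b10ca854b374420bad22236b61c0ef9b8b261a8a40031baa863d8ab7482c412336a40378a15ba22024cc70a9d692eb078a83625a5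
/-- a chunk -/
def tp2_34 (_ : ℕ) : ℕ := nat_lit 0xba285742276d9447ac131984c95429b90a21da320aa0d59eac7a68870266baeb43b04381036548d3700a86a5f1bb4c59ae2f659d01928a3812890835bacb123403b1e0f4492e650ca9d422bcc55222900aa4372c077c4d6615a9b8ca282aa893a760928b6992c780f1ba0d4830af5a9a395807245219d5c2b9c51b412f92e6a43a841980c0d5a5bb440b2cc74288e64293924a37c435b9d34b0c4f9ae4d43a21854ac21940b9e80642af920235b844516369a5a6bc0a261e24921760b80f552a3999a9b928060cb379d50958cd726a15c502ba28278ca1749735422c6813639895bca209c0d651dab205281d4ac751e2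
/-- a chunk -/
def tp2_35 (_ : ℕ) : ℕ := nat_lit 0xb9c092045043d4c734cbb16921d671bc0a624803586c7432b36c68e509e9bb4407c13654d7240eac71a240d0e5ba0d15ca8e6be03b32b32152708940b8e850d92c3a1f22400a58aae9c5a6bcd316128342d4183ccd396b270ac0bd93562cb3805af910ca450071c5c2bce8661d2352d1683e2e2081269435bb8b559cc19c88868c4a60136851f1b9ea61b80d93101b4124988aa5c5f4bae911d8487aa0d21c0c098b29d5c9bd8d150eb37ae477104865010095a9bd84020cd25b208386ae7c693515a9bcca6b3aa11b10b91d2f8500468951bb8d53ce9264161234081a4afb4542b922975aa87864b60cad5505038266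
/-- a chunk -/
def tp2_36 (_ : ℕ) : ℕ := nat_lit 0xbac461c1365050c6b8047d4b23c674b9040634b03a26a1ba3259a81b25f5bb4d1612923a0619b810588aab55e9bc840628d68116d386af724b31d111b9c1108eac8496e258ad7a4d345142ba922222367b9839c00139a8b69655ba051828d371c765b68c7812125645b85201ce886b24f240ab50aaeb44e6b90b582c03905b3620c7b452e78954bc934238ca98c305a00c7c6a7b09a5baa2021d36639f29c04d416ab09874b9c026a0ca959f360e840d63072565bd8a052e23931e43b4c19d690425c2bac116daa764c838228f918a1509c9b84a621e8b43dd253530b004c1c675ba9226c0c4705077aeb31c4ac902d4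
/-- a chunk -/
def tp2_37 (_ : ℕ) : ℕ := nat_lit 0xb8d26b422473e4a9a2a138a8d59580ba04072e321ce166aaa47992c094f4ba811b0eaf9c96d4068e608d0214e9ba0a25122e835eb9b0c13d532b5060bbaa6548b6090e882e83601337c5a2ba0c9610af69e415da3380aae55060bae35b4d2c921a43bc03550ce08a05bc125b3cc770e68636840880a5c655bb280690b69c1cf19eb25c52a40826bb4a07ca235a1509daa139924651c2bc811b34d341e032312a5d4a1789d4bc226b228b3906f74c0d924aa65422bbea6b0e90605cd5484b201283c665b8cd493c0a091b041d2e60aabb1671ba8d16aca83bac19c8437d52c80094ba2a26b0d01adea3840495133b15d1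
/-- a chunk -/
def tp2_38 (_ : ℕ) : ℕ := nat_lit 0xbc8067a0a41b99669e2b0d2b09a542bac543bea468e6e928c1b022882585bbe9552c121d9c4442336984139589baea63d84498dac92a907a4a8081d1bacc09beae391a3559289469008985bbc15b2e2a2486e8068d3a4c899582ba0c91aa8f0b5879d850580a475651baea99c8ce690ec55801788b044474b92263b4561857064ca875692525e0bca955d8a49a1ee51c0c6c52381822bbea920e925b8283c04cb14cd54660bb2823b4d27057024d281823679555b90a063c48b424b70e3351aa13a5b4b92351bcb28283359c4eb00c8625b4bac463baa30920f54a8d62628982c5b9c51638ad90c28542845d416999e9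
/-- a chunk -/
def tp2_39 (_ : ℕ) : ℕ := nat_lit 0xbc29168c4e0be7691008516a759989bc8152222d9c0237b92c59a87b1542bccb15baaf3c9b660d212029040946bd8457ca2e6b2703aea3550c822420bba957a0441c9566c121580c79c585bb6a584d2f1b94b910d60804764514bb81192c483ce03532af0952d252c6bbaa962c10985af1904a3c4a8952c6bc8c91aab3742c77b04d2140b0d111bbd316044374ac484c07696ab45146b86229bcb0934835a2b67012761954bacc00b05638e04939285168d9d5f1bd8a90b4d34314b392af7469280860b90459ca8e6ac6c5422f0d536400e6bcc490c8cf839b650e2b2500741595bd8a27b9326aa67804c3602a824574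
/-- a chunk -/
def tp2_40 (_ : ℕ) : ℕ := nat_lit 0xbd8d120c4171d48648ab78133855b4bd8061ce2c929cf81ca140a8d5d489b8c542041693d4c9b4ab819283c5d5ba126558a36add0392b308a32651e0b9eb124cca721b658c0f6513280825b84c598eac859af91128544475d1c0bc922220b368603b300e5d0c77c555bc0a93c813621440aea37522db09e6bbe860d92b712726b0a78444a1d500bd8c963e2d2424b50c537168708115b86a0628b241c6d9da305a684719e2ba2820922f6c8ec558b37241059875ba8c90ba286596384a8d388af20275ba0540bcc46b8ea60c13954b05c6c9bb2891ac016a0f2710aa9d4d0b45e2bad20232ae44e41858c76968a189f1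
/-- a chunk -/
def tp2_41 (_ : ℕ) : ℕ := nat_lit 0xb9ca95b84d94d560c0c4602a81d1f1bd93564c437a9d2836880c4a759880bce256beb0905443ac4cb00c875069bb22221ccf728726ae8899521856c0bb6895a0441b1c753c168562191666bbc1124cd2639563c0ab40a8d0a475b9c54559287927092cae6d4c308191bc1350c8cb19c966ce2c500a8751e2bb8d45b5303a9819904f1d4b640251bb68923ab350c30b20ac388cf5c640bac112584193d13636a3824ca3d1c5ba8a9240476a02e90e8c9d4cb7c6c0b9eb422caf6426a6ba36180d208909bb62972e87411567c0d3182b260825bb0a06c1335b88744a2fb0a8a0d466bcc516a8a17c2cc59ea391a88225c0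
/-- a chunk -/
def tp2_42 (_ : ℕ) : ℕ := nat_lit 0xbccb53ca235b9a453cd0b028140989b8c06384a884ad35904c7a68a6c5d5bac55204c371e6c44a967a40a845a5bbea690c47536cb23a21624b045260bdaa22400c1c9ee09ccd5d0b342551bb28624ea86c1761b92a3c4a178242b8c15984ac22da7940485512fb45c6bc849822b368c815b0ceb440f3d145b868298d2822e4f6c2ac500a7b19d1b913469ca354c30b22ab7022f61a42bdab142e8d0914798c526192f801c5bba8540d337c9646a8c78004cb5431bb4c251ca85b9e394e21b568c20209bca820bccc59dca24d23454b66c600ba0497a8cd60ce124e8e816365d640bd8515ce870bc7043132516ae69880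
/-- a chunk -/
def tp2_43 (_ : ℕ) : ℕ := nat_lit 0xbdaa019cc85cc2a23e8e8244d94585b9d359b0a8740726ac0f21a2150ad4bd9319c0c76c9eb0b0037168445542b9ca0991281c1d66aeaa60a8179a51b852659caf7124862a8380aadb4660bb2a085a2f44c8a92cce688a30d0e9bc8c55b810231169bd270d2a3509b1ba0a00d9236b0f271293544505d5e6bc05138e8824dea584ceb16ad90189b9e22b3eb090e68534045968c0a5c6bb0c07dab3241481ca217152b6d0e2bccb17accd0d9cc222879092355600ba2a568d325b216728477d23308086bd8056c128091c79bcd260a835d551bc8063ce905b9416bea3b162442582bb6b178cc7549737404c42404096d4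
/-- a chunk -/
def tp2_44 (_ : ℕ) : ℕ := nat_lit 0xb8d2059c419d9886b8cf254b284554bbd319a0ab3c94d832ae208030d2c6ba8510ac121c26db20c76552f71494bcaa60bc4e3ad8a1b4a44513698211ba8c942c53831e76b8161c6b209494bb415759287aa0b64e84094d23c462bbe8019c566124a6a0ab0a633819d5b912562a368490d3ce8e788011d566b840245a849b96f1b0c7526b069651bac141c22ab202c3904e796b26a666ba8a21c80d741ebb313321aa70c514b9cd484c126394b792b64262d18825bce8021d2f7217268e2a654d681422bb806b428f9306a41d2d9c44b09495ba0d5385369387363c4a6c68b21600b8e260b40f21e0b54e88954ae626c2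
/-- a chunk -/
def tp2_45 (_ : ℕ) : ℕ := nat_lit 0xbae34438b02364c0cd2a782a719ac2b8ca68062b6bd489c856252ac381c9b84d190e937910b61eaa688b6825c0bb8b583e839a2d26044a6c524598e0baa806d8a4986437ae2e3d4cc40a09bcc1163d2d238eb520b680ab209874bc0d4429245b1b21bab37c4a1382c2b9c5520e2c84de80d92d5969271940b84c53baad9218f82e965441322462bb63579ca35216e9d80c9504409a09ba8519acaf61d101840db52ae91889b8c150b6334298b3bd249184e852c5b900674cb263c6a69e2158930456d4b84115353340ecc71eb021a8f91562bbab43c22ab050d1cc4b9140f61889bbe29430139102e68e903d4d651562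
/-- a chunk -/
def tp2_46 (_ : ℕ) : ℕ := nat_lit 0xb8e82b122e848f3584cc7d40d51509b9006b22b2531cf09c4b6d0b382471ba8546100e848e144cb67a62d19975bcaa272e33820f65300f0a4ad21874bac457baad92a67206834452c802c6ba8a00b4ce91e0b1cd2820a2fb5195bba8953ccb64241258481d633694e0bbd26b3aa480c2b9b63260a88500e5ba8a0b4c413a1a493ea359a90625d1b91250a0136c9503d84f7522c5d466bce820b12b7a1c46c2a3b1a2750245bd80994cae50dec6aeb0388c144494baaa963e32838eb9a0d62500d19422bbd3142a937117268c0781ab660825bb4467b227b4a6b742a30d0a440149bb6a583053904835a22eb1a8778149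
/-- a chunk -/
def tp2_47 (_ : ℕ) : ℕ := nat_lit 0xbbcb13c0535aacd08c0c2268e45646b84141b227b3d7054cd2454ae6a482bbc1124aa1b2c6762848724cd99614bca3553d2c5b8e16ccc3b080825205ba0d5b0e306496d504ae9a40f3d082bb0b56ae967426119c08208ca945e9bbc491caa7206cb538ad61a3340214bc93573cca0b1679a2362144d1d200bb4455aa3245a041b8137a6813d586bc051184cf52dae9c8b62568c3a500bbea51b047b0490539289029369971bb8b19b2a7b0e120bccb6d12a20102bc2202584c3a1f308cad5a4ce95155bbc0221eab4067253236814cd1a5d4bc92224eaf1b9566c28b0c4a740186b900681e9662d0d54e217d52e18a45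
/-- a chunk -/
def tp2_48 (_ : ℕ) : ℕ := nat_lit 0xbd8c581ea85c88d0be2e1892a9d180bceb4404d690dd07900c5952d508f1bb2a083d21538f24104d9d223b1965ba051234103b14f704abb1aa395269bca221bcce3d9130b6846140b52615bbc115485361c8870cabb1a816d609bb8a25a0d2506071b6b37d13620191bb6a524ccc92e160aa2e18a8f3a500bb5316428143e4322eb3b00ca708e5b9ea583d331a2d25840a21a8d645c2baa34620075c02eb0d2499aad79642bc015234a3b056f430ca9092e9c4f4bb6a5640480c9e374d2bb180a250f1ba8067a12d9acf62322e8568119642b9234638cf3aa685b45219401b5609ba0c01ca936582b7b6ae3a4a480951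
/-- a chunk -/
def tp2_49 (_ : ℕ) : ℕ := nat_lit 0xbba8644a2b1be0a3daa19812c215a2bbc51540076cd761b8a44192165654bc22664d36235123a84e7d2a308165bcd203b8a86408f5b6b219a81b0951baeb46c80724d8e8222ab092179865ba8117ac4744e0c70cb26d521b1894b9ea57841692daa430c41d12e80a71ba0b1640cf91da35d92a2500e98835b9ca698e8c8110f9580d70a215d549b9d31958b0539617b4439d0c440195bcc0561eab40d567c04d2469271829bae226480e69c93458c18268f55465bbaa263c015424b20d33b50a86c4e6bb05123ea774c6d959285028181965bb93168cc441d567c28c594529d420b8e26838af3aec494c4a4512c68035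
/-- a chunk -/
def tp2_50 (_ : ℕ) : ℕ := nat_lit 0xbb40961e330b9f6920ab1d2aa21a02b8ea63b0b3939160be2b6880a22614b86207acc740e4c74e90226aab09a5bce953b4b61c9d06104f59a2150109bd8c23868a7b5731c0082262c71655b8c55838077d9646aa334268c91426bcca65344158ecc79e90946ae20109bc9269a01679d6d2063070a8c19555bb4a9b1cc85924c7cc01552a374602bbc15985369356722050744a365146b8e869ac4a205b071ca86022fb2655bbea55cc4d429d0092969012c3c466bba229accf605b019d282568a916c0b86a51c29652e6c6ca2f208ce38109bd8511baa77c08153008924cd9d165b8626942b3591cf61e8d5145618109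
/-- a chunk -/
def tp2_51 (_ : ℕ) : ℕ := nat_lit 0xbac092384c436500be879c4ca1d6c5ba9203b0ce404967ccb2856235d1a2bbaa538d2b9320a45a8d98a2f21820b92891ca21b41eb73053554c8680e5ba280b0cae09d4d5b23098aaf91889b9c510b6ae9298b1be8441413b2606bb0a992e24559c33868d854d3401e2bc8020ce837b50772eb0244b652586ba8146a224186137aca771aacb2642bccb17b40a61e040b852b54c35d109b8cd582853749165bd216968c244e0bad34786b040dca94c07244ccb15a2ba8a980e817496c43eb369856200f1b84d5858a498daa730077c4485d249bb80965aa19414720c4d7c4c89d165bda22638cd9408850d21782a799574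
/-- a chunk -/
def tp2_52 (_ : ℕ) : ℕ := nat_lit 0xb8e345840a7a20d21c53b26b2615c6bb0c559130748ea98c086d2afb4422bce912204b3b983540a17d536901a6b8e297b8526b10782c1651a9321435baa26232a871ec11c8137968b809a9bb28959e2354c28940cd708af256c0ba8c9406ab68dd0390acb02929c5e2b852223413449cfb1cb0550cc1d571b8e3525a8e5b0f380412788c8525a5ba934720a323ecc09e2b69ab380242b8cd174d305a1aa2301238aa1b15f4b90096acd6720e11ccb06468f90955bcaa268e2753e76810c80a68e60165baa8024ab07cd87758411952b69911bb9311b4d03a2766100f596a150a54bb4c2640af905035900eb552a9c4f4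
/-- a chunk -/
def tp2_53 (_ : ℕ) : ℕ := nat_lit 0xbb8a96862c24ceb52010b1a9278875bb0c06c8af806ce22c434568a3c669bdaa038ccf9ae4a720a48262c089b4bae957b6289ba44b1cd0524ac18820bb6b13ad367288860cb299a9078022bc286258ad1c83379c4c5d40e44549bd8c29280c6916899ea37c4a172614bb6a5990ca5c8f67300118928851f1ba8409a2b00906d5da8f6452e39a45bb409612a790d01b40ce5944a9d1f1b90a2849360ac6f54eac6c68e418e0b86856a84e9da0c90d272562b401e6b85311aa90b116762052996ae681e6baca943e30934960ce837184750195baca29b8cd91dea4052320290646d5bb22999ccb40d4183e8e200526d6c5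
/-- a chunk -/
def tp2_54 (_ : ℕ) : ℕ := nat_lit 0xbbd2244283634e124ccb502b674645bbcd59c1276aacb0ba846080344645bc8021b2a12355075a877962b42666bdab42062d5a20c78c4e3981352645b91251cc4c9394f804c76c6a85d2c0ba2a685a849b0ea70d2d90a21595e0bc84638e817320a9d92d4540479571b8ea93c80d73264858c140a8a7c565bb69163cc8b4a0b74c030892a3d485bbe269b44e9056851d30b028361495bbe34391369ad526204381aae095a0b912092aad642c873e21188c79d165ba8157904e80d0d3ccd66452191574b8531438ca9d96c93e87200b06d462bca8579e285866eb28436d53060086bae2554121430767b44771aa490274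
/-- a chunk -/
def tp2_55 (_ : ℕ) : ℕ := nat_lit 0xb841573c4c5c2474112d998a3b5151bbe228392a9a184b06a369692580e6bdab408c5063e6e428c758232215a9bbab11ae8c79152820076952198ac6ba8d1835247cd0772ca118ab695180bbcb13a2900906b6caaa600ce9a6c2bcd350da8b721f26c04a600a719891b9e2961290729611b40f996b640a46bc295b3e2e3cc685912d0804a61a45bc8055b2a40a1cf51e96808c36a671bb0b53c84a441e41b4ce0d0165c669ba855b2ca16a0ee93c0c9a63019894bc8117b2b63a9ab406841985072665b92a99ba2c41dea904435d01669a05b8d3144c0e5416d604c7b5044915f5bce2008e8c859ae2484b51927455e5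
/-- a chunk -/
def tp2_56 (_ : ℕ) : ℕ := nat_lit 0xbdaa964e2b821b27b80a088c719494baeb41840f5410e9b124b0a32395a6baea525a920a1f338c0d8192a609d1b8c5164a8d71c93558a17d41042566bb0a06869045a4b38eae7c4ca98889b90053b22382df65212e9d69269822bd8b49ae2d0bd9040cd2508043a5d5bb8402222a959e35cd2d094d03d195bac1599d24939e1b28c36963065102bceb46b92480c327d8ab600c838951b90056a2a75b9938484ab44cf0a474bd9351928c0a96881c527962d71a60baa91934c782c2e20cb6980487a595bb1269a28322ced7c22151412b09d5bbe20804d33b08858eaeb093269554bc23499c03548817b0b64544b719a9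
/-- a chunk -/
def tp2_57 (_ : ℕ) : ℕ := nat_lit 0xbaea083cc8b349209c4e1c69352585bc926b2c4a23d8e820a7682a19d071b91319a0475b1cd0caaa7969680066bbcd1612b3b41c190c085144b3d1a9bc8021a22c73ec484d2d3d0cb09555bae205368898ecc91c507952471835bc2227a28d9b99621c0b515321d426ba0d49c12e249eb530a33822db0835ba8b5621241bece0ac0798a8d84646bb682b100a59e53830c141623755e9bba91b0eb064ded511289144b39820b9d269d8ad1adc44404a9562178194bcc55834047a98775a8309a2b91509ba04619eacb066a83a2f9500469569bb2911904d79e48b28ab724109d426b8e35238aa9c9b059c4f62688b0026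
/-- a chunk -/
def tp2_58 (_ : ℕ) : ℕ := nat_lit 0xbb4065a0a32398795a8f846a150a69bba8695ab051d81790131a62d40965ba8a98062464ce872ccd902961d5e2bacd509e8a1b2d3790128162d72502b92b43d8b053d0c6ba2b0893218266bac091be2469dd3428a180ab2b5186ba220990cb5059681cb27892d75075bca25b41247306a99e8d402a1599e2bbd311d8aa8396d38692208d365500ba8541cd2c9588f836a8080c7595d1bce34b400c1850a3c84f71aa46a565bbca25a28a93667206b07180c1a6d1bbc0681eacb4c2d1ae2825052525c5bbc4063523b49ca84e280d0cb39495ba0c53ca8d706c484eac1c40b78949bbe2282e8eb343321c081d4d251589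
/-- a chunk -/
def tp2_59 (_ : ℕ) : ℕ := nat_lit 0xbc840b2d283c26e7aa8469a2161475bbeb15a13254da71c0a1700cc252c2bb8b558630429ed9900c950d638869bcc02b32af5b54740d3009a2475245bc120936889d86e5044b2162f654e6bb2a299e8e7b601520cb215321c6c0bba89b4c0f1b24441cc1816ab6c542bc1359a05250c8d63cd63d00b71431b9d31692b69a96f1b0a17029041a42bc2805d8a76064e43443224d37c555ba04668c0b9419609eaa7c69372485bba911912f6a96899cb260aa1b0206bac409368f24d0e830cab54a33c429bb2829bc164054321e2e8193269575b912598c417496f3b0106c69655506bbeb43c00c1a02db2c5321a2e51649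
/-- a node -/
def tp2_s1_3 (c : ℕ) : ℕ := cond (Nat.ble c (nat_lit 1)) (tp2_1 c) (tp2_2 c)
/-- a node -/
def tp2_s0_3 (c : ℕ) : ℕ := cond (Nat.ble c (nat_lit 0)) (tp2_0 c) (tp2_s1_3 c)
/-- a node -/
def tp2_s3_5 (c : ℕ) : ℕ := cond (Nat.ble c (nat_lit 3)) (tp2_3 c) (tp2_4 c)
/-- a node -/
def tp2_s5_7 (c : ℕ) : ℕ := cond (Nat.ble c (nat_lit 5)) (tp2_5 c) (tp2_6 c)
/-- a node -/
def tp2_s3_7 (c : ℕ) : ℕ := cond (Nat.ble c (nat_lit 4)) (tp2_s3_5 c) (tp2_s5_7 c)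
/-- a node -/
def tp2_s0_7 (c : ℕ) : ℕ := cond (Nat.ble c (nat_lit 2)) (tp2_s0_3 c) (tp2_s3_7 c)
/-- a node -/
def tp2_s7_9 (c : ℕ) : ℕ := cond (Nat.ble c (nat_lit 7)) (tp2_7 c) (tp2_8 c)
/-- a node -/
def tp2_s9_11 (c : ℕ) : ℕ := cond (Nat.ble c (nat_lit 9)) (tp2_9 c) (tp2_10 c)
/-- a node -/
def tp2_s7_11 (c : ℕ) : ℕ := cond (Nat.ble c (nat_lit 8)) (tp2_s7_9 c) (tp2_s9_11 c)
/-- a node -/
def tp2_s11_13 (c : ℕ) : ℕ := cond (Nat.ble c (nat_lit 11)) (tp2_11 c) (tp2_12 c)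
/-- a node -/
def tp2_s13_15 (c : ℕ) : ℕ := cond (Nat.ble c (nat_lit 13)) (tp2_13 c) (tp2_14 c)
/-- a node -/
def tp2_s11_15 (c : ℕ) : ℕ := cond (Nat.ble c (nat_lit 12)) (tp2_s11_13 c) (tp2_s13_15 c)
/-- a node -/
def tp2_s7_15 (c : ℕ) : ℕ := cond (Nat.ble c (nat_lit 10)) (tp2_s7_11 c) (tp2_s11_15 c)
/-- a node -/
def tp2_s0_15 (c : ℕ) : ℕ := cond (Nat.ble c (nat_lit 6)) (tp2_s0_7 c) (tp2_s7_15 c)
/-- a node -/
def tp2_s16_18 (c : ℕ) : ℕ := cond (Nat.ble c (nat_lit 16)) (tp2_16 c) (tp2_17 c)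
/-- a node -/
def tp2_s15_18 (c : ℕ) : ℕ := cond (Nat.ble c (nat_lit 15)) (tp2_15 c) (tp2_s16_18 c)
/-- a node -/
def tp2_s18_20 (c : ℕ) : ℕ := cond (Nat.ble c (nat_lit 18)) (tp2_18 c) (tp2_19 c)
/-- a node -/
def tp2_s20_22 (c : ℕ) : ℕ := cond (Nat.ble c (nat_lit 20)) (tp2_20 c) (tp2_21 c)
/-- a node -/
def tp2_s18_22 (c : ℕ) : ℕ := cond (Nat.ble c (nat_lit 19)) (tp2_s18_20 c) (tp2_s20_22 c)
/-- a node -/
def tp2_s15_22 (c : ℕ) : ℕ := cond (Nat.ble c (nat_lit 17)) (tp2_s15_18 c) (tp2_s18_22 c)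
/-- a node -/
def tp2_s22_24 (c : ℕ) : ℕ := cond (Nat.ble c (nat_lit 22)) (tp2_22 c) (tp2_23 c)
/-- a node -/
def tp2_s24_26 (c : ℕ) : ℕ := cond (Nat.ble c (nat_lit 24)) (tp2_24 c) (tp2_25 c)
/-- a node -/
def tp2_s22_26 (c : ℕ) : ℕ := cond (Nat.ble c (nat_lit 23)) (tp2_s22_24 c) (tp2_s24_26 c)
/-- a node -/
def tp2_s26_28 (c : ℕ) : ℕ := cond (Nat.ble c (nat_lit 26)) (tp2_26 c) (tp2_27 c)
/-- a node -/
def tp2_s28_30 (c : ℕ) : ℕ := cond (Nat.ble c (nat_lit 28)) (tp2_28 c) (tp2_29 c)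
/-- a node -/
def tp2_s26_30 (c : ℕ) : ℕ := cond (Nat.ble c (nat_lit 27)) (tp2_s26_28 c) (tp2_s28_30 c)
/-- a node -/
def tp2_s22_30 (c : ℕ) : ℕ := cond (Nat.ble c (nat_lit 25)) (tp2_s22_26 c) (tp2_s26_30 c)
/-- a node -/
def tp2_s15_30 (c : ℕ) : ℕ := cond (Nat.ble c (nat_lit 21)) (tp2_s15_22 c) (tp2_s22_30 c)
/-- a node -/
def tp2_s0_30 (c : ℕ) : ℕ := cond (Nat.ble c (nat_lit 14)) (tp2_s0_15 c) (tp2_s15_30 c)
/-- a node -/
def tp2_s31_33 (c : ℕ) : ℕ := cond (Nat.ble c (nat_lit 31)) (tp2_31 c) (tp2_32 c)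
/-- a node -/
def tp2_s30_33 (c : ℕ) : ℕ := cond (Nat.ble c (nat_lit 30)) (tp2_30 c) (tp2_s31_33 c)
/-- a node -/
def tp2_s33_35 (c : ℕ) : ℕ := cond (Nat.ble c (nat_lit 33)) (tp2_33 c) (tp2_34 c)
/-- a node -/
def tp2_s35_37 (c : ℕ) : ℕ := cond (Nat.ble c (nat_lit 35)) (tp2_35 c) (tp2_36 c)
/-- a node -/
def tp2_s33_37 (c : ℕ) : ℕ := cond (Nat.ble c (nat_lit 34)) (tp2_s33_35 c) (tp2_s35_37 c)
/-- a node -/
def tp2_s30_37 (c : ℕ) : ℕ := cond (Nat.ble c (nat_lit 32)) (tp2_s30_33 c) (tp2_s33_37 c)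
/-- a node -/
def tp2_s37_39 (c : ℕ) : ℕ := cond (Nat.ble c (nat_lit 37)) (tp2_37 c) (tp2_38 c)
/-- a node -/
def tp2_s39_41 (c : ℕ) : ℕ := cond (Nat.ble c (nat_lit 39)) (tp2_39 c) (tp2_40 c)
/-- a node -/
def tp2_s37_41 (c : ℕ) : ℕ := cond (Nat.ble c (nat_lit 38)) (tp2_s37_39 c) (tp2_s39_41 c)
/-- a node -/
def tp2_s41_43 (c : ℕ) : ℕ := cond (Nat.ble c (nat_lit 41)) (tp2_41 c) (tp2_42 c)
/-- a node -/
def tp2_s43_45 (c : ℕ) : ℕ := cond (Nat.ble c (nat_lit 43)) (tp2_43 c) (tp2_44 c)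
/-- a node -/
def tp2_s41_45 (c : ℕ) : ℕ := cond (Nat.ble c (nat_lit 42)) (tp2_s41_43 c) (tp2_s43_45 c)
/-- a node -/
def tp2_s37_45 (c : ℕ) : ℕ := cond (Nat.ble c (nat_lit 40)) (tp2_s37_41 c) (tp2_s41_45 c)
/-- a node -/
def tp2_s30_45 (c : ℕ) : ℕ := cond (Nat.ble c (nat_lit 36)) (tp2_s30_37 c) (tp2_s37_45 c)
/-- a node -/
def tp2_s46_48 (c : ℕ) : ℕ := cond (Nat.ble c (nat_lit 46)) (tp2_46 c) (tp2_47 c)
/-- a node -/
def tp2_s45_48 (c : ℕ) : ℕ := cond (Nat.ble c (nat_lit 45)) (tp2_45 c) (tp2_s46_48 c)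
/-- a node -/
def tp2_s48_50 (c : ℕ) : ℕ := cond (Nat.ble c (nat_lit 48)) (tp2_48 c) (tp2_49 c)
/-- a node -/
def tp2_s50_52 (c : ℕ) : ℕ := cond (Nat.ble c (nat_lit 50)) (tp2_50 c) (tp2_51 c)
/-- a node -/
def tp2_s48_52 (c : ℕ) : ℕ := cond (Nat.ble c (nat_lit 49)) (tp2_s48_50 c) (tp2_s50_52 c)
/-- a node -/
def tp2_s45_52 (c : ℕ) : ℕ := cond (Nat.ble c (nat_lit 47)) (tp2_s45_48 c) (tp2_s48_52 c)
/-- a node -/
def tp2_s52_54 (c : ℕ) : ℕ := cond (Nat.ble c (nat_lit 52)) (tp2_52 c) (tp2_53 c)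
/-- a node -/
def tp2_s54_56 (c : ℕ) : ℕ := cond (Nat.ble c (nat_lit 54)) (tp2_54 c) (tp2_55 c)
/-- a node -/
def tp2_s52_56 (c : ℕ) : ℕ := cond (Nat.ble c (nat_lit 53)) (tp2_s52_54 c) (tp2_s54_56 c)
/-- a node -/
def tp2_s56_58 (c : ℕ) : ℕ := cond (Nat.ble c (nat_lit 56)) (tp2_56 c) (tp2_57 c)
/-- a node -/
def tp2_s58_60 (c : ℕ) : ℕ := cond (Nat.ble c (nat_lit 58)) (tp2_58 c) (tp2_59 c)
/-- a node -/
def tp2_s56_60 (c : ℕ) : ℕ := cond (Nat.ble c (nat_lit 57)) (tp2_s56_58 c) (tp2_s58_60 c)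
/-- a node -/
def tp2_s52_60 (c : ℕ) : ℕ := cond (Nat.ble c (nat_lit 55)) (tp2_s52_56 c) (tp2_s56_60 c)
/-- a node -/
def tp2_s45_60 (c : ℕ) : ℕ := cond (Nat.ble c (nat_lit 51)) (tp2_s45_52 c) (tp2_s52_60 c)
/-- a node -/
def tp2_s30_60 (c : ℕ) : ℕ := cond (Nat.ble c (nat_lit 44)) (tp2_s30_45 c) (tp2_s45_60 c)
/-- a node -/
def tp2_s0_60 (c : ℕ) : ℕ := cond (Nat.ble c (nat_lit 29)) (tp2_s0_30 c) (tp2_s30_60 c)
/-- the representatives -/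
def tp2 (i : ℕ) : ℕ := Nat.land (Nat.shiftRight (tp2_s0_60 (Nat.shiftRight i (nat_lit 4))) (Nat.mul (nat_lit 120) (Nat.land i (nat_lit 15)))) (nat_lit 1329227995784915872903807060280344575)

/-- a chunk -/
def Wv2_0 (e : ℕ) : List ℕ := (cond (Nat.ble e (nat_lit 15)) (cond (Nat.ble e (nat_lit 7)) (cond (Nat.ble e (nat_lit 3)) (cond (Nat.ble e (nat_lit 1)) (cond (Nat.ble e (nat_lit 0)) [nat_lit 0] []) (cond (Nat.ble e (nat_lit 2)) [] [])) (cond (Nat.ble e (nat_lit 5)) (cond (Nat.ble e (nat_lit 4)) [] []) (cond (Nat.ble e (nat_lit 6)) [] []))) (cond (Nat.ble e (nat_lit 11)) (cond (Nat.ble e (nat_lit 9)) (cond (Nat.ble e (nat_lit 8)) [] []) (cond (Nat.ble e (nat_lit 10)) [] [])) (cond (Nat.ble e (nat_lit 13)) (cond (Nat.ble e (nat_lit 12)) [] []) (cond (Nat.ble e (nat_lit 14)) [] [])))) (cond (Nat.ble e (nat_lit 23)) (cond (Nat.ble e (nat_lit 19)) (cond (Nat.ble e (nat_lit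 17)) (cond (Nat.ble e (nat_lit 16)) [] []) (cond (Nat.ble e (nat_lit 18)) [] [])) (cond (Nat.ble e (nat_lit 21)) (cond (Nat.ble e (nat_lit 20)) [] []) (cond (Nat.ble e (nat_lit 22)) [] []))) (cond (Nat.ble e (nat_lit 27)) (cond (Nat.ble e (nat_lit 25)) (cond (Nat.ble e (nat_lit 24)) [] []) (cond (Nat.ble e (nat_lit 26)) [] [])) (cond (Nat.ble e (nat_lit 29)) (cond (Nat.ble e (nat_lit 28)) [] []) (cond (Nat.ble e (nat_lit 30)) [] [])))))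
/-- a chunk -/
def Wv2_1 (e : ℕ) : List ℕ := (cond (Nat.ble e (nat_lit 47)) (cond (Nat.ble e (nat_lit 39)) (cond (Nat.ble e (nat_lit 35)) (cond (Nat.ble e (nat_lit 33)) (cond (Nat.ble e (nat_lit 32)) [] []) (cond (Nat.ble e (nat_lit 34)) [] [])) (cond (Nat.ble e (nat_lit 37)) (cond (Nat.ble e (nat_lit 36)) [] []) (cond (Nat.ble e (nat_lit 38)) [] []))) (cond (Nat.ble e (nat_lit 43)) (cond (Nat.ble e (nat_lit 41)) (cond (Nat.ble e (nat_lit 40)) [nat_lit 1] []) (cond (Nat.ble e (nat_lit 42)) [] [])) (cond (Nat.ble e (nat_lit 45)) (cond (Nat.ble e (nat_lit 44)) [] []) (cond (Nat.ble e (nat_lit 46)) [] [])))) (cond (Nat.ble e (nat_lit 55)) (cond (Nat.ble e (nat_lit 51)) (cond (Nat.ble e (nat_lit 49)) (cond (Nat.ble e (nat_lit 48)) [] []) (cond (Nat.ble e (nat_lit 50)) [] [])) (cond (Nat.ble e (nat_lit 53)) (cond (Nat.ble e (nat_lit 52)) [] []) (cond (Nat.ble e (nat_lit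 54)) [] []))) (cond (Nat.ble e (nat_lit 59)) (cond (Nat.ble e (nat_lit 57)) (cond (Nat.ble e (nat_lit 56)) [] []) (cond (Nat.ble e (nat_lit 58)) [] [])) (cond (Nat.ble e (nat_lit 61)) (cond (Nat.ble e (nat_lit 60)) [] []) (cond (Nat.ble e (nat_lit 62)) [] [])))))
/-- a chunk -/
def Wv2_2 (e : ℕ) : List ℕ := (cond (Nat.ble e (nat_lit 79)) (cond (Nat.ble e (nat_lit 71)) (cond (Nat.ble e (nat_lit 67)) (cond (Nat.ble e (nat_lit 65)) (cond (Nat.ble e (nat_lit 64)) [] []) (cond (Nat.ble e (nat_lit 66)) [] [])) (cond (Nat.ble e (nat_lit 69)) (cond (Nat.ble e (nat_lit 68)) [] []) (cond (Nat.ble e (nat_lit 70)) [] []))) (cond (Nat.ble e (nat_lit 75)) (cond (Nat.ble e (nat_lit 73)) (cond (Nat.ble e (nat_lit 72)) [] []) (cond (Nat.ble e (nat_lit 74)) [] [])) (cond (Nat.ble e (nat_lit 77)) (cond (Nat.ble e (nat_lit 76)) [] []) (cond (Nat.ble e (nat_lit 78)) [] [])))) (cond (Nat.ble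 e (nat_lit 87)) (cond (Nat.ble e (nat_lit 83)) (cond (Nat.ble e (nat_lit 81)) (cond (Nat.ble e (nat_lit 80)) [nat_lit 2, nat_lit 1] []) (cond (Nat.ble e (nat_lit 82)) [] [])) (cond (Nat.ble e (nat_lit 85)) (cond (Nat.ble e (nat_lit 84)) [] []) (cond (Nat.ble e (nat_lit 86)) [] []))) (cond (Nat.ble e (nat_lit 91)) (cond (Nat.ble e (nat_lit 89)) (cond (Nat.ble e (nat_lit 88)) [] []) (cond (Nat.ble e (nat_lit 90)) [] [])) (cond (Nat.ble e (nat_lit 93)) (cond (Nat.ble e (nat_lit 92)) [] []) (cond (Nat.ble e (nat_lit 94)) [] [])))))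
/-- a chunk -/
def Wv2_3 (e : ℕ) : List ℕ := (cond (Nat.ble e (nat_lit 111)) (cond (Nat.ble e (nat_lit 103)) (cond (Nat.ble e (nat_lit 99)) (cond (Nat.ble e (nat_lit 97)) (cond (Nat.ble e (nat_lit 96)) [] []) (cond (Nat.ble e (nat_lit 98)) [] [])) (cond (Nat.ble e (nat_lit 101)) (cond (Nat.ble e (nat_lit 100)) [] []) (cond (Nat.ble e (nat_lit 102)) [] []))) (cond (Nat.ble e (nat_lit 107)) (cond (Nat.ble e (nat_lit 105)) (cond (Nat.ble e (nat_lit 104)) [] []) (cond (Nat.ble e (nat_lit 106)) [] [])) (cond (Nat.ble e (nat_lit 109)) (cond (Nat.ble e (nat_lit 108)) [] []) (cond (Nat.ble e (nat_lit 110)) [] [])))) (cond (Nat.ble e (nat_lit 119)) (cond (Nat.ble e (nat_lit 115)) (cond (Nat.ble e (nat_lit 113)) (cond (Nat.ble e (nat_lit 112)) [] []) (cond (Nat.ble e (nat_lit 114)) [] [])) (cond (Nat.ble e (nat_lit 117)) (cond (Nat.ble e (nat_lit 116)) [] [nat_lit 0, nat_lit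 2]) (cond (Nat.ble e (nat_lit 118)) [nat_lit 0, nat_lit 2, nat_lit 0] []))) (cond (Nat.ble e (nat_lit 123)) (cond (Nat.ble e (nat_lit 121)) (cond (Nat.ble e (nat_lit 120)) [] [nat_lit 3, nat_lit 1]) (cond (Nat.ble e (nat_lit 122)) [] [])) (cond (Nat.ble e (nat_lit 125)) (cond (Nat.ble e (nat_lit 124)) [] []) (cond (Nat.ble e (nat_lit 126)) [] [])))))
/-- a chunk -/
def Wv2_4 (e : ℕ) : List ℕ := (cond (Nat.ble e (nat_lit 143)) (cond (Nat.ble e (nat_lit 135)) (cond (Nat.ble e (nat_lit 131)) (cond (Nat.ble e (nat_lit 129)) (cond (Nat.ble e (nat_lit 128)) [] []) (cond (Nat.ble e (nat_lit 130)) [] [])) (cond (Nat.ble e (nat_lit 133)) (cond (Nat.ble e (nat_lit 132)) [] []) (cond (Nat.ble e (nat_lit 134)) [] [nat_lit 1, nat_lit 1]))) (cond (Nat.ble e (nat_lit 139)) (cond (Nat.ble e (nat_lit 137)) (cond (Nat.ble e (nat_lit 136)) [] []) (cond (Nat.ble e (nat_lit 138)) [nat_lit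 0, nat_lit 3] [])) (cond (Nat.ble e (nat_lit 141)) (cond (Nat.ble e (nat_lit 140)) [] []) (cond (Nat.ble e (nat_lit 142)) [] [nat_lit 0, nat_lit 0])))) (cond (Nat.ble e (nat_lit 151)) (cond (Nat.ble e (nat_lit 147)) (cond (Nat.ble e (nat_lit 145)) (cond (Nat.ble e (nat_lit 144)) [] []) (cond (Nat.ble e (nat_lit 146)) [] [])) (cond (Nat.ble e (nat_lit 149)) (cond (Nat.ble e (nat_lit 148)) [] []) (cond (Nat.ble e (nat_lit 150)) [] [nat_lit 1, nat_lit 1]))) (cond (Nat.ble e (nat_lit 155)) (cond (Nat.ble e (nat_lit 153)) (cond (Nat.ble e (nat_lit 152)) [] []) (cond (Nat.ble e (nat_lit 154)) [] [nat_lit 0, nat_lit 0])) (cond (Nat.ble e (nat_lit 157)) (cond (Nat.ble e (nat_lit 156)) [] []) (cond (Nat.ble e (nat_lit 158)) [] [])))))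
/-- a chunk -/
def Wv2_5 (e : ℕ) : List ℕ := (cond (Nat.ble e (nat_lit 175)) (cond (Nat.ble e (nat_lit 167)) (cond (Nat.ble e (nat_lit 163)) (cond (Nat.ble e (nat_lit 161)) (cond (Nat.ble e (nat_lit 160)) [] []) (cond (Nat.ble e (nat_lit 162)) [] [])) (cond (Nat.ble e (nat_lit 165)) (cond (Nat.ble e (nat_lit 164)) [] []) (cond (Nat.ble e (nat_lit 166)) [] []))) (cond (Nat.ble e (nat_lit 171)) (cond (Nat.ble e (nat_lit 169)) (cond (Nat.ble e (nat_lit 168)) [] []) (cond (Nat.ble e (nat_lit 170)) [] [])) (cond (Nat.ble e (nat_lit 173)) (cond (Nat.ble e (nat_lit 172)) [] [nat_lit 0, nat_lit 0]) (cond (Nat.ble e (nat_lit 174)) [] [])))) (cond (Nat.ble e (nat_lit 183)) (cond (Nat.ble e (nat_lit 179)) (cond (Nat.ble e (nat_lit 177)) (cond (Nat.ble e (nat_lit 176)) [] []) (cond (Nat.ble e (nat_lit 178)) [] [])) (cond (Nat.ble e (nat_lit 181)) (cond (Nat.ble e (nat_lit 180))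 [] []) (cond (Nat.ble e (nat_lit 182)) [] []))) (cond (Nat.ble e (nat_lit 187)) (cond (Nat.ble e (nat_lit 185)) (cond (Nat.ble e (nat_lit 184)) [nat_lit 1] [nat_lit 0]) (cond (Nat.ble e (nat_lit 186)) [] [])) (cond (Nat.ble e (nat_lit 189)) (cond (Nat.ble e (nat_lit 188)) [] []) (cond (Nat.ble e (nat_lit 190)) [] [])))))
/-- a chunk -/
def Wv2_6 (e : ℕ) : List ℕ := (cond (Nat.ble e (nat_lit 207)) (cond (Nat.ble e (nat_lit 199)) (cond (Nat.ble e (nat_lit 195)) (cond (Nat.ble e (nat_lit 193)) (cond (Nat.ble e (nat_lit 192)) [] []) (cond (Nat.ble e (nat_lit 194)) [] [])) (cond (Nat.ble e (nat_lit 197)) (cond (Nat.ble e (nat_lit 196)) [] []) (cond (Nat.ble e (nat_lit 198)) [] [nat_lit 1]))) (cond (Nat.ble e (nat_lit 203)) (cond (Nat.ble e (nat_lit 201)) (cond (Nat.ble e (nat_lit 200)) [] []) (cond (Nat.ble e (nat_lit 202)) [nat_lit 0] [nat_lit 1, nat_lit 1])) (cond (Nat.ble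 e (nat_lit 205)) (cond (Nat.ble e (nat_lit 204)) [] []) (cond (Nat.ble e (nat_lit 206)) [] [])))) (cond (Nat.ble e (nat_lit 215)) (cond (Nat.ble e (nat_lit 211)) (cond (Nat.ble e (nat_lit 209)) (cond (Nat.ble e (nat_lit 208)) [] []) (cond (Nat.ble e (nat_lit 210)) [] [nat_lit 1, nat_lit 1])) (cond (Nat.ble e (nat_lit 213)) (cond (Nat.ble e (nat_lit 212)) [] [nat_lit 0, nat_lit 3]) (cond (Nat.ble e (nat_lit 214)) [] []))) (cond (Nat.ble e (nat_lit 219)) (cond (Nat.ble e (nat_lit 217)) (cond (Nat.ble e (nat_lit 216)) [] [nat_lit 2, nat_lit 1]) (cond (Nat.ble e (nat_lit 218)) [] [])) (cond (Nat.ble e (nat_lit 221)) (cond (Nat.ble e (nat_lit 220)) [] [nat_lit 0]) (cond (Nat.ble e (nat_lit 222)) [] [])))))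
/-- a chunk -/
def Wv2_7 (e : ℕ) : List ℕ := (cond (Nat.ble e (nat_lit 239)) (cond (Nat.ble e (nat_lit 231)) (cond (Nat.ble e (nat_lit 227)) (cond (Nat.ble e (nat_lit 225)) (cond (Nat.ble e (nat_lit 224)) [] []) (cond (Nat.ble e (nat_lit 226)) [] [])) (cond (Nat.ble e (nat_lit 229)) (cond (Nat.ble e (nat_lit 228)) [nat_lit 0] []) (cond (Nat.ble e (nat_lit 230)) [] []))) (cond (Nat.ble e (nat_lit 235)) (cond (Nat.ble e (nat_lit 233)) (cond (Nat.ble e (nat_lit 232)) [] []) (cond (Nat.ble e (nat_lit 234)) [] [nat_lit 3, nat_lit 0])) (cond (Nat.ble e (nat_lit 237)) (cond (Nat.ble e (nat_lit 236)) [nat_lit 3, nat_lit 0] [nat_lit 0, nat_lit 2]) (cond (Nat.ble e (nat_lit 238)) [] [])))) (cond (Nat.ble e (nat_lit 247)) (cond (Nat.ble e (nat_lit 243)) (cond (Nat.ble e (nat_lit 241)) (cond (Nat.ble e (nat_lit 240)) [] []) (cond (Nat.ble e (nat_lit 242)) [] [])) (cond (Nat.ble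 e (nat_lit 245)) (cond (Nat.ble e (nat_lit 244)) [] []) (cond (Nat.ble e (nat_lit 246)) [] []))) (cond (Nat.ble e (nat_lit 251)) (cond (Nat.ble e (nat_lit 249)) (cond (Nat.ble e (nat_lit 248)) [] []) (cond (Nat.ble e (nat_lit 250)) [] [])) (cond (Nat.ble e (nat_lit 253)) (cond (Nat.ble e (nat_lit 252)) [] []) (cond (Nat.ble e (nat_lit 254)) [] [nat_lit 0, nat_lit 0])))))
/-- a chunk -/
def Wv2_8 (e : ℕ) : List ℕ := (cond (Nat.ble e (nat_lit 271)) (cond (Nat.ble e (nat_lit 263)) (cond (Nat.ble e (nat_lit 259)) (cond (Nat.ble e (nat_lit 257)) (cond (Nat.ble e (nat_lit 256)) [] []) (cond (Nat.ble e (nat_lit 258)) [] [])) (cond (Nat.ble e (nat_lit 261)) (cond (Nat.ble e (nat_lit 260)) [] []) (cond (Nat.ble e (nat_lit 262)) [] []))) (cond (Nat.ble e (nat_lit 267)) (cond (Nat.ble e (nat_lit 265)) (cond (Nat.ble e (nat_lit 264)) [nat_lit 2, nat_lit 1] []) (cond (Nat.ble e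 (nat_lit 266)) [] [nat_lit 0, nat_lit 0])) (cond (Nat.ble e (nat_lit 269)) (cond (Nat.ble e (nat_lit 268)) [] []) (cond (Nat.ble e (nat_lit 270)) [] [nat_lit 1, nat_lit 2])))) (cond (Nat.ble e (nat_lit 279)) (cond (Nat.ble e (nat_lit 275)) (cond (Nat.ble e (nat_lit 273)) (cond (Nat.ble e (nat_lit 272)) [] []) (cond (Nat.ble e (nat_lit 274)) [] [nat_lit 2, nat_lit 1])) (cond (Nat.ble e (nat_lit 277)) (cond (Nat.ble e (nat_lit 276)) [] []) (cond (Nat.ble e (nat_lit 278)) [] []))) (cond (Nat.ble e (nat_lit 283)) (cond (Nat.ble e (nat_lit 281)) (cond (Nat.ble e (nat_lit 280)) [nat_lit 0] []) (cond (Nat.ble e (nat_lit 282)) [] [])) (cond (Nat.ble e (nat_lit 285)) (cond (Nat.ble e (nat_lit 284)) [] []) (cond (Nat.ble e (nat_lit 286)) [] [])))))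
/-- a chunk -/
def Wv2_9 (e : ℕ) : List ℕ := (cond (Nat.ble e (nat_lit 303)) (cond (Nat.ble e (nat_lit 295)) (cond (Nat.ble e (nat_lit 291)) (cond (Nat.ble e (nat_lit 289)) (cond (Nat.ble e (nat_lit 288)) [nat_lit 0, nat_lit 2] []) (cond (Nat.ble e (nat_lit 290)) [] [])) (cond (Nat.ble e (nat_lit 293)) (cond (Nat.ble e (nat_lit 292)) [] []) (cond (Nat.ble e (nat_lit 294)) [] []))) (cond (Nat.ble e (nat_lit 299)) (cond (Nat.ble e (nat_lit 297)) (cond (Nat.ble e (nat_lit 296)) [] []) (cond (Nat.ble e (nat_lit 298)) [] [])) (cond (Nat.ble e (nat_lit 301)) (cond (Nat.ble e (nat_lit 300)) [] [nat_lit 1]) (cond (Nat.ble e (nat_lit 302)) [] [])))) (cond (Nat.ble e (nat_lit 311)) (cond (Nat.ble e (nat_lit 307)) (cond (Nat.ble e (nat_lit 305)) (cond (Nat.ble e (nat_lit 304)) [] []) (cond (Nat.ble e (nat_lit 306)) [] [])) (cond (Nat.ble e (nat_lit 309)) (cond (Nat.ble e (nat_lit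 308)) [] []) (cond (Nat.ble e (nat_lit 310)) [] []))) (cond (Nat.ble e (nat_lit 315)) (cond (Nat.ble e (nat_lit 313)) (cond (Nat.ble e (nat_lit 312)) [] []) (cond (Nat.ble e (nat_lit 314)) [] [])) (cond (Nat.ble e (nat_lit 317)) (cond (Nat.ble e (nat_lit 316)) [] []) (cond (Nat.ble e (nat_lit 318)) [] [])))))
/-- a chunk -/
def Wv2_10 (e : ℕ) : List ℕ := (cond (Nat.ble e (nat_lit 335)) (cond (Nat.ble e (nat_lit 327)) (cond (Nat.ble e (nat_lit 323)) (cond (Nat.ble e (nat_lit 321)) (cond (Nat.ble e (nat_lit 320)) [] []) (cond (Nat.ble e (nat_lit 322)) [] [])) (cond (Nat.ble e (nat_lit 325)) (cond (Nat.ble e (nat_lit 324)) [] []) (cond (Nat.ble e (nat_lit 326)) [] []))) (cond (Nat.ble e (nat_lit 331)) (cond (Nat.ble e (nat_lit 329)) (cond (Nat.ble e (nat_lit 328)) [] []) (cond (Nat.ble e (nat_lit 330)) [] [])) (cond (Nat.ble e (nat_lit 333)) (cond (Nat.ble e (nat_lit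 332)) [] []) (cond (Nat.ble e (nat_lit 334)) [] [])))) (cond (Nat.ble e (nat_lit 343)) (cond (Nat.ble e (nat_lit 339)) (cond (Nat.ble e (nat_lit 337)) (cond (Nat.ble e (nat_lit 336)) [] []) (cond (Nat.ble e (nat_lit 338)) [] [])) (cond (Nat.ble e (nat_lit 341)) (cond (Nat.ble e (nat_lit 340)) [] []) (cond (Nat.ble e (nat_lit 342)) [] []))) (cond (Nat.ble e (nat_lit 347)) (cond (Nat.ble e (nat_lit 345)) (cond (Nat.ble e (nat_lit 344)) [] []) (cond (Nat.ble e (nat_lit 346)) [] [])) (cond (Nat.ble e (nat_lit 349)) (cond (Nat.ble e (nat_lit 348)) [] []) (cond (Nat.ble e (nat_lit 350)) [] [])))))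
/-- a chunk -/
def Wv2_11 (e : ℕ) : List ℕ := (cond (Nat.ble e (nat_lit 367)) (cond (Nat.ble e (nat_lit 359)) (cond (Nat.ble e (nat_lit 355)) (cond (Nat.ble e (nat_lit 353)) (cond (Nat.ble e (nat_lit 352)) [] []) (cond (Nat.ble e (nat_lit 354)) [] [nat_lit 0, nat_lit 3])) (cond (Nat.ble e (nat_lit 357)) (cond (Nat.ble e (nat_lit 356)) [] []) (cond (Nat.ble e (nat_lit 358)) [] []))) (cond (Nat.ble e (nat_lit 363)) (cond (Nat.ble e (nat_lit 361)) (cond (Nat.ble e (nat_lit 360)) [] [nat_lit 1, nat_lit 1]) (cond (Nat.ble e (nat_lit 362)) [] [])) (cond (Nat.ble e (nat_lit 365)) (cond (Nat.ble e (nat_lit 364)) [] [nat_lit 0]) (cond (Nat.ble e (nat_lit 366)) [] [])))) (cond (Nat.ble e (nat_lit 375)) (cond (Nat.ble e (nat_lit 371)) (cond (Nat.ble e (nat_lit 369)) (cond (Nat.ble e (nat_lit 368)) [] []) (cond (Nat.ble e (nat_lit 370)) [] [nat_lit 3, nat_lit 1])) (cond (Nat.ble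 e (nat_lit 373)) (cond (Nat.ble e (nat_lit 372)) [] []) (cond (Nat.ble e (nat_lit 374)) [] []))) (cond (Nat.ble e (nat_lit 379)) (cond (Nat.ble e (nat_lit 377)) (cond (Nat.ble e (nat_lit 376)) [] []) (cond (Nat.ble e (nat_lit 378)) [] [])) (cond (Nat.ble e (nat_lit 381)) (cond (Nat.ble e (nat_lit 380)) [] []) (cond (Nat.ble e (nat_lit 382)) [] [])))))
/-- a chunk -/
def Wv2_12 (e : ℕ) : List ℕ := (cond (Nat.ble e (nat_lit 399)) (cond (Nat.ble e (nat_lit 391)) (cond (Nat.ble e (nat_lit 387)) (cond (Nat.ble e (nat_lit 385)) (cond (Nat.ble e (nat_lit 384)) [] [nat_lit 1, nat_lit 1]) (cond (Nat.ble e (nat_lit 386)) [] [nat_lit 3, nat_lit 0])) (cond (Nat.ble e (nat_lit 389)) (cond (Nat.ble e (nat_lit 388)) [] []) (cond (Nat.ble e (nat_lit 390)) [] []))) (cond (Nat.ble e (nat_lit 395)) (cond (Nat.ble e (nat_lit 393)) (cond (Nat.ble e (nat_lit 392)) [] []) (cond (Nat.ble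 e (nat_lit 394)) [] [])) (cond (Nat.ble e (nat_lit 397)) (cond (Nat.ble e (nat_lit 396)) [] []) (cond (Nat.ble e (nat_lit 398)) [nat_lit 3, nat_lit 1] [nat_lit 0, nat_lit 0])))) (cond (Nat.ble e (nat_lit 407)) (cond (Nat.ble e (nat_lit 403)) (cond (Nat.ble e (nat_lit 401)) (cond (Nat.ble e (nat_lit 400)) [] []) (cond (Nat.ble e (nat_lit 402)) [] [])) (cond (Nat.ble e (nat_lit 405)) (cond (Nat.ble e (nat_lit 404)) [] []) (cond (Nat.ble e (nat_lit 406)) [] []))) (cond (Nat.ble e (nat_lit 411)) (cond (Nat.ble e (nat_lit 409)) (cond (Nat.ble e (nat_lit 408)) [] []) (cond (Nat.ble e (nat_lit 410)) [] [])) (cond (Nat.ble e (nat_lit 413)) (cond (Nat.ble e (nat_lit 412)) [] []) (cond (Nat.ble e (nat_lit 414)) [nat_lit 2] [])))))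
/-- a chunk -/
def Wv2_13 (e : ℕ) : List ℕ := (cond (Nat.ble e (nat_lit 431)) (cond (Nat.ble e (nat_lit 423)) (cond (Nat.ble e (nat_lit 419)) (cond (Nat.ble e (nat_lit 417)) (cond (Nat.ble e (nat_lit 416)) [] []) (cond (Nat.ble e (nat_lit 418)) [] [])) (cond (Nat.ble e (nat_lit 421)) (cond (Nat.ble e (nat_lit 420)) [] []) (cond (Nat.ble e (nat_lit 422)) [] []))) (cond (Nat.ble e (nat_lit 427)) (cond (Nat.ble e (nat_lit 425)) (cond (Nat.ble e (nat_lit 424)) [] []) (cond (Nat.ble e (nat_lit 426)) [nat_lit 2, nat_lit 0] [nat_lit 0])) (cond (Nat.ble e (nat_lit 429)) (cond (Nat.ble e (nat_lit 428)) [] []) (cond (Nat.ble e (nat_lit 430)) [] [])))) (cond (Nat.ble e (nat_lit 439)) (cond (Nat.ble e (nat_lit 435)) (cond (Nat.ble e (nat_lit 433)) (cond (Nat.ble e (nat_lit 432)) [] []) (cond (Nat.ble e (nat_lit 434)) [] [nat_lit 1])) (cond (Nat.ble e (nat_lit 437)) (cond (Nat.ble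 e (nat_lit 436)) [nat_lit 3, nat_lit 1] []) (cond (Nat.ble e (nat_lit 438)) [nat_lit 1, nat_lit 3] []))) (cond (Nat.ble e (nat_lit 443)) (cond (Nat.ble e (nat_lit 441)) (cond (Nat.ble e (nat_lit 440)) [] [nat_lit 1, nat_lit 2]) (cond (Nat.ble e (nat_lit 442)) [nat_lit 1, nat_lit 2, nat_lit 1] [])) (cond (Nat.ble e (nat_lit 445)) (cond (Nat.ble e (nat_lit 444)) [] []) (cond (Nat.ble e (nat_lit 446)) [nat_lit 2, nat_lit 1] [])))))
/-- a chunk -/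
def Wv2_14 (e : ℕ) : List ℕ := (cond (Nat.ble e (nat_lit 463)) (cond (Nat.ble e (nat_lit 455)) (cond (Nat.ble e (nat_lit 451)) (cond (Nat.ble e (nat_lit 449)) (cond (Nat.ble e (nat_lit 448)) [] []) (cond (Nat.ble e (nat_lit 450)) [] [])) (cond (Nat.ble e (nat_lit 453)) (cond (Nat.ble e (nat_lit 452)) [] []) (cond (Nat.ble e (nat_lit 454)) [] []))) (cond (Nat.ble e (nat_lit 459)) (cond (Nat.ble e (nat_lit 457)) (cond (Nat.ble e (nat_lit 456)) [] []) (cond (Nat.ble e (nat_lit 458)) [nat_lit 0] [])) (cond (Nat.ble e (nat_lit 461)) (cond (Nat.ble e (nat_lit 460)) [nat_lit 0, nat_lit 3, nat_lit 0] []) (cond (Nat.ble e (nat_lit 462)) [nat_lit 0, nat_lit 0] [])))) (cond (Nat.ble e (nat_lit 471)) (cond (Nat.ble e (nat_lit 467)) (cond (Nat.ble e (nat_lit 465)) (cond (Nat.ble e (nat_lit 464)) [] []) (cond (Nat.ble e (nat_lit 466)) [] [])) (cond (Nat.ble e (nat_lit 469)) (cond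 (Nat.ble e (nat_lit 468)) [] []) (cond (Nat.ble e (nat_lit 470)) [] []))) (cond (Nat.ble e (nat_lit 475)) (cond (Nat.ble e (nat_lit 473)) (cond (Nat.ble e (nat_lit 472)) [] []) (cond (Nat.ble e (nat_lit 474)) [] [])) (cond (Nat.ble e (nat_lit 477)) (cond (Nat.ble e (nat_lit 476)) [] []) (cond (Nat.ble e (nat_lit 478)) [] [nat_lit 1, nat_lit 1])))))
/-- a chunk -/
def Wv2_15 (e : ℕ) : List ℕ := (cond (Nat.ble e (nat_lit 495)) (cond (Nat.ble e (nat_lit 487)) (cond (Nat.ble e (nat_lit 483)) (cond (Nat.ble e (nat_lit 481)) (cond (Nat.ble e (nat_lit 480)) [] []) (cond (Nat.ble e (nat_lit 482)) [] [nat_lit 0, nat_lit 0])) (cond (Nat.ble e (nat_lit 485)) (cond (Nat.ble e (nat_lit 484)) [] []) (cond (Nat.ble e (nat_lit 486)) [] []))) (cond (Nat.ble e (nat_lit 491)) (cond (Nat.ble e (nat_lit 489)) (cond (Nat.ble e (nat_lit 488)) [] []) (cond (Nat.ble e (nat_lit 490)) [] []))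 (cond (Nat.ble e (nat_lit 493)) (cond (Nat.ble e (nat_lit 492)) [] []) (cond (Nat.ble e (nat_lit 494)) [] [])))) (cond (Nat.ble e (nat_lit 503)) (cond (Nat.ble e (nat_lit 499)) (cond (Nat.ble e (nat_lit 497)) (cond (Nat.ble e (nat_lit 496)) [] []) (cond (Nat.ble e (nat_lit 498)) [nat_lit 0, nat_lit 2] [])) (cond (Nat.ble e (nat_lit 501)) (cond (Nat.ble e (nat_lit 500)) [] []) (cond (Nat.ble e (nat_lit 502)) [] []))) (cond (Nat.ble e (nat_lit 507)) (cond (Nat.ble e (nat_lit 505)) (cond (Nat.ble e (nat_lit 504)) [] []) (cond (Nat.ble e (nat_lit 506)) [] [])) (cond (Nat.ble e (nat_lit 509)) (cond (Nat.ble e (nat_lit 508)) [] []) (cond (Nat.ble e (nat_lit 510)) [nat_lit 1] [])))))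
/-- a chunk -/
def Wv2_16 (e : ℕ) : List ℕ := (cond (Nat.ble e (nat_lit 527)) (cond (Nat.ble e (nat_lit 519)) (cond (Nat.ble e (nat_lit 515)) (cond (Nat.ble e (nat_lit 513)) (cond (Nat.ble e (nat_lit 512)) [] [nat_lit 0, nat_lit 0, nat_lit 3]) (cond (Nat.ble e (nat_lit 514)) [] [])) (cond (Nat.ble e (nat_lit 517)) (cond (Nat.ble e (nat_lit 516)) [] []) (cond (Nat.ble e (nat_lit 518)) [] []))) (cond (Nat.ble e (nat_lit 523)) (cond (Nat.ble e (nat_lit 521)) (cond (Nat.ble e (nat_lit 520)) [] [nat_lit 1, nat_lit 1]) (cond (Nat.ble e (nat_lit 522)) [] [])) (cond (Nat.ble e (nat_lit 525)) (cond (Nat.ble e (nat_lit 524)) [nat_lit 0, nat_lit 3, nat_lit 0] []) (cond (Nat.ble e (nat_lit 526)) [] [])))) (cond (Nat.ble e (nat_lit 535)) (cond (Nat.ble e (nat_lit 531)) (cond (Nat.ble e (nat_lit 529)) (cond (Nat.ble e (nat_lit 528)) [] []) (cond (Nat.ble e (nat_lit 530)) [] [nat_lit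 0, nat_lit 0])) (cond (Nat.ble e (nat_lit 533)) (cond (Nat.ble e (nat_lit 532)) [] [nat_lit 2, nat_lit 1]) (cond (Nat.ble e (nat_lit 534)) [] []))) (cond (Nat.ble e (nat_lit 539)) (cond (Nat.ble e (nat_lit 537)) (cond (Nat.ble e (nat_lit 536)) [] []) (cond (Nat.ble e (nat_lit 538)) [nat_lit 1, nat_lit 3] [])) (cond (Nat.ble e (nat_lit 541)) (cond (Nat.ble e (nat_lit 540)) [nat_lit 0, nat_lit 0, nat_lit 3] []) (cond (Nat.ble e (nat_lit 542)) [] [])))))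
/-- a chunk -/
def Wv2_17 (e : ℕ) : List ℕ := (cond (Nat.ble e (nat_lit 559)) (cond (Nat.ble e (nat_lit 551)) (cond (Nat.ble e (nat_lit 547)) (cond (Nat.ble e (nat_lit 545)) (cond (Nat.ble e (nat_lit 544)) [] []) (cond (Nat.ble e (nat_lit 546)) [nat_lit 0] [])) (cond (Nat.ble e (nat_lit 549)) (cond (Nat.ble e (nat_lit 548)) [] []) (cond (Nat.ble e (nat_lit 550)) [] []))) (cond (Nat.ble e (nat_lit 555)) (cond (Nat.ble e (nat_lit 553)) (cond (Nat.ble e (nat_lit 552)) [] []) (cond (Nat.ble e (nat_lit 554)) [] [])) (cond (Nat.ble e (nat_lit 557)) (cond (Nat.ble e (nat_lit 556)) [] []) (cond (Nat.ble e (nat_lit 558)) [] [])))) (cond (Nat.ble e (nat_lit 567)) (cond (Nat.ble e (nat_lit 563)) (cond (Nat.ble e (nat_lit 561)) (cond (Nat.ble e (nat_lit 560)) [] []) (cond (Nat.ble e (nat_lit 562)) [] [])) (cond (Nat.ble e (nat_lit 565)) (cond (Nat.ble e (nat_lit 564)) [] []) (cond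 (Nat.ble e (nat_lit 566)) [] []))) (cond (Nat.ble e (nat_lit 571)) (cond (Nat.ble e (nat_lit 569)) (cond (Nat.ble e (nat_lit 568)) [] []) (cond (Nat.ble e (nat_lit 570)) [] [])) (cond (Nat.ble e (nat_lit 573)) (cond (Nat.ble e (nat_lit 572)) [] [nat_lit 1]) (cond (Nat.ble e (nat_lit 574)) [] [])))))
/-- a chunk -/
def Wv2_18 (e : ℕ) : List ℕ := (cond (Nat.ble e (nat_lit 591)) (cond (Nat.ble e (nat_lit 583)) (cond (Nat.ble e (nat_lit 579)) (cond (Nat.ble e (nat_lit 577)) (cond (Nat.ble e (nat_lit 576)) [] [nat_lit 0, nat_lit 3]) (cond (Nat.ble e (nat_lit 578)) [] [])) (cond (Nat.ble e (nat_lit 581)) (cond (Nat.ble e (nat_lit 580)) [] []) (cond (Nat.ble e (nat_lit 582)) [] []))) (cond (Nat.ble e (nat_lit 587)) (cond (Nat.ble e (nat_lit 585)) (cond (Nat.ble e (nat_lit 584)) [] []) (cond (Nat.ble e (nat_lit 586)) [] [nat_lit 1, nat_lit 2])) (cond (Nat.ble e (nat_lit 589))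 (cond (Nat.ble e (nat_lit 588)) [] []) (cond (Nat.ble e (nat_lit 590)) [] [])))) (cond (Nat.ble e (nat_lit 599)) (cond (Nat.ble e (nat_lit 595)) (cond (Nat.ble e (nat_lit 593)) (cond (Nat.ble e (nat_lit 592)) [] [nat_lit 0, nat_lit 3]) (cond (Nat.ble e (nat_lit 594)) [] [])) (cond (Nat.ble e (nat_lit 597)) (cond (Nat.ble e (nat_lit 596)) [] []) (cond (Nat.ble e (nat_lit 598)) [] []))) (cond (Nat.ble e (nat_lit 603)) (cond (Nat.ble e (nat_lit 601)) (cond (Nat.ble e (nat_lit 600)) [] []) (cond (Nat.ble e (nat_lit 602)) [] [nat_lit 2, nat_lit 1])) (cond (Nat.ble e (nat_lit 605)) (cond (Nat.ble e (nat_lit 604)) [] []) (cond (Nat.ble e (nat_lit 606)) [] [])))))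
/-- a chunk -/
def Wv2_19 (e : ℕ) : List ℕ := (cond (Nat.ble e (nat_lit 623)) (cond (Nat.ble e (nat_lit 615)) (cond (Nat.ble e (nat_lit 611)) (cond (Nat.ble e (nat_lit 609)) (cond (Nat.ble e (nat_lit 608)) [] []) (cond (Nat.ble e (nat_lit 610)) [nat_lit 0, nat_lit 0, nat_lit 0] [nat_lit 3, nat_lit 0])) (cond (Nat.ble e (nat_lit 613)) (cond (Nat.ble e (nat_lit 612)) [] []) (cond (Nat.ble e (nat_lit 614)) [] []))) (cond (Nat.ble e (nat_lit 619)) (cond (Nat.ble e (nat_lit 617)) (cond (Nat.ble e (nat_lit 616)) [nat_lit 3, nat_lit 1] []) (cond (Nat.ble e (nat_lit 618)) [] [nat_lit 3, nat_lit 1])) (cond (Nat.ble e (nat_lit 621)) (cond (Nat.ble e (nat_lit 620)) [] []) (cond (Nat.ble e (nat_lit 622)) [] [])))) (cond (Nat.ble e (nat_lit 631)) (cond (Nat.ble e (nat_lit 627)) (cond (Nat.ble e (nat_lit 625)) (cond (Nat.ble e (nat_lit 624)) [] [nat_lit 1, nat_lit 1]) (cond (Nat.ble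 e (nat_lit 626)) [] [nat_lit 1])) (cond (Nat.ble e (nat_lit 629)) (cond (Nat.ble e (nat_lit 628)) [] []) (cond (Nat.ble e (nat_lit 630)) [] []))) (cond (Nat.ble e (nat_lit 635)) (cond (Nat.ble e (nat_lit 633)) (cond (Nat.ble e (nat_lit 632)) [] []) (cond (Nat.ble e (nat_lit 634)) [] [])) (cond (Nat.ble e (nat_lit 637)) (cond (Nat.ble e (nat_lit 636)) [] []) (cond (Nat.ble e (nat_lit 638)) [] [])))))
/-- a chunk -/
def Wv2_20 (e : ℕ) : List ℕ := (cond (Nat.ble e (nat_lit 655)) (cond (Nat.ble e (nat_lit 647)) (cond (Nat.ble e (nat_lit 643)) (cond (Nat.ble e (nat_lit 641)) (cond (Nat.ble e (nat_lit 640)) [] []) (cond (Nat.ble e (nat_lit 642)) [] [])) (cond (Nat.ble e (nat_lit 645)) (cond (Nat.ble e (nat_lit 644)) [] []) (cond (Nat.ble e (nat_lit 646)) [] []))) (cond (Nat.ble e (nat_lit 651)) (cond (Nat.ble e (nat_lit 649)) (cond (Nat.ble e (nat_lit 648)) [] []) (cond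 (Nat.ble e (nat_lit 650)) [] [])) (cond (Nat.ble e (nat_lit 653)) (cond (Nat.ble e (nat_lit 652)) [] [nat_lit 1, nat_lit 1]) (cond (Nat.ble e (nat_lit 654)) [] [])))) (cond (Nat.ble e (nat_lit 663)) (cond (Nat.ble e (nat_lit 659)) (cond (Nat.ble e (nat_lit 657)) (cond (Nat.ble e (nat_lit 656)) [nat_lit 0] []) (cond (Nat.ble e (nat_lit 658)) [] [])) (cond (Nat.ble e (nat_lit 661)) (cond (Nat.ble e (nat_lit 660)) [nat_lit 2, nat_lit 1] []) (cond (Nat.ble e (nat_lit 662)) [] []))) (cond (Nat.ble e (nat_lit 667)) (cond (Nat.ble e (nat_lit 665)) (cond (Nat.ble e (nat_lit 664)) [] []) (cond (Nat.ble e (nat_lit 666)) [] [nat_lit 0, nat_lit 3, nat_lit 0])) (cond (Nat.ble e (nat_lit 669)) (cond (Nat.ble e (nat_lit 668)) [] []) (cond (Nat.ble e (nat_lit 670)) [] [])))))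
/-- a chunk -/
def Wv2_21 (e : ℕ) : List ℕ := (cond (Nat.ble e (nat_lit 687)) (cond (Nat.ble e (nat_lit 679)) (cond (Nat.ble e (nat_lit 675)) (cond (Nat.ble e (nat_lit 673)) (cond (Nat.ble e (nat_lit 672)) [] []) (cond (Nat.ble e (nat_lit 674)) [] [])) (cond (Nat.ble e (nat_lit 677)) (cond (Nat.ble e (nat_lit 676)) [] []) (cond (Nat.ble e (nat_lit 678)) [] []))) (cond (Nat.ble e (nat_lit 683)) (cond (Nat.ble e (nat_lit 681)) (cond (Nat.ble e (nat_lit 680)) [] []) (cond (Nat.ble e (nat_lit 682)) [] [])) (cond (Nat.ble e (nat_lit 685)) (cond (Nat.ble e (nat_lit 684)) [] []) (cond (Nat.ble e (nat_lit 686)) [] [])))) (cond (Nat.ble e (nat_lit 695)) (cond (Nat.ble e (nat_lit 691)) (cond (Nat.ble e (nat_lit 689)) (cond (Nat.ble e (nat_lit 688)) [] []) (cond (Nat.ble e (nat_lit 690)) [nat_lit 2, nat_lit 1] [])) (cond (Nat.ble e (nat_lit 693)) (cond (Nat.ble e (nat_lit 692))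 [] []) (cond (Nat.ble e (nat_lit 694)) [] []))) (cond (Nat.ble e (nat_lit 699)) (cond (Nat.ble e (nat_lit 697)) (cond (Nat.ble e (nat_lit 696)) [] []) (cond (Nat.ble e (nat_lit 698)) [] [])) (cond (Nat.ble e (nat_lit 701)) (cond (Nat.ble e (nat_lit 700)) [nat_lit 1, nat_lit 1, nat_lit 1] []) (cond (Nat.ble e (nat_lit 702)) [] [])))))
/-- a chunk -/
def Wv2_22 (e : ℕ) : List ℕ := (cond (Nat.ble e (nat_lit 719)) (cond (Nat.ble e (nat_lit 711)) (cond (Nat.ble e (nat_lit 707)) (cond (Nat.ble e (nat_lit 705)) (cond (Nat.ble e (nat_lit 704)) [] []) (cond (Nat.ble e (nat_lit 706)) [] [])) (cond (Nat.ble e (nat_lit 709)) (cond (Nat.ble e (nat_lit 708)) [] []) (cond (Nat.ble e (nat_lit 710)) [] []))) (cond (Nat.ble e (nat_lit 715)) (cond (Nat.ble e (nat_lit 713)) (cond (Nat.ble e (nat_lit 712)) [] []) (cond (Nat.ble e (nat_lit 714)) [] [])) (cond (Nat.ble e (nat_lit 717)) (cond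 (Nat.ble e (nat_lit 716)) [] []) (cond (Nat.ble e (nat_lit 718)) [nat_lit 0, nat_lit 0] [])))) (cond (Nat.ble e (nat_lit 727)) (cond (Nat.ble e (nat_lit 723)) (cond (Nat.ble e (nat_lit 721)) (cond (Nat.ble e (nat_lit 720)) [] []) (cond (Nat.ble e (nat_lit 722)) [] [])) (cond (Nat.ble e (nat_lit 725)) (cond (Nat.ble e (nat_lit 724)) [] []) (cond (Nat.ble e (nat_lit 726)) [] []))) (cond (Nat.ble e (nat_lit 731)) (cond (Nat.ble e (nat_lit 729)) (cond (Nat.ble e (nat_lit 728)) [nat_lit 1] []) (cond (Nat.ble e (nat_lit 730)) [] [])) (cond (Nat.ble e (nat_lit 733)) (cond (Nat.ble e (nat_lit 732)) [] []) (cond (Nat.ble e (nat_lit 734)) [nat_lit 1, nat_lit 1, nat_lit 1] [])))))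
/-- a chunk -/
def Wv2_23 (e : ℕ) : List ℕ := (cond (Nat.ble e (nat_lit 751)) (cond (Nat.ble e (nat_lit 743)) (cond (Nat.ble e (nat_lit 739)) (cond (Nat.ble e (nat_lit 737)) (cond (Nat.ble e (nat_lit 736)) [] []) (cond (Nat.ble e (nat_lit 738)) [nat_lit 3] [nat_lit 0, nat_lit 0])) (cond (Nat.ble e (nat_lit 741)) (cond (Nat.ble e (nat_lit 740)) [] []) (cond (Nat.ble e (nat_lit 742)) [] []))) (cond (Nat.ble e (nat_lit 747)) (cond (Nat.ble e (nat_lit 745)) (cond (Nat.ble e (nat_lit 744)) [] [nat_lit 2]) (cond (Nat.ble e (nat_lit 746)) [] [])) (cond (Nat.ble e (nat_lit 749)) (cond (Nat.ble e (nat_lit 748)) [] []) (cond (Nat.ble e (nat_lit 750)) [] [])))) (cond (Nat.ble e (nat_lit 759)) (cond (Nat.ble e (nat_lit 755)) (cond (Nat.ble e (nat_lit 753)) (cond (Nat.ble e (nat_lit 752)) [] []) (cond (Nat.ble e (nat_lit 754)) [] [])) (cond (Nat.ble e (nat_lit 757)) (cond (Nat.ble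 e (nat_lit 756)) [nat_lit 1] []) (cond (Nat.ble e (nat_lit 758)) [] [nat_lit 0, nat_lit 0]))) (cond (Nat.ble e (nat_lit 763)) (cond (Nat.ble e (nat_lit 761)) (cond (Nat.ble e (nat_lit 760)) [] [nat_lit 3, nat_lit 1]) (cond (Nat.ble e (nat_lit 762)) [] [])) (cond (Nat.ble e (nat_lit 765)) (cond (Nat.ble e (nat_lit 764)) [] []) (cond (Nat.ble e (nat_lit 766)) [nat_lit 0] [])))))
/-- a chunk -/
def Wv2_24 (e : ℕ) : List ℕ := (cond (Nat.ble e (nat_lit 783)) (cond (Nat.ble e (nat_lit 775)) (cond (Nat.ble e (nat_lit 771)) (cond (Nat.ble e (nat_lit 769)) (cond (Nat.ble e (nat_lit 768)) [] []) (cond (Nat.ble e (nat_lit 770)) [] [nat_lit 0, nat_lit 2, nat_lit 0])) (cond (Nat.ble e (nat_lit 773)) (cond (Nat.ble e (nat_lit 772)) [] []) (cond (Nat.ble e (nat_lit 774)) [nat_lit 1, nat_lit 1, nat_lit 1] []))) (cond (Nat.ble e (nat_lit 779)) (cond (Nat.ble e (nat_lit 777)) (cond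 (Nat.ble e (nat_lit 776)) [] []) (cond (Nat.ble e (nat_lit 778)) [] [])) (cond (Nat.ble e (nat_lit 781)) (cond (Nat.ble e (nat_lit 780)) [] []) (cond (Nat.ble e (nat_lit 782)) [] [])))) (cond (Nat.ble e (nat_lit 791)) (cond (Nat.ble e (nat_lit 787)) (cond (Nat.ble e (nat_lit 785)) (cond (Nat.ble e (nat_lit 784)) [] [nat_lit 3]) (cond (Nat.ble e (nat_lit 786)) [] [])) (cond (Nat.ble e (nat_lit 789)) (cond (Nat.ble e (nat_lit 788)) [] []) (cond (Nat.ble e (nat_lit 790)) [] []))) (cond (Nat.ble e (nat_lit 795)) (cond (Nat.ble e (nat_lit 793)) (cond (Nat.ble e (nat_lit 792)) [] []) (cond (Nat.ble e (nat_lit 794)) [] [])) (cond (Nat.ble e (nat_lit 797)) (cond (Nat.ble e (nat_lit 796)) [nat_lit 1, nat_lit 1, nat_lit 1] []) (cond (Nat.ble e (nat_lit 798)) [] [])))))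
/-- a chunk -/
def Wv2_25 (e : ℕ) : List ℕ := (cond (Nat.ble e (nat_lit 815)) (cond (Nat.ble e (nat_lit 807)) (cond (Nat.ble e (nat_lit 803)) (cond (Nat.ble e (nat_lit 801)) (cond (Nat.ble e (nat_lit 800)) [] []) (cond (Nat.ble e (nat_lit 802)) [] [])) (cond (Nat.ble e (nat_lit 805)) (cond (Nat.ble e (nat_lit 804)) [] [nat_lit 2, nat_lit 0]) (cond (Nat.ble e (nat_lit 806)) [] []))) (cond (Nat.ble e (nat_lit 811)) (cond (Nat.ble e (nat_lit 809)) (cond (Nat.ble e (nat_lit 808)) [] []) (cond (Nat.ble e (nat_lit 810)) [] [])) (cond (Nat.ble e (nat_lit 813)) (cond (Nat.ble e (nat_lit 812)) [] []) (cond (Nat.ble e (nat_lit 814)) [] [])))) (cond (Nat.ble e (nat_lit 823)) (cond (Nat.ble e (nat_lit 819)) (cond (Nat.ble e (nat_lit 817)) (cond (Nat.ble e (nat_lit 816)) [] [nat_lit 1, nat_lit 2, nat_lit 1]) (cond (Nat.ble e (nat_lit 818)) [] [])) (cond (Nat.ble e (nat_lit 821))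 (cond (Nat.ble e (nat_lit 820)) [] []) (cond (Nat.ble e (nat_lit 822)) [] [nat_lit 1, nat_lit 2, nat_lit 1]))) (cond (Nat.ble e (nat_lit 827)) (cond (Nat.ble e (nat_lit 825)) (cond (Nat.ble e (nat_lit 824)) [] []) (cond (Nat.ble e (nat_lit 826)) [nat_lit 2, nat_lit 0] [])) (cond (Nat.ble e (nat_lit 829)) (cond (Nat.ble e (nat_lit 828)) [] []) (cond (Nat.ble e (nat_lit 830)) [] [])))))
/-- a chunk -/
def Wv2_26 (e : ℕ) : List ℕ := (cond (Nat.ble e (nat_lit 847)) (cond (Nat.ble e (nat_lit 839)) (cond (Nat.ble e (nat_lit 835)) (cond (Nat.ble e (nat_lit 833)) (cond (Nat.ble e (nat_lit 832)) [nat_lit 1, nat_lit 2] []) (cond (Nat.ble e (nat_lit 834)) [] [nat_lit 0, nat_lit 2])) (cond (Nat.ble e (nat_lit 837)) (cond (Nat.ble e (nat_lit 836)) [] []) (cond (Nat.ble e (nat_lit 838)) [] []))) (cond (Nat.ble e (nat_lit 843)) (cond (Nat.ble e (nat_lit 841)) (cond (Nat.ble e (nat_lit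 840)) [nat_lit 0, nat_lit 0, nat_lit 3] []) (cond (Nat.ble e (nat_lit 842)) [] [])) (cond (Nat.ble e (nat_lit 845)) (cond (Nat.ble e (nat_lit 844)) [] []) (cond (Nat.ble e (nat_lit 846)) [] [])))) (cond (Nat.ble e (nat_lit 855)) (cond (Nat.ble e (nat_lit 851)) (cond (Nat.ble e (nat_lit 849)) (cond (Nat.ble e (nat_lit 848)) [] []) (cond (Nat.ble e (nat_lit 850)) [] [])) (cond (Nat.ble e (nat_lit 853)) (cond (Nat.ble e (nat_lit 852)) [] [nat_lit 0]) (cond (Nat.ble e (nat_lit 854)) [] []))) (cond (Nat.ble e (nat_lit 859)) (cond (Nat.ble e (nat_lit 857)) (cond (Nat.ble e (nat_lit 856)) [] []) (cond (Nat.ble e (nat_lit 858)) [] [])) (cond (Nat.ble e (nat_lit 861)) (cond (Nat.ble e (nat_lit 860)) [] []) (cond (Nat.ble e (nat_lit 862)) [nat_lit 1, nat_lit 1] [])))))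
/-- a chunk -/
def Wv2_27 (e : ℕ) : List ℕ := (cond (Nat.ble e (nat_lit 879)) (cond (Nat.ble e (nat_lit 871)) (cond (Nat.ble e (nat_lit 867)) (cond (Nat.ble e (nat_lit 865)) (cond (Nat.ble e (nat_lit 864)) [] [nat_lit 3, nat_lit 0]) (cond (Nat.ble e (nat_lit 866)) [] [])) (cond (Nat.ble e (nat_lit 869)) (cond (Nat.ble e (nat_lit 868)) [] []) (cond (Nat.ble e (nat_lit 870)) [] [nat_lit 0, nat_lit 3, nat_lit 0]))) (cond (Nat.ble e (nat_lit 875)) (cond (Nat.ble e (nat_lit 873)) (cond (Nat.ble e (nat_lit 872)) [] []) (cond (Nat.ble e (nat_lit 874)) [] [])) (cond (Nat.ble e (nat_lit 877)) (cond (Nat.ble e (nat_lit 876)) [] []) (cond (Nat.ble e (nat_lit 878)) [] [])))) (cond (Nat.ble e (nat_lit 887)) (cond (Nat.ble e (nat_lit 883)) (cond (Nat.ble e (nat_lit 881)) (cond (Nat.ble e (nat_lit 880)) [] [nat_lit 3]) (cond (Nat.ble e (nat_lit 882)) [nat_lit 1] [])) (cond (Nat.ble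 e (nat_lit 885)) (cond (Nat.ble e (nat_lit 884)) [] [nat_lit 0, nat_lit 3]) (cond (Nat.ble e (nat_lit 886)) [] []))) (cond (Nat.ble e (nat_lit 891)) (cond (Nat.ble e (nat_lit 889)) (cond (Nat.ble e (nat_lit 888)) [] []) (cond (Nat.ble e (nat_lit 890)) [] [])) (cond (Nat.ble e (nat_lit 893)) (cond (Nat.ble e (nat_lit 892)) [] []) (cond (Nat.ble e (nat_lit 894)) [] [nat_lit 0, nat_lit 2, nat_lit 0])))))
/-- a chunk -/
def Wv2_28 (e : ℕ) : List ℕ := (cond (Nat.ble e (nat_lit 911)) (cond (Nat.ble e (nat_lit 903)) (cond (Nat.ble e (nat_lit 899)) (cond (Nat.ble e (nat_lit 897)) (cond (Nat.ble e (nat_lit 896)) [] []) (cond (Nat.ble e (nat_lit 898)) [nat_lit 2] [nat_lit 0, nat_lit 0])) (cond (Nat.ble e (nat_lit 901)) (cond (Nat.ble e (nat_lit 900)) [] []) (cond (Nat.ble e (nat_lit 902)) [] []))) (cond (Nat.ble e (nat_lit 907)) (cond (Nat.ble e (nat_lit 905)) (cond (Nat.ble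 e (nat_lit 904)) [nat_lit 0, nat_lit 2] [nat_lit 1, nat_lit 1]) (cond (Nat.ble e (nat_lit 906)) [] [nat_lit 2, nat_lit 1])) (cond (Nat.ble e (nat_lit 909)) (cond (Nat.ble e (nat_lit 908)) [nat_lit 1, nat_lit 2] []) (cond (Nat.ble e (nat_lit 910)) [nat_lit 0, nat_lit 3] [])))) (cond (Nat.ble e (nat_lit 919)) (cond (Nat.ble e (nat_lit 915)) (cond (Nat.ble e (nat_lit 913)) (cond (Nat.ble e (nat_lit 912)) [] []) (cond (Nat.ble e (nat_lit 914)) [] [])) (cond (Nat.ble e (nat_lit 917)) (cond (Nat.ble e (nat_lit 916)) [] []) (cond (Nat.ble e (nat_lit 918)) [] [nat_lit 0]))) (cond (Nat.ble e (nat_lit 923)) (cond (Nat.ble e (nat_lit 921)) (cond (Nat.ble e (nat_lit 920)) [nat_lit 3, nat_lit 1] []) (cond (Nat.ble e (nat_lit 922)) [nat_lit 0, nat_lit 0, nat_lit 0] [])) (cond (Nat.ble e (nat_lit 925)) (cond (Nat.ble e (nat_lit 924)) [] []) (cond (Nat.ble e (nat_lit 926)) [] [])))))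
/-- a chunk -/
def Wv2_29 (e : ℕ) : List ℕ := (cond (Nat.ble e (nat_lit 943)) (cond (Nat.ble e (nat_lit 935)) (cond (Nat.ble e (nat_lit 931)) (cond (Nat.ble e (nat_lit 929)) (cond (Nat.ble e (nat_lit 928)) [nat_lit 3] []) (cond (Nat.ble e (nat_lit 930)) [] [])) (cond (Nat.ble e (nat_lit 933)) (cond (Nat.ble e (nat_lit 932)) [] []) (cond (Nat.ble e (nat_lit 934)) [] [nat_lit 3, nat_lit 1]))) (cond (Nat.ble e (nat_lit 939)) (cond (Nat.ble e (nat_lit 937)) (cond (Nat.ble e (nat_lit 936)) [nat_lit 0, nat_lit 3] []) (cond (Nat.ble e (nat_lit 938)) [] [])) (cond (Nat.ble e (nat_lit 941)) (cond (Nat.ble e (nat_lit 940)) [] [nat_lit 0, nat_lit 0]) (cond (Nat.ble e (nat_lit 942)) [] [])))) (cond (Nat.ble e (nat_lit 951)) (cond (Nat.ble e (nat_lit 947)) (cond (Nat.ble e (nat_lit 945)) (cond (Nat.ble e (nat_lit 944)) [nat_lit 3, nat_lit 1] []) (cond (Nat.ble e (nat_lit 946))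 [] [nat_lit 2])) (cond (Nat.ble e (nat_lit 949)) (cond (Nat.ble e (nat_lit 948)) [] [nat_lit 0, nat_lit 3, nat_lit 0]) (cond (Nat.ble e (nat_lit 950)) [nat_lit 0, nat_lit 3] []))) (cond (Nat.ble e (nat_lit 955)) (cond (Nat.ble e (nat_lit 953)) (cond (Nat.ble e (nat_lit 952)) [] []) (cond (Nat.ble e (nat_lit 954)) [] [])) (cond (Nat.ble e (nat_lit 957)) (cond (Nat.ble e (nat_lit 956)) [nat_lit 0, nat_lit 0] []) (cond (Nat.ble e (nat_lit 958)) [nat_lit 1] [])))))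
/-- a chunk -/
def Wv2_30 (e : ℕ) : List ℕ := (cond (Nat.ble e (nat_lit 975)) (cond (Nat.ble e (nat_lit 967)) (cond (Nat.ble e (nat_lit 963)) (cond (Nat.ble e (nat_lit 961)) (cond (Nat.ble e (nat_lit 960)) [] []) (cond (Nat.ble e (nat_lit 962)) [] [])) (cond (Nat.ble e (nat_lit 965)) (cond (Nat.ble e (nat_lit 964)) [] []) (cond (Nat.ble e (nat_lit 966)) [] [nat_lit 1, nat_lit 1]))) (cond (Nat.ble e (nat_lit 971)) (cond (Nat.ble e (nat_lit 969)) (cond (Nat.ble e (nat_lit 968)) [] []) (cond (Nat.ble e (nat_lit 970)) [] [])) (cond (Nat.ble e (nat_lit 973)) (cond (Nat.ble e (nat_lit 972)) [nat_lit 2] []) (cond (Nat.ble e (nat_lit 974)) [nat_lit 1, nat_lit 2] [])))) (cond (Nat.ble e (nat_lit 983)) (cond (Nat.ble e (nat_lit 979)) (cond (Nat.ble e (nat_lit 977)) (cond (Nat.ble e (nat_lit 976)) [] [nat_lit 0, nat_lit 3]) (cond (Nat.ble e (nat_lit 978)) [] [])) (cond (Nat.ble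 e (nat_lit 981)) (cond (Nat.ble e (nat_lit 980)) [nat_lit 1, nat_lit 1, nat_lit 1] []) (cond (Nat.ble e (nat_lit 982)) [] []))) (cond (Nat.ble e (nat_lit 987)) (cond (Nat.ble e (nat_lit 985)) (cond (Nat.ble e (nat_lit 984)) [] [nat_lit 1, nat_lit 3]) (cond (Nat.ble e (nat_lit 986)) [] [])) (cond (Nat.ble e (nat_lit 989)) (cond (Nat.ble e (nat_lit 988)) [] []) (cond (Nat.ble e (nat_lit 990)) [] [nat_lit 0, nat_lit 0])))))
/-- a chunk -/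
def Wv2_31 (e : ℕ) : List ℕ := (cond (Nat.ble e (nat_lit 1007)) (cond (Nat.ble e (nat_lit 999)) (cond (Nat.ble e (nat_lit 995)) (cond (Nat.ble e (nat_lit 993)) (cond (Nat.ble e (nat_lit 992)) [] []) (cond (Nat.ble e (nat_lit 994)) [] [])) (cond (Nat.ble e (nat_lit 997)) (cond (Nat.ble e (nat_lit 996)) [] []) (cond (Nat.ble e (nat_lit 998)) [] []))) (cond (Nat.ble e (nat_lit 1003)) (cond (Nat.ble e (nat_lit 1001)) (cond (Nat.ble e (nat_lit 1000)) [nat_lit 2, nat_lit 1] []) (cond (Nat.ble e (nat_lit 1002)) [nat_lit 0, nat_lit 3, nat_lit 0] [])) (cond (Nat.ble e (nat_lit 1005)) (cond (Nat.ble e (nat_lit 1004)) [] []) (cond (Nat.ble e (nat_lit 1006)) [] [])))) (cond (Nat.ble e (nat_lit 1015)) (cond (Nat.ble e (nat_lit 1011)) (cond (Nat.ble e (nat_lit 1009)) (cond (Nat.ble e (nat_lit 1008)) [nat_lit 2, nat_lit 1] []) (cond (Nat.ble e (nat_lit 1010)) [] [nat_lit 1, nat_lit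 2])) (cond (Nat.ble e (nat_lit 1013)) (cond (Nat.ble e (nat_lit 1012)) [nat_lit 0, nat_lit 0, nat_lit 0] []) (cond (Nat.ble e (nat_lit 1014)) [] []))) (cond (Nat.ble e (nat_lit 1019)) (cond (Nat.ble e (nat_lit 1017)) (cond (Nat.ble e (nat_lit 1016)) [nat_lit 0, nat_lit 0] []) (cond (Nat.ble e (nat_lit 1018)) [nat_lit 0, nat_lit 3] [])) (cond (Nat.ble e (nat_lit 1021)) (cond (Nat.ble e (nat_lit 1020)) [nat_lit 1, nat_lit 1, nat_lit 1] []) (cond (Nat.ble e (nat_lit 1022)) [] [])))))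
/-- a chunk -/
def Wv2_32 (e : ℕ) : List ℕ := (cond (Nat.ble e (nat_lit 1039)) (cond (Nat.ble e (nat_lit 1031)) (cond (Nat.ble e (nat_lit 1027)) (cond (Nat.ble e (nat_lit 1025)) (cond (Nat.ble e (nat_lit 1024)) [] []) (cond (Nat.ble e (nat_lit 1026)) [nat_lit 2, nat_lit 1] [])) (cond (Nat.ble e (nat_lit 1029)) (cond (Nat.ble e (nat_lit 1028)) [nat_lit 1] [nat_lit 2, nat_lit 0]) (cond (Nat.ble e (nat_lit 1030)) [] []))) (cond (Nat.ble e (nat_lit 1035)) (cond (Nat.ble e (nat_lit 1033)) (cond (Nat.ble e (nat_lit 1032)) [] [nat_lit 0, nat_lit 2, nat_lit 0]) (cond (Nat.ble e (nat_lit 1034)) [nat_lit 0, nat_lit 0] [])) (cond (Nat.ble e (nat_lit 1037)) (cond (Nat.ble e (nat_lit 1036)) [nat_lit 1] []) (cond (Nat.ble e (nat_lit 1038)) [nat_lit 3, nat_lit 1] [])))) (cond (Nat.ble e (nat_lit 1047)) (cond (Nat.ble e (nat_lit 1043)) (cond (Nat.ble e (nat_lit 1041)) (cond (Nat.ble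 e (nat_lit 1040)) [] [nat_lit 1, nat_lit 2, nat_lit 1]) (cond (Nat.ble e (nat_lit 1042)) [nat_lit 3, nat_lit 0] [])) (cond (Nat.ble e (nat_lit 1045)) (cond (Nat.ble e (nat_lit 1044)) [] []) (cond (Nat.ble e (nat_lit 1046)) [] []))) (cond (Nat.ble e (nat_lit 1051)) (cond (Nat.ble e (nat_lit 1049)) (cond (Nat.ble e (nat_lit 1048)) [] []) (cond (Nat.ble e (nat_lit 1050)) [] [])) (cond (Nat.ble e (nat_lit 1053)) (cond (Nat.ble e (nat_lit 1052)) [] [nat_lit 0, nat_lit 2]) (cond (Nat.ble e (nat_lit 1054)) [] [])))))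
/-- a chunk -/
def Wv2_33 (e : ℕ) : List ℕ := (cond (Nat.ble e (nat_lit 1071)) (cond (Nat.ble e (nat_lit 1063)) (cond (Nat.ble e (nat_lit 1059)) (cond (Nat.ble e (nat_lit 1057)) (cond (Nat.ble e (nat_lit 1056)) [nat_lit 2] [nat_lit 0, nat_lit 0, nat_lit 3]) (cond (Nat.ble e (nat_lit 1058)) [nat_lit 2, nat_lit 0] [])) (cond (Nat.ble e (nat_lit 1061)) (cond (Nat.ble e (nat_lit 1060)) [] [nat_lit 1, nat_lit 2, nat_lit 1]) (cond (Nat.ble e (nat_lit 1062)) [] []))) (cond (Nat.ble e (nat_lit 1067)) (cond (Nat.ble e (nat_lit 1065)) (cond (Nat.ble e (nat_lit 1064)) [] []) (cond (Nat.ble e (nat_lit 1066)) [nat_lit 0, nat_lit 2, nat_lit 0] [])) (cond (Nat.ble e (nat_lit 1069)) (cond (Nat.ble e (nat_lit 1068)) [nat_lit 0, nat_lit 0] []) (cond (Nat.ble e (nat_lit 1070)) [nat_lit 3] [])))) (cond (Nat.ble e (nat_lit 1079)) (cond (Nat.ble e (nat_lit 1075)) (cond (Nat.ble e (nat_lit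 1073)) (cond (Nat.ble e (nat_lit 1072)) [] []) (cond (Nat.ble e (nat_lit 1074)) [] [])) (cond (Nat.ble e (nat_lit 1077)) (cond (Nat.ble e (nat_lit 1076)) [nat_lit 0, nat_lit 3] []) (cond (Nat.ble e (nat_lit 1078)) [] []))) (cond (Nat.ble e (nat_lit 1083)) (cond (Nat.ble e (nat_lit 1081)) (cond (Nat.ble e (nat_lit 1080)) [nat_lit 0, nat_lit 3] []) (cond (Nat.ble e (nat_lit 1082)) [] [])) (cond (Nat.ble e (nat_lit 1085)) (cond (Nat.ble e (nat_lit 1084)) [] []) (cond (Nat.ble e (nat_lit 1086)) [] [])))))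
/-- a chunk -/
def Wv2_34 (e : ℕ) : List ℕ := (cond (Nat.ble e (nat_lit 1103)) (cond (Nat.ble e (nat_lit 1095)) (cond (Nat.ble e (nat_lit 1091)) (cond (Nat.ble e (nat_lit 1089)) (cond (Nat.ble e (nat_lit 1088)) [] []) (cond (Nat.ble e (nat_lit 1090)) [] [nat_lit 1, nat_lit 2])) (cond (Nat.ble e (nat_lit 1093)) (cond (Nat.ble e (nat_lit 1092)) [nat_lit 0, nat_lit 0, nat_lit 0] [nat_lit 1, nat_lit 1]) (cond (Nat.ble e (nat_lit 1094)) [] []))) (cond (Nat.ble e (nat_lit 1099)) (cond (Nat.ble e (nat_lit 1097)) (cond (Nat.ble e (nat_lit 1096)) [] []) (cond (Nat.ble e (nat_lit 1098)) [nat_lit 0] [nat_lit 1, nat_lit 2, nat_lit 1])) (cond (Nat.ble e (nat_lit 1101)) (cond (Nat.ble e (nat_lit 1100)) [] [nat_lit 1, nat_lit 2, nat_lit 1]) (cond (Nat.ble e (nat_lit 1102)) [] [])))) (cond (Nat.ble e (nat_lit 1111)) (cond (Nat.ble e (nat_lit 1107)) (cond (Nat.ble e (nat_lit 1105))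 (cond (Nat.ble e (nat_lit 1104)) [] [nat_lit 0, nat_lit 0]) (cond (Nat.ble e (nat_lit 1106)) [] [])) (cond (Nat.ble e (nat_lit 1109)) (cond (Nat.ble e (nat_lit 1108)) [] [nat_lit 3, nat_lit 1]) (cond (Nat.ble e (nat_lit 1110)) [] []))) (cond (Nat.ble e (nat_lit 1115)) (cond (Nat.ble e (nat_lit 1113)) (cond (Nat.ble e (nat_lit 1112)) [nat_lit 0, nat_lit 3, nat_lit 0] []) (cond (Nat.ble e (nat_lit 1114)) [] [nat_lit 0, nat_lit 2, nat_lit 0])) (cond (Nat.ble e (nat_lit 1117)) (cond (Nat.ble e (nat_lit 1116)) [] []) (cond (Nat.ble e (nat_lit 1118)) [nat_lit 0, nat_lit 3, nat_lit 0] [])))))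
/-- a chunk -/
def Wv2_35 (e : ℕ) : List ℕ := (cond (Nat.ble e (nat_lit 1135)) (cond (Nat.ble e (nat_lit 1127)) (cond (Nat.ble e (nat_lit 1123)) (cond (Nat.ble e (nat_lit 1121)) (cond (Nat.ble e (nat_lit 1120)) [] []) (cond (Nat.ble e (nat_lit 1122)) [] [])) (cond (Nat.ble e (nat_lit 1125)) (cond (Nat.ble e (nat_lit 1124)) [] []) (cond (Nat.ble e (nat_lit 1126)) [nat_lit 1, nat_lit 1] []))) (cond (Nat.ble e (nat_lit 1131)) (cond (Nat.ble e (nat_lit 1129)) (cond (Nat.ble e (nat_lit 1128)) [] []) (cond (Nat.ble e (nat_lit 1130)) [] [])) (cond (Nat.ble e (nat_lit 1133)) (cond (Nat.ble e (nat_lit 1132)) [] [nat_lit 1]) (cond (Nat.ble e (nat_lit 1134)) [nat_lit 0, nat_lit 3, nat_lit 0] [])))) (cond (Nat.ble e (nat_lit 1143)) (cond (Nat.ble e (nat_lit 1139)) (cond (Nat.ble e (nat_lit 1137)) (cond (Nat.ble e (nat_lit 1136)) [] []) (cond (Nat.ble e (nat_lit 1138)) [] []))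 (cond (Nat.ble e (nat_lit 1141)) (cond (Nat.ble e (nat_lit 1140)) [nat_lit 1, nat_lit 2, nat_lit 1] []) (cond (Nat.ble e (nat_lit 1142)) [nat_lit 1] []))) (cond (Nat.ble e (nat_lit 1147)) (cond (Nat.ble e (nat_lit 1145)) (cond (Nat.ble e (nat_lit 1144)) [] []) (cond (Nat.ble e (nat_lit 1146)) [] [nat_lit 0, nat_lit 3, nat_lit 0])) (cond (Nat.ble e (nat_lit 1149)) (cond (Nat.ble e (nat_lit 1148)) [] [nat_lit 0, nat_lit 0, nat_lit 3]) (cond (Nat.ble e (nat_lit 1150)) [] [nat_lit 1, nat_lit 3])))))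
/-- a chunk -/
def Wv2_36 (e : ℕ) : List ℕ := (cond (Nat.ble e (nat_lit 1167)) (cond (Nat.ble e (nat_lit 1159)) (cond (Nat.ble e (nat_lit 1155)) (cond (Nat.ble e (nat_lit 1153)) (cond (Nat.ble e (nat_lit 1152)) [nat_lit 1, nat_lit 1] []) (cond (Nat.ble e (nat_lit 1154)) [nat_lit 1, nat_lit 3] [])) (cond (Nat.ble e (nat_lit 1157)) (cond (Nat.ble e (nat_lit 1156)) [] [nat_lit 1, nat_lit 1, nat_lit 1]) (cond (Nat.ble e (nat_lit 1158)) [nat_lit 1, nat_lit 1, nat_lit 1] []))) (cond (Nat.ble e (nat_lit 1163)) (cond (Nat.ble e (nat_lit 1161)) (cond (Nat.ble e (nat_lit 1160)) [nat_lit 3] []) (cond (Nat.ble e (nat_lit 1162)) [] [])) (cond (Nat.ble e (nat_lit 1165)) (cond (Nat.ble e (nat_lit 1164)) [] []) (cond (Nat.ble e (nat_lit 1166)) [] [nat_lit 2])))) (cond (Nat.ble e (nat_lit 1175)) (cond (Nat.ble e (nat_lit 1171)) (cond (Nat.ble e (nat_lit 1169)) (cond (Nat.ble e (nat_lit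 1168)) [] []) (cond (Nat.ble e (nat_lit 1170)) [] [])) (cond (Nat.ble e (nat_lit 1173)) (cond (Nat.ble e (nat_lit 1172)) [] []) (cond (Nat.ble e (nat_lit 1174)) [nat_lit 1, nat_lit 2, nat_lit 1] []))) (cond (Nat.ble e (nat_lit 1179)) (cond (Nat.ble e (nat_lit 1177)) (cond (Nat.ble e (nat_lit 1176)) [] [nat_lit 0, nat_lit 0, nat_lit 3]) (cond (Nat.ble e (nat_lit 1178)) [] [nat_lit 3, nat_lit 0])) (cond (Nat.ble e (nat_lit 1181)) (cond (Nat.ble e (nat_lit 1180)) [] []) (cond (Nat.ble e (nat_lit 1182)) [nat_lit 0, nat_lit 3, nat_lit 0] [])))))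
/-- a chunk -/
def Wv2_37 (e : ℕ) : List ℕ := (cond (Nat.ble e (nat_lit 1199)) (cond (Nat.ble e (nat_lit 1191)) (cond (Nat.ble e (nat_lit 1187)) (cond (Nat.ble e (nat_lit 1185)) (cond (Nat.ble e (nat_lit 1184)) [nat_lit 0, nat_lit 0] [nat_lit 3, nat_lit 1]) (cond (Nat.ble e (nat_lit 1186)) [] [])) (cond (Nat.ble e (nat_lit 1189)) (cond (Nat.ble e (nat_lit 1188)) [] [nat_lit 0, nat_lit 2]) (cond (Nat.ble e (nat_lit 1190)) [nat_lit 1, nat_lit 2] []))) (cond (Nat.ble e (nat_lit 1195)) (cond (Nat.ble e (nat_lit 1193)) (cond (Nat.ble e (nat_lit 1192)) [] []) (cond (Nat.ble e (nat_lit 1194)) [] [])) (cond (Nat.ble e (nat_lit 1197)) (cond (Nat.ble e (nat_lit 1196)) [] []) (cond (Nat.ble e (nat_lit 1198)) [] [])))) (cond (Nat.ble e (nat_lit 1207)) (cond (Nat.ble e (nat_lit 1203)) (cond (Nat.ble e (nat_lit 1201)) (cond (Nat.ble e (nat_lit 1200)) [nat_lit 1, nat_lit 2, nat_lit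 1] []) (cond (Nat.ble e (nat_lit 1202)) [] [nat_lit 2, nat_lit 0])) (cond (Nat.ble e (nat_lit 1205)) (cond (Nat.ble e (nat_lit 1204)) [] []) (cond (Nat.ble e (nat_lit 1206)) [nat_lit 2, nat_lit 1] []))) (cond (Nat.ble e (nat_lit 1211)) (cond (Nat.ble e (nat_lit 1209)) (cond (Nat.ble e (nat_lit 1208)) [] [nat_lit 0]) (cond (Nat.ble e (nat_lit 1210)) [] [nat_lit 1, nat_lit 2, nat_lit 1])) (cond (Nat.ble e (nat_lit 1213)) (cond (Nat.ble e (nat_lit 1212)) [nat_lit 1, nat_lit 3] []) (cond (Nat.ble e (nat_lit 1214)) [] [])))))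
/-- a chunk -/
def Wv2_38 (e : ℕ) : List ℕ := (cond (Nat.ble e (nat_lit 1231)) (cond (Nat.ble e (nat_lit 1223)) (cond (Nat.ble e (nat_lit 1219)) (cond (Nat.ble e (nat_lit 1217)) (cond (Nat.ble e (nat_lit 1216)) [nat_lit 1, nat_lit 2, nat_lit 1] [nat_lit 3, nat_lit 0]) (cond (Nat.ble e (nat_lit 1218)) [] [])) (cond (Nat.ble e (nat_lit 1221)) (cond (Nat.ble e (nat_lit 1220)) [] []) (cond (Nat.ble e (nat_lit 1222)) [] [nat_lit 0, nat_lit 3, nat_lit 0]))) (cond (Nat.ble e (nat_lit 1227)) (cond (Nat.ble e (nat_lit 1225)) (cond (Nat.ble e (nat_lit 1224)) [] []) (cond (Nat.ble e (nat_lit 1226)) [nat_lit 3, nat_lit 0] [])) (cond (Nat.ble e (nat_lit 1229)) (cond (Nat.ble e (nat_lit 1228)) [nat_lit 1, nat_lit 2] []) (cond (Nat.ble e (nat_lit 1230)) [] [])))) (cond (Nat.ble e (nat_lit 1239)) (cond (Nat.ble e (nat_lit 1235)) (cond (Nat.ble e (nat_lit 1233)) (cond (Nat.ble e (nat_lit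 1232)) [] []) (cond (Nat.ble e (nat_lit 1234)) [] [])) (cond (Nat.ble e (nat_lit 1237)) (cond (Nat.ble e (nat_lit 1236)) [] [nat_lit 1, nat_lit 3]) (cond (Nat.ble e (nat_lit 1238)) [] []))) (cond (Nat.ble e (nat_lit 1243)) (cond (Nat.ble e (nat_lit 1241)) (cond (Nat.ble e (nat_lit 1240)) [nat_lit 0, nat_lit 0] []) (cond (Nat.ble e (nat_lit 1242)) [] [])) (cond (Nat.ble e (nat_lit 1245)) (cond (Nat.ble e (nat_lit 1244)) [] []) (cond (Nat.ble e (nat_lit 1246)) [] [])))))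
/-- a chunk -/
def Wv2_39 (e : ℕ) : List ℕ := (cond (Nat.ble e (nat_lit 1263)) (cond (Nat.ble e (nat_lit 1255)) (cond (Nat.ble e (nat_lit 1251)) (cond (Nat.ble e (nat_lit 1249)) (cond (Nat.ble e (nat_lit 1248)) [] [nat_lit 0]) (cond (Nat.ble e (nat_lit 1250)) [nat_lit 0, nat_lit 3] [nat_lit 0, nat_lit 3, nat_lit 0])) (cond (Nat.ble e (nat_lit 1253)) (cond (Nat.ble e (nat_lit 1252)) [] [nat_lit 3, nat_lit 0]) (cond (Nat.ble e (nat_lit 1254)) [nat_lit 3] [nat_lit 1]))) (cond (Nat.ble e (nat_lit 1259)) (cond (Nat.ble e (nat_lit 1257)) (cond (Nat.ble e (nat_lit 1256)) [] [nat_lit 3]) (cond (Nat.ble e (nat_lit 1258)) [] [nat_lit 1, nat_lit 2])) (cond (Nat.ble e (nat_lit 1261)) (cond (Nat.ble e (nat_lit 1260)) [] []) (cond (Nat.ble e (nat_lit 1262)) [nat_lit 0, nat_lit 3, nat_lit 0] [])))) (cond (Nat.ble e (nat_lit 1271)) (cond (Nat.ble e (nat_lit 1267)) (cond (Nat.ble e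 (nat_lit 1265)) (cond (Nat.ble e (nat_lit 1264)) [nat_lit 0, nat_lit 0, nat_lit 0] []) (cond (Nat.ble e (nat_lit 1266)) [] [nat_lit 0])) (cond (Nat.ble e (nat_lit 1269)) (cond (Nat.ble e (nat_lit 1268)) [] []) (cond (Nat.ble e (nat_lit 1270)) [] []))) (cond (Nat.ble e (nat_lit 1275)) (cond (Nat.ble e (nat_lit 1273)) (cond (Nat.ble e (nat_lit 1272)) [] [nat_lit 2, nat_lit 1]) (cond (Nat.ble e (nat_lit 1274)) [nat_lit 1, nat_lit 1] [nat_lit 0, nat_lit 3, nat_lit 0])) (cond (Nat.ble e (nat_lit 1277)) (cond (Nat.ble e (nat_lit 1276)) [] [nat_lit 0, nat_lit 2]) (cond (Nat.ble e (nat_lit 1278)) [] [])))))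
/-- a chunk -/
def Wv2_40 (e : ℕ) : List ℕ := (cond (Nat.ble e (nat_lit 1295)) (cond (Nat.ble e (nat_lit 1287)) (cond (Nat.ble e (nat_lit 1283)) (cond (Nat.ble e (nat_lit 1281)) (cond (Nat.ble e (nat_lit 1280)) [] [nat_lit 2]) (cond (Nat.ble e (nat_lit 1282)) [nat_lit 0, nat_lit 2, nat_lit 0] [])) (cond (Nat.ble e (nat_lit 1285)) (cond (Nat.ble e (nat_lit 1284)) [] [nat_lit 2, nat_lit 1]) (cond (Nat.ble e (nat_lit 1286)) [] []))) (cond (Nat.ble e (nat_lit 1291)) (cond (Nat.ble e (nat_lit 1289)) (cond (Nat.ble e (nat_lit 1288)) [] []) (cond (Nat.ble e (nat_lit 1290)) [nat_lit 1, nat_lit 1] [])) (cond (Nat.ble e (nat_lit 1293)) (cond (Nat.ble e (nat_lit 1292)) [] []) (cond (Nat.ble e (nat_lit 1294)) [] [])))) (cond (Nat.ble e (nat_lit 1303)) (cond (Nat.ble e (nat_lit 1299)) (cond (Nat.ble e (nat_lit 1297)) (cond (Nat.ble e (nat_lit 1296)) [] []) (cond (Nat.ble e (nat_lit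 1298)) [] [])) (cond (Nat.ble e (nat_lit 1301)) (cond (Nat.ble e (nat_lit 1300)) [nat_lit 1, nat_lit 3] []) (cond (Nat.ble e (nat_lit 1302)) [nat_lit 1, nat_lit 2, nat_lit 1] []))) (cond (Nat.ble e (nat_lit 1307)) (cond (Nat.ble e (nat_lit 1305)) (cond (Nat.ble e (nat_lit 1304)) [nat_lit 0, nat_lit 2, nat_lit 0] []) (cond (Nat.ble e (nat_lit 1306)) [] [nat_lit 1])) (cond (Nat.ble e (nat_lit 1309)) (cond (Nat.ble e (nat_lit 1308)) [nat_lit 2, nat_lit 1] [nat_lit 1, nat_lit 1]) (cond (Nat.ble e (nat_lit 1310)) [nat_lit 3] [nat_lit 0, nat_lit 2, nat_lit 0])))))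
/-- a chunk -/
def Wv2_41 (e : ℕ) : List ℕ := (cond (Nat.ble e (nat_lit 1327)) (cond (Nat.ble e (nat_lit 1319)) (cond (Nat.ble e (nat_lit 1315)) (cond (Nat.ble e (nat_lit 1313)) (cond (Nat.ble e (nat_lit 1312)) [] [nat_lit 0, nat_lit 3]) (cond (Nat.ble e (nat_lit 1314)) [] [nat_lit 0, nat_lit 2])) (cond (Nat.ble e (nat_lit 1317)) (cond (Nat.ble e (nat_lit 1316)) [] []) (cond (Nat.ble e (nat_lit 1318)) [] [nat_lit 1, nat_lit 1]))) (cond (Nat.ble e (nat_lit 1323)) (cond (Nat.ble e (nat_lit 1321)) (cond (Nat.ble e (nat_lit 1320)) [] [nat_lit 1, nat_lit 2]) (cond (Nat.ble e (nat_lit 1322)) [nat_lit 1, nat_lit 3] [nat_lit 3])) (cond (Nat.ble e (nat_lit 1325)) (cond (Nat.ble e (nat_lit 1324)) [] []) (cond (Nat.ble e (nat_lit 1326)) [nat_lit 0] [])))) (cond (Nat.ble e (nat_lit 1335)) (cond (Nat.ble e (nat_lit 1331)) (cond (Nat.ble e (nat_lit 1329)) (cond (Nat.ble e (nat_lit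 1328)) [nat_lit 0, nat_lit 0, nat_lit 0] [nat_lit 0, nat_lit 3]) (cond (Nat.ble e (nat_lit 1330)) [] [nat_lit 3, nat_lit 1])) (cond (Nat.ble e (nat_lit 1333)) (cond (Nat.ble e (nat_lit 1332)) [] [nat_lit 0, nat_lit 2]) (cond (Nat.ble e (nat_lit 1334)) [nat_lit 0] []))) (cond (Nat.ble e (nat_lit 1339)) (cond (Nat.ble e (nat_lit 1337)) (cond (Nat.ble e (nat_lit 1336)) [] []) (cond (Nat.ble e (nat_lit 1338)) [nat_lit 2, nat_lit 0] [])) (cond (Nat.ble e (nat_lit 1341)) (cond (Nat.ble e (nat_lit 1340)) [nat_lit 2] []) (cond (Nat.ble e (nat_lit 1342)) [] [nat_lit 0, nat_lit 0, nat_lit 0])))))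
/-- a chunk -/
def Wv2_42 (e : ℕ) : List ℕ := (cond (Nat.ble e (nat_lit 1359)) (cond (Nat.ble e (nat_lit 1351)) (cond (Nat.ble e (nat_lit 1347)) (cond (Nat.ble e (nat_lit 1345)) (cond (Nat.ble e (nat_lit 1344)) [] [nat_lit 3, nat_lit 1]) (cond (Nat.ble e (nat_lit 1346)) [nat_lit 2, nat_lit 0] [])) (cond (Nat.ble e (nat_lit 1349)) (cond (Nat.ble e (nat_lit 1348)) [nat_lit 3, nat_lit 1] []) (cond (Nat.ble e (nat_lit 1350)) [nat_lit 0, nat_lit 0, nat_lit 0] [nat_lit 1, nat_lit 1]))) (cond (Nat.ble e (nat_lit 1355)) (cond (Nat.ble e (nat_lit 1353)) (cond (Nat.ble e (nat_lit 1352)) [nat_lit 0] []) (cond (Nat.ble e (nat_lit 1354)) [nat_lit 0] [])) (cond (Nat.ble e (nat_lit 1357)) (cond (Nat.ble e (nat_lit 1356)) [nat_lit 1] []) (cond (Nat.ble e (nat_lit 1358)) [] [])))) (cond (Nat.ble e (nat_lit 1367)) (cond (Nat.ble e (nat_lit 1363)) (cond (Nat.ble e (nat_lit 1361)) (cond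 (Nat.ble e (nat_lit 1360)) [nat_lit 1, nat_lit 1, nat_lit 1] []) (cond (Nat.ble e (nat_lit 1362)) [] [])) (cond (Nat.ble e (nat_lit 1365)) (cond (Nat.ble e (nat_lit 1364)) [nat_lit 3] [nat_lit 1]) (cond (Nat.ble e (nat_lit 1366)) [] [nat_lit 0, nat_lit 0]))) (cond (Nat.ble e (nat_lit 1371)) (cond (Nat.ble e (nat_lit 1369)) (cond (Nat.ble e (nat_lit 1368)) [nat_lit 1] []) (cond (Nat.ble e (nat_lit 1370)) [nat_lit 1, nat_lit 3] [])) (cond (Nat.ble e (nat_lit 1373)) (cond (Nat.ble e (nat_lit 1372)) [nat_lit 0, nat_lit 2, nat_lit 0] []) (cond (Nat.ble e (nat_lit 1374)) [] [])))))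
/-- a chunk -/
def Wv2_43 (e : ℕ) : List ℕ := (cond (Nat.ble e (nat_lit 1391)) (cond (Nat.ble e (nat_lit 1383)) (cond (Nat.ble e (nat_lit 1379)) (cond (Nat.ble e (nat_lit 1377)) (cond (Nat.ble e (nat_lit 1376)) [nat_lit 2] [nat_lit 2]) (cond (Nat.ble e (nat_lit 1378)) [] [])) (cond (Nat.ble e (nat_lit 1381)) (cond (Nat.ble e (nat_lit 1380)) [] []) (cond (Nat.ble e (nat_lit 1382)) [nat_lit 0, nat_lit 0, nat_lit 3] []))) (cond (Nat.ble e (nat_lit 1387)) (cond (Nat.ble e (nat_lit 1385)) (cond (Nat.ble e (nat_lit 1384)) [] []) (cond (Nat.ble e (nat_lit 1386)) [] [])) (cond (Nat.ble e (nat_lit 1389)) (cond (Nat.ble e (nat_lit 1388)) [nat_lit 0, nat_lit 3] []) (cond (Nat.ble e (nat_lit 1390)) [nat_lit 3] [])))) (cond (Nat.ble e (nat_lit 1399)) (cond (Nat.ble e (nat_lit 1395)) (cond (Nat.ble e (nat_lit 1393)) (cond (Nat.ble e (nat_lit 1392)) [] [nat_lit 2]) (cond (Nat.ble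 e (nat_lit 1394)) [] [nat_lit 1, nat_lit 1])) (cond (Nat.ble e (nat_lit 1397)) (cond (Nat.ble e (nat_lit 1396)) [nat_lit 3, nat_lit 0] []) (cond (Nat.ble e (nat_lit 1398)) [] []))) (cond (Nat.ble e (nat_lit 1403)) (cond (Nat.ble e (nat_lit 1401)) (cond (Nat.ble e (nat_lit 1400)) [nat_lit 0, nat_lit 0] [nat_lit 2, nat_lit 1]) (cond (Nat.ble e (nat_lit 1402)) [] [])) (cond (Nat.ble e (nat_lit 1405)) (cond (Nat.ble e (nat_lit 1404)) [nat_lit 0, nat_lit 2] []) (cond (Nat.ble e (nat_lit 1406)) [nat_lit 1] [nat_lit 1])))))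
/-- a chunk -/
def Wv2_44 (e : ℕ) : List ℕ := (cond (Nat.ble e (nat_lit 1423)) (cond (Nat.ble e (nat_lit 1415)) (cond (Nat.ble e (nat_lit 1411)) (cond (Nat.ble e (nat_lit 1409)) (cond (Nat.ble e (nat_lit 1408)) [nat_lit 2] [nat_lit 1, nat_lit 1, nat_lit 1]) (cond (Nat.ble e (nat_lit 1410)) [nat_lit 3, nat_lit 1] [])) (cond (Nat.ble e (nat_lit 1413)) (cond (Nat.ble e (nat_lit 1412)) [nat_lit 0, nat_lit 0] []) (cond (Nat.ble e (nat_lit 1414)) [] [nat_lit 2]))) (cond (Nat.ble e (nat_lit 1419)) (cond (Nat.ble e (nat_lit 1417)) (cond (Nat.ble e (nat_lit 1416)) [] []) (cond (Nat.ble e (nat_lit 1418)) [] [])) (cond (Nat.ble e (nat_lit 1421)) (cond (Nat.ble e (nat_lit 1420)) [] []) (cond (Nat.ble e (nat_lit 1422)) [nat_lit 3] [])))) (cond (Nat.ble e (nat_lit 1431)) (cond (Nat.ble e (nat_lit 1427)) (cond (Nat.ble e (nat_lit 1425)) (cond (Nat.ble e (nat_lit 1424)) [] [nat_lit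 3]) (cond (Nat.ble e (nat_lit 1426)) [nat_lit 1, nat_lit 2] [])) (cond (Nat.ble e (nat_lit 1429)) (cond (Nat.ble e (nat_lit 1428)) [nat_lit 0, nat_lit 2] []) (cond (Nat.ble e (nat_lit 1430)) [nat_lit 1] []))) (cond (Nat.ble e (nat_lit 1435)) (cond (Nat.ble e (nat_lit 1433)) (cond (Nat.ble e (nat_lit 1432)) [nat_lit 1, nat_lit 3] [nat_lit 0, nat_lit 2]) (cond (Nat.ble e (nat_lit 1434)) [] [])) (cond (Nat.ble e (nat_lit 1437)) (cond (Nat.ble e (nat_lit 1436)) [] [nat_lit 0, nat_lit 0]) (cond (Nat.ble e (nat_lit 1438)) [] [nat_lit 1])))))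
/-- a chunk -/
def Wv2_45 (e : ℕ) : List ℕ := (cond (Nat.ble e (nat_lit 1455)) (cond (Nat.ble e (nat_lit 1447)) (cond (Nat.ble e (nat_lit 1443)) (cond (Nat.ble e (nat_lit 1441)) (cond (Nat.ble e (nat_lit 1440)) [] [nat_lit 2, nat_lit 0]) (cond (Nat.ble e (nat_lit 1442)) [nat_lit 3, nat_lit 0] [nat_lit 1, nat_lit 2])) (cond (Nat.ble e (nat_lit 1445)) (cond (Nat.ble e (nat_lit 1444)) [nat_lit 1] []) (cond (Nat.ble e (nat_lit 1446)) [nat_lit 3, nat_lit 0] []))) (cond (Nat.ble e (nat_lit 1451)) (cond (Nat.ble e (nat_lit 1449)) (cond (Nat.ble e (nat_lit 1448)) [nat_lit 0, nat_lit 0] [nat_lit 2]) (cond (Nat.ble e (nat_lit 1450)) [nat_lit 2, nat_lit 0] [])) (cond (Nat.ble e (nat_lit 1453)) (cond (Nat.ble e (nat_lit 1452)) [] []) (cond (Nat.ble e (nat_lit 1454)) [] [])))) (cond (Nat.ble e (nat_lit 1463)) (cond (Nat.ble e (nat_lit 1459)) (cond (Nat.ble e (nat_lit 1457)) (cond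 (Nat.ble e (nat_lit 1456)) [] []) (cond (Nat.ble e (nat_lit 1458)) [nat_lit 1] [nat_lit 3])) (cond (Nat.ble e (nat_lit 1461)) (cond (Nat.ble e (nat_lit 1460)) [nat_lit 1, nat_lit 2] []) (cond (Nat.ble e (nat_lit 1462)) [nat_lit 1] []))) (cond (Nat.ble e (nat_lit 1467)) (cond (Nat.ble e (nat_lit 1465)) (cond (Nat.ble e (nat_lit 1464)) [] []) (cond (Nat.ble e (nat_lit 1466)) [] [])) (cond (Nat.ble e (nat_lit 1469)) (cond (Nat.ble e (nat_lit 1468)) [nat_lit 0, nat_lit 2] []) (cond (Nat.ble e (nat_lit 1470)) [] [nat_lit 3, nat_lit 0])))))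
/-- a chunk -/
def Wv2_46 (e : ℕ) : List ℕ := (cond (Nat.ble e (nat_lit 1487)) (cond (Nat.ble e (nat_lit 1479)) (cond (Nat.ble e (nat_lit 1475)) (cond (Nat.ble e (nat_lit 1473)) (cond (Nat.ble e (nat_lit 1472)) [nat_lit 3, nat_lit 1] []) (cond (Nat.ble e (nat_lit 1474)) [] [nat_lit 3, nat_lit 1])) (cond (Nat.ble e (nat_lit 1477)) (cond (Nat.ble e (nat_lit 1476)) [] []) (cond (Nat.ble e (nat_lit 1478)) [nat_lit 2, nat_lit 0] []))) (cond (Nat.ble e (nat_lit 1483)) (cond (Nat.ble e (nat_lit 1481)) (cond (Nat.ble e (nat_lit 1480)) [] [nat_lit 0, nat_lit 0]) (cond (Nat.ble e (nat_lit 1482)) [] [])) (cond (Nat.ble e (nat_lit 1485)) (cond (Nat.ble e (nat_lit 1484)) [] [nat_lit 3]) (cond (Nat.ble e (nat_lit 1486)) [nat_lit 0] [nat_lit 0, nat_lit 2])))) (cond (Nat.ble e (nat_lit 1495)) (cond (Nat.ble e (nat_lit 1491)) (cond (Nat.ble e (nat_lit 1489)) (cond (Nat.ble e (nat_lit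 1488)) [] [nat_lit 0]) (cond (Nat.ble e (nat_lit 1490)) [nat_lit 0, nat_lit 3, nat_lit 0] [])) (cond (Nat.ble e (nat_lit 1493)) (cond (Nat.ble e (nat_lit 1492)) [] []) (cond (Nat.ble e (nat_lit 1494)) [] [nat_lit 2, nat_lit 0]))) (cond (Nat.ble e (nat_lit 1499)) (cond (Nat.ble e (nat_lit 1497)) (cond (Nat.ble e (nat_lit 1496)) [] []) (cond (Nat.ble e (nat_lit 1498)) [nat_lit 0, nat_lit 2] [])) (cond (Nat.ble e (nat_lit 1501)) (cond (Nat.ble e (nat_lit 1500)) [] [nat_lit 0, nat_lit 3, nat_lit 0]) (cond (Nat.ble e (nat_lit 1502)) [nat_lit 0] [nat_lit 3])))))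
/-- a chunk -/
def Wv2_47 (e : ℕ) : List ℕ := (cond (Nat.ble e (nat_lit 1519)) (cond (Nat.ble e (nat_lit 1511)) (cond (Nat.ble e (nat_lit 1507)) (cond (Nat.ble e (nat_lit 1505)) (cond (Nat.ble e (nat_lit 1504)) [] []) (cond (Nat.ble e (nat_lit 1506)) [nat_lit 0, nat_lit 3, nat_lit 0] [])) (cond (Nat.ble e (nat_lit 1509)) (cond (Nat.ble e (nat_lit 1508)) [] [nat_lit 1, nat_lit 3]) (cond (Nat.ble e (nat_lit 1510)) [] [nat_lit 1, nat_lit 1]))) (cond (Nat.ble e (nat_lit 1515)) (cond (Nat.ble e (nat_lit 1513)) (cond (Nat.ble e (nat_lit 1512)) [] [nat_lit 0, nat_lit 0, nat_lit 0]) (cond (Nat.ble e (nat_lit 1514)) [nat_lit 1] [nat_lit 1])) (cond (Nat.ble e (nat_lit 1517)) (cond (Nat.ble e (nat_lit 1516)) [] []) (cond (Nat.ble e (nat_lit 1518)) [nat_lit 0, nat_lit 3, nat_lit 0] [])))) (cond (Nat.ble e (nat_lit 1527)) (cond (Nat.ble e (nat_lit 1523)) (cond (Nat.ble e (nat_lit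 1521)) (cond (Nat.ble e (nat_lit 1520)) [] [nat_lit 1]) (cond (Nat.ble e (nat_lit 1522)) [nat_lit 0, nat_lit 0] [])) (cond (Nat.ble e (nat_lit 1525)) (cond (Nat.ble e (nat_lit 1524)) [] []) (cond (Nat.ble e (nat_lit 1526)) [] [nat_lit 0]))) (cond (Nat.ble e (nat_lit 1531)) (cond (Nat.ble e (nat_lit 1529)) (cond (Nat.ble e (nat_lit 1528)) [] []) (cond (Nat.ble e (nat_lit 1530)) [] [])) (cond (Nat.ble e (nat_lit 1533)) (cond (Nat.ble e (nat_lit 1532)) [] []) (cond (Nat.ble e (nat_lit 1534)) [] [])))))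
/-- a chunk -/
def Wv2_48 (e : ℕ) : List ℕ := (cond (Nat.ble e (nat_lit 1551)) (cond (Nat.ble e (nat_lit 1543)) (cond (Nat.ble e (nat_lit 1539)) (cond (Nat.ble e (nat_lit 1537)) (cond (Nat.ble e (nat_lit 1536)) [] []) (cond (Nat.ble e (nat_lit 1538)) [] [nat_lit 0, nat_lit 3])) (cond (Nat.ble e (nat_lit 1541)) (cond (Nat.ble e (nat_lit 1540)) [nat_lit 0, nat_lit 3, nat_lit 0] []) (cond (Nat.ble e (nat_lit 1542)) [] [nat_lit 1, nat_lit 2]))) (cond (Nat.ble e (nat_lit 1547)) (cond (Nat.ble e (nat_lit 1545)) (cond (Nat.ble e (nat_lit 1544)) [nat_lit 0] []) (cond (Nat.ble e (nat_lit 1546)) [] [])) (cond (Nat.ble e (nat_lit 1549)) (cond (Nat.ble e (nat_lit 1548)) [nat_lit 2] []) (cond (Nat.ble e (nat_lit 1550)) [] [])))) (cond (Nat.ble e (nat_lit 1559)) (cond (Nat.ble e (nat_lit 1555)) (cond (Nat.ble e (nat_lit 1553)) (cond (Nat.ble e (nat_lit 1552)) [] [nat_lit 0, nat_lit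 0, nat_lit 3]) (cond (Nat.ble e (nat_lit 1554)) [] [])) (cond (Nat.ble e (nat_lit 1557)) (cond (Nat.ble e (nat_lit 1556)) [] []) (cond (Nat.ble e (nat_lit 1558)) [] []))) (cond (Nat.ble e (nat_lit 1563)) (cond (Nat.ble e (nat_lit 1561)) (cond (Nat.ble e (nat_lit 1560)) [nat_lit 0, nat_lit 0, nat_lit 3] [nat_lit 0, nat_lit 0, nat_lit 3]) (cond (Nat.ble e (nat_lit 1562)) [] [])) (cond (Nat.ble e (nat_lit 1565)) (cond (Nat.ble e (nat_lit 1564)) [nat_lit 1, nat_lit 1] []) (cond (Nat.ble e (nat_lit 1566)) [] [nat_lit 2])))))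
/-- a chunk -/
def Wv2_49 (e : ℕ) : List ℕ := (cond (Nat.ble e (nat_lit 1583)) (cond (Nat.ble e (nat_lit 1575)) (cond (Nat.ble e (nat_lit 1571)) (cond (Nat.ble e (nat_lit 1569)) (cond (Nat.ble e (nat_lit 1568)) [] []) (cond (Nat.ble e (nat_lit 1570)) [nat_lit 3, nat_lit 1] [])) (cond (Nat.ble e (nat_lit 1573)) (cond (Nat.ble e (nat_lit 1572)) [] []) (cond (Nat.ble e (nat_lit 1574)) [] []))) (cond (Nat.ble e (nat_lit 1579)) (cond (Nat.ble e (nat_lit 1577)) (cond (Nat.ble e (nat_lit 1576)) [nat_lit 2] []) (cond (Nat.ble e (nat_lit 1578)) [] [nat_lit 2, nat_lit 0])) (cond (Nat.ble e (nat_lit 1581)) (cond (Nat.ble e (nat_lit 1580)) [nat_lit 0, nat_lit 2] []) (cond (Nat.ble e (nat_lit 1582)) [nat_lit 0, nat_lit 0] [])))) (cond (Nat.ble e (nat_lit 1591)) (cond (Nat.ble e (nat_lit 1587)) (cond (Nat.ble e (nat_lit 1585)) (cond (Nat.ble e (nat_lit 1584)) [] []) (cond (Nat.ble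 e (nat_lit 1586)) [nat_lit 0] [nat_lit 0])) (cond (Nat.ble e (nat_lit 1589)) (cond (Nat.ble e (nat_lit 1588)) [] [nat_lit 0, nat_lit 2, nat_lit 0]) (cond (Nat.ble e (nat_lit 1590)) [nat_lit 1, nat_lit 2, nat_lit 1] [nat_lit 3]))) (cond (Nat.ble e (nat_lit 1595)) (cond (Nat.ble e (nat_lit 1593)) (cond (Nat.ble e (nat_lit 1592)) [] []) (cond (Nat.ble e (nat_lit 1594)) [nat_lit 0, nat_lit 2] [nat_lit 2, nat_lit 1])) (cond (Nat.ble e (nat_lit 1597)) (cond (Nat.ble e (nat_lit 1596)) [] [nat_lit 0, nat_lit 0, nat_lit 3]) (cond (Nat.ble e (nat_lit 1598)) [] [])))))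
/-- a chunk -/
def Wv2_50 (e : ℕ) : List ℕ := (cond (Nat.ble e (nat_lit 1615)) (cond (Nat.ble e (nat_lit 1607)) (cond (Nat.ble e (nat_lit 1603)) (cond (Nat.ble e (nat_lit 1601)) (cond (Nat.ble e (nat_lit 1600)) [] []) (cond (Nat.ble e (nat_lit 1602)) [] [])) (cond (Nat.ble e (nat_lit 1605)) (cond (Nat.ble e (nat_lit 1604)) [] [nat_lit 0, nat_lit 2, nat_lit 0]) (cond (Nat.ble e (nat_lit 1606)) [] []))) (cond (Nat.ble e (nat_lit 1611)) (cond (Nat.ble e (nat_lit 1609)) (cond (Nat.ble e (nat_lit 1608)) [] [nat_lit 1, nat_lit 3]) (cond (Nat.ble e (nat_lit 1610)) [nat_lit 1, nat_lit 3] [])) (cond (Nat.ble e (nat_lit 1613)) (cond (Nat.ble e (nat_lit 1612)) [nat_lit 1, nat_lit 2] [nat_lit 1, nat_lit 2]) (cond (Nat.ble e (nat_lit 1614)) [nat_lit 3] [])))) (cond (Nat.ble e (nat_lit 1623)) (cond (Nat.ble e (nat_lit 1619)) (cond (Nat.ble e (nat_lit 1617)) (cond (Nat.ble e (nat_lit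 1616)) [nat_lit 0] [nat_lit 2, nat_lit 1]) (cond (Nat.ble e (nat_lit 1618)) [nat_lit 0, nat_lit 0, nat_lit 3] [])) (cond (Nat.ble e (nat_lit 1621)) (cond (Nat.ble e (nat_lit 1620)) [nat_lit 0] []) (cond (Nat.ble e (nat_lit 1622)) [nat_lit 1, nat_lit 1, nat_lit 1] []))) (cond (Nat.ble e (nat_lit 1627)) (cond (Nat.ble e (nat_lit 1625)) (cond (Nat.ble e (nat_lit 1624)) [] []) (cond (Nat.ble e (nat_lit 1626)) [nat_lit 1, nat_lit 2, nat_lit 1] [nat_lit 1])) (cond (Nat.ble e (nat_lit 1629)) (cond (Nat.ble e (nat_lit 1628)) [nat_lit 0, nat_lit 3] []) (cond (Nat.ble e (nat_lit 1630)) [nat_lit 3] [nat_lit 3, nat_lit 1])))))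
/-- a chunk -/
def Wv2_51 (e : ℕ) : List ℕ := (cond (Nat.ble e (nat_lit 1647)) (cond (Nat.ble e (nat_lit 1639)) (cond (Nat.ble e (nat_lit 1635)) (cond (Nat.ble e (nat_lit 1633)) (cond (Nat.ble e (nat_lit 1632)) [] [nat_lit 3, nat_lit 0]) (cond (Nat.ble e (nat_lit 1634)) [] [])) (cond (Nat.ble e (nat_lit 1637)) (cond (Nat.ble e (nat_lit 1636)) [] [nat_lit 2, nat_lit 1]) (cond (Nat.ble e (nat_lit 1638)) [] [nat_lit 0, nat_lit 3]))) (cond (Nat.ble e (nat_lit 1643)) (cond (Nat.ble e (nat_lit 1641)) (cond (Nat.ble e (nat_lit 1640)) [nat_lit 1] [nat_lit 0, nat_lit 3]) (cond (Nat.ble e (nat_lit 1642)) [nat_lit 0, nat_lit 3] [])) (cond (Nat.ble e (nat_lit 1645)) (cond (Nat.ble e (nat_lit 1644)) [] [nat_lit 0]) (cond (Nat.ble e (nat_lit 1646)) [nat_lit 0, nat_lit 3] [nat_lit 0, nat_lit 0])))) (cond (Nat.ble e (nat_lit 1655)) (cond (Nat.ble e (nat_lit 1651)) (cond (Nat.ble e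 (nat_lit 1649)) (cond (Nat.ble e (nat_lit 1648)) [nat_lit 3] []) (cond (Nat.ble e (nat_lit 1650)) [nat_lit 0, nat_lit 0, nat_lit 0] [])) (cond (Nat.ble e (nat_lit 1653)) (cond (Nat.ble e (nat_lit 1652)) [] []) (cond (Nat.ble e (nat_lit 1654)) [] []))) (cond (Nat.ble e (nat_lit 1659)) (cond (Nat.ble e (nat_lit 1657)) (cond (Nat.ble e (nat_lit 1656)) [] []) (cond (Nat.ble e (nat_lit 1658)) [] [])) (cond (Nat.ble e (nat_lit 1661)) (cond (Nat.ble e (nat_lit 1660)) [] []) (cond (Nat.ble e (nat_lit 1662)) [] [nat_lit 0])))))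
/-- a chunk -/
def Wv2_52 (e : ℕ) : List ℕ := (cond (Nat.ble e (nat_lit 1679)) (cond (Nat.ble e (nat_lit 1671)) (cond (Nat.ble e (nat_lit 1667)) (cond (Nat.ble e (nat_lit 1665)) (cond (Nat.ble e (nat_lit 1664)) [nat_lit 2] []) (cond (Nat.ble e (nat_lit 1666)) [] [])) (cond (Nat.ble e (nat_lit 1669)) (cond (Nat.ble e (nat_lit 1668)) [] [nat_lit 0, nat_lit 2]) (cond (Nat.ble e (nat_lit 1670)) [nat_lit 1, nat_lit 1, nat_lit 1] [nat_lit 0, nat_lit 2]))) (cond (Nat.ble e (nat_lit 1675)) (cond (Nat.ble e (nat_lit 1673)) (cond (Nat.ble e (nat_lit 1672)) [] [nat_lit 0, nat_lit 3]) (cond (Nat.ble e (nat_lit 1674)) [nat_lit 1] [nat_lit 2, nat_lit 0])) (cond (Nat.ble e (nat_lit 1677)) (cond (Nat.ble e (nat_lit 1676)) [] []) (cond (Nat.ble e (nat_lit 1678)) [] [])))) (cond (Nat.ble e (nat_lit 1687)) (cond (Nat.ble e (nat_lit 1683)) (cond (Nat.ble e (nat_lit 1681)) (cond (Nat.ble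 e (nat_lit 1680)) [] [nat_lit 0]) (cond (Nat.ble e (nat_lit 1682)) [nat_lit 3, nat_lit 1] [])) (cond (Nat.ble e (nat_lit 1685)) (cond (Nat.ble e (nat_lit 1684)) [] []) (cond (Nat.ble e (nat_lit 1686)) [] []))) (cond (Nat.ble e (nat_lit 1691)) (cond (Nat.ble e (nat_lit 1689)) (cond (Nat.ble e (nat_lit 1688)) [nat_lit 2, nat_lit 0] []) (cond (Nat.ble e (nat_lit 1690)) [nat_lit 0, nat_lit 2] [nat_lit 0])) (cond (Nat.ble e (nat_lit 1693)) (cond (Nat.ble e (nat_lit 1692)) [] [nat_lit 0, nat_lit 0, nat_lit 0]) (cond (Nat.ble e (nat_lit 1694)) [] [])))))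
/-- a chunk -/
def Wv2_53 (e : ℕ) : List ℕ := (cond (Nat.ble e (nat_lit 1711)) (cond (Nat.ble e (nat_lit 1703)) (cond (Nat.ble e (nat_lit 1699)) (cond (Nat.ble e (nat_lit 1697)) (cond (Nat.ble e (nat_lit 1696)) [nat_lit 3, nat_lit 1] []) (cond (Nat.ble e (nat_lit 1698)) [] [])) (cond (Nat.ble e (nat_lit 1701)) (cond (Nat.ble e (nat_lit 1700)) [] [nat_lit 3, nat_lit 0]) (cond (Nat.ble e (nat_lit 1702)) [nat_lit 1, nat_lit 2, nat_lit 1] []))) (cond (Nat.ble e (nat_lit 1707)) (cond (Nat.ble e (nat_lit 1705)) (cond (Nat.ble e (nat_lit 1704)) [] [nat_lit 1, nat_lit 3]) (cond (Nat.ble e (nat_lit 1706)) [] [])) (cond (Nat.ble e (nat_lit 1709)) (cond (Nat.ble e (nat_lit 1708)) [nat_lit 3, nat_lit 1] []) (cond (Nat.ble e (nat_lit 1710)) [] [nat_lit 3, nat_lit 0])))) (cond (Nat.ble e (nat_lit 1719)) (cond (Nat.ble e (nat_lit 1715)) (cond (Nat.ble e (nat_lit 1713)) (cond (Nat.ble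 e (nat_lit 1712)) [] [nat_lit 2]) (cond (Nat.ble e (nat_lit 1714)) [] [nat_lit 0, nat_lit 0, nat_lit 0])) (cond (Nat.ble e (nat_lit 1717)) (cond (Nat.ble e (nat_lit 1716)) [nat_lit 0, nat_lit 0] []) (cond (Nat.ble e (nat_lit 1718)) [] []))) (cond (Nat.ble e (nat_lit 1723)) (cond (Nat.ble e (nat_lit 1721)) (cond (Nat.ble e (nat_lit 1720)) [nat_lit 2, nat_lit 1] []) (cond (Nat.ble e (nat_lit 1722)) [nat_lit 1] [nat_lit 1])) (cond (Nat.ble e (nat_lit 1725)) (cond (Nat.ble e (nat_lit 1724)) [] []) (cond (Nat.ble e (nat_lit 1726)) [] [nat_lit 0, nat_lit 2])))))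
/-- a chunk -/
def Wv2_54 (e : ℕ) : List ℕ := (cond (Nat.ble e (nat_lit 1743)) (cond (Nat.ble e (nat_lit 1735)) (cond (Nat.ble e (nat_lit 1731)) (cond (Nat.ble e (nat_lit 1729)) (cond (Nat.ble e (nat_lit 1728)) [nat_lit 0, nat_lit 0, nat_lit 3] []) (cond (Nat.ble e (nat_lit 1730)) [nat_lit 1, nat_lit 1, nat_lit 1] [nat_lit 2])) (cond (Nat.ble e (nat_lit 1733)) (cond (Nat.ble e (nat_lit 1732)) [nat_lit 0, nat_lit 2] []) (cond (Nat.ble e (nat_lit 1734)) [] []))) (cond (Nat.ble e (nat_lit 1739)) (cond (Nat.ble e (nat_lit 1737)) (cond (Nat.ble e (nat_lit 1736)) [nat_lit 0] []) (cond (Nat.ble e (nat_lit 1738)) [] [nat_lit 3])) (cond (Nat.ble e (nat_lit 1741)) (cond (Nat.ble e (nat_lit 1740)) [] [nat_lit 3]) (cond (Nat.ble e (nat_lit 1742)) [nat_lit 1, nat_lit 2, nat_lit 1] [])))) (cond (Nat.ble e (nat_lit 1751)) (cond (Nat.ble e (nat_lit 1747)) (cond (Nat.ble e (nat_lit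 1745)) (cond (Nat.ble e (nat_lit 1744)) [] []) (cond (Nat.ble e (nat_lit 1746)) [nat_lit 1, nat_lit 1, nat_lit 1] [])) (cond (Nat.ble e (nat_lit 1749)) (cond (Nat.ble e (nat_lit 1748)) [nat_lit 0, nat_lit 0] [nat_lit 0, nat_lit 0]) (cond (Nat.ble e (nat_lit 1750)) [nat_lit 0, nat_lit 0, nat_lit 3] [nat_lit 3]))) (cond (Nat.ble e (nat_lit 1755)) (cond (Nat.ble e (nat_lit 1753)) (cond (Nat.ble e (nat_lit 1752)) [nat_lit 3] []) (cond (Nat.ble e (nat_lit 1754)) [] [nat_lit 2])) (cond (Nat.ble e (nat_lit 1757)) (cond (Nat.ble e (nat_lit 1756)) [nat_lit 0, nat_lit 3, nat_lit 0] []) (cond (Nat.ble e (nat_lit 1758)) [] [])))))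
/-- a chunk -/
def Wv2_55 (e : ℕ) : List ℕ := (cond (Nat.ble e (nat_lit 1775)) (cond (Nat.ble e (nat_lit 1767)) (cond (Nat.ble e (nat_lit 1763)) (cond (Nat.ble e (nat_lit 1761)) (cond (Nat.ble e (nat_lit 1760)) [] []) (cond (Nat.ble e (nat_lit 1762)) [nat_lit 0, nat_lit 2] [])) (cond (Nat.ble e (nat_lit 1765)) (cond (Nat.ble e (nat_lit 1764)) [nat_lit 1, nat_lit 1] [nat_lit 0, nat_lit 0, nat_lit 3]) (cond (Nat.ble e (nat_lit 1766)) [nat_lit 3, nat_lit 1] []))) (cond (Nat.ble e (nat_lit 1771)) (cond (Nat.ble e (nat_lit 1769)) (cond (Nat.ble e (nat_lit 1768)) [] []) (cond (Nat.ble e (nat_lit 1770)) [] [nat_lit 1, nat_lit 2, nat_lit 1])) (cond (Nat.ble e (nat_lit 1773)) (cond (Nat.ble e (nat_lit 1772)) [] []) (cond (Nat.ble e (nat_lit 1774)) [nat_lit 0, nat_lit 2, nat_lit 0] [])))) (cond (Nat.ble e (nat_lit 1783)) (cond (Nat.ble e (nat_lit 1779)) (cond (Nat.ble e (nat_lit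 1777)) (cond (Nat.ble e (nat_lit 1776)) [] [nat_lit 1]) (cond (Nat.ble e (nat_lit 1778)) [nat_lit 2, nat_lit 1] [])) (cond (Nat.ble e (nat_lit 1781)) (cond (Nat.ble e (nat_lit 1780)) [nat_lit 3, nat_lit 1] []) (cond (Nat.ble e (nat_lit 1782)) [] []))) (cond (Nat.ble e (nat_lit 1787)) (cond (Nat.ble e (nat_lit 1785)) (cond (Nat.ble e (nat_lit 1784)) [nat_lit 0, nat_lit 0, nat_lit 0] []) (cond (Nat.ble e (nat_lit 1786)) [] [nat_lit 1, nat_lit 1])) (cond (Nat.ble e (nat_lit 1789)) (cond (Nat.ble e (nat_lit 1788)) [nat_lit 0, nat_lit 0, nat_lit 3] []) (cond (Nat.ble e (nat_lit 1790)) [nat_lit 3] [nat_lit 0, nat_lit 2])))))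
/-- a chunk -/
def Wv2_56 (e : ℕ) : List ℕ := (cond (Nat.ble e (nat_lit 1807)) (cond (Nat.ble e (nat_lit 1799)) (cond (Nat.ble e (nat_lit 1795)) (cond (Nat.ble e (nat_lit 1793)) (cond (Nat.ble e (nat_lit 1792)) [nat_lit 0, nat_lit 0, nat_lit 3] []) (cond (Nat.ble e (nat_lit 1794)) [nat_lit 3, nat_lit 0] [nat_lit 1, nat_lit 2])) (cond (Nat.ble e (nat_lit 1797)) (cond (Nat.ble e (nat_lit 1796)) [nat_lit 1] []) (cond (Nat.ble e (nat_lit 1798)) [nat_lit 0] []))) (cond (Nat.ble e (nat_lit 1803)) (cond (Nat.ble e (nat_lit 1801)) (cond (Nat.ble e (nat_lit 1800)) [] [nat_lit 0, nat_lit 3]) (cond (Nat.ble e (nat_lit 1802)) [nat_lit 0] [nat_lit 0, nat_lit 2, nat_lit 0])) (cond (Nat.ble e (nat_lit 1805)) (cond (Nat.ble e (nat_lit 1804)) [] [nat_lit 0]) (cond (Nat.ble e (nat_lit 1806)) [nat_lit 2] [])))) (cond (Nat.ble e (nat_lit 1815)) (cond (Nat.ble e (nat_lit 1811)) (cond (Nat.ble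 e (nat_lit 1809)) (cond (Nat.ble e (nat_lit 1808)) [] [nat_lit 0, nat_lit 2, nat_lit 0]) (cond (Nat.ble e (nat_lit 1810)) [nat_lit 0, nat_lit 2, nat_lit 0] [])) (cond (Nat.ble e (nat_lit 1813)) (cond (Nat.ble e (nat_lit 1812)) [] [nat_lit 1, nat_lit 1, nat_lit 1]) (cond (Nat.ble e (nat_lit 1814)) [nat_lit 1, nat_lit 1] []))) (cond (Nat.ble e (nat_lit 1819)) (cond (Nat.ble e (nat_lit 1817)) (cond (Nat.ble e (nat_lit 1816)) [nat_lit 0, nat_lit 2] [nat_lit 1, nat_lit 2, nat_lit 1]) (cond (Nat.ble e (nat_lit 1818)) [] [nat_lit 0, nat_lit 0, nat_lit 3])) (cond (Nat.ble e (nat_lit 1821)) (cond (Nat.ble e (nat_lit 1820)) [] []) (cond (Nat.ble e (nat_lit 1822)) [nat_lit 0, nat_lit 3] [nat_lit 0, nat_lit 0])))))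
/-- a chunk -/
def Wv2_57 (e : ℕ) : List ℕ := (cond (Nat.ble e (nat_lit 1839)) (cond (Nat.ble e (nat_lit 1831)) (cond (Nat.ble e (nat_lit 1827)) (cond (Nat.ble e (nat_lit 1825)) (cond (Nat.ble e (nat_lit 1824)) [] []) (cond (Nat.ble e (nat_lit 1826)) [nat_lit 3, nat_lit 0] [])) (cond (Nat.ble e (nat_lit 1829)) (cond (Nat.ble e (nat_lit 1828)) [] [nat_lit 1, nat_lit 3]) (cond (Nat.ble e (nat_lit 1830)) [nat_lit 1, nat_lit 1] [nat_lit 1, nat_lit 1]))) (cond (Nat.ble e (nat_lit 1835)) (cond (Nat.ble e (nat_lit 1833)) (cond (Nat.ble e (nat_lit 1832)) [nat_lit 0] []) (cond (Nat.ble e (nat_lit 1834)) [nat_lit 1, nat_lit 2, nat_lit 1] [])) (cond (Nat.ble e (nat_lit 1837)) (cond (Nat.ble e (nat_lit 1836)) [nat_lit 0, nat_lit 3] []) (cond (Nat.ble e (nat_lit 1838)) [] [nat_lit 1, nat_lit 1, nat_lit 1])))) (cond (Nat.ble e (nat_lit 1847)) (cond (Nat.ble e (nat_lit 1843)) (cond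 (Nat.ble e (nat_lit 1841)) (cond (Nat.ble e (nat_lit 1840)) [] [nat_lit 2, nat_lit 1]) (cond (Nat.ble e (nat_lit 1842)) [] [nat_lit 1, nat_lit 2])) (cond (Nat.ble e (nat_lit 1845)) (cond (Nat.ble e (nat_lit 1844)) [] [nat_lit 0, nat_lit 0, nat_lit 3]) (cond (Nat.ble e (nat_lit 1846)) [nat_lit 2, nat_lit 1] [nat_lit 2]))) (cond (Nat.ble e (nat_lit 1851)) (cond (Nat.ble e (nat_lit 1849)) (cond (Nat.ble e (nat_lit 1848)) [nat_lit 1, nat_lit 1, nat_lit 1] []) (cond (Nat.ble e (nat_lit 1850)) [nat_lit 1, nat_lit 2, nat_lit 1] [nat_lit 0])) (cond (Nat.ble e (nat_lit 1853)) (cond (Nat.ble e (nat_lit 1852)) [] [nat_lit 1]) (cond (Nat.ble e (nat_lit 1854)) [] [nat_lit 2, nat_lit 1])))))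
/-- a chunk -/
def Wv2_58 (e : ℕ) : List ℕ := (cond (Nat.ble e (nat_lit 1871)) (cond (Nat.ble e (nat_lit 1863)) (cond (Nat.ble e (nat_lit 1859)) (cond (Nat.ble e (nat_lit 1857)) (cond (Nat.ble e (nat_lit 1856)) [nat_lit 1, nat_lit 2, nat_lit 1] []) (cond (Nat.ble e (nat_lit 1858)) [] [nat_lit 0, nat_lit 0, nat_lit 0])) (cond (Nat.ble e (nat_lit 1861)) (cond (Nat.ble e (nat_lit 1860)) [nat_lit 3] [nat_lit 0, nat_lit 0, nat_lit 3]) (cond (Nat.ble e (nat_lit 1862)) [nat_lit 1, nat_lit 1] [nat_lit 3, nat_lit 1]))) (cond (Nat.ble e (nat_lit 1867)) (cond (Nat.ble e (nat_lit 1865)) (cond (Nat.ble e (nat_lit 1864)) [nat_lit 3, nat_lit 1] []) (cond (Nat.ble e (nat_lit 1866)) [nat_lit 2, nat_lit 1] [nat_lit 3, nat_lit 0])) (cond (Nat.ble e (nat_lit 1869)) (cond (Nat.ble e (nat_lit 1868)) [nat_lit 2, nat_lit 1] [nat_lit 3]) (cond (Nat.ble e (nat_lit 1870)) [] [nat_lit 2, nat_lit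 0])))) (cond (Nat.ble e (nat_lit 1879)) (cond (Nat.ble e (nat_lit 1875)) (cond (Nat.ble e (nat_lit 1873)) (cond (Nat.ble e (nat_lit 1872)) [nat_lit 1] []) (cond (Nat.ble e (nat_lit 1874)) [nat_lit 0, nat_lit 0] [])) (cond (Nat.ble e (nat_lit 1877)) (cond (Nat.ble e (nat_lit 1876)) [nat_lit 1, nat_lit 2, nat_lit 1] [nat_lit 0, nat_lit 3, nat_lit 0]) (cond (Nat.ble e (nat_lit 1878)) [nat_lit 0, nat_lit 3] []))) (cond (Nat.ble e (nat_lit 1883)) (cond (Nat.ble e (nat_lit 1881)) (cond (Nat.ble e (nat_lit 1880)) [nat_lit 0, nat_lit 2] []) (cond (Nat.ble e (nat_lit 1882)) [nat_lit 2] [])) (cond (Nat.ble e (nat_lit 1885)) (cond (Nat.ble e (nat_lit 1884)) [nat_lit 3, nat_lit 1] []) (cond (Nat.ble e (nat_lit 1886)) [nat_lit 2] [nat_lit 1, nat_lit 3])))))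
/-- a chunk -/
def Wv2_59 (e : ℕ) : List ℕ := (cond (Nat.ble e (nat_lit 1903)) (cond (Nat.ble e (nat_lit 1895)) (cond (Nat.ble e (nat_lit 1891)) (cond (Nat.ble e (nat_lit 1889)) (cond (Nat.ble e (nat_lit 1888)) [nat_lit 1, nat_lit 2] []) (cond (Nat.ble e (nat_lit 1890)) [nat_lit 3, nat_lit 1] [nat_lit 1, nat_lit 1, nat_lit 1])) (cond (Nat.ble e (nat_lit 1893)) (cond (Nat.ble e (nat_lit 1892)) [nat_lit 1, nat_lit 1, nat_lit 1] [nat_lit 0, nat_lit 2, nat_lit 0]) (cond (Nat.ble e (nat_lit 1894)) [] [nat_lit 3, nat_lit 1]))) (cond (Nat.ble e (nat_lit 1899)) (cond (Nat.ble e (nat_lit 1897)) (cond (Nat.ble e (nat_lit 1896)) [nat_lit 2] []) (cond (Nat.ble e (nat_lit 1898)) [nat_lit 3, nat_lit 1] [nat_lit 3])) (cond (Nat.ble e (nat_lit 1901)) (cond (Nat.ble e (nat_lit 1900)) [nat_lit 1, nat_lit 1, nat_lit 1] []) (cond (Nat.ble e (nat_lit 1902)) [] [nat_lit 1])))) (cond (Nat.ble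 e (nat_lit 1911)) (cond (Nat.ble e (nat_lit 1907)) (cond (Nat.ble e (nat_lit 1905)) (cond (Nat.ble e (nat_lit 1904)) [nat_lit 0, nat_lit 2, nat_lit 0] []) (cond (Nat.ble e (nat_lit 1906)) [nat_lit 0] [])) (cond (Nat.ble e (nat_lit 1909)) (cond (Nat.ble e (nat_lit 1908)) [nat_lit 2] []) (cond (Nat.ble e (nat_lit 1910)) [nat_lit 0, nat_lit 0, nat_lit 0] []))) (cond (Nat.ble e (nat_lit 1915)) (cond (Nat.ble e (nat_lit 1913)) (cond (Nat.ble e (nat_lit 1912)) [nat_lit 1, nat_lit 3] [nat_lit 0, nat_lit 2, nat_lit 0]) (cond (Nat.ble e (nat_lit 1914)) [] [nat_lit 3, nat_lit 1])) (cond (Nat.ble e (nat_lit 1917)) (cond (Nat.ble e (nat_lit 1916)) [] []) (cond (Nat.ble e (nat_lit 1918)) [] [nat_lit 2])))))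
/-- a leaf -/
def Wv2_l0 (_ e : ℕ) : List ℕ := Wv2_0 e
/-- a leaf -/
def Wv2_l1 (_ e : ℕ) : List ℕ := Wv2_1 e
/-- a leaf -/
def Wv2_l2 (_ e : ℕ) : List ℕ := Wv2_2 e
/-- a node -/
def Wv2_s1_3 (c e : ℕ) : List ℕ := cond (Nat.ble c (nat_lit 1)) (Wv2_l1 c e) (Wv2_l2 c e)
/-- a node -/
def Wv2_s0_3 (c e : ℕ) : List ℕ := cond (Nat.ble c (nat_lit 0)) (Wv2_l0 c e) (Wv2_s1_3 c e)
/-- a leaf -/
def Wv2_l3 (_ e : ℕ) : List ℕ := Wv2_3 e
/-- a leaf -/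
def Wv2_l4 (_ e : ℕ) : List ℕ := Wv2_4 e
/-- a node -/
def Wv2_s3_5 (c e : ℕ) : List ℕ := cond (Nat.ble c (nat_lit 3)) (Wv2_l3 c e) (Wv2_l4 c e)
/-- a leaf -/
def Wv2_l5 (_ e : ℕ) : List ℕ := Wv2_5 e
/-- a leaf -/
def Wv2_l6 (_ e : ℕ) : List ℕ := Wv2_6 e
/-- a node -/
def Wv2_s5_7 (c e : ℕ) : List ℕ := cond (Nat.ble c (nat_lit 5)) (Wv2_l5 c e) (Wv2_l6 c e)
/-- a node -/
def Wv2_s3_7 (c e : ℕ) : List ℕ := cond (Nat.ble c (nat_lit 4)) (Wv2_s3_5 c e) (Wv2_s5_7 c e)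
/-- a node -/
def Wv2_s0_7 (c e : ℕ) : List ℕ := cond (Nat.ble c (nat_lit 2)) (Wv2_s0_3 c e) (Wv2_s3_7 c e)
/-- a leaf -/
def Wv2_l7 (_ e : ℕ) : List ℕ := Wv2_7 e
/-- a leaf -/
def Wv2_l8 (_ e : ℕ) : List ℕ := Wv2_8 e
/-- a node -/
def Wv2_s7_9 (c e : ℕ) : List ℕ := cond (Nat.ble c (nat_lit 7)) (Wv2_l7 c e) (Wv2_l8 c e)
/-- a leaf -/
def Wv2_l9 (_ e : ℕ) : List ℕ := Wv2_9 e
/-- a leaf -/
def Wv2_l10 (_ e : ℕ) : List ℕ := Wv2_10 e
/-- a node -/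
def Wv2_s9_11 (c e : ℕ) : List ℕ := cond (Nat.ble c (nat_lit 9)) (Wv2_l9 c e) (Wv2_l10 c e)
/-- a node -/
def Wv2_s7_11 (c e : ℕ) : List ℕ := cond (Nat.ble c (nat_lit 8)) (Wv2_s7_9 c e) (Wv2_s9_11 c e)
/-- a leaf -/
def Wv2_l11 (_ e : ℕ) : List ℕ := Wv2_11 e
/-- a leaf -/
def Wv2_l12 (_ e : ℕ) : List ℕ := Wv2_12 e
/-- a node -/
def Wv2_s11_13 (c e : ℕ) : List ℕ := cond (Nat.ble c (nat_lit 11)) (Wv2_l11 c e) (Wv2_l12 c e)
/-- a leaf -/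
def Wv2_l13 (_ e : ℕ) : List ℕ := Wv2_13 e
/-- a leaf -/
def Wv2_l14 (_ e : ℕ) : List ℕ := Wv2_14 e
/-- a node -/
def Wv2_s13_15 (c e : ℕ) : List ℕ := cond (Nat.ble c (nat_lit 13)) (Wv2_l13 c e) (Wv2_l14 c e)
/-- a node -/
def Wv2_s11_15 (c e : ℕ) : List ℕ := cond (Nat.ble c (nat_lit 12)) (Wv2_s11_13 c e) (Wv2_s13_15 c e)
/-- a node -/
def Wv2_s7_15 (c e : ℕ) : List ℕ := cond (Nat.ble c (nat_lit 10)) (Wv2_s7_11 c e) (Wv2_s11_15 c e)
/-- a node -/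
def Wv2_s0_15 (c e : ℕ) : List ℕ := cond (Nat.ble c (nat_lit 6)) (Wv2_s0_7 c e) (Wv2_s7_15 c e)
/-- a leaf -/
def Wv2_l15 (_ e : ℕ) : List ℕ := Wv2_15 e
/-- a leaf -/
def Wv2_l16 (_ e : ℕ) : List ℕ := Wv2_16 e
/-- a leaf -/
def Wv2_l17 (_ e : ℕ) : List ℕ := Wv2_17 e
/-- a node -/
def Wv2_s16_18 (c e : ℕ) : List ℕ := cond (Nat.ble c (nat_lit 16)) (Wv2_l16 c e) (Wv2_l17 c e)
/-- a node -/
def Wv2_s15_18 (c e : ℕ) : List ℕ := cond (Nat.ble c (nat_lit 15)) (Wv2_l15 c e) (Wv2_s16_18 c e)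
/-- a leaf -/
def Wv2_l18 (_ e : ℕ) : List ℕ := Wv2_18 e
/-- a leaf -/
def Wv2_l19 (_ e : ℕ) : List ℕ := Wv2_19 e
/-- a node -/
def Wv2_s18_20 (c e : ℕ) : List ℕ := cond (Nat.ble c (nat_lit 18)) (Wv2_l18 c e) (Wv2_l19 c e)
/-- a leaf -/
def Wv2_l20 (_ e : ℕ) : List ℕ := Wv2_20 e
/-- a leaf -/
def Wv2_l21 (_ e : ℕ) : List ℕ := Wv2_21 e
/-- a node -/
def Wv2_s20_22 (c e : ℕ) : List ℕ := cond (Nat.ble c (nat_lit 20)) (Wv2_l20 c e) (Wv2_l21 c e)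
/-- a node -/
def Wv2_s18_22 (c e : ℕ) : List ℕ := cond (Nat.ble c (nat_lit 19)) (Wv2_s18_20 c e) (Wv2_s20_22 c e)
/-- a node -/
def Wv2_s15_22 (c e : ℕ) : List ℕ := cond (Nat.ble c (nat_lit 17)) (Wv2_s15_18 c e) (Wv2_s18_22 c e)
/-- a leaf -/
def Wv2_l22 (_ e : ℕ) : List ℕ := Wv2_22 e
/-- a leaf -/
def Wv2_l23 (_ e : ℕ) : List ℕ := Wv2_23 e
/-- a node -/
def Wv2_s22_24 (c e : ℕ) : List ℕ := cond (Nat.ble c (nat_lit 22)) (Wv2_l22 c e) (Wv2_l23 c e)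
/-- a leaf -/
def Wv2_l24 (_ e : ℕ) : List ℕ := Wv2_24 e
/-- a leaf -/
def Wv2_l25 (_ e : ℕ) : List ℕ := Wv2_25 e
/-- a node -/
def Wv2_s24_26 (c e : ℕ) : List ℕ := cond (Nat.ble c (nat_lit 24)) (Wv2_l24 c e) (Wv2_l25 c e)
/-- a node -/
def Wv2_s22_26 (c e : ℕ) : List ℕ := cond (Nat.ble c (nat_lit 23)) (Wv2_s22_24 c e) (Wv2_s24_26 c e)
/-- a leaf -/
def Wv2_l26 (_ e : ℕ) : List ℕ := Wv2_26 e
/-- a leaf -/
def Wv2_l27 (_ e : ℕ) : List ℕ := Wv2_27 e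
/-- a node -/
def Wv2_s26_28 (c e : ℕ) : List ℕ := cond (Nat.ble c (nat_lit 26)) (Wv2_l26 c e) (Wv2_l27 c e)
/-- a leaf -/
def Wv2_l28 (_ e : ℕ) : List ℕ := Wv2_28 e
/-- a leaf -/
def Wv2_l29 (_ e : ℕ) : List ℕ := Wv2_29 e
/-- a node -/
def Wv2_s28_30 (c e : ℕ) : List ℕ := cond (Nat.ble c (nat_lit 28)) (Wv2_l28 c e) (Wv2_l29 c e)
/-- a node -/
def Wv2_s26_30 (c e : ℕ) : List ℕ := cond (Nat.ble c (nat_lit 27)) (Wv2_s26_28 c e) (Wv2_s28_30 c e)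
/-- a node -/
def Wv2_s22_30 (c e : ℕ) : List ℕ := cond (Nat.ble c (nat_lit 25)) (Wv2_s22_26 c e) (Wv2_s26_30 c e)
/-- a node -/
def Wv2_s15_30 (c e : ℕ) : List ℕ := cond (Nat.ble c (nat_lit 21)) (Wv2_s15_22 c e) (Wv2_s22_30 c e)
/-- a node -/
def Wv2_s0_30 (c e : ℕ) : List ℕ := cond (Nat.ble c (nat_lit 14)) (Wv2_s0_15 c e) (Wv2_s15_30 c e)
/-- a leaf -/
def Wv2_l30 (_ e : ℕ) : List ℕ := Wv2_30 e
/-- a leaf -/
def Wv2_l31 (_ e : ℕ) : List ℕ := Wv2_31 e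
/-- a leaf -/
def Wv2_l32 (_ e : ℕ) : List ℕ := Wv2_32 e
/-- a node -/
def Wv2_s31_33 (c e : ℕ) : List ℕ := cond (Nat.ble c (nat_lit 31)) (Wv2_l31 c e) (Wv2_l32 c e)
/-- a node -/
def Wv2_s30_33 (c e : ℕ) : List ℕ := cond (Nat.ble c (nat_lit 30)) (Wv2_l30 c e) (Wv2_s31_33 c e)
/-- a leaf -/
def Wv2_l33 (_ e : ℕ) : List ℕ := Wv2_33 e
/-- a leaf -/
def Wv2_l34 (_ e : ℕ) : List ℕ := Wv2_34 e
/-- a node -/
def Wv2_s33_35 (c e : ℕ) : List ℕ := cond (Nat.ble c (nat_lit 33)) (Wv2_l33 c e) (Wv2_l34 c e)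
/-- a leaf -/
def Wv2_l35 (_ e : ℕ) : List ℕ := Wv2_35 e
/-- a leaf -/
def Wv2_l36 (_ e : ℕ) : List ℕ := Wv2_36 e
/-- a node -/
def Wv2_s35_37 (c e : ℕ) : List ℕ := cond (Nat.ble c (nat_lit 35)) (Wv2_l35 c e) (Wv2_l36 c e)
/-- a node -/
def Wv2_s33_37 (c e : ℕ) : List ℕ := cond (Nat.ble c (nat_lit 34)) (Wv2_s33_35 c e) (Wv2_s35_37 c e)
/-- a node -/
def Wv2_s30_37 (c e : ℕ) : List ℕ := cond (Nat.ble c (nat_lit 32)) (Wv2_s30_33 c e) (Wv2_s33_37 c e)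
/-- a leaf -/
def Wv2_l37 (_ e : ℕ) : List ℕ := Wv2_37 e
/-- a leaf -/
def Wv2_l38 (_ e : ℕ) : List ℕ := Wv2_38 e
/-- a node -/
def Wv2_s37_39 (c e : ℕ) : List ℕ := cond (Nat.ble c (nat_lit 37)) (Wv2_l37 c e) (Wv2_l38 c e)
/-- a leaf -/
def Wv2_l39 (_ e : ℕ) : List ℕ := Wv2_39 e
/-- a leaf -/
def Wv2_l40 (_ e : ℕ) : List ℕ := Wv2_40 e
/-- a node -/
def Wv2_s39_41 (c e : ℕ) : List ℕ := cond (Nat.ble c (nat_lit 39)) (Wv2_l39 c e) (Wv2_l40 c e)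
/-- a node -/
def Wv2_s37_41 (c e : ℕ) : List ℕ := cond (Nat.ble c (nat_lit 38)) (Wv2_s37_39 c e) (Wv2_s39_41 c e)
/-- a leaf -/
def Wv2_l41 (_ e : ℕ) : List ℕ := Wv2_41 e
/-- a leaf -/
def Wv2_l42 (_ e : ℕ) : List ℕ := Wv2_42 e
/-- a node -/
def Wv2_s41_43 (c e : ℕ) : List ℕ := cond (Nat.ble c (nat_lit 41)) (Wv2_l41 c e) (Wv2_l42 c e)
/-- a leaf -/
def Wv2_l43 (_ e : ℕ) : List ℕ := Wv2_43 e
/-- a leaf -/
def Wv2_l44 (_ e : ℕ) : List ℕ := Wv2_44 e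
/-- a node -/
def Wv2_s43_45 (c e : ℕ) : List ℕ := cond (Nat.ble c (nat_lit 43)) (Wv2_l43 c e) (Wv2_l44 c e)
/-- a node -/
def Wv2_s41_45 (c e : ℕ) : List ℕ := cond (Nat.ble c (nat_lit 42)) (Wv2_s41_43 c e) (Wv2_s43_45 c e)
/-- a node -/
def Wv2_s37_45 (c e : ℕ) : List ℕ := cond (Nat.ble c (nat_lit 40)) (Wv2_s37_41 c e) (Wv2_s41_45 c e)
/-- a node -/
def Wv2_s30_45 (c e : ℕ) : List ℕ := cond (Nat.ble c (nat_lit 36)) (Wv2_s30_37 c e) (Wv2_s37_45 c e)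
/-- a leaf -/
def Wv2_l45 (_ e : ℕ) : List ℕ := Wv2_45 e
/-- a leaf -/
def Wv2_l46 (_ e : ℕ) : List ℕ := Wv2_46 e
/-- a leaf -/
def Wv2_l47 (_ e : ℕ) : List ℕ := Wv2_47 e
/-- a node -/
def Wv2_s46_48 (c e : ℕ) : List ℕ := cond (Nat.ble c (nat_lit 46)) (Wv2_l46 c e) (Wv2_l47 c e)
/-- a node -/
def Wv2_s45_48 (c e : ℕ) : List ℕ := cond (Nat.ble c (nat_lit 45)) (Wv2_l45 c e) (Wv2_s46_48 c e)
/-- a leaf -/
def Wv2_l48 (_ e : ℕ) : List ℕ := Wv2_48 e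
/-- a leaf -/
def Wv2_l49 (_ e : ℕ) : List ℕ := Wv2_49 e
/-- a node -/
def Wv2_s48_50 (c e : ℕ) : List ℕ := cond (Nat.ble c (nat_lit 48)) (Wv2_l48 c e) (Wv2_l49 c e)
/-- a leaf -/
def Wv2_l50 (_ e : ℕ) : List ℕ := Wv2_50 e
/-- a leaf -/
def Wv2_l51 (_ e : ℕ) : List ℕ := Wv2_51 e
/-- a node -/
def Wv2_s50_52 (c e : ℕ) : List ℕ := cond (Nat.ble c (nat_lit 50)) (Wv2_l50 c e) (Wv2_l51 c e)
/-- a node -/
def Wv2_s48_52 (c e : ℕ) : List ℕ := cond (Nat.ble c (nat_lit 49)) (Wv2_s48_50 c e) (Wv2_s50_52 c e)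
/-- a node -/
def Wv2_s45_52 (c e : ℕ) : List ℕ := cond (Nat.ble c (nat_lit 47)) (Wv2_s45_48 c e) (Wv2_s48_52 c e)
/-- a leaf -/
def Wv2_l52 (_ e : ℕ) : List ℕ := Wv2_52 e
/-- a leaf -/
def Wv2_l53 (_ e : ℕ) : List ℕ := Wv2_53 e
/-- a node -/
def Wv2_s52_54 (c e : ℕ) : List ℕ := cond (Nat.ble c (nat_lit 52)) (Wv2_l52 c e) (Wv2_l53 c e)
/-- a leaf -/
def Wv2_l54 (_ e : ℕ) : List ℕ := Wv2_54 e
/-- a leaf -/
def Wv2_l55 (_ e : ℕ) : List ℕ := Wv2_55 e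
/-- a node -/
def Wv2_s54_56 (c e : ℕ) : List ℕ := cond (Nat.ble c (nat_lit 54)) (Wv2_l54 c e) (Wv2_l55 c e)
/-- a node -/
def Wv2_s52_56 (c e : ℕ) : List ℕ := cond (Nat.ble c (nat_lit 53)) (Wv2_s52_54 c e) (Wv2_s54_56 c e)
/-- a leaf -/
def Wv2_l56 (_ e : ℕ) : List ℕ := Wv2_56 e
/-- a leaf -/
def Wv2_l57 (_ e : ℕ) : List ℕ := Wv2_57 e
/-- a node -/
def Wv2_s56_58 (c e : ℕ) : List ℕ := cond (Nat.ble c (nat_lit 56)) (Wv2_l56 c e) (Wv2_l57 c e)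
/-- a leaf -/
def Wv2_l58 (_ e : ℕ) : List ℕ := Wv2_58 e
/-- a leaf -/
def Wv2_l59 (_ e : ℕ) : List ℕ := Wv2_59 e
/-- a node -/
def Wv2_s58_60 (c e : ℕ) : List ℕ := cond (Nat.ble c (nat_lit 58)) (Wv2_l58 c e) (Wv2_l59 c e)
/-- a node -/
def Wv2_s56_60 (c e : ℕ) : List ℕ := cond (Nat.ble c (nat_lit 57)) (Wv2_s56_58 c e) (Wv2_s58_60 c e)
/-- a node -/
def Wv2_s52_60 (c e : ℕ) : List ℕ := cond (Nat.ble c (nat_lit 55)) (Wv2_s52_56 c e) (Wv2_s56_60 c e)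
/-- a node -/
def Wv2_s45_60 (c e : ℕ) : List ℕ := cond (Nat.ble c (nat_lit 51)) (Wv2_s45_52 c e) (Wv2_s52_60 c e)
/-- a node -/
def Wv2_s30_60 (c e : ℕ) : List ℕ := cond (Nat.ble c (nat_lit 44)) (Wv2_s30_45 c e) (Wv2_s45_60 c e)
/-- a node -/
def Wv2_s0_60 (c e : ℕ) : List ℕ := cond (Nat.ble c (nat_lit 29)) (Wv2_s0_30 c e) (Wv2_s30_60 c e)
/-- the words of the Schreier elements -/
def Wv2 (e : ℕ) : List ℕ := Wv2_s0_60 (Nat.shiftRight e (nat_lit 5)) e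

theorem tab2_chk : allV (tabRow 960 T2 par2) 960 = true := by decide +kernel

theorem tab2 : Cfsg.Agent.Lib.SchurCoset46.Tab 960 2 T2 par2 := tab_of_chk (by norm_num) tab2_chk

theorem tp2_chk : allV (tpRow cL2 tp2 par2) 960 = true := by decide +kernel

theorem rel2_chk : allV (relRow cL2 rels2) 41 = true := by decide +kernel

theorem edge2_chk : allV (edgeRow cL2 kL2 tp2 T2 Wv2) 1920 = true := by decide +kernel

/-- a chunk -/
def tT1_0 (_ : ℕ) : ℕ := nat_lit 0x741d0700706c1b01c1a018060641805c1702006058160540505014014130100404811040100100c00c0303c0e0340d030030080202c0a024090080801c070180101405004040000000c020040100000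
/-- a chunk -/
def tT1_1 (_ : ℕ) : ℕ := nat_lit 0xec3b0e8100e4390403803c0f0dc360d4350d00f0380e058330c832038310c0300bc0d0b82e0342d0300c0b02b02c0b0a81b0a4290a00b0280a09c26094250282408c230880908421024200200807c1e
/-- a chunk -/
def tT1_2 (_ : ℕ) : ℕ := nat_lit 0x15455150190601814c520b42d060511405013c171384e05c4d1304c12c16054150d84a12449090151204811c14118460504504c131104310c4304c2804812108410882210012044110fc3e0f43d0443c
/-- a chunk -/
def tT1_3 (_ : ℕ) : ℕ := nat_lit 0x1c4711c0211bc6f0846e080201b46c1ac6b0804007c1f1a8691a06819c1f0781e198651906407863188621841d18060074290701c17c5e1745d0c41c1705c06c5b0681a1685916058068340641915c56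
/-- a chunk -/
def tT1_4 (_ : ℕ) : ℕ := nat_lit 0x2308c22c2c0ac2b22889220880ac870a82a16086214852102a20c830a4820a0282048009c271fc741f87e1f427098261f07b1e87a098501e4791e02509024094771d8761d4231d07408c731c8720f022
/-- a chunk -/
def tT1_5 (_ : ℕ) : ℕ := nat_lit 0x280a027c35164590d49e0d0342748c0cc331dc9c26c9b0cc842689a264321785e0c8980c4311884c25c9725830254950c0940bc2f24c92244911442f1cc732402e23c8f0b88e2348d0b4540b02c1147d
/-- a chunk -/
def tT1_6 (_ : ℕ) : ℕ := nat_lit 0xf83e2e0b72d8b60f8b52d0b42cc3d2c8b20f4b10f03c2c0af2b8ae2b43b2b0ac0ecab0e83a2a8a919c6718c3a194652a039198660e4a70e038298a5290a40e0670dc3728c58288a2208370d8361cca1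
/-- a chunk -/
def tT1_7 (_ : ℕ) : ℕ := nat_lit 0x318c63304811c4732cc829ca714047328ca32446320c8118c711445318c511044310c31e07827044308c210c5c10842304c02fcbf2844210441120be14c5310460100402f4bc0fc3f2ecac2e8ba2e43f
/-- a chunk -/
def tT1_8 (_ : ℕ) : ℕ := nat_lit 0x14852394e438ce3148e214451384e013c4f174df378de21c4f374dd3704e36cdb138da1344d364d821c871348b35cd7130d612c4b354d434cd316c4b1284a348d12088212861340d033c49338ce124cd
/-- a chunk -/
def tT1_9 (_ : ℕ) : ℕ := nat_lit 0x3f4fd3f05f3a4e9178fb3e8fa3e45d3e0f81707816c5b244f71685a3d8c1264993d45a3d0f4164f315c573c8cb3c4f13c05715856374ef3b8ee158ed3b0ec3ac553a8ea154e9150543a09b39ce739853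
/-- a chunk -/
def tT1_10 (_ : ℕ) : ℕ := nat_lit 0x354d51ad151a86a45113449124446a1a4691c51043d0f1a50e4350d4306842d0b1a10a425092c8661f47d195083c0f041c64419061910518c6341103409024046218461400ee3fcff1807517c5f344fe
/-- a chunk -/
def tT1_11 (_ : ℕ) : ℕ := nat_lit 0x1d4754a9294a1281d1274992649472401001c92448d233bc711c07048921481202d47030cc33286f47d1f1bd1e1b86e3151d4711c1b8b91b46d46d1a2ccb34646d1b06c420a8461181b117405014586b
/-- a chunk -/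
def tT1_12 (_ : ℕ) : ℕ := nat_lit 0x33ccf4f881200804f53c46d1b2013b4e93a4e47f4e13825c7e1f07c4dcb84d9364d47c1ec7b1f9344cd331ed321fc7f4c47a388e21e8b64c1304bc792e0b81e52e1dc774b52c4b12c26876300c01d92b
/-- a chunk -/
def tT1_13 (_ : ℕ) : ℕ := nat_lit 0x54d532315222c8b545502288a440953e4f953c8a22489539435354d2254c52d4b5288852549221482188650d224d134219012bcaf51c854dd3721546210845154450d43508835054120ca0204815013f
/-- a chunk -/
def tT1_14 (_ : ℕ) : ℕ := nat_lit 0x4c531254bb250942896458d63250f024c93588f858561580932489257d5e2789e2495d5715c56c912409044d265695a38890394e55648f5615823d402388e56153314c5238e655d575588d5555523554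
/-- a chunk -/
def tT1_15 (_ : ℕ) : ℕ := nat_lit 0x284a15c971541502815527c9f5c16f5b96e3ec9f5b56d278fc2749d47937370dc5b09d2709c3b16b5314c26d6a5a5695a09a3d4f53cc992609859d5850140260f53c8f2598972589642565298a63b496
/-- a chunk -/
def tT1_16 (_ : ℕ) : ℕ := nat_lit 0x2acab609814390e2ad112a8aa6017f5f97e5f4aa2a4a95f17b4290a2a57a2a0a8568f14751d29cb25294a504a6294a55e52d5e178295775d9765d4a44ad2b2917428ca3475312c0b0358a32f0bc5cca2
/-- a chunk -/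
def tT1_17 (_ : ℕ) : ℕ := nat_lit 0x2dcb764991641902dcfa421082d9022d4b54e18f334cd630b44b92e2d18e6358d45cb32c4b16198c62d8b2c5195ed7b628b0625892bd885ad6b61cae619862b8e72b4ad6158453d4f438ad60d832b0dd
/-- a chunk -/
def tT1_18 (_ : ℕ) : ℕ := nat_lit 0x4bd2f67cc44691a30d9e6759d418c2304c13096340d03301685f57d52cbf591642fd5f2f8be5119c66d9b2f9392f4bd39d6951144668bd491242f1992ecbb661976599635cba655952e94e2e4b965193
/-- a chunk -/
def tT1_19 (_ : ℕ) : ℕ := nat_lit 0x6adab341596a9aa4eccf5c9726a4ce50942339a84ed3b3353e330cc69d61699a649ccc32ccb6951c350d43e8ca324c96916e601804c8c9358d63216631cc768da24c93231d353bcef408c6310c4685a0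
/-- a chunk -/
def tT1_20 (_ : ℕ) : ℕ := nat_lit 0x44511530dc5e97a484db368da6d9b53dcf73694f364d95792a41d076d0d9360d86cdb26c9b2361b15a1686c0d56bdaf351ae6b5ad6b0d34952534d28348d236cd74f13c554d2344d15dd073ccf3390d0
/-- a chunk -/
def tT1_21 (_ : ℕ) : ℕ := nat_lit 0x695a54a4ea6fdbf3a94b691a43a5603a0e86bdbe65d976f4e8398e660509545514fce5390e43d0e3384e1635bc559566ece1380e03f9426c1b0381ba37cdf38db95495237d6c565596e0de3f8fe379b7
/-- a chunk -/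
def tT1_22 (_ : ℕ) : ℕ := nat_lit 0x729ca3f5c93f0fc4d99b3ecfb721af71dc7548f9451143e1c65a96a3ddbd3d8f64998751d474acf6715c560cf4711c44d0f2595653c5824a5293b9c33b4ed4b1c2705c1700ec3aceb4e9a366198574eb
/-- a chunk -/
def tT1_23 (_ : ℕ) : ℕ := nat_lit 0x5fd7f435944310c741984a92a5e90c6398e7490b4591642dd15394e4297d745d1709064150562dd05dd77415414110473dc873dcf73904735cd40dcc5cd73729004f53d6c8ff6e1b83fdcb689a2680fd
/-- a chunk -/
def tT1_24 (_ : ℕ) : ℕ := nat_lit 0x75dd7471d65f17c4698646519755576b9ae4611b45d1765d786298a6211645515611d464d934558a61d875a51444d136391874dd371d126699a44989441106e567725c95950f6499243d5a4d5356a90d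
/-- a chunk -/
def tT1_25 (_ : ℕ) : ℕ := nat_lit 0x67d9f6792f795e54b99f4b52d6a1ab791e44a1e349d275b9e26118466525785e14919a581605f92356d5b48d8b48922781df48521779dd771dc5fd2062188481aa6058176d1f769da47dd94791e761c5
/-- a chunk -/
def tT1_26 (_ : ℕ) : ℕ := nat_lit 0x519465b55c6318c519b0515457a9d279de778d454fd3f675a94f93e64d8069da76ad3d755d54f19d6a5a97913a4e5396f1e957d5f7a1385755d79d36781e0585335c1704cde4799e672530681a04c170
/-- a chunk -/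
def tT1_27 (_ : ℕ) : ℕ := nat_lit 0x5795e715f16ddb7571cf779de5a95b6f1bc55da66edbb6e956701c0551bb7c1f054d835c5717bd516f9be541ee7b5ed7b14d749d2535eb70dc36c54a6cdb372d4952148525727a5e9521b4551546b947
/-- a chunk -/
def tT1_28 (_ : ℕ) : ℕ := nat_lit 0x5d5756f976739ce731755d1747cdda7d5f55d1ce78de35c5b35bd6f70d73609825bda17a9ea5d96d5b16c795857d1f45adf259d67641bf599667c5dc6d1b4591ca7c5f158d7958962775f36e9ba7c962
/-- a chunk -/
def tT1_29 (_ : ℕ) : ℕ := nat_lit 0x751d4659f76f5bd76995775dd655c165194711d876ddb7999264591735de765d9645f07e1f87719063d8f7dde1759d663df66a1a87b58d77ddf625e56158574dd36d5b56b57c5e5795edea7bdef5e17e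
/-- a chunk -/
def tT1_30 (_ : ℕ) : ℕ := nat_lit 0x741d07b9b87b9ee6ddef6d9b67a5d57a1e87d5b67ddf76d5f8721c8745ad6c5b1699ed7b1ec7d9a56b1ac7e5a4685a17c1db6799e751c76719c689a772dcb671ac789e266df96659975df468da37d196
/-- a chunk -/
def tT1_31 (_ : ℕ) : ℕ := nat_lit 0x7e5f9789e7761d87adf57adeb77dd77d9f6759e8731cc7e1ec719c6785e07c9f2705cd7cdf3719c0709c26fdc46e5b9765e6
/-- a node -/
def tT1_s0_2 (c : ℕ) : ℕ := cond (Nat.ble c (nat_lit 0)) (tT1_0 c) (tT1_1 c)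
/-- a node -/
def tT1_s2_4 (c : ℕ) : ℕ := cond (Nat.ble c (nat_lit 2)) (tT1_2 c) (tT1_3 c)
/-- a node -/
def tT1_s0_4 (c : ℕ) : ℕ := cond (Nat.ble c (nat_lit 1)) (tT1_s0_2 c) (tT1_s2_4 c)
/-- a node -/
def tT1_s4_6 (c : ℕ) : ℕ := cond (Nat.ble c (nat_lit 4)) (tT1_4 c) (tT1_5 c)
/-- a node -/
def tT1_s6_8 (c : ℕ) : ℕ := cond (Nat.ble c (nat_lit 6)) (tT1_6 c) (tT1_7 c)
/-- a node -/
def tT1_s4_8 (c : ℕ) : ℕ := cond (Nat.ble c (nat_lit 5)) (tT1_s4_6 c) (tT1_s6_8 c)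
/-- a node -/
def tT1_s0_8 (c : ℕ) : ℕ := cond (Nat.ble c (nat_lit 3)) (tT1_s0_4 c) (tT1_s4_8 c)
/-- a node -/
def tT1_s8_10 (c : ℕ) : ℕ := cond (Nat.ble c (nat_lit 8)) (tT1_8 c) (tT1_9 c)
/-- a node -/
def tT1_s10_12 (c : ℕ) : ℕ := cond (Nat.ble c (nat_lit 10)) (tT1_10 c) (tT1_11 c)
/-- a node -/
def tT1_s8_12 (c : ℕ) : ℕ := cond (Nat.ble c (nat_lit 9)) (tT1_s8_10 c) (tT1_s10_12 c)
/-- a node -/
def tT1_s12_14 (c : ℕ) : ℕ := cond (Nat.ble c (nat_lit 12)) (tT1_12 c) (tT1_13 c)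
/-- a node -/
def tT1_s14_16 (c : ℕ) : ℕ := cond (Nat.ble c (nat_lit 14)) (tT1_14 c) (tT1_15 c)
/-- a node -/
def tT1_s12_16 (c : ℕ) : ℕ := cond (Nat.ble c (nat_lit 13)) (tT1_s12_14 c) (tT1_s14_16 c)
/-- a node -/
def tT1_s8_16 (c : ℕ) : ℕ := cond (Nat.ble c (nat_lit 11)) (tT1_s8_12 c) (tT1_s12_16 c)
/-- a node -/
def tT1_s0_16 (c : ℕ) : ℕ := cond (Nat.ble c (nat_lit 7)) (tT1_s0_8 c) (tT1_s8_16 c)
/-- a node -/
def tT1_s16_18 (c : ℕ) : ℕ := cond (Nat.ble c (nat_lit 16)) (tT1_16 c) (tT1_17 c)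
/-- a node -/
def tT1_s18_20 (c : ℕ) : ℕ := cond (Nat.ble c (nat_lit 18)) (tT1_18 c) (tT1_19 c)
/-- a node -/
def tT1_s16_20 (c : ℕ) : ℕ := cond (Nat.ble c (nat_lit 17)) (tT1_s16_18 c) (tT1_s18_20 c)
/-- a node -/
def tT1_s20_22 (c : ℕ) : ℕ := cond (Nat.ble c (nat_lit 20)) (tT1_20 c) (tT1_21 c)
/-- a node -/
def tT1_s22_24 (c : ℕ) : ℕ := cond (Nat.ble c (nat_lit 22)) (tT1_22 c) (tT1_23 c)
/-- a node -/
def tT1_s20_24 (c : ℕ) : ℕ := cond (Nat.ble c (nat_lit 21)) (tT1_s20_22 c) (tT1_s22_24 c)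
/-- a node -/
def tT1_s16_24 (c : ℕ) : ℕ := cond (Nat.ble c (nat_lit 19)) (tT1_s16_20 c) (tT1_s20_24 c)
/-- a node -/
def tT1_s24_26 (c : ℕ) : ℕ := cond (Nat.ble c (nat_lit 24)) (tT1_24 c) (tT1_25 c)
/-- a node -/
def tT1_s26_28 (c : ℕ) : ℕ := cond (Nat.ble c (nat_lit 26)) (tT1_26 c) (tT1_27 c)
/-- a node -/
def tT1_s24_28 (c : ℕ) : ℕ := cond (Nat.ble c (nat_lit 25)) (tT1_s24_26 c) (tT1_s26_28 c)
/-- a node -/
def tT1_s28_30 (c : ℕ) : ℕ := cond (Nat.ble c (nat_lit 28)) (tT1_28 c) (tT1_29 c)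
/-- a node -/
def tT1_s30_32 (c : ℕ) : ℕ := cond (Nat.ble c (nat_lit 30)) (tT1_30 c) (tT1_31 c)
/-- a node -/
def tT1_s28_32 (c : ℕ) : ℕ := cond (Nat.ble c (nat_lit 29)) (tT1_s28_30 c) (tT1_s30_32 c)
/-- a node -/
def tT1_s24_32 (c : ℕ) : ℕ := cond (Nat.ble c (nat_lit 27)) (tT1_s24_28 c) (tT1_s28_32 c)
/-- a node -/
def tT1_s16_32 (c : ℕ) : ℕ := cond (Nat.ble c (nat_lit 23)) (tT1_s16_24 c) (tT1_s24_32 c)
/-- a node -/
def tT1_s0_32 (c : ℕ) : ℕ := cond (Nat.ble c (nat_lit 15)) (tT1_s0_16 c) (tT1_s16_32 c)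
/-- the coset table -/
def tT1 (i : ℕ) : ℕ := Nat.land (Nat.shiftRight (tT1_s0_32 (Nat.shiftRight i (nat_lit 6))) (Nat.mul (nat_lit 10) (Nat.land i (nat_lit 63)))) (nat_lit 1023)

/-- the coset table -/
def T1 (c l : ℕ) : ℕ := tT1 (Nat.add (Nat.mul c (nat_lit 4)) l)

/-- a chunk -/
def tP1_0 (_ : ℕ) : ℕ := nat_lit 0x4104003e03d03a03803503403202e02d02a02802502402201d01c01a01901501401201000e00d00a008005004002000
/-- a chunk -/
def tP1_1 (_ : ℕ) : ℕ := nat_lit 0x8508408208007e07d07a07807507407207106c06a06806606506206005d05c05905605505105004e04c04a049046044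
/-- a chunk -/
def tP1_2 (_ : ℕ) : ℕ := nat_lit 0xd50d40d20ce0cc0c90c80c60c10c00be0bd0b90b80b40b20b10ae0ac0aa0a90a40a209e09d09a09809509208d08c089
/-- a chunk -/
def tP1_3 (_ : ℕ) : ℕ := nat_lit 0x12111e11d11911811611211110c10a1091061041020fe0fd0fa0f80f50f40f20ed0ec0ea0e90e50e40e20e00de0dd0da
/-- a chunk -/
def tP1_4 (_ : ℕ) : ℕ := nat_lit 0x17d17817517016e16a16916415e15d15a15815515415214d14a14814613e13d13913813613413012e12d12a128125124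
/-- a chunk -/
def tP1_5 (_ : ℕ) : ℕ := nat_lit 0x1d61d01c91c81c51c21c11bd1bc1ba1b81b61b51b21b01ad1ac1aa1a91a61a41a11a019919419119018e18918618017e
/-- a chunk -/
def tP1_6 (_ : ℕ) : ℕ := nat_lit 0x23022e22a22922622422122021a21821521421220d20c2062052022001fd1f91f21f11ee1ec1e91e81e51e41de1d91d8
/-- a chunk -/
def tP1_7 (_ : ℕ) : ℕ := nat_lit 0x28628027e27d27827627527226c26926526226025d25a25925425225024e24d24a24824524224123d23c23a238235234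
/-- a chunk -/
def tP1_8 (_ : ℕ) : ℕ := nat_lit 0x2de2dc2d82d62d12d02cd2c62c42c12bc2b92b82b62b52b02ae2ac2aa2a92a62a42a229c29929629429129028e28d289
/-- a chunk -/
def tP1_9 (_ : ℕ) : ℕ := nat_lit 0x34033d33933833433233132e32932632532031e31c31931231130c3093063002fd2fc2fa2f82f62f52f02ee2e92e82e6
/-- a chunk -/
def tP1_10 (_ : ℕ) : ℕ := nat_lit 0x3a93a83a43a23a139a39538d38638538238037e37c37937837136d36a36836636536236035535034d34c34a349346341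
/-- a chunk -/
def tP1_11 (_ : ℕ) : ℕ := nat_lit 0x43443243142d42c42841941641441241140c4013fd3fc3f53f43f23ee3e53e03dc3da3d93d13c93c43b83b63b13ae3ad
/-- a chunk -/
def tP1_12 (_ : ℕ) : ℕ := nat_lit 0x4bd4b84b64a049e49549048d48c48a48648148047d47c47a47046846646045e45945645445144e44944844243d43c435
/-- a chunk -/
def tP1_13 (_ : ℕ) : ℕ := nat_lit 0x57a57056d55c55955054c54554053553452952552252051d51a5185165154fe4fa4f54f04e94e64e14d94cd4cc4c14c0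
/-- a chunk -/
def tP1_14 (_ : ℕ) : ℕ := nat_lit 0x65865565465264964664464163e63c6356246165f15e65e05d65d55d25d05c45be5bc5b55b25ac59e59a59058c58a589
/-- a chunk -/
def tP1_15 (_ : ℕ) : ℕ := nat_lit 0x78876275d75873271a7047016fc6e66e16dc6da6d96d46b569869569168667a67267066c666659
/-- a node -/
def tP1_s0_2 (c : ℕ) : ℕ := cond (Nat.ble c (nat_lit 0)) (tP1_0 c) (tP1_1 c)
/-- a node -/
def tP1_s2_4 (c : ℕ) : ℕ := cond (Nat.ble c (nat_lit 2)) (tP1_2 c) (tP1_3 c)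
/-- a node -/
def tP1_s0_4 (c : ℕ) : ℕ := cond (Nat.ble c (nat_lit 1)) (tP1_s0_2 c) (tP1_s2_4 c)
/-- a node -/
def tP1_s4_6 (c : ℕ) : ℕ := cond (Nat.ble c (nat_lit 4)) (tP1_4 c) (tP1_5 c)
/-- a node -/
def tP1_s6_8 (c : ℕ) : ℕ := cond (Nat.ble c (nat_lit 6)) (tP1_6 c) (tP1_7 c)
/-- a node -/
def tP1_s4_8 (c : ℕ) : ℕ := cond (Nat.ble c (nat_lit 5)) (tP1_s4_6 c) (tP1_s6_8 c)
/-- a node -/
def tP1_s0_8 (c : ℕ) : ℕ := cond (Nat.ble c (nat_lit 3)) (tP1_s0_4 c) (tP1_s4_8 c)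
/-- a node -/
def tP1_s8_10 (c : ℕ) : ℕ := cond (Nat.ble c (nat_lit 8)) (tP1_8 c) (tP1_9 c)
/-- a node -/
def tP1_s10_12 (c : ℕ) : ℕ := cond (Nat.ble c (nat_lit 10)) (tP1_10 c) (tP1_11 c)
/-- a node -/
def tP1_s8_12 (c : ℕ) : ℕ := cond (Nat.ble c (nat_lit 9)) (tP1_s8_10 c) (tP1_s10_12 c)
/-- a node -/
def tP1_s12_14 (c : ℕ) : ℕ := cond (Nat.ble c (nat_lit 12)) (tP1_12 c) (tP1_13 c)
/-- a node -/
def tP1_s14_16 (c : ℕ) : ℕ := cond (Nat.ble c (nat_lit 14)) (tP1_14 c) (tP1_15 c)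
/-- a node -/
def tP1_s12_16 (c : ℕ) : ℕ := cond (Nat.ble c (nat_lit 13)) (tP1_s12_14 c) (tP1_s14_16 c)
/-- a node -/
def tP1_s8_16 (c : ℕ) : ℕ := cond (Nat.ble c (nat_lit 11)) (tP1_s8_12 c) (tP1_s12_16 c)
/-- a node -/
def tP1_s0_16 (c : ℕ) : ℕ := cond (Nat.ble c (nat_lit 7)) (tP1_s0_8 c) (tP1_s8_16 c)
/-- the tree -/
def tP1 (i : ℕ) : ℕ := Nat.land (Nat.shiftRight (tP1_s0_16 (Nat.shiftRight i (nat_lit 5))) (Nat.mul (nat_lit 12) (Nat.land i (nat_lit 31)))) (nat_lit 4095)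

/-- the tree -/
def par1 (c : ℕ) : ℕ × ℕ := (Nat.div (tP1 c) (nat_lit 4), Nat.mod (tP1 c) (nat_lit 4))

/-- a chunk -/
def rels1_0 (e : ℕ) : List ℕ := (cond (Nat.ble e (nat_lit 3)) (cond (Nat.ble e (nat_lit 1)) (cond (Nat.ble e (nat_lit 0)) [nat_lit 2, nat_lit 2] [nat_lit 0, nat_lit 0, nat_lit 0, nat_lit 0, nat_lit 0, nat_lit 0, nat_lit 0]) (cond (Nat.ble e (nat_lit 2)) [nat_lit 0, nat_lit 2, nat_lit 1, nat_lit 2, nat_lit 0, nat_lit 2, nat_lit 1, nat_lit 3, nat_lit 0, nat_lit 3, nat_lit 1, nat_lit 3] [nat_lit 0, nat_lit 0, nat_lit 0, nat_lit 0, nat_lit 0, nat_lit 0, nat_lit 2, nat_lit 0, nat_lit 3, nat_lit 1, nat_lit 3, nat_lit 0, nat_lit 3, nat_lit 1, nat_lit 3, nat_lit 0, nat_lit 2])) (cond (Nat.ble e (nat_lit 5)) (cond (Nat.ble e (nat_lit 4)) [nat_lit 0, nat_lit 0, nat_lit 0, nat_lit 0, nat_lit 0, nat_lit 0, nat_lit 2, nat_lit 0, nat_lit 3, nat_lit 1, nat_lit 3,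 nat_lit 0, nat_lit 3, nat_lit 1, nat_lit 3, nat_lit 0, nat_lit 3] [nat_lit 0, nat_lit 0, nat_lit 0, nat_lit 0, nat_lit 0, nat_lit 0, nat_lit 3, nat_lit 0, nat_lit 2, nat_lit 1, nat_lit 2, nat_lit 0, nat_lit 2, nat_lit 1, nat_lit 2, nat_lit 0, nat_lit 3]) (cond (Nat.ble e (nat_lit 6)) [nat_lit 0, nat_lit 0, nat_lit 0, nat_lit 0, nat_lit 0, nat_lit 0, nat_lit 2, nat_lit 0, nat_lit 2, nat_lit 1, nat_lit 2, nat_lit 0, nat_lit 2, nat_lit 1, nat_lit 2, nat_lit 0, nat_lit 3] [nat_lit 0, nat_lit 0, nat_lit 0, nat_lit 0, nat_lit 0, nat_lit 0, nat_lit 3, nat_lit 0, nat_lit 3, nat_lit 1, nat_lit 3, nat_lit 0, nat_lit 2, nat_lit 1, nat_lit 2, nat_lit 0, nat_lit 2])))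
/-- a chunk -/
def rels1_1 (e : ℕ) : List ℕ := (cond (Nat.ble e (nat_lit 11)) (cond (Nat.ble e (nat_lit 9)) (cond (Nat.ble e (nat_lit 8)) [nat_lit 0, nat_lit 0, nat_lit 0, nat_lit 0, nat_lit 0, nat_lit 0, nat_lit 2, nat_lit 0, nat_lit 2, nat_lit 1, nat_lit 2, nat_lit 0, nat_lit 3, nat_lit 1, nat_lit 3, nat_lit 0, nat_lit 3] [nat_lit 0, nat_lit 0, nat_lit 0, nat_lit 0, nat_lit 0, nat_lit 0, nat_lit 2, nat_lit 0, nat_lit 2, nat_lit 1, nat_lit 3, nat_lit 1, nat_lit 1, nat_lit 1, nat_lit 1, nat_lit 1, nat_lit 1, nat_lit 3, nat_lit 1, nat_lit 3, nat_lit 0, nat_lit 2]) (cond (Nat.ble e (nat_lit 10)) [nat_lit 0, nat_lit 0, nat_lit 0, nat_lit 0, nat_lit 0, nat_lit 0, nat_lit 3, nat_lit 0, nat_lit 2, nat_lit 1, nat_lit 2, nat_lit 1, nat_lit 1, nat_lit 1, nat_lit 1, nat_lit 1, nat_lit 1, nat_lit 2, nat_lit 1, nat_lit 3, nat_lit 0, nat_lit 3] [nat_lit 0, nat_lit 0, nat_lit 0,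 nat_lit 0, nat_lit 0, nat_lit 0, nat_lit 2, nat_lit 0, nat_lit 2, nat_lit 1, nat_lit 2, nat_lit 1, nat_lit 1, nat_lit 1, nat_lit 1, nat_lit 1, nat_lit 1, nat_lit 3, nat_lit 1, nat_lit 3, nat_lit 0, nat_lit 3])) (cond (Nat.ble e (nat_lit 13)) (cond (Nat.ble e (nat_lit 12)) [nat_lit 0, nat_lit 0, nat_lit 2, nat_lit 0, nat_lit 2, nat_lit 1, nat_lit 2, nat_lit 1, nat_lit 1, nat_lit 3, nat_lit 0, nat_lit 3, nat_lit 0, nat_lit 3, nat_lit 0, nat_lit 3, nat_lit 1, nat_lit 3, nat_lit 1, nat_lit 2, nat_lit 1, nat_lit 2] [nat_lit 0, nat_lit 0, nat_lit 2, nat_lit 0, nat_lit 2, nat_lit 1, nat_lit 3, nat_lit 1, nat_lit 1, nat_lit 3, nat_lit 0, nat_lit 3, nat_lit 0, nat_lit 3, nat_lit 0, nat_lit 3, nat_lit 1, nat_lit 2, nat_lit 1, nat_lit 2, nat_lit 1, nat_lit 2]) (cond (Nat.ble e (nat_lit 14)) [nat_lit 0, nat_lit 0, nat_lit 3, nat_lit 0, nat_lit 2, nat_lit 1, nat_lit 2, nat_lit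 1, nat_lit 1, nat_lit 2, nat_lit 0, nat_lit 2, nat_lit 0, nat_lit 2, nat_lit 0, nat_lit 3, nat_lit 1, nat_lit 3, nat_lit 1, nat_lit 3, nat_lit 1, nat_lit 3] [nat_lit 0, nat_lit 0, nat_lit 2, nat_lit 0, nat_lit 2, nat_lit 1, nat_lit 2, nat_lit 1, nat_lit 1, nat_lit 2, nat_lit 0, nat_lit 2, nat_lit 0, nat_lit 3, nat_lit 0, nat_lit 3, nat_lit 1, nat_lit 3, nat_lit 1, nat_lit 3, nat_lit 1, nat_lit 3])))
/-- a chunk -/
def rels1_2 (e : ℕ) : List ℕ := (cond (Nat.ble e (nat_lit 19)) (cond (Nat.ble e (nat_lit 17)) (cond (Nat.ble e (nat_lit 16)) [nat_lit 0, nat_lit 0, nat_lit 2, nat_lit 0, nat_lit 2, nat_lit 1, nat_lit 2, nat_lit 1, nat_lit 1, nat_lit 2, nat_lit 0, nat_lit 3, nat_lit 0, nat_lit 3, nat_lit 0, nat_lit 3, nat_lit 1, nat_lit 3, nat_lit 1, nat_lit 3, nat_lit 1, nat_lit 3] [nat_lit 0, nat_lit 0, nat_lit 2, nat_lit 0, nat_lit 2, nat_lit 1, nat_lit 2, nat_lit 1, nat_lit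 1, nat_lit 3, nat_lit 0, nat_lit 3, nat_lit 0, nat_lit 3, nat_lit 0, nat_lit 3, nat_lit 1, nat_lit 3, nat_lit 1, nat_lit 3, nat_lit 1, nat_lit 2]) (cond (Nat.ble e (nat_lit 18)) [nat_lit 0, nat_lit 0, nat_lit 2, nat_lit 0, nat_lit 2, nat_lit 1, nat_lit 2, nat_lit 1, nat_lit 1, nat_lit 2, nat_lit 0, nat_lit 3, nat_lit 0, nat_lit 3, nat_lit 0, nat_lit 3, nat_lit 1, nat_lit 3, nat_lit 1, nat_lit 3, nat_lit 1, nat_lit 2] [nat_lit 0, nat_lit 0, nat_lit 0, nat_lit 2, nat_lit 1, nat_lit 1, nat_lit 2, nat_lit 1, nat_lit 2, nat_lit 1, nat_lit 2, nat_lit 0, nat_lit 0, nat_lit 0, nat_lit 3, nat_lit 1, nat_lit 3, nat_lit 1, nat_lit 3, nat_lit 1, nat_lit 3, nat_lit 1, nat_lit 3])) (cond (Nat.ble e (nat_lit 21)) (cond (Nat.ble e (nat_lit 20)) [nat_lit 0, nat_lit 0, nat_lit 0, nat_lit 2, nat_lit 1, nat_lit 2, nat_lit 1, nat_lit 2, nat_lit 1, nat_lit 2, nat_lit 1, nat_lit 2, nat_lit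 0, nat_lit 0, nat_lit 0, nat_lit 3, nat_lit 1, nat_lit 1, nat_lit 3, nat_lit 1, nat_lit 3, nat_lit 1, nat_lit 3] [nat_lit 0, nat_lit 0, nat_lit 0, nat_lit 2, nat_lit 1, nat_lit 1, nat_lit 3, nat_lit 1, nat_lit 3, nat_lit 1, nat_lit 3, nat_lit 0, nat_lit 0, nat_lit 0, nat_lit 3, nat_lit 1, nat_lit 2, nat_lit 1, nat_lit 2, nat_lit 1, nat_lit 2, nat_lit 1, nat_lit 2]) (cond (Nat.ble e (nat_lit 22)) [nat_lit 0, nat_lit 0, nat_lit 0, nat_lit 2, nat_lit 1, nat_lit 3, nat_lit 1, nat_lit 3, nat_lit 1, nat_lit 3, nat_lit 1, nat_lit 3, nat_lit 0, nat_lit 0, nat_lit 0, nat_lit 3, nat_lit 1, nat_lit 1, nat_lit 2, nat_lit 1, nat_lit 2, nat_lit 1, nat_lit 2] [nat_lit 0, nat_lit 0, nat_lit 0, nat_lit 0, nat_lit 2, nat_lit 0, nat_lit 2, nat_lit 0, nat_lit 2, nat_lit 0, nat_lit 2, nat_lit 0, nat_lit 3, nat_lit 1, nat_lit 1, nat_lit 1, nat_lit 3, nat_lit 0, nat_lit 3, nat_lit 0, nat_lit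 3, nat_lit 0, nat_lit 0, nat_lit 3])))
/-- a chunk -/
def rels1_3 (e : ℕ) : List ℕ := (cond (Nat.ble e (nat_lit 27)) (cond (Nat.ble e (nat_lit 25)) (cond (Nat.ble e (nat_lit 24)) [nat_lit 0, nat_lit 0, nat_lit 0, nat_lit 0, nat_lit 2, nat_lit 0, nat_lit 2, nat_lit 0, nat_lit 2, nat_lit 0, nat_lit 0, nat_lit 3, nat_lit 1, nat_lit 1, nat_lit 1, nat_lit 3, nat_lit 0, nat_lit 3, nat_lit 0, nat_lit 3, nat_lit 0, nat_lit 3, nat_lit 0, nat_lit 2] [nat_lit 0, nat_lit 0, nat_lit 0, nat_lit 0, nat_lit 3, nat_lit 0, nat_lit 3, nat_lit 0, nat_lit 3, nat_lit 0, nat_lit 0, nat_lit 2, nat_lit 1, nat_lit 1, nat_lit 1, nat_lit 2, nat_lit 0, nat_lit 2, nat_lit 0, nat_lit 2, nat_lit 0, nat_lit 2, nat_lit 0, nat_lit 3]) (cond (Nat.ble e (nat_lit 26)) [nat_lit 0, nat_lit 0, nat_lit 0, nat_lit 0, nat_lit 3, nat_lit 0, nat_lit 3, nat_lit 0, nat_lit 2, nat_lit 0, nat_lit 0, nat_lit 2, nat_lit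 1, nat_lit 1, nat_lit 1, nat_lit 2, nat_lit 0, nat_lit 2, nat_lit 0, nat_lit 2, nat_lit 0, nat_lit 3, nat_lit 0, nat_lit 3] [nat_lit 0, nat_lit 0, nat_lit 0, nat_lit 0, nat_lit 3, nat_lit 0, nat_lit 3, nat_lit 0, nat_lit 3, nat_lit 0, nat_lit 2, nat_lit 0, nat_lit 2, nat_lit 1, nat_lit 1, nat_lit 1, nat_lit 2, nat_lit 0, nat_lit 2, nat_lit 0, nat_lit 2, nat_lit 0, nat_lit 0, nat_lit 3])) (cond (Nat.ble e (nat_lit 29)) (cond (Nat.ble e (nat_lit 28)) [nat_lit 0, nat_lit 0, nat_lit 0, nat_lit 0, nat_lit 3, nat_lit 0, nat_lit 2, nat_lit 0, nat_lit 2, nat_lit 0, nat_lit 0, nat_lit 2, nat_lit 1, nat_lit 1, nat_lit 1, nat_lit 2, nat_lit 0, nat_lit 2, nat_lit 0, nat_lit 3, nat_lit 0, nat_lit 3, nat_lit 0, nat_lit 3] [nat_lit 0, nat_lit 0, nat_lit 0, nat_lit 0, nat_lit 3, nat_lit 0, nat_lit 3, nat_lit 0, nat_lit 2, nat_lit 0, nat_lit 2, nat_lit 0, nat_lit 2, nat_lit 1, nat_lit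 1, nat_lit 1, nat_lit 2, nat_lit 0, nat_lit 2, nat_lit 0, nat_lit 3, nat_lit 0, nat_lit 0, nat_lit 3]) (cond (Nat.ble e (nat_lit 30)) [nat_lit 0, nat_lit 0, nat_lit 0, nat_lit 0, nat_lit 2, nat_lit 0, nat_lit 2, nat_lit 0, nat_lit 2, nat_lit 0, nat_lit 0, nat_lit 2, nat_lit 1, nat_lit 1, nat_lit 1, nat_lit 2, nat_lit 0, nat_lit 3, nat_lit 0, nat_lit 3, nat_lit 0, nat_lit 3, nat_lit 0, nat_lit 3] [nat_lit 0, nat_lit 0, nat_lit 0, nat_lit 0, nat_lit 3, nat_lit 0, nat_lit 2, nat_lit 0, nat_lit 2, nat_lit 0, nat_lit 2, nat_lit 0, nat_lit 2, nat_lit 1, nat_lit 1, nat_lit 1, nat_lit 2, nat_lit 0, nat_lit 3, nat_lit 0, nat_lit 3, nat_lit 0, nat_lit 0, nat_lit 3])))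
/-- a chunk -/
def rels1_4 (e : ℕ) : List ℕ := (cond (Nat.ble e (nat_lit 35)) (cond (Nat.ble e (nat_lit 33)) (cond (Nat.ble e (nat_lit 32)) [nat_lit 0, nat_lit 0, nat_lit 0, nat_lit 0, nat_lit 2, nat_lit 0, nat_lit 2, nat_lit 0, nat_lit 3, nat_lit 0, nat_lit 0, nat_lit 3, nat_lit 1, nat_lit 1, nat_lit 1, nat_lit 3, nat_lit 0, nat_lit 3, nat_lit 0, nat_lit 3, nat_lit 0, nat_lit 2, nat_lit 0, nat_lit 2] [nat_lit 0, nat_lit 0, nat_lit 0, nat_lit 0, nat_lit 2, nat_lit 0, nat_lit 2, nat_lit 0, nat_lit 2, nat_lit 0, nat_lit 3, nat_lit 0, nat_lit 3, nat_lit 1, nat_lit 1, nat_lit 1, nat_lit 3, nat_lit 0, nat_lit 3, nat_lit 0, nat_lit 3, nat_lit 0, nat_lit 0, nat_lit 2]) (cond (Nat.ble e (nat_lit 34)) [nat_lit 0, nat_lit 0, nat_lit 0, nat_lit 0, nat_lit 2, nat_lit 0, nat_lit 3, nat_lit 0, nat_lit 3, nat_lit 0, nat_lit 0, nat_lit 3, nat_lit 1, nat_lit 1, nat_lit 1, nat_lit 3,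 nat_lit 0, nat_lit 3, nat_lit 0, nat_lit 2, nat_lit 0, nat_lit 2, nat_lit 0, nat_lit 2] [nat_lit 0, nat_lit 0, nat_lit 0, nat_lit 0, nat_lit 2, nat_lit 0, nat_lit 2, nat_lit 0, nat_lit 3, nat_lit 0, nat_lit 3, nat_lit 0, nat_lit 3, nat_lit 1, nat_lit 1, nat_lit 1, nat_lit 3, nat_lit 0, nat_lit 3, nat_lit 0, nat_lit 2, nat_lit 0, nat_lit 0, nat_lit 2])) (cond (Nat.ble e (nat_lit 37)) (cond (Nat.ble e (nat_lit 36)) [nat_lit 0, nat_lit 0, nat_lit 0, nat_lit 0, nat_lit 2, nat_lit 0, nat_lit 3, nat_lit 0, nat_lit 3, nat_lit 0, nat_lit 3, nat_lit 0, nat_lit 3, nat_lit 1, nat_lit 1, nat_lit 1, nat_lit 3, nat_lit 0, nat_lit 2, nat_lit 0, nat_lit 2, nat_lit 0, nat_lit 0, nat_lit 2] [nat_lit 0, nat_lit 0, nat_lit 0, nat_lit 0, nat_lit 2, nat_lit 0, nat_lit 3, nat_lit 0, nat_lit 3, nat_lit 0, nat_lit 0, nat_lit 3, nat_lit 1, nat_lit 1, nat_lit 1, nat_lit 3, nat_lit 0, nat_lit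 2, nat_lit 0, nat_lit 2, nat_lit 0, nat_lit 2, nat_lit 0, nat_lit 2]) (cond (Nat.ble e (nat_lit 38)) [nat_lit 0, nat_lit 0, nat_lit 0, nat_lit 0, nat_lit 2, nat_lit 0, nat_lit 2, nat_lit 0, nat_lit 3, nat_lit 0, nat_lit 0, nat_lit 3, nat_lit 1, nat_lit 1, nat_lit 1, nat_lit 3, nat_lit 0, nat_lit 3, nat_lit 0, nat_lit 2, nat_lit 0, nat_lit 2, nat_lit 0, nat_lit 2] [nat_lit 0, nat_lit 0, nat_lit 0, nat_lit 0, nat_lit 2, nat_lit 0, nat_lit 2, nat_lit 0, nat_lit 2, nat_lit 0, nat_lit 2, nat_lit 0, nat_lit 3, nat_lit 1, nat_lit 1, nat_lit 1, nat_lit 3, nat_lit 0, nat_lit 3, nat_lit 0, nat_lit 3, nat_lit 0, nat_lit 0, nat_lit 2])))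
/-- a chunk -/
def rels1_5 (e : ℕ) : List ℕ := (cond (Nat.ble e (nat_lit 43)) (cond (Nat.ble e (nat_lit 41)) (cond (Nat.ble e (nat_lit 40)) [nat_lit 0, nat_lit 0, nat_lit 0, nat_lit 0, nat_lit 3, nat_lit 0, nat_lit 3, nat_lit 0, nat_lit 3, nat_lit 0, nat_lit 0, nat_lit 2, nat_lit 1, nat_lit 1, nat_lit 1, nat_lit 2, nat_lit 0, nat_lit 2, nat_lit 0, nat_lit 2, nat_lit 0, nat_lit 3, nat_lit 0, nat_lit 3] [nat_lit 0, nat_lit 0, nat_lit 0, nat_lit 0, nat_lit 3, nat_lit 0, nat_lit 3, nat_lit 0, nat_lit 2, nat_lit 0, nat_lit 0, nat_lit 2, nat_lit 1, nat_lit 1, nat_lit 1, nat_lit 2, nat_lit 0, nat_lit 2, nat_lit 0, nat_lit 3, nat_lit 0, nat_lit 3, nat_lit 0, nat_lit 3]) (cond (Nat.ble e (nat_lit 42)) [nat_lit 0, nat_lit 0, nat_lit 0, nat_lit 0, nat_lit 3, nat_lit 0, nat_lit 2, nat_lit 0, nat_lit 2, nat_lit 0, nat_lit 0, nat_lit 2, nat_lit 1, nat_lit 1, nat_lit 1, nat_lit 2,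 nat_lit 0, nat_lit 3, nat_lit 0, nat_lit 3, nat_lit 0, nat_lit 3, nat_lit 0, nat_lit 3] [nat_lit 0, nat_lit 0, nat_lit 0, nat_lit 0, nat_lit 3, nat_lit 0, nat_lit 3, nat_lit 0, nat_lit 3, nat_lit 0, nat_lit 0, nat_lit 3, nat_lit 1, nat_lit 1, nat_lit 1, nat_lit 2, nat_lit 0, nat_lit 2, nat_lit 0, nat_lit 2, nat_lit 0, nat_lit 2, nat_lit 0, nat_lit 2])) (cond (Nat.ble e (nat_lit 45)) (cond (Nat.ble e (nat_lit 44)) [nat_lit 0, nat_lit 0, nat_lit 0, nat_lit 0, nat_lit 3, nat_lit 0, nat_lit 3, nat_lit 0, nat_lit 3, nat_lit 0, nat_lit 3, nat_lit 0, nat_lit 3, nat_lit 1, nat_lit 1, nat_lit 1, nat_lit 2, nat_lit 0, nat_lit 2, nat_lit 0, nat_lit 2, nat_lit 0, nat_lit 0, nat_lit 2] [nat_lit 0, nat_lit 0, nat_lit 0, nat_lit 0, nat_lit 2, nat_lit 0, nat_lit 2, nat_lit 0, nat_lit 2, nat_lit 0, nat_lit 0, nat_lit 2, nat_lit 1, nat_lit 1, nat_lit 1, nat_lit 3, nat_lit 0, nat_lit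 3, nat_lit 0, nat_lit 3, nat_lit 0, nat_lit 3, nat_lit 0, nat_lit 3]) (cond (Nat.ble e (nat_lit 46)) [nat_lit 0, nat_lit 0, nat_lit 0, nat_lit 0, nat_lit 2, nat_lit 0, nat_lit 2, nat_lit 0, nat_lit 2, nat_lit 0, nat_lit 2, nat_lit 0, nat_lit 2, nat_lit 1, nat_lit 1, nat_lit 1, nat_lit 3, nat_lit 0, nat_lit 3, nat_lit 0, nat_lit 3, nat_lit 0, nat_lit 0, nat_lit 3] [nat_lit 0, nat_lit 0, nat_lit 0, nat_lit 2, nat_lit 1, nat_lit 2, nat_lit 0, nat_lit 2, nat_lit 1, nat_lit 1, nat_lit 1, nat_lit 3, nat_lit 0, nat_lit 3, nat_lit 0, nat_lit 3, nat_lit 0, nat_lit 3, nat_lit 1, nat_lit 3, nat_lit 1, nat_lit 2, nat_lit 1, nat_lit 2])))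
/-- a chunk -/
def rels1_6 (e : ℕ) : List ℕ := (cond (Nat.ble e (nat_lit 51)) (cond (Nat.ble e (nat_lit 49)) (cond (Nat.ble e (nat_lit 48)) [nat_lit 0, nat_lit 0, nat_lit 2, nat_lit 0, nat_lit 2, nat_lit 1, nat_lit 2, nat_lit 1, nat_lit 1, nat_lit 2, nat_lit 0, nat_lit 2, nat_lit 0, nat_lit 0, nat_lit 3, nat_lit 1, nat_lit 3, nat_lit 0, nat_lit 3, nat_lit 1, nat_lit 1, nat_lit 3, nat_lit 1, nat_lit 3] [nat_lit 0, nat_lit 0, nat_lit 0, nat_lit 0, nat_lit 2, nat_lit 0, nat_lit 2, nat_lit 0, nat_lit 2, nat_lit 0, nat_lit 0, nat_lit 2, nat_lit 0, nat_lit 0, nat_lit 0, nat_lit 0, nat_lit 3, nat_lit 0, nat_lit 3, nat_lit 0, nat_lit 3, nat_lit 0, nat_lit 3, nat_lit 0, nat_lit 3]) (cond (Nat.ble e (nat_lit 50)) [nat_lit 0, nat_lit 0, nat_lit 0, nat_lit 0, nat_lit 2, nat_lit 0, nat_lit 2, nat_lit 0, nat_lit 2, nat_lit 0, nat_lit 2, nat_lit 0, nat_lit 2, nat_lit 0, nat_lit 0,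 nat_lit 0, nat_lit 0, nat_lit 3, nat_lit 0, nat_lit 3, nat_lit 0, nat_lit 3, nat_lit 0, nat_lit 0, nat_lit 3] [nat_lit 0, nat_lit 0, nat_lit 2, nat_lit 0, nat_lit 2, nat_lit 0, nat_lit 0, nat_lit 2, nat_lit 0, nat_lit 2, nat_lit 0, nat_lit 0, nat_lit 3, nat_lit 0, nat_lit 3, nat_lit 0, nat_lit 0, nat_lit 3, nat_lit 0, nat_lit 3, nat_lit 0, nat_lit 0, nat_lit 3, nat_lit 0, nat_lit 2])) (cond (Nat.ble e (nat_lit 53)) (cond (Nat.ble e (nat_lit 52)) [nat_lit 0, nat_lit 0, nat_lit 2, nat_lit 0, nat_lit 2, nat_lit 0, nat_lit 0, nat_lit 2, nat_lit 0, nat_lit 2, nat_lit 0, nat_lit 0, nat_lit 3, nat_lit 0, nat_lit 3, nat_lit 0, nat_lit 0, nat_lit 3, nat_lit 0, nat_lit 3, nat_lit 0, nat_lit 0, nat_lit 3, nat_lit 0, nat_lit 3] [nat_lit 0, nat_lit 0, nat_lit 2, nat_lit 0, nat_lit 2, nat_lit 0, nat_lit 0, nat_lit 2, nat_lit 0, nat_lit 2, nat_lit 0, nat_lit 0, nat_lit 2, nat_lit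 0, nat_lit 3, nat_lit 0, nat_lit 0, nat_lit 3, nat_lit 0, nat_lit 3, nat_lit 0, nat_lit 0, nat_lit 3, nat_lit 0, nat_lit 3]) (cond (Nat.ble e (nat_lit 54)) [nat_lit 0, nat_lit 0, nat_lit 0, nat_lit 0, nat_lit 2, nat_lit 0, nat_lit 2, nat_lit 0, nat_lit 2, nat_lit 0, nat_lit 0, nat_lit 3, nat_lit 0, nat_lit 0, nat_lit 0, nat_lit 0, nat_lit 3, nat_lit 0, nat_lit 3, nat_lit 0, nat_lit 3, nat_lit 0, nat_lit 2, nat_lit 0, nat_lit 2] [nat_lit 0, nat_lit 0, nat_lit 0, nat_lit 0, nat_lit 2, nat_lit 0, nat_lit 2, nat_lit 0, nat_lit 2, nat_lit 0, nat_lit 0, nat_lit 3, nat_lit 0, nat_lit 0, nat_lit 0, nat_lit 0, nat_lit 3, nat_lit 0, nat_lit 3, nat_lit 0, nat_lit 3, nat_lit 0, nat_lit 3, nat_lit 0, nat_lit 2])))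
/-- a chunk -/
def rels1_7 (e : ℕ) : List ℕ := (cond (Nat.ble e (nat_lit 57)) (cond (Nat.ble e (nat_lit 56)) [nat_lit 0, nat_lit 0, nat_lit 2, nat_lit 0, nat_lit 2, nat_lit 0, nat_lit 0, nat_lit 2, nat_lit 0, nat_lit 2, nat_lit 0, nat_lit 0, nat_lit 2, nat_lit 0, nat_lit 2, nat_lit 0, nat_lit 0, nat_lit 3, nat_lit 0, nat_lit 3, nat_lit 0, nat_lit 0, nat_lit 3, nat_lit 0, nat_lit 3] [nat_lit 0, nat_lit 0, nat_lit 0, nat_lit 0, nat_lit 0, nat_lit 2, nat_lit 0, nat_lit 2, nat_lit 0, nat_lit 2, nat_lit 0, nat_lit 3, nat_lit 1, nat_lit 3, nat_lit 1, nat_lit 3, nat_lit 1, nat_lit 3, nat_lit 0, nat_lit 0, nat_lit 3, nat_lit 0, nat_lit 3, nat_lit 1, nat_lit 2]) (cond (Nat.ble e (nat_lit 58)) [nat_lit 0, nat_lit 0, nat_lit 0, nat_lit 0, nat_lit 0, nat_lit 3, nat_lit 0, nat_lit 3, nat_lit 0, nat_lit 3, nat_lit 0, nat_lit 3, nat_lit 1, nat_lit 3, nat_lit 1, nat_lit 2, nat_lit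 1, nat_lit 2, nat_lit 0, nat_lit 0, nat_lit 2, nat_lit 0, nat_lit 2, nat_lit 1, nat_lit 2] [nat_lit 0, nat_lit 0, nat_lit 0, nat_lit 0, nat_lit 0, nat_lit 0, nat_lit 2, nat_lit 0, nat_lit 2, nat_lit 0, nat_lit 0, nat_lit 0, nat_lit 0, nat_lit 0, nat_lit 0, nat_lit 3, nat_lit 0, nat_lit 3, nat_lit 0, nat_lit 0, nat_lit 0, nat_lit 0, nat_lit 0, nat_lit 0, nat_lit 3, nat_lit 0, nat_lit 2]))
/-- a leaf -/
def rels1_l0 (_ e : ℕ) : List ℕ := rels1_0 e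
/-- a leaf -/
def rels1_l1 (_ e : ℕ) : List ℕ := rels1_1 e
/-- a node -/
def rels1_s0_2 (c e : ℕ) : List ℕ := cond (Nat.ble c (nat_lit 0)) (rels1_l0 c e) (rels1_l1 c e)
/-- a leaf -/
def rels1_l2 (_ e : ℕ) : List ℕ := rels1_2 e
/-- a leaf -/
def rels1_l3 (_ e : ℕ) : List ℕ := rels1_3 e
/-- a node -/
def rels1_s2_4 (c e : ℕ) : List ℕ := cond (Nat.ble c (nat_lit 2)) (rels1_l2 c e) (rels1_l3 c e)
/-- a node -/
def rels1_s0_4 (c e : ℕ) : List ℕ := cond (Nat.ble c (nat_lit 1)) (rels1_s0_2 c e) (rels1_s2_4 c e)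
/-- a leaf -/
def rels1_l4 (_ e : ℕ) : List ℕ := rels1_4 e
/-- a leaf -/
def rels1_l5 (_ e : ℕ) : List ℕ := rels1_5 e
/-- a node -/
def rels1_s4_6 (c e : ℕ) : List ℕ := cond (Nat.ble c (nat_lit 4)) (rels1_l4 c e) (rels1_l5 c e)
/-- a leaf -/
def rels1_l6 (_ e : ℕ) : List ℕ := rels1_6 e
/-- a leaf -/
def rels1_l7 (_ e : ℕ) : List ℕ := rels1_7 e
/-- a node -/
def rels1_s6_8 (c e : ℕ) : List ℕ := cond (Nat.ble c (nat_lit 6)) (rels1_l6 c e) (rels1_l7 c e)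
/-- a node -/
def rels1_s4_8 (c e : ℕ) : List ℕ := cond (Nat.ble c (nat_lit 5)) (rels1_s4_6 c e) (rels1_s6_8 c e)
/-- a node -/
def rels1_s0_8 (c e : ℕ) : List ℕ := cond (Nat.ble c (nat_lit 3)) (rels1_s0_4 c e) (rels1_s4_8 c e)
/-- the relators -/
def rels1 (e : ℕ) : List ℕ := rels1_s0_8 (Nat.shiftRight e (nat_lit 3)) e

/-- a chunk -/
def tp1_0 (_ : ℕ) : ℕ := nat_lit 0xbce8158ace61c6d280cfaa91282491bb9465ca9078ab363524045051d8e1b9934388b688d6d7020f62a4498515ba4eea4595095504596234c8f03643b8e826ca0b3cdcc8aac8018254d48fbacd669689448033b2a453c3174262bc014195e942d8769aa19da247484aba9cca04662a200954f14ac82b4dedbd4d45bc20132633c152725046c4b6b9967a09d68852a2826fab49280d0cb82d46a04a91c6e9a4c55d42463e30bc183a15a944816799c151c91aac53bd66ba3ce0144c90c1b2b0c88530aeb806da226a93ed5125858388131e2bbd9b3a497078aa68a868030854b827bdab49ca307b9ac5a928398a418820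
/-- a chunk -/
def tp1_1 (_ : ℕ) : ℕ := nat_lit 0xbba926152d98d6779a0155851a8088bb6d0646950954e99c043204f5a472bcc6b088ae6268ab020f8b64831c95b8c365b235395b023a829990f02a49bbaab349907d951a34640cca8488e0b812a590cd93dd510e258590798594bae853c6ac1b9b3459223424f02881bb2093be80144cb1cd44b06486d5c5ba554745150b4f3658021c1e459646b8dcd14a2b3d686829287b0a1b4c80bb85069de09c58922e921d828518b5bac0db14e9440cfa31c410e21aca6abaaa6692cc2a160939f14c033188f4bb28f1a1535b4ee124058562135892bcea0186862a20c5bac44ca223a9afbaa14606462cdcb1d6d1680443a1e9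
/-- a chunk -/
def tp1_2 (_ : ℕ) : ℕ := nat_lit 0xbb4b538c2672260232915a642b41eabb0c74bc6015601a4da42ad12545d6bd95039133789868b4280564e59474b9e88704c36b26b95551481e2b4085b8c0a70a96885276ae04a95f299988bd1b111c0fac0d622dd21a4a853033bb98d81c80998567ad52aa501a44a3bb20f6cea38912a28047750325d906b99a7b2142851f59a4055ba2460c32b89c0b11ac2a166854614ca337aa87ba96d3124c28ab0b3871a02617a0e9ba5f56c4ce2154b40e136082705256bb0e37a0535da95524c59383103490b9dea1ae50689c624e88602254d436bce03005662aab2a38e47b051b21a9ba6d51900e0967041e4232a2d63d74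
/-- a chunk -/
def tp1_3 (_ : ℕ) : ℕ := nat_lit 0xbd46b0152f5525669a0199c4473228bbcf00106e09675559913204d9268bba663a910e0beca01d82a41b191566b9a5618aa7205332b14d73e2b85100bb96c915ed9829649aa141e2280c8abae4964d0a1bcf5236857404135a20bb54c846750a6c8a1d64939e201466b981661207885aa2ad0faa44374a74bd1650b2b14d946238629c24f03507bc6030bd6013274499a871e44556c5b8dabb30953a8268b8024c1e8a1653bb6d159d33292009542c1d102719eab84753116d93dcab2668808a78828cb81cb5104d9053630e65a54e88bd90bc229595432480e7cec76850cad046bada72c50c1aa90ad8020cdf24b886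
/-- a chunk -/
def tp1_4 (_ : ℕ) : ℕ := nat_lit 0xbcd06734a96497620e813a9f1a8050b8d2e509b689805a2e6441e4f80595bd6007114b144690ccb2b19ec3a1b4bd0c289c8fab1a902d529d90574023b9a2015663812ca0bda7a38b25a50cbd54c849ab3cdc23512104505b0de4bb12d7cca38da14a816732a411110eb99f63a26280dae52585954910502bbbceab424ba4eac089a8302254b883b89760120c2a9d26d5e139a711a289ba46eb04152144b43e5362a3431e0dbd5b23153415a0f3b16450e7170028ba54dac50e251e230c13b2ce18164cbd0627ae12b2aa024ce8618254ba2dbc8c77946942d94b01d19b424ac142bb9521b6cc110c90c1eb3d228980b5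
/-- a chunk -/
def tp1_5 (_ : ℕ) : ℕ := nat_lit 0xb8564b1e69544d4955ac181e274105ba40db096e61c6155208a95f234e24bb60b89e5329ad44d5cc50048091e3b85c6a92cd900625a628628e59be90bc263322a92482e7c447680b4532cbba56254a1409ad1635c404ce51d50fbd26e51563248090c6a86bcecb40c2bc00b495e32522154ea733988b484dbd0e828cc155609231b1581e2b4e4eb840d288f688d7452672639e481aa8bb667a8c86740a90b2d150052a21ebbcea13b94b41016798a36d25162450bc0e348ac5ad02a700cf635049ae51b95a6490f378990aa9720450e0da83b802a3a20d23ecc12eae9964335229b9e6e406436c280356d12ac4f53089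
/-- a chunk -/
def tp1_6 (_ : ℕ) : ℕ := nat_lit 0xbbe608114e0a4e81da515d5a261686b998704616205f32c90d72454aad43bd868a84d4781525ba644b1a23c225bd193a8867205367ca11715ab51808b9923b08a72524fab20d04d715050ebd18f94d48026d0235657562131c43ba2ab905862cdd4040e268e24b292fbacec4cc8a1da50434c505422a3e2eb9d2860c0e792a68aa535d0456c036bd993804d24d1001d5516ade43b845bc96a81187885b6481c2a95e341a93b99acb10a78c80982dcfa286240675bd50063ecb244cd0b9233c853550b0bd1412b0914b570ab802399f21d913ba8b50a4f3b10c04456ca0e42741edbc6611bd2015607599482d0926b2ce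
/-- a chunk -/
def tp1_7 (_ : ℕ) : ℕ := nat_lit 0xbb6d33c1721a9c0089e8330854d634bbeb65402ba38e0909281b0b16cc86bd552b50669858922cf07b628100aebbad00152753643a316413e61a9a28b9deb006d52144e50cd162274925b0ba4567051521c6a03cd36ae919160cbd606914f4101a34b1c443e335d82abc2493090ab1dee0d1a5aae6460e20bd80aacda38912fa4161714f2130c8bd2af12c92b386684d28680a13aa2cbd4507d9ac510098c86ba1c28998aebc98f396c9440cd182b11508172d53bcdc67c4e02a24c5d5a44c02aa0ac3bb8c39342c10154b426baa511790a7bd640595af53067499c14588285233bc96902913a36ce8bc65ac04131c8c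
/-- a chunk -/
def tp1_8 (_ : ℕ) : ℕ := nat_lit 0xb9589312b37d9b13a8321c1c858a80b816d4c8ca23cac1062e9d91480ea7b82c75204d2502582cce4b072abe33bcd6e334896010a28ea185a2fa4847bacc573207912d51250d9d1e11aa20b81cd546a8350b0659221ce4459de1ba269511cb14460340efb064c2d68dbd46e0102b1220654cf2a258f2c5b6bd8b07481320aa389ccc5a1ed4d02abcd468c84b3d68d63ac57c10148c04b9ac2054238262e9bd6762a4569114bd813141942054b40e35334a77ba49bd5d0648cb38d516d2c1208a84cde0b812a8059491eae9da2558d0f110cdbc1a57c5c6b568240d3362e4702824b996979da09c590b094119248a3aa5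
/-- a chunk -/
def tp1_9 (_ : ℕ) : ℕ := nat_lit 0xb9893b28a38ca8e425670b5eca8050bd600b21b413123398b274df10914bbd9728946a326817ce076b84ca8104bb22eaa0c92482304d456bcf414176bc0261a1e923260ac5475ba8514acdba6ca149940d573834647c4a771900bd850505e033223451724b8e46ccb5bb6b3521d129280959ec1c0e64882bbd20540c8154ce0332d17244f6d64bbc1062a9cba9136904e3a35f160053b8565689568980e3a6124508f98eacbb2602c9a91442b1c1c4b19f5a2147b94e4ab96a8053479a636d85160248baad3ac4ec1b9a5850123204f4ac24bcc070b9eb426b45198385a322904db84764d62ca3953914e28190f0348b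
/-- a chunk -/
def tp1_10 (_ : ℕ) : ℕ := nat_lit 0xb8209b346c110d2a2a71385687baa5bd2d27cc8801d95534c51c0315a44ebd9ea9006e4920612193a2e256d427ba1d2584062aaa3642c27d0913cd2dbb4f5909700950e9d86432a29a3c0cbc98448dc0b22148a8f3598256d44fb80c74958d98d72b52a253c3183904ba266824ada0c0714981b29f1aac8ebd5cb809402464d0a0a3399f4b4d2cb8185b46b49412899da43386f5a841bd1cdb3d8b244c092142384734d605bd4cc03c2b25112b3943836624c4a7bac242a6676d6034454ca01e271a56ba8c1aa513b40a33c5cc68052591f4b95531a02678a30ab692030963b969b84d621e49541609d5cc2d04f6c503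
/-- a chunk -/
def tp1_11 (_ : ℕ) : ℕ := nat_lit 0xbd40f85a2c518476ca6b72501190b4b8aac3c5e02a24683a814ac8a6cc76ba861908f505a8f2b0cd74d0b82624bd66692c70689ca03d3161105a1ec1b8c0d5aa68624f08be45ab88135854bcac04aa33a1d7043cc5638221b495bd928051956c5c624d6a90c457c027b9c0a804cb48d0ca3a647c9b1b5445bae5384416205e74b2a2715b44186ab99e03c4b622d8984aad1ce824054ebb90c034f2890cf0d534b2c4a98cb0bd955405747c06c338e42c84d98229ba906abca902e478d061b4da473050bd135989e7219851c9514596d8040ebba0cac672112890a8ab399a0b21e3bc865b11c0a55ea41d223416d64e21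
/-- a chunk -/
def tp1_12 (_ : ℕ) : ℕ := nat_lit 0xbd0ae7d88caa040099b1826531aceab998f49ec09b96468a812c112546a3b8d4b785223cccc8d08803a55816cdbba6b38e86504098cad06bc88130b5b9ec1550c37480d22eb07a4a813233bba408168751acf4b2a440c335b622bca09029026d07589ec572e6463c26b9c4058555225e8b0e5183a93315acbb0cf04563090e22c914aa66d74156b8ec87118d381528544149a937ae25bb4c274ecf091233c971a969053008bb4c7909480246b0d205aba2463e76ba1d0910cc28aad02df3a5a211a927bd93554e838b0056c04143e47590ceb8de41598d740c78caaba24a89802abb535121f35da8371c01928b133204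
/-- a chunk -/
def tp1_13 (_ : ℕ) : ℕ := nat_lit 0xbc2ab305c36b268052cf4ca2251ca4baece2b047928d48246d0542f41233b80aa6c58831dd3ad9620c0924d1e3b95b551823a320b7a1d102642b4c87ba06a490cb15661740af681923c696bd8f353d30209038942c5d654034cebc1c100ad4428c56ac64a9d929a5f1bd0e3049d320ab04152f5c58d35941bce913498b38d501392523428b540fbbeca894ce91e74aa60158d0069182bc4410428c4cdcd40ed532e477a8a4bb17601c4fac0d14b5451924875261bd9429c1142380d60df54ace588646baa0661c041b6297add2ad8a1a0913b92ce6061491eaa1a4485ccaf881a6bc28f2c506b29ab70c13208f24d42c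
/-- a chunk -/
def tp1_14 (_ : ℕ) : ℕ := nat_lit 0xba20b6c8a91442034e8fb0c95730eabb02504869122666c2843aeaf74556bd9d329010909818d0d54a1ea59c6db9535239ea800f659983452229864dba48bac10d0be8c928ee2cc4335a20ba9b59c60c1aec83d132215e203826b9816aca7488d4d7250f62c4129207bd4ef0a1b04aa8512c0e9b22335a44b8549b564ca3466894025cde83b890baad14d17074a602307509d02299edbb53533c03b1e2ba4d84285d254102b8c2c3492a23cadb2e08989d4880f5b80a96c84a20d763060e3b2888beb3bce2b4b9a1910057c2d450d1561c46b84e251269a40b58b6c80186e5b24fba4d6538eb41001a55926bc712ce02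
/-- a chunk -/
def tp1_15 (_ : ℕ) : ℕ := nat_lit 0xb96239a2a67b94c0b4f24c2c4a0960b95c6232d53a82b8368f4c44800e72b9a969a9038808d2a6a78398f5c841bd265b4601921d510c8a32de74b580bb8b0b480640aa960671a11ea1acedbda91915ea3016e1cea7205828250dbd2438988d4bc3542965b40479b980bb035720092422f34c45b0e875496dbad4119cd141213609c54ca96036afbad4c1040fac26e452d248ca46c4e6bc60f51aa96206d28041b2cf2a3893bb68a9a25128ab07592c580c779023b8df553276415b422606888e102e4eb9ca44296e9980d90603a5851625f5bc12532a4ba810d705839da2f39054ba4ce2d67424acc12d0a81de30b620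
/-- a chunk -/
def tp1_16 (_ : ℕ) : ℕ := nat_lit 0xbb512a8a700bcea5da846393119406b9867912b6105a82d14983e207326bbca0920e20b5586729b37d0a13a04bbc08e4d9eb4468d1018391c33518b5b8169396cd9b8cf6520224a21a8d0abaaa6488f42cc0b1c1f16b828912ccba0103244da2e6a2caa171e2f60c96b9cae80d68112b28d8d404de96b02aba4b5b482684d0b15191034643b9eabd0d66be4b255c1621222826354607b9d4eb09a8792868a4335d4700164cba181010f0a5a492accfaaa6373451bc14600d8e792a8a25a25c66591ec1bae0522507698209c5ccb0c4f55654bc0932b6d4aa06e91c295a9ec88046b9428ada8d81c6b7ccc95384c88244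
/-- a chunk -/
def tp1_17 (_ : ℕ) : ℕ := nat_lit 0xbadf09c53621a450310251e8da846ebbab280a6c8916f0a0b4b19a33a920b8eaf3b412890cc5a262b068a4ba05bb8c06343288d0b3d67483d42490b6b8eab43d25819938d141b1c44749a0b94ea412ae0bec384e4da0051624cbbc8c5a82165c4ee1250f50da1a4c8cbba9564432122069aacb1a40d291e7b9cb0aad8a889d4258c0921af48c33bbcaeb5026aa14c88064925623c1b3b9e70b452a6880623c286397591683bb244781c33aaab122d3a18256c229b8cd67964d9828c3ae1142422ab944bda125004e4d5eb1a1b3398b161034bc143924f4208cd0b9e0b323342cb5bbece58a500951551e9134c891b580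
/-- a chunk -/
def tp1_18 (_ : ℕ) : ℕ := nat_lit 0xb8cea902d54856c9a0c26c225a388fbd1ee94e0b2151510ec162a2969c06b82b4545c8634ab30d33b0a4183ce4b8cc225a2d701e964a6b51d05ac034bc809106a742db4b19519b0b0191cfb89f182a8e334e32b016acd0b92424bba6082df2b2aa230d21611053d1b1b8a47646002ceab7b9a1b1944a2069ba6953858e894524356a04c8335a0fbaa92088b5024733b20d23d6835a2ebd0279008eb15f08d4625190d64d69bb133944cf5b6ae1508581d1650403b8ceb6aa286580e9bcc5a402492455bac114d2ac3a20324eca918257b84dbb0d64940f5524b38dc29b42485511bd9c0450956c12364dea398a25c432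
/-- a chunk -/
def tp1_19 (_ : ℕ) : ℕ := nat_lit 0xb90142cde38da0d52452354e15b1c8b89c47d550404033b0b6a36513266bbadf64cc657348aa81873510114251b968c485e23cccb72a120451520db6b808a7a17409c669c1d51165663629bb80758e265326fa4850aa504b04adb81743aaad0c52229a637589093d0cb9c0a0d083732c932c509b505aca2fbd81482848325eb89e457542460e6dbc8604aa226be0b41d8535493b502eb8d28034cea46ac08a0a95a653ac8fbc2425c403090ef499d3a968d432cabb0e07c4a30c0c95c9d4b09b341155bd506051f2885872392d1c26a158abba90c71ca90424f8b6c418a81a9a6bbb4723882803cce55185b2c9182675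
/-- a chunk -/
def tp1_20 (_ : ℕ) : ℕ := nat_lit 0xbc2a1550e063d7620da62ba5142453bcd4648acdab827a2c644158f80251bd90a9be30234f54940c70e92088cbbac2753265792c8102b4836461ba29bc0c0089b4425c7b2e648964c1a9f5b983602235534b37d1c280d8459e49bd2a01c913258f1714cf0c1ac4894bbad2703c659129511a2d9d98a8050ebb834024869a1af2b0508da551aceab8d4b016cd3d586838887d25388522b8048990c9731b195150b3cf51aca1ba5ea9d443812c074565a04f269988baa2c31de418a1602e929a42573515bc4c060e756bd3441207538b25d822b92ac70474902d382628329e511dabbb5e82d9845396909a91800f318a55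
/-- a chunk -/
def tp1_21 (_ : ℕ) : ℕ := nat_lit 0xbdab098cc459d000b1b1525f2a144eb912d9cab488d56580a2639e1418f0bb100abec9944ca19561a105069dd3bd6817a0504d8ec6acce2147102a53bd1ed0a493508a6940e8a822e5b076baa698d09071ac75b0b5680481c9e1bc6a0358453d16a40d2f6b1c498650bad226926719ad1aa8b20428e0b10fb84aa11229a30e69b5687d5c3b4240b9453551e0846ab924e40d868699ccba40ab3a8b44ccf3d4b2106236120dbb58654ad572120215f15cc7008a87bc2665840369eb27514f22051b30a9ba6d533d740b61362a4219e254100eb99c22ca605428889ecc58c2d4d5e4b80762b5c964966522af39031a4e02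
/-- a chunk -/
def tp1_22 (_ : ℕ) : ℕ := nat_lit 0xbc2b499ec9544c402dcf1c982684a8bd1d62c4419366b80d2a054ef22186bbab68498642ca4004716a54f988f4b84648a4167a2b363646a2c45540eebd841716b341191828674ca8b7b4c0ba5ca194223a170202568b6959bd86bae626050fac543051b233885b40e9bcd80154c9821cd3bd415d8b2a0c91bd5529946b13a0f0c6886a4ccb00e4b808b44eb4349ac7b8aa3c0430da29bcd8930ca15560801ecf592226d1d2b9e81010b0909934396f4c6aa359a3bd9859923091dc8051756854f30869b9eaf241a802ed39292e2b22335041ba6955c24d0d893428ce030623be25bd168a84057c9868b49049c4e54c76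
/-- a chunk -/
def tp1_23 (_ : ℕ) : ℕ := nat_lit 0xbbdb024d2a1da4ca9e81020a232dd1bc2897584b4188778143ab661644b2bd1cf4a2b2889aa2ac968302301e66b99363cd44731f54356504222a4823b920b389342cc067564168e287a996bb5f54c4d0115409c9c8a10365b067bbad2690e5ab02a82ccfa266240071b9e9670a28795556a41361a030924bbac2ab4dc913cf4202b0414723322dba240090b0a358a3adcf8a47335855bc82705235b152e1418441a6f5a86dbadaa008c91be1524a2571e764068cb8d14ac08a3bd7193436298499b980ba8759bc097059459a2829ed26c082ba4f19c86d43caa7520430acb60035b92c89c430015ab10e8a355874b9f2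
/-- a chunk -/
def tp1_24 (_ : ℕ) : ℕ := nat_lit 0xbc266650156c5c81a5e2911455d8e1bd24743553204b67b011724461ae15bc8f5280565ccc38268f6382d4448ab8ed462eaa889d04152d9100f31e61b9dd582c8a88ca8659209d1ed30832ba9c1b567244587698b478d6402450b9c168448a6966e4be4819aab08a8cbb033b220f8b4e0149d55157430c89bd48e79d345096d88e4065833418b0b8e8fb14ed9b8c992eb12304180148bbe4252687a8d6c0ba00b34b341a24b9db054e48026cfab0d1710a15d062bbd0b709500b6d391c7105524a1586b9e53a84cc7ad43041026d124b3a25bb288a9256105a778dd18152051973bb1312596fab8c710203934b355028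
/-- a chunk -/
def tp1_25 (_ : ℕ) : ℕ := nat_lit 0xbad56925ed0cd94254e019a22440aebb2cf905c3992882b54959e20a9850b80aaa44c863ea270e1322c324b4f6bd9b2604ee894559d0c4021435a5f0ba447a850e8da93634ca7c86459600bbce49592a2c60c5b820a0d02a99b3bc089916748ad956a8f67850070c46b81716b2b4b4dd2120ea198257c089bd0c76956f53060b4a044242275671bae098d08c3b806acdea68ca1b2052bb249b14ef554cd00e028ac8175113ba404436478306b0d5d4b3caa99851b9dee42813a36c982cc2ac4a11c984bca09991ca300b51d9f15a28261da1ba90f98a0c89172354edb06832b809bb9709082c8aaa69a0f403c6d29136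
/-- a chunk -/
def tp1_26 (_ : ℕ) : ℕ := nat_lit 0xb8d805960d38554b3a2811a722552fbbc8a0216e29c6cac6936864930a16b81b34124972c4f350700c6a7530b6bb5069b83664a232a444028f0a3eabb9205a4d438b0157a57243427159c6b880f254f0425cd530d658e3228674b92c34ba266d542915f35b10705030b82144c98a09ca69923510d0d5d9cfbccf15a9b5651f6298037091092481b8127a28ad0bd76a9a4360a049c50ebd9440b9f36193588c14389105b4b2bc0114b5c67a1760886a930853d674b9805786b682d2850cf1639b490a64bd9c77d0128858682053191aa4d565b9a41382b67a9d09a0626b085a2e29bd98339654101a67c1714249375541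
/-- a chunk -/
def tp1_27 (_ : ℕ) : ℕ := nat_lit 0xb91536c9748992ea81028582f28cecb90d47b82b426a7b00b18287264da2b95a40aad5148cb1cde9a1e28801ccbbd651214d2502765aa34c1d230271bd66f541818c96d7005429c644d906badec544c5939a940670a887401c96b91535bcd40b6153d9111b045925c0bd0532a88b84509781d23582c38db5b9ea32bec86b00b950914cc303094eb9d519916e6a6a13410fb028c28e42bb8089b145792c76847280a86aad31b96d1029306be6b9542833982a0c87b9c0819161b3a2954eb2a19af2c182bae803bc459053619a0d7554c89113bce29034e67c974242ca28588ab843bb68404d51415e33982970a5065aab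
/-- a chunk -/
def tp1_28 (_ : ℕ) : ℕ := nat_lit 0xbc9203d055b28268c1646b9f361468ba4f1059a8289cb1d43493264819eabae0050889185a734905656d38be8ebba2d0155210d707a0f648674ab086b9a0799234921257b04b682c1555c3bc0d3a1c09506b2b2daf4104c744a3b8dd59be8b3aa068b6424858522016b96cc8228d5809339ab270d510a5e2b86b1225967c06b0354674ca2920f4ba46271c2a2a2cc23e4b9b68688215bd6139142b101491c6c823d86a38edb81a85cdf435890ab82a4b0622ca27ba57403c2e248ec11a2a85aad98d05bb56c9d4b424ace3982f8094342411b9ec47c248052ac6a8ce0cc714ac45bd9ed200255ca66122b03a62e53074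
/-- a chunk -/
def tp1_29 (_ : ℕ) : ℕ := nat_lit 0xbb5f08a933a1d6075861620a234aa4b9927b2a71a81ae43e45640821ac34bc612b09232a986ab9617d0886cc07ba468234278180f956748ad4573056b952e9982b00eac6aa0493e91b2047ba973788cc8b901854ad4c87439016bd8e89b5f51454b2142363a80924d0bd601946c054cc54b16271c7443da4bc1cc350756da64025620a0aa7c4f2bc9f3608c9a360e8ac85ad94740460b9aa22ad4c9c068258e09502f4b9b1b8e40822cf8b4f3284cb50ab473124bbd6a12427a9a4da39002326580e36bbeca3b860622b40913332e256c052bb82d91205a82c93ad0f8a85333074bb01474ec913cea284c341212aadb1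
/-- a chunk -/
def tp1_30 (_ : ℕ) : ℕ := nat_lit 0xba2642c2a68bd276ac4aa383205983ba4952c4747b4e061a704082a5ba56b9eb3890ce68d405c0af1059442656bd62b9b45649825939443a28f80183bc0609c90163dd6254462ae893c5aab8a7243ac1599ea2a5a400eb0a44ecbb249a0ce65040b7cc446c608b3aa5ba48f0b247346ab2cd4eb011418a0dbae2e4be92406c79980d80c8a130b5b99c7082767ae4caa2824c0a41aa2dbb292784a399ac7736a9820115104bbd84c9066e8a5a83d1648546a315e0b80cd612540c6c22ad037254fac267bbcc2aa8ed0c534b2e447147098188bc192495b488c819a9d6354083ac4fb812489e4d754d6132145bcaa98c28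
/-- a chunk -/
def tp1_31 (_ : ℕ) : ℕ := nat_lit 0xbba46a904b505e98ccb06806ca22c7bd4d20c52053e07b3102216835cdaebcd8333641b008f3d5d482ca24a151bd48f6166b152506a2c74854370226bb960695f213221522b63429338c89ba6ce11c8a2806d0be2bab0d492213b84d67b88a800f5a267142c62615b2bcda122e87908ca195e0b5630425ccbc10a68a6094489316cfa0c27732abb920b9bcf40a54c35a51054a2435c3
/-- a node -/
def tp1_s0_2 (c : ℕ) : ℕ := cond (Nat.ble c (nat_lit 0)) (tp1_0 c) (tp1_1 c)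
/-- a node -/
def tp1_s2_4 (c : ℕ) : ℕ := cond (Nat.ble c (nat_lit 2)) (tp1_2 c) (tp1_3 c)
/-- a node -/
def tp1_s0_4 (c : ℕ) : ℕ := cond (Nat.ble c (nat_lit 1)) (tp1_s0_2 c) (tp1_s2_4 c)
/-- a node -/
def tp1_s4_6 (c : ℕ) : ℕ := cond (Nat.ble c (nat_lit 4)) (tp1_4 c) (tp1_5 c)
/-- a node -/
def tp1_s6_8 (c : ℕ) : ℕ := cond (Nat.ble c (nat_lit 6)) (tp1_6 c) (tp1_7 c)
/-- a node -/
def tp1_s4_8 (c : ℕ) : ℕ := cond (Nat.ble c (nat_lit 5)) (tp1_s4_6 c) (tp1_s6_8 c)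
/-- a node -/
def tp1_s0_8 (c : ℕ) : ℕ := cond (Nat.ble c (nat_lit 3)) (tp1_s0_4 c) (tp1_s4_8 c)
/-- a node -/
def tp1_s8_10 (c : ℕ) : ℕ := cond (Nat.ble c (nat_lit 8)) (tp1_8 c) (tp1_9 c)
/-- a node -/
def tp1_s10_12 (c : ℕ) : ℕ := cond (Nat.ble c (nat_lit 10)) (tp1_10 c) (tp1_11 c)
/-- a node -/
def tp1_s8_12 (c : ℕ) : ℕ := cond (Nat.ble c (nat_lit 9)) (tp1_s8_10 c) (tp1_s10_12 c)
/-- a node -/
def tp1_s12_14 (c : ℕ) : ℕ := cond (Nat.ble c (nat_lit 12)) (tp1_12 c) (tp1_13 c)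
/-- a node -/
def tp1_s14_16 (c : ℕ) : ℕ := cond (Nat.ble c (nat_lit 14)) (tp1_14 c) (tp1_15 c)
/-- a node -/
def tp1_s12_16 (c : ℕ) : ℕ := cond (Nat.ble c (nat_lit 13)) (tp1_s12_14 c) (tp1_s14_16 c)
/-- a node -/
def tp1_s8_16 (c : ℕ) : ℕ := cond (Nat.ble c (nat_lit 11)) (tp1_s8_12 c) (tp1_s12_16 c)
/-- a node -/
def tp1_s0_16 (c : ℕ) : ℕ := cond (Nat.ble c (nat_lit 7)) (tp1_s0_8 c) (tp1_s8_16 c)
/-- a node -/
def tp1_s16_18 (c : ℕ) : ℕ := cond (Nat.ble c (nat_lit 16)) (tp1_16 c) (tp1_17 c)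
/-- a node -/
def tp1_s18_20 (c : ℕ) : ℕ := cond (Nat.ble c (nat_lit 18)) (tp1_18 c) (tp1_19 c)
/-- a node -/
def tp1_s16_20 (c : ℕ) : ℕ := cond (Nat.ble c (nat_lit 17)) (tp1_s16_18 c) (tp1_s18_20 c)
/-- a node -/
def tp1_s20_22 (c : ℕ) : ℕ := cond (Nat.ble c (nat_lit 20)) (tp1_20 c) (tp1_21 c)
/-- a node -/
def tp1_s22_24 (c : ℕ) : ℕ := cond (Nat.ble c (nat_lit 22)) (tp1_22 c) (tp1_23 c)
/-- a node -/
def tp1_s20_24 (c : ℕ) : ℕ := cond (Nat.ble c (nat_lit 21)) (tp1_s20_22 c) (tp1_s22_24 c)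
/-- a node -/
def tp1_s16_24 (c : ℕ) : ℕ := cond (Nat.ble c (nat_lit 19)) (tp1_s16_20 c) (tp1_s20_24 c)
/-- a node -/
def tp1_s24_26 (c : ℕ) : ℕ := cond (Nat.ble c (nat_lit 24)) (tp1_24 c) (tp1_25 c)
/-- a node -/
def tp1_s26_28 (c : ℕ) : ℕ := cond (Nat.ble c (nat_lit 26)) (tp1_26 c) (tp1_27 c)
/-- a node -/
def tp1_s24_28 (c : ℕ) : ℕ := cond (Nat.ble c (nat_lit 25)) (tp1_s24_26 c) (tp1_s26_28 c)
/-- a node -/
def tp1_s28_30 (c : ℕ) : ℕ := cond (Nat.ble c (nat_lit 28)) (tp1_28 c) (tp1_29 c)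
/-- a node -/
def tp1_s30_32 (c : ℕ) : ℕ := cond (Nat.ble c (nat_lit 30)) (tp1_30 c) (tp1_31 c)
/-- a node -/
def tp1_s28_32 (c : ℕ) : ℕ := cond (Nat.ble c (nat_lit 29)) (tp1_s28_30 c) (tp1_s30_32 c)
/-- a node -/
def tp1_s24_32 (c : ℕ) : ℕ := cond (Nat.ble c (nat_lit 27)) (tp1_s24_28 c) (tp1_s28_32 c)
/-- a node -/
def tp1_s16_32 (c : ℕ) : ℕ := cond (Nat.ble c (nat_lit 23)) (tp1_s16_24 c) (tp1_s24_32 c)
/-- a node -/
def tp1_s0_32 (c : ℕ) : ℕ := cond (Nat.ble c (nat_lit 15)) (tp1_s0_16 c) (tp1_s16_32 c)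
/-- the representatives -/
def tp1 (i : ℕ) : ℕ := Nat.land (Nat.shiftRight (tp1_s0_32 (Nat.shiftRight i (nat_lit 4))) (Nat.mul (nat_lit 120) (Nat.land i (nat_lit 15)))) (nat_lit 1329227995784915872903807060280344575)

/-- a chunk -/
def Wv1_0 (e : ℕ) : List ℕ := (cond (Nat.ble e (nat_lit 15)) (cond (Nat.ble e (nat_lit 7)) (cond (Nat.ble e (nat_lit 3)) (cond (Nat.ble e (nat_lit 1)) (cond (Nat.ble e (nat_lit 0)) [nat_lit 0] []) (cond (Nat.ble e (nat_lit 2)) [] [])) (cond (Nat.ble e (nat_lit 5)) (cond (Nat.ble e (nat_lit 4)) [] []) (cond (Nat.ble e (nat_lit 6)) [] []))) (cond (Nat.ble e (nat_lit 11)) (cond (Nat.ble e (nat_lit 9)) (cond (Nat.ble e (nat_lit 8)) [] []) (cond (Nat.ble e (nat_lit 10)) [] [])) (cond (Nat.ble e (nat_lit 13)) (cond (Nat.ble e (nat_lit 12)) [] []) (cond (Nat.ble e (nat_lit 14)) [] [])))) (cond (Nat.ble e (nat_lit 23)) (cond (Nat.ble e (nat_lit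 19)) (cond (Nat.ble e (nat_lit 17)) (cond (Nat.ble e (nat_lit 16)) [] []) (cond (Nat.ble e (nat_lit 18)) [] [])) (cond (Nat.ble e (nat_lit 21)) (cond (Nat.ble e (nat_lit 20)) [] []) (cond (Nat.ble e (nat_lit 22)) [] []))) (cond (Nat.ble e (nat_lit 27)) (cond (Nat.ble e (nat_lit 25)) (cond (Nat.ble e (nat_lit 24)) [] []) (cond (Nat.ble e (nat_lit 26)) [] [])) (cond (Nat.ble e (nat_lit 29)) (cond (Nat.ble e (nat_lit 28)) [] []) (cond (Nat.ble e (nat_lit 30)) [] [])))))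
/-- a chunk -/
def Wv1_1 (e : ℕ) : List ℕ := (cond (Nat.ble e (nat_lit 47)) (cond (Nat.ble e (nat_lit 39)) (cond (Nat.ble e (nat_lit 35)) (cond (Nat.ble e (nat_lit 33)) (cond (Nat.ble e (nat_lit 32)) [] []) (cond (Nat.ble e (nat_lit 34)) [] [])) (cond (Nat.ble e (nat_lit 37)) (cond (Nat.ble e (nat_lit 36)) [] []) (cond (Nat.ble e (nat_lit 38)) [] []))) (cond (Nat.ble e (nat_lit 43)) (cond (Nat.ble e (nat_lit 41)) (cond (Nat.ble e (nat_lit 40)) [] []) (cond (Nat.ble e (nat_lit 42)) [] [])) (cond (Nat.ble e (nat_lit 45)) (cond (Nat.ble e (nat_lit 44)) [nat_lit 0] []) (cond (Nat.ble e (nat_lit 46)) [] [])))) (cond (Nat.ble e (nat_lit 55)) (cond (Nat.ble e (nat_lit 51)) (cond (Nat.ble e (nat_lit 49)) (cond (Nat.ble e (nat_lit 48)) [] []) (cond (Nat.ble e (nat_lit 50)) [] [])) (cond (Nat.ble e (nat_lit 53)) (cond (Nat.ble e (nat_lit 52)) [] []) (cond (Nat.ble e (nat_lit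 54)) [] []))) (cond (Nat.ble e (nat_lit 59)) (cond (Nat.ble e (nat_lit 57)) (cond (Nat.ble e (nat_lit 56)) [] []) (cond (Nat.ble e (nat_lit 58)) [] [])) (cond (Nat.ble e (nat_lit 61)) (cond (Nat.ble e (nat_lit 60)) [] []) (cond (Nat.ble e (nat_lit 62)) [] [])))))
/-- a chunk -/
def Wv1_2 (e : ℕ) : List ℕ := (cond (Nat.ble e (nat_lit 79)) (cond (Nat.ble e (nat_lit 71)) (cond (Nat.ble e (nat_lit 67)) (cond (Nat.ble e (nat_lit 65)) (cond (Nat.ble e (nat_lit 64)) [] []) (cond (Nat.ble e (nat_lit 66)) [] [])) (cond (Nat.ble e (nat_lit 69)) (cond (Nat.ble e (nat_lit 68)) [] [nat_lit 0, nat_lit 2, nat_lit 0, nat_lit 0, nat_lit 2, nat_lit 0, nat_lit 2, nat_lit 0, nat_lit 0, nat_lit 2, nat_lit 0, nat_lit 2, nat_lit 0, nat_lit 0, nat_lit 2]) (cond (Nat.ble e (nat_lit 70)) [] []))) (cond (Nat.ble e (nat_lit 75)) (cond (Nat.ble e (nat_lit 73)) (cond (Nat.ble e (nat_lit 72)) []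 []) (cond (Nat.ble e (nat_lit 74)) [nat_lit 0, nat_lit 0, nat_lit 0, nat_lit 2, nat_lit 0, nat_lit 2, nat_lit 0, nat_lit 0, nat_lit 2, nat_lit 0, nat_lit 0, nat_lit 0] [])) (cond (Nat.ble e (nat_lit 77)) (cond (Nat.ble e (nat_lit 76)) [] []) (cond (Nat.ble e (nat_lit 78)) [] [])))) (cond (Nat.ble e (nat_lit 87)) (cond (Nat.ble e (nat_lit 83)) (cond (Nat.ble e (nat_lit 81)) (cond (Nat.ble e (nat_lit 80)) [] []) (cond (Nat.ble e (nat_lit 82)) [] [])) (cond (Nat.ble e (nat_lit 85)) (cond (Nat.ble e (nat_lit 84)) [] []) (cond (Nat.ble e (nat_lit 86)) [] []))) (cond (Nat.ble e (nat_lit 91)) (cond (Nat.ble e (nat_lit 89)) (cond (Nat.ble e (nat_lit 88)) [] []) (cond (Nat.ble e (nat_lit 90)) [] [nat_lit 2, nat_lit 1, nat_lit 2, nat_lit 1, nat_lit 1, nat_lit 2, nat_lit 1, nat_lit 2, nat_lit 1, nat_lit 2, nat_lit 0, nat_lit 2, nat_lit 0, nat_lit 2])) (cond (Nat.ble e (nat_lit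 93)) (cond (Nat.ble e (nat_lit 92)) [] []) (cond (Nat.ble e (nat_lit 94)) [] [])))))
/-- a chunk -/
def Wv1_3 (e : ℕ) : List ℕ := (cond (Nat.ble e (nat_lit 111)) (cond (Nat.ble e (nat_lit 103)) (cond (Nat.ble e (nat_lit 99)) (cond (Nat.ble e (nat_lit 97)) (cond (Nat.ble e (nat_lit 96)) [] []) (cond (Nat.ble e (nat_lit 98)) [] [])) (cond (Nat.ble e (nat_lit 101)) (cond (Nat.ble e (nat_lit 100)) [] []) (cond (Nat.ble e (nat_lit 102)) [] []))) (cond (Nat.ble e (nat_lit 107)) (cond (Nat.ble e (nat_lit 105)) (cond (Nat.ble e (nat_lit 104)) [] []) (cond (Nat.ble e (nat_lit 106)) [] [])) (cond (Nat.ble e (nat_lit 109)) (cond (Nat.ble e (nat_lit 108)) [nat_lit 0, nat_lit 0, nat_lit 2, nat_lit 1, nat_lit 1, nat_lit 1, nat_lit 2, nat_lit 1, nat_lit 1, nat_lit 2, nat_lit 1, nat_lit 2, nat_lit 0] []) (cond (Nat.ble e (nat_lit 110)) [] [])))) (cond (Nat.ble e (nat_lit 119)) (cond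 (Nat.ble e (nat_lit 115)) (cond (Nat.ble e (nat_lit 113)) (cond (Nat.ble e (nat_lit 112)) [] []) (cond (Nat.ble e (nat_lit 114)) [] [])) (cond (Nat.ble e (nat_lit 117)) (cond (Nat.ble e (nat_lit 116)) [] []) (cond (Nat.ble e (nat_lit 118)) [] []))) (cond (Nat.ble e (nat_lit 123)) (cond (Nat.ble e (nat_lit 121)) (cond (Nat.ble e (nat_lit 120)) [] []) (cond (Nat.ble e (nat_lit 122)) [] [])) (cond (Nat.ble e (nat_lit 125)) (cond (Nat.ble e (nat_lit 124)) [] []) (cond (Nat.ble e (nat_lit 126)) [] [])))))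
/-- a chunk -/
def Wv1_4 (e : ℕ) : List ℕ := (cond (Nat.ble e (nat_lit 143)) (cond (Nat.ble e (nat_lit 135)) (cond (Nat.ble e (nat_lit 131)) (cond (Nat.ble e (nat_lit 129)) (cond (Nat.ble e (nat_lit 128)) [] []) (cond (Nat.ble e (nat_lit 130)) [] [])) (cond (Nat.ble e (nat_lit 133)) (cond (Nat.ble e (nat_lit 132)) [] []) (cond (Nat.ble e (nat_lit 134)) [] []))) (cond (Nat.ble e (nat_lit 139)) (cond (Nat.ble e (nat_lit 137)) (cond (Nat.ble e (nat_lit 136)) [] []) (cond (Nat.ble e (nat_lit 138)) [nat_lit 1, nat_lit 2, nat_lit 1, nat_lit 1, nat_lit 2, nat_lit 0, nat_lit 2, nat_lit 0, nat_lit 0, nat_lit 2, nat_lit 1, nat_lit 1, nat_lit 1, nat_lit 2] [])) (cond (Nat.ble e (nat_lit 141)) (cond (Nat.ble e (nat_lit 140)) [] []) (cond (Nat.ble e (nat_lit 142)) [] [])))) (cond (Nat.ble e (nat_lit 151)) (cond (Nat.ble e (nat_lit 147)) (cond (Nat.ble e (nat_lit 145)) (cond (Nat.ble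 e (nat_lit 144)) [] []) (cond (Nat.ble e (nat_lit 146)) [] [])) (cond (Nat.ble e (nat_lit 149)) (cond (Nat.ble e (nat_lit 148)) [] []) (cond (Nat.ble e (nat_lit 150)) [] []))) (cond (Nat.ble e (nat_lit 155)) (cond (Nat.ble e (nat_lit 153)) (cond (Nat.ble e (nat_lit 152)) [] []) (cond (Nat.ble e (nat_lit 154)) [] [])) (cond (Nat.ble e (nat_lit 157)) (cond (Nat.ble e (nat_lit 156)) [] []) (cond (Nat.ble e (nat_lit 158)) [] [])))))
/-- a chunk -/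
def Wv1_5 (e : ℕ) : List ℕ := (cond (Nat.ble e (nat_lit 175)) (cond (Nat.ble e (nat_lit 167)) (cond (Nat.ble e (nat_lit 163)) (cond (Nat.ble e (nat_lit 161)) (cond (Nat.ble e (nat_lit 160)) [nat_lit 2, nat_lit 0, nat_lit 0, nat_lit 0, nat_lit 2, nat_lit 1, nat_lit 1, nat_lit 2, nat_lit 1, nat_lit 2, nat_lit 0, nat_lit 0, nat_lit 2, nat_lit 0] []) (cond (Nat.ble e (nat_lit 162)) [] [])) (cond (Nat.ble e (nat_lit 165)) (cond (Nat.ble e (nat_lit 164)) [] []) (cond (Nat.ble e (nat_lit 166)) [] [nat_lit 2, nat_lit 1, nat_lit 1, nat_lit 2, nat_lit 0, nat_lit 2, nat_lit 0, nat_lit 0, nat_lit 2, nat_lit 0, nat_lit 0, nat_lit 2, nat_lit 0, nat_lit 0]))) (cond (Nat.ble e (nat_lit 171)) (cond (Nat.ble e (nat_lit 169)) (cond (Nat.ble e (nat_lit 168)) [] []) (cond (Nat.ble e (nat_lit 170)) [] [])) (cond (Nat.ble e (nat_lit 173)) (cond (Nat.ble e (nat_lit 172)) [] []) (cond (Nat.ble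 e (nat_lit 174)) [] [])))) (cond (Nat.ble e (nat_lit 183)) (cond (Nat.ble e (nat_lit 179)) (cond (Nat.ble e (nat_lit 177)) (cond (Nat.ble e (nat_lit 176)) [nat_lit 0, nat_lit 0, nat_lit 2, nat_lit 1, nat_lit 1, nat_lit 1, nat_lit 2, nat_lit 1, nat_lit 2, nat_lit 0, nat_lit 0, nat_lit 0, nat_lit 2, nat_lit 1] []) (cond (Nat.ble e (nat_lit 178)) [] [nat_lit 0, nat_lit 0, nat_lit 2, nat_lit 1, nat_lit 1, nat_lit 1, nat_lit 2, nat_lit 0, nat_lit 2, nat_lit 0, nat_lit 0, nat_lit 0, nat_lit 2, nat_lit 1, nat_lit 1])) (cond (Nat.ble e (nat_lit 181)) (cond (Nat.ble e (nat_lit 180)) [] []) (cond (Nat.ble e (nat_lit 182)) [nat_lit 1] []))) (cond (Nat.ble e (nat_lit 187)) (cond (Nat.ble e (nat_lit 185)) (cond (Nat.ble e (nat_lit 184)) [] []) (cond (Nat.ble e (nat_lit 186)) [nat_lit 0, nat_lit 2, nat_lit 1, nat_lit 2, nat_lit 0, nat_lit 0, nat_lit 0, nat_lit 2, nat_lit 0, nat_lit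 2, nat_lit 1, nat_lit 1] [])) (cond (Nat.ble e (nat_lit 189)) (cond (Nat.ble e (nat_lit 188)) [] [nat_lit 0, nat_lit 0, nat_lit 2, nat_lit 1, nat_lit 1, nat_lit 1, nat_lit 2, nat_lit 1, nat_lit 2, nat_lit 0, nat_lit 0, nat_lit 0, nat_lit 2, nat_lit 1, nat_lit 1]) (cond (Nat.ble e (nat_lit 190)) [] [])))))
/-- a chunk -/
def Wv1_6 (e : ℕ) : List ℕ := (cond (Nat.ble e (nat_lit 207)) (cond (Nat.ble e (nat_lit 199)) (cond (Nat.ble e (nat_lit 195)) (cond (Nat.ble e (nat_lit 193)) (cond (Nat.ble e (nat_lit 192)) [] []) (cond (Nat.ble e (nat_lit 194)) [] [])) (cond (Nat.ble e (nat_lit 197)) (cond (Nat.ble e (nat_lit 196)) [nat_lit 0, nat_lit 0, nat_lit 2, nat_lit 1, nat_lit 1, nat_lit 1, nat_lit 2, nat_lit 1, nat_lit 2, nat_lit 0, nat_lit 0, nat_lit 0, nat_lit 2, nat_lit 1, nat_lit 1] []) (cond (Nat.ble e (nat_lit 198)) [] []))) (cond (Nat.ble e (nat_lit 203)) (cond (Nat.ble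 e (nat_lit 201)) (cond (Nat.ble e (nat_lit 200)) [] []) (cond (Nat.ble e (nat_lit 202)) [] [nat_lit 2, nat_lit 1, nat_lit 1, nat_lit 2, nat_lit 0, nat_lit 2, nat_lit 0, nat_lit 0, nat_lit 2, nat_lit 0, nat_lit 0, nat_lit 2, nat_lit 0, nat_lit 0])) (cond (Nat.ble e (nat_lit 205)) (cond (Nat.ble e (nat_lit 204)) [] [nat_lit 1, nat_lit 1, nat_lit 2, nat_lit 1, nat_lit 1, nat_lit 2, nat_lit 1, nat_lit 1, nat_lit 2, nat_lit 1, nat_lit 2, nat_lit 0, nat_lit 0, nat_lit 2]) (cond (Nat.ble e (nat_lit 206)) [] [nat_lit 1, nat_lit 2, nat_lit 1, nat_lit 2, nat_lit 0, nat_lit 2, nat_lit 1, nat_lit 1, nat_lit 2, nat_lit 0, nat_lit 0, nat_lit 2, nat_lit 0, nat_lit 0, nat_lit 2])))) (cond (Nat.ble e (nat_lit 215)) (cond (Nat.ble e (nat_lit 211)) (cond (Nat.ble e (nat_lit 209)) (cond (Nat.ble e (nat_lit 208)) [] []) (cond (Nat.ble e (nat_lit 210)) [] [])) (cond (Nat.ble e (nat_lit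 213)) (cond (Nat.ble e (nat_lit 212)) [] []) (cond (Nat.ble e (nat_lit 214)) [] []))) (cond (Nat.ble e (nat_lit 219)) (cond (Nat.ble e (nat_lit 217)) (cond (Nat.ble e (nat_lit 216)) [] []) (cond (Nat.ble e (nat_lit 218)) [] [])) (cond (Nat.ble e (nat_lit 221)) (cond (Nat.ble e (nat_lit 220)) [] []) (cond (Nat.ble e (nat_lit 222)) [] [])))))
/-- a chunk -/
def Wv1_7 (e : ℕ) : List ℕ := (cond (Nat.ble e (nat_lit 239)) (cond (Nat.ble e (nat_lit 231)) (cond (Nat.ble e (nat_lit 227)) (cond (Nat.ble e (nat_lit 225)) (cond (Nat.ble e (nat_lit 224)) [] []) (cond (Nat.ble e (nat_lit 226)) [] [])) (cond (Nat.ble e (nat_lit 229)) (cond (Nat.ble e (nat_lit 228)) [] []) (cond (Nat.ble e (nat_lit 230)) [nat_lit 1, nat_lit 1, nat_lit 2, nat_lit 1, nat_lit 1, nat_lit 2, nat_lit 1, nat_lit 1, nat_lit 2, nat_lit 1, nat_lit 2, nat_lit 0, nat_lit 0, nat_lit 2] [nat_lit 1, nat_lit 1, nat_lit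 2, nat_lit 1, nat_lit 1, nat_lit 2, nat_lit 1, nat_lit 1, nat_lit 2, nat_lit 1, nat_lit 2, nat_lit 0, nat_lit 0, nat_lit 2]))) (cond (Nat.ble e (nat_lit 235)) (cond (Nat.ble e (nat_lit 233)) (cond (Nat.ble e (nat_lit 232)) [] []) (cond (Nat.ble e (nat_lit 234)) [] [])) (cond (Nat.ble e (nat_lit 237)) (cond (Nat.ble e (nat_lit 236)) [] []) (cond (Nat.ble e (nat_lit 238)) [nat_lit 2, nat_lit 1, nat_lit 2, nat_lit 1, nat_lit 1, nat_lit 2, nat_lit 1, nat_lit 2, nat_lit 1, nat_lit 1, nat_lit 2, nat_lit 1, nat_lit 1, nat_lit 1, nat_lit 2] [])))) (cond (Nat.ble e (nat_lit 247)) (cond (Nat.ble e (nat_lit 243)) (cond (Nat.ble e (nat_lit 241)) (cond (Nat.ble e (nat_lit 240)) [] [nat_lit 1, nat_lit 1, nat_lit 1, nat_lit 2, nat_lit 1, nat_lit 2, nat_lit 0, nat_lit 2, nat_lit 0, nat_lit 0, nat_lit 0, nat_lit 2, nat_lit 1, nat_lit 2, nat_lit 0, nat_lit 2, nat_lit 0]) (cond (Nat.ble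 e (nat_lit 242)) [] [])) (cond (Nat.ble e (nat_lit 245)) (cond (Nat.ble e (nat_lit 244)) [] []) (cond (Nat.ble e (nat_lit 246)) [] []))) (cond (Nat.ble e (nat_lit 251)) (cond (Nat.ble e (nat_lit 249)) (cond (Nat.ble e (nat_lit 248)) [] []) (cond (Nat.ble e (nat_lit 250)) [] [nat_lit 2, nat_lit 1, nat_lit 2, nat_lit 0, nat_lit 0, nat_lit 0, nat_lit 2, nat_lit 0, nat_lit 0, nat_lit 2, nat_lit 0, nat_lit 0, nat_lit 2])) (cond (Nat.ble e (nat_lit 253)) (cond (Nat.ble e (nat_lit 252)) [nat_lit 0, nat_lit 0, nat_lit 2, nat_lit 0, nat_lit 2, nat_lit 1, nat_lit 1, nat_lit 2, nat_lit 1, nat_lit 2, nat_lit 1, nat_lit 1, nat_lit 1, nat_lit 2, nat_lit 0, nat_lit 2, nat_lit 0] []) (cond (Nat.ble e (nat_lit 254)) [] [nat_lit 0, nat_lit 0, nat_lit 2, nat_lit 0, nat_lit 2, nat_lit 1, nat_lit 1, nat_lit 2, nat_lit 1, nat_lit 2, nat_lit 1, nat_lit 1, nat_lit 1, nat_lit 2, nat_lit 0,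 nat_lit 2, nat_lit 0])))))
/-- a chunk -/
def Wv1_8 (e : ℕ) : List ℕ := (cond (Nat.ble e (nat_lit 271)) (cond (Nat.ble e (nat_lit 263)) (cond (Nat.ble e (nat_lit 259)) (cond (Nat.ble e (nat_lit 257)) (cond (Nat.ble e (nat_lit 256)) [] []) (cond (Nat.ble e (nat_lit 258)) [] [])) (cond (Nat.ble e (nat_lit 261)) (cond (Nat.ble e (nat_lit 260)) [nat_lit 1, nat_lit 2, nat_lit 0, nat_lit 2, nat_lit 0, nat_lit 0, nat_lit 2, nat_lit 0, nat_lit 0, nat_lit 0, nat_lit 2, nat_lit 1, nat_lit 1] [nat_lit 2, nat_lit 0, nat_lit 2, nat_lit 1, nat_lit 2]) (cond (Nat.ble e (nat_lit 262)) [] []))) (cond (Nat.ble e (nat_lit 267)) (cond (Nat.ble e (nat_lit 265)) (cond (Nat.ble e (nat_lit 264)) [] []) (cond (Nat.ble e (nat_lit 266)) [] [])) (cond (Nat.ble e (nat_lit 269)) (cond (Nat.ble e (nat_lit 268)) [] []) (cond (Nat.ble e (nat_lit 270)) [] [nat_lit 0, nat_lit 2, nat_lit 1, nat_lit 2,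 nat_lit 0, nat_lit 0, nat_lit 2, nat_lit 1, nat_lit 2, nat_lit 0, nat_lit 0, nat_lit 2, nat_lit 1, nat_lit 2, nat_lit 0])))) (cond (Nat.ble e (nat_lit 279)) (cond (Nat.ble e (nat_lit 275)) (cond (Nat.ble e (nat_lit 273)) (cond (Nat.ble e (nat_lit 272)) [] []) (cond (Nat.ble e (nat_lit 274)) [] [])) (cond (Nat.ble e (nat_lit 277)) (cond (Nat.ble e (nat_lit 276)) [] []) (cond (Nat.ble e (nat_lit 278)) [] []))) (cond (Nat.ble e (nat_lit 283)) (cond (Nat.ble e (nat_lit 281)) (cond (Nat.ble e (nat_lit 280)) [] []) (cond (Nat.ble e (nat_lit 282)) [] [])) (cond (Nat.ble e (nat_lit 285)) (cond (Nat.ble e (nat_lit 284)) [] []) (cond (Nat.ble e (nat_lit 286)) [] [])))))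
/-- a chunk -/
def Wv1_9 (e : ℕ) : List ℕ := (cond (Nat.ble e (nat_lit 303)) (cond (Nat.ble e (nat_lit 295)) (cond (Nat.ble e (nat_lit 291)) (cond (Nat.ble e (nat_lit 289)) (cond (Nat.ble e (nat_lit 288)) [] []) (cond (Nat.ble e (nat_lit 290)) [nat_lit 0, nat_lit 2, nat_lit 0, nat_lit 2, nat_lit 1, nat_lit 2, nat_lit 1, nat_lit 2, nat_lit 0, nat_lit 2, nat_lit 1, nat_lit 1, nat_lit 1, nat_lit 2, nat_lit 1] [])) (cond (Nat.ble e (nat_lit 293)) (cond (Nat.ble e (nat_lit 292)) [] []) (cond (Nat.ble e (nat_lit 294)) [] []))) (cond (Nat.ble e (nat_lit 299)) (cond (Nat.ble e (nat_lit 297)) (cond (Nat.ble e (nat_lit 296)) [] []) (cond (Nat.ble e (nat_lit 298)) [] [])) (cond (Nat.ble e (nat_lit 301)) (cond (Nat.ble e (nat_lit 300)) [] []) (cond (Nat.ble e (nat_lit 302)) [nat_lit 2, nat_lit 1, nat_lit 1, nat_lit 2, nat_lit 0, nat_lit 0, nat_lit 0, nat_lit 2, nat_lit 1, nat_lit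 2, nat_lit 1, nat_lit 1, nat_lit 2, nat_lit 1, nat_lit 1, nat_lit 1] [])))) (cond (Nat.ble e (nat_lit 311)) (cond (Nat.ble e (nat_lit 307)) (cond (Nat.ble e (nat_lit 305)) (cond (Nat.ble e (nat_lit 304)) [] []) (cond (Nat.ble e (nat_lit 306)) [] [nat_lit 2, nat_lit 0, nat_lit 2, nat_lit 1, nat_lit 2])) (cond (Nat.ble e (nat_lit 309)) (cond (Nat.ble e (nat_lit 308)) [nat_lit 1, nat_lit 1, nat_lit 2, nat_lit 1, nat_lit 2, nat_lit 1, nat_lit 1, nat_lit 1, nat_lit 2, nat_lit 0, nat_lit 0, nat_lit 2, nat_lit 0] []) (cond (Nat.ble e (nat_lit 310)) [] []))) (cond (Nat.ble e (nat_lit 315)) (cond (Nat.ble e (nat_lit 313)) (cond (Nat.ble e (nat_lit 312)) [nat_lit 2, nat_lit 0, nat_lit 2, nat_lit 0, nat_lit 0, nat_lit 0, nat_lit 2, nat_lit 1, nat_lit 1, nat_lit 1, nat_lit 2, nat_lit 0, nat_lit 0, nat_lit 0] []) (cond (Nat.ble e (nat_lit 314)) [] [])) (cond (Nat.ble e (nat_lit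 317)) (cond (Nat.ble e (nat_lit 316)) [] [nat_lit 0, nat_lit 2, nat_lit 0, nat_lit 0, nat_lit 2, nat_lit 0, nat_lit 0, nat_lit 2, nat_lit 0, nat_lit 2, nat_lit 1, nat_lit 1, nat_lit 1, nat_lit 2, nat_lit 0]) (cond (Nat.ble e (nat_lit 318)) [] [])))))
/-- a chunk -/
def Wv1_10 (e : ℕ) : List ℕ := (cond (Nat.ble e (nat_lit 335)) (cond (Nat.ble e (nat_lit 327)) (cond (Nat.ble e (nat_lit 323)) (cond (Nat.ble e (nat_lit 321)) (cond (Nat.ble e (nat_lit 320)) [] []) (cond (Nat.ble e (nat_lit 322)) [nat_lit 2, nat_lit 1, nat_lit 1, nat_lit 2, nat_lit 0, nat_lit 2, nat_lit 0, nat_lit 0, nat_lit 2, nat_lit 0, nat_lit 0, nat_lit 2, nat_lit 0, nat_lit 0] [])) (cond (Nat.ble e (nat_lit 325)) (cond (Nat.ble e (nat_lit 324)) [nat_lit 1, nat_lit 1, nat_lit 1, nat_lit 2, nat_lit 0, nat_lit 0, nat_lit 2, nat_lit 1, nat_lit 2, nat_lit 0, nat_lit 0, nat_lit 0, nat_lit 2, nat_lit 1, nat_lit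 2] []) (cond (Nat.ble e (nat_lit 326)) [] []))) (cond (Nat.ble e (nat_lit 331)) (cond (Nat.ble e (nat_lit 329)) (cond (Nat.ble e (nat_lit 328)) [] []) (cond (Nat.ble e (nat_lit 330)) [] [])) (cond (Nat.ble e (nat_lit 333)) (cond (Nat.ble e (nat_lit 332)) [] [nat_lit 1, nat_lit 1, nat_lit 1, nat_lit 2, nat_lit 1, nat_lit 2, nat_lit 1, nat_lit 1, nat_lit 1, nat_lit 2, nat_lit 0, nat_lit 0, nat_lit 2]) (cond (Nat.ble e (nat_lit 334)) [] [nat_lit 2, nat_lit 1, nat_lit 1, nat_lit 2, nat_lit 1, nat_lit 1, nat_lit 2, nat_lit 1, nat_lit 1, nat_lit 1, nat_lit 2, nat_lit 0, nat_lit 2])))) (cond (Nat.ble e (nat_lit 343)) (cond (Nat.ble e (nat_lit 339)) (cond (Nat.ble e (nat_lit 337)) (cond (Nat.ble e (nat_lit 336)) [] []) (cond (Nat.ble e (nat_lit 338)) [] [])) (cond (Nat.ble e (nat_lit 341)) (cond (Nat.ble e (nat_lit 340)) [] []) (cond (Nat.ble e (nat_lit 342)) [] []))) (cond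 (Nat.ble e (nat_lit 347)) (cond (Nat.ble e (nat_lit 345)) (cond (Nat.ble e (nat_lit 344)) [] []) (cond (Nat.ble e (nat_lit 346)) [] [])) (cond (Nat.ble e (nat_lit 349)) (cond (Nat.ble e (nat_lit 348)) [] []) (cond (Nat.ble e (nat_lit 350)) [] [nat_lit 0, nat_lit 2, nat_lit 0, nat_lit 0, nat_lit 0, nat_lit 2, nat_lit 0, nat_lit 2, nat_lit 1, nat_lit 1, nat_lit 2, nat_lit 1, nat_lit 2])))))
/-- a chunk -/
def Wv1_11 (e : ℕ) : List ℕ := (cond (Nat.ble e (nat_lit 367)) (cond (Nat.ble e (nat_lit 359)) (cond (Nat.ble e (nat_lit 355)) (cond (Nat.ble e (nat_lit 353)) (cond (Nat.ble e (nat_lit 352)) [] [nat_lit 0, nat_lit 0, nat_lit 2, nat_lit 1, nat_lit 2, nat_lit 1, nat_lit 2, nat_lit 0, nat_lit 2, nat_lit 0, nat_lit 0, nat_lit 0, nat_lit 2, nat_lit 1, nat_lit 1]) (cond (Nat.ble e (nat_lit 354)) [] [])) (cond (Nat.ble e (nat_lit 357)) (cond (Nat.ble e (nat_lit 356)) [nat_lit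 2, nat_lit 0, nat_lit 0, nat_lit 0, nat_lit 2, nat_lit 0, nat_lit 0, nat_lit 2, nat_lit 1, nat_lit 2, nat_lit 0, nat_lit 2, nat_lit 1, nat_lit 1, nat_lit 2, nat_lit 0] []) (cond (Nat.ble e (nat_lit 358)) [] [nat_lit 1, nat_lit 1, nat_lit 2, nat_lit 0, nat_lit 0]))) (cond (Nat.ble e (nat_lit 363)) (cond (Nat.ble e (nat_lit 361)) (cond (Nat.ble e (nat_lit 360)) [] []) (cond (Nat.ble e (nat_lit 362)) [] [])) (cond (Nat.ble e (nat_lit 365)) (cond (Nat.ble e (nat_lit 364)) [] []) (cond (Nat.ble e (nat_lit 366)) [] [])))) (cond (Nat.ble e (nat_lit 375)) (cond (Nat.ble e (nat_lit 371)) (cond (Nat.ble e (nat_lit 369)) (cond (Nat.ble e (nat_lit 368)) [] [nat_lit 0, nat_lit 0, nat_lit 2, nat_lit 1, nat_lit 2, nat_lit 0, nat_lit 0, nat_lit 2, nat_lit 1, nat_lit 2, nat_lit 0, nat_lit 2, nat_lit 0]) (cond (Nat.ble e (nat_lit 370)) [] [])) (cond (Nat.ble e (nat_lit 373)) (cond (Nat.ble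 e (nat_lit 372)) [] []) (cond (Nat.ble e (nat_lit 374)) [] []))) (cond (Nat.ble e (nat_lit 379)) (cond (Nat.ble e (nat_lit 377)) (cond (Nat.ble e (nat_lit 376)) [] [nat_lit 0, nat_lit 2, nat_lit 1, nat_lit 1, nat_lit 1, nat_lit 2, nat_lit 0, nat_lit 2, nat_lit 0, nat_lit 0, nat_lit 0, nat_lit 2, nat_lit 1, nat_lit 1]) (cond (Nat.ble e (nat_lit 378)) [] [])) (cond (Nat.ble e (nat_lit 381)) (cond (Nat.ble e (nat_lit 380)) [] []) (cond (Nat.ble e (nat_lit 382)) [] [])))))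
/-- a chunk -/
def Wv1_12 (e : ℕ) : List ℕ := (cond (Nat.ble e (nat_lit 399)) (cond (Nat.ble e (nat_lit 391)) (cond (Nat.ble e (nat_lit 387)) (cond (Nat.ble e (nat_lit 385)) (cond (Nat.ble e (nat_lit 384)) [] [nat_lit 0, nat_lit 2, nat_lit 0, nat_lit 0, nat_lit 2, nat_lit 0, nat_lit 2, nat_lit 0, nat_lit 0, nat_lit 2, nat_lit 0, nat_lit 2, nat_lit 0, nat_lit 0, nat_lit 2]) (cond (Nat.ble e (nat_lit 386)) [] [])) (cond (Nat.ble e (nat_lit 389)) (cond (Nat.ble e (nat_lit 388)) [nat_lit 0, nat_lit 0, nat_lit 2, nat_lit 0, nat_lit 2, nat_lit 0, nat_lit 0, nat_lit 2, nat_lit 1, nat_lit 1, nat_lit 2, nat_lit 0, nat_lit 0] []) (cond (Nat.ble e (nat_lit 390)) [] [nat_lit 1, nat_lit 2, nat_lit 1, nat_lit 2, nat_lit 0, nat_lit 2, nat_lit 1, nat_lit 1, nat_lit 2, nat_lit 0, nat_lit 2, nat_lit 1, nat_lit 1]))) (cond (Nat.ble e (nat_lit 395)) (cond (Nat.ble e (nat_lit 393)) (cond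 (Nat.ble e (nat_lit 392)) [] []) (cond (Nat.ble e (nat_lit 394)) [nat_lit 2, nat_lit 0, nat_lit 0, nat_lit 0, nat_lit 2, nat_lit 1, nat_lit 2, nat_lit 0, nat_lit 2, nat_lit 1, nat_lit 2, nat_lit 1, nat_lit 1] [nat_lit 2, nat_lit 1, nat_lit 2, nat_lit 1, nat_lit 2, nat_lit 0, nat_lit 0, nat_lit 0, nat_lit 2, nat_lit 0, nat_lit 0, nat_lit 2, nat_lit 1, nat_lit 2])) (cond (Nat.ble e (nat_lit 397)) (cond (Nat.ble e (nat_lit 396)) [] [nat_lit 1, nat_lit 1, nat_lit 2, nat_lit 0, nat_lit 0, nat_lit 2, nat_lit 0, nat_lit 2, nat_lit 1, nat_lit 1, nat_lit 1, nat_lit 2, nat_lit 0, nat_lit 0, nat_lit 2, nat_lit 1, nat_lit 2]) (cond (Nat.ble e (nat_lit 398)) [] [])))) (cond (Nat.ble e (nat_lit 407)) (cond (Nat.ble e (nat_lit 403)) (cond (Nat.ble e (nat_lit 401)) (cond (Nat.ble e (nat_lit 400)) [] []) (cond (Nat.ble e (nat_lit 402)) [] [])) (cond (Nat.ble e (nat_lit 405)) (cond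 (Nat.ble e (nat_lit 404)) [nat_lit 1, nat_lit 2, nat_lit 1, nat_lit 2, nat_lit 0, nat_lit 2, nat_lit 1, nat_lit 1, nat_lit 2, nat_lit 0, nat_lit 2, nat_lit 1, nat_lit 1] []) (cond (Nat.ble e (nat_lit 406)) [] []))) (cond (Nat.ble e (nat_lit 411)) (cond (Nat.ble e (nat_lit 409)) (cond (Nat.ble e (nat_lit 408)) [] []) (cond (Nat.ble e (nat_lit 410)) [] [nat_lit 2, nat_lit 1, nat_lit 2, nat_lit 1, nat_lit 1, nat_lit 2, nat_lit 0, nat_lit 0, nat_lit 2, nat_lit 1, nat_lit 2, nat_lit 0, nat_lit 2, nat_lit 1, nat_lit 2])) (cond (Nat.ble e (nat_lit 413)) (cond (Nat.ble e (nat_lit 412)) [] []) (cond (Nat.ble e (nat_lit 414)) [] [nat_lit 1, nat_lit 2, nat_lit 0, nat_lit 0, nat_lit 2, nat_lit 0, nat_lit 2, nat_lit 0, nat_lit 2, nat_lit 1, nat_lit 1, nat_lit 2, nat_lit 0, nat_lit 2, nat_lit 0])))))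
/-- a chunk -/
def Wv1_13 (e : ℕ) : List ℕ := (cond (Nat.ble e (nat_lit 431)) (cond (Nat.ble e (nat_lit 423)) (cond (Nat.ble e (nat_lit 419)) (cond (Nat.ble e (nat_lit 417)) (cond (Nat.ble e (nat_lit 416)) [] []) (cond (Nat.ble e (nat_lit 418)) [nat_lit 1, nat_lit 1, nat_lit 1, nat_lit 2, nat_lit 1, nat_lit 1, nat_lit 2, nat_lit 1, nat_lit 2, nat_lit 0, nat_lit 0] [])) (cond (Nat.ble e (nat_lit 421)) (cond (Nat.ble e (nat_lit 420)) [] []) (cond (Nat.ble e (nat_lit 422)) [] []))) (cond (Nat.ble e (nat_lit 427)) (cond (Nat.ble e (nat_lit 425)) (cond (Nat.ble e (nat_lit 424)) [] [nat_lit 1, nat_lit 1]) (cond (Nat.ble e (nat_lit 426)) [] [nat_lit 0, nat_lit 0, nat_lit 2, nat_lit 0, nat_lit 2, nat_lit 0, nat_lit 0, nat_lit 2, nat_lit 1, nat_lit 1, nat_lit 2, nat_lit 0, nat_lit 0])) (cond (Nat.ble e (nat_lit 429)) (cond (Nat.ble e (nat_lit 428)) [nat_lit 1, nat_lit 2, nat_lit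 0, nat_lit 2, nat_lit 0, nat_lit 0, nat_lit 2, nat_lit 0, nat_lit 0, nat_lit 0, nat_lit 2, nat_lit 1] [nat_lit 1, nat_lit 1, nat_lit 2, nat_lit 1, nat_lit 2, nat_lit 0, nat_lit 2, nat_lit 0, nat_lit 2, nat_lit 1, nat_lit 1, nat_lit 1, nat_lit 2, nat_lit 1, nat_lit 1]) (cond (Nat.ble e (nat_lit 430)) [nat_lit 1, nat_lit 1, nat_lit 2, nat_lit 1, nat_lit 1, nat_lit 2, nat_lit 1, nat_lit 2, nat_lit 0, nat_lit 2, nat_lit 0, nat_lit 0, nat_lit 0, nat_lit 2] [])))) (cond (Nat.ble e (nat_lit 439)) (cond (Nat.ble e (nat_lit 435)) (cond (Nat.ble e (nat_lit 433)) (cond (Nat.ble e (nat_lit 432)) [] []) (cond (Nat.ble e (nat_lit 434)) [] [])) (cond (Nat.ble e (nat_lit 437)) (cond (Nat.ble e (nat_lit 436)) [] []) (cond (Nat.ble e (nat_lit 438)) [nat_lit 2, nat_lit 1, nat_lit 1, nat_lit 1, nat_lit 2, nat_lit 1, nat_lit 1, nat_lit 2, nat_lit 1, nat_lit 2, nat_lit 0] []))) (cond (Nat.ble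 e (nat_lit 443)) (cond (Nat.ble e (nat_lit 441)) (cond (Nat.ble e (nat_lit 440)) [] [nat_lit 2, nat_lit 1, nat_lit 2, nat_lit 1, nat_lit 1, nat_lit 2, nat_lit 0, nat_lit 2, nat_lit 1, nat_lit 1]) (cond (Nat.ble e (nat_lit 442)) [] [])) (cond (Nat.ble e (nat_lit 445)) (cond (Nat.ble e (nat_lit 444)) [] []) (cond (Nat.ble e (nat_lit 446)) [] [])))))
/-- a chunk -/
def Wv1_14 (e : ℕ) : List ℕ := (cond (Nat.ble e (nat_lit 463)) (cond (Nat.ble e (nat_lit 455)) (cond (Nat.ble e (nat_lit 451)) (cond (Nat.ble e (nat_lit 449)) (cond (Nat.ble e (nat_lit 448)) [] []) (cond (Nat.ble e (nat_lit 450)) [] [])) (cond (Nat.ble e (nat_lit 453)) (cond (Nat.ble e (nat_lit 452)) [] [nat_lit 2, nat_lit 0, nat_lit 2, nat_lit 1, nat_lit 1, nat_lit 2, nat_lit 1, nat_lit 1, nat_lit 1, nat_lit 2, nat_lit 0, nat_lit 2, nat_lit 0, nat_lit 2]) (cond (Nat.ble e (nat_lit 454)) [nat_lit 2, nat_lit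 1, nat_lit 2, nat_lit 0, nat_lit 0, nat_lit 2, nat_lit 1, nat_lit 2, nat_lit 0, nat_lit 2, nat_lit 0, nat_lit 2, nat_lit 1, nat_lit 1, nat_lit 1] []))) (cond (Nat.ble e (nat_lit 459)) (cond (Nat.ble e (nat_lit 457)) (cond (Nat.ble e (nat_lit 456)) [nat_lit 2, nat_lit 0, nat_lit 0, nat_lit 2, nat_lit 1, nat_lit 2, nat_lit 1, nat_lit 1, nat_lit 2] [nat_lit 1, nat_lit 2, nat_lit 0, nat_lit 2, nat_lit 0, nat_lit 0, nat_lit 2, nat_lit 0, nat_lit 0, nat_lit 0, nat_lit 2, nat_lit 1, nat_lit 1]) (cond (Nat.ble e (nat_lit 458)) [] [nat_lit 2, nat_lit 1, nat_lit 2, nat_lit 1, nat_lit 1, nat_lit 2, nat_lit 1, nat_lit 2, nat_lit 1, nat_lit 2, nat_lit 0, nat_lit 2, nat_lit 0, nat_lit 2])) (cond (Nat.ble e (nat_lit 461)) (cond (Nat.ble e (nat_lit 460)) [] []) (cond (Nat.ble e (nat_lit 462)) [nat_lit 1, nat_lit 2, nat_lit 1, nat_lit 2, nat_lit 0, nat_lit 0, nat_lit 2, nat_lit 1,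 nat_lit 2, nat_lit 0, nat_lit 0, nat_lit 0, nat_lit 2, nat_lit 1, nat_lit 2, nat_lit 0] [])))) (cond (Nat.ble e (nat_lit 471)) (cond (Nat.ble e (nat_lit 467)) (cond (Nat.ble e (nat_lit 465)) (cond (Nat.ble e (nat_lit 464)) [] []) (cond (Nat.ble e (nat_lit 466)) [] [nat_lit 1, nat_lit 2, nat_lit 0, nat_lit 0, nat_lit 0, nat_lit 2, nat_lit 1, nat_lit 2, nat_lit 1, nat_lit 1, nat_lit 2, nat_lit 1, nat_lit 1, nat_lit 2, nat_lit 1])) (cond (Nat.ble e (nat_lit 469)) (cond (Nat.ble e (nat_lit 468)) [] []) (cond (Nat.ble e (nat_lit 470)) [] []))) (cond (Nat.ble e (nat_lit 475)) (cond (Nat.ble e (nat_lit 473)) (cond (Nat.ble e (nat_lit 472)) [nat_lit 0, nat_lit 2, nat_lit 0, nat_lit 2, nat_lit 1, nat_lit 2, nat_lit 1, nat_lit 2, nat_lit 0, nat_lit 2, nat_lit 1, nat_lit 1, nat_lit 1, nat_lit 2, nat_lit 1] []) (cond (Nat.ble e (nat_lit 474)) [] [])) (cond (Nat.ble e (nat_lit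 477)) (cond (Nat.ble e (nat_lit 476)) [] []) (cond (Nat.ble e (nat_lit 478)) [nat_lit 1, nat_lit 2, nat_lit 1, nat_lit 1, nat_lit 1, nat_lit 2, nat_lit 0, nat_lit 2, nat_lit 0, nat_lit 0, nat_lit 2, nat_lit 1, nat_lit 2, nat_lit 1] [nat_lit 2, nat_lit 0, nat_lit 2, nat_lit 1, nat_lit 1, nat_lit 1, nat_lit 2, nat_lit 0, nat_lit 2, nat_lit 1, nat_lit 1, nat_lit 2])))))
/-- a chunk -/
def Wv1_15 (e : ℕ) : List ℕ := (cond (Nat.ble e (nat_lit 495)) (cond (Nat.ble e (nat_lit 487)) (cond (Nat.ble e (nat_lit 483)) (cond (Nat.ble e (nat_lit 481)) (cond (Nat.ble e (nat_lit 480)) [] [nat_lit 1, nat_lit 2, nat_lit 1, nat_lit 2, nat_lit 1, nat_lit 1, nat_lit 1, nat_lit 2, nat_lit 0, nat_lit 0, nat_lit 2, nat_lit 0, nat_lit 0]) (cond (Nat.ble e (nat_lit 482)) [] [])) (cond (Nat.ble e (nat_lit 485)) (cond (Nat.ble e (nat_lit 484)) [] [nat_lit 0, nat_lit 0, nat_lit 2, nat_lit 1, nat_lit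 1, nat_lit 2, nat_lit 0, nat_lit 0, nat_lit 0, nat_lit 2, nat_lit 1, nat_lit 2, nat_lit 0, nat_lit 0, nat_lit 2]) (cond (Nat.ble e (nat_lit 486)) [] [nat_lit 0, nat_lit 2, nat_lit 1, nat_lit 1, nat_lit 1, nat_lit 2, nat_lit 0, nat_lit 2, nat_lit 0, nat_lit 2, nat_lit 1, nat_lit 2, nat_lit 1, nat_lit 1, nat_lit 2, nat_lit 1]))) (cond (Nat.ble e (nat_lit 491)) (cond (Nat.ble e (nat_lit 489)) (cond (Nat.ble e (nat_lit 488)) [nat_lit 1, nat_lit 1, nat_lit 1, nat_lit 2, nat_lit 0, nat_lit 0, nat_lit 0, nat_lit 2, nat_lit 0, nat_lit 0, nat_lit 0, nat_lit 2, nat_lit 0, nat_lit 0, nat_lit 2] []) (cond (Nat.ble e (nat_lit 490)) [] [nat_lit 1, nat_lit 1, nat_lit 2, nat_lit 1, nat_lit 2, nat_lit 0, nat_lit 2, nat_lit 1, nat_lit 2, nat_lit 1, nat_lit 2, nat_lit 0, nat_lit 2, nat_lit 0, nat_lit 2])) (cond (Nat.ble e (nat_lit 493)) (cond (Nat.ble e (nat_lit 492)) [] []) (cond (Nat.ble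 e (nat_lit 494)) [] [nat_lit 2, nat_lit 0, nat_lit 2, nat_lit 1, nat_lit 2, nat_lit 1, nat_lit 2, nat_lit 0, nat_lit 2, nat_lit 1, nat_lit 2, nat_lit 0, nat_lit 0, nat_lit 0, nat_lit 2, nat_lit 0, nat_lit 2])))) (cond (Nat.ble e (nat_lit 503)) (cond (Nat.ble e (nat_lit 499)) (cond (Nat.ble e (nat_lit 497)) (cond (Nat.ble e (nat_lit 496)) [] []) (cond (Nat.ble e (nat_lit 498)) [] [nat_lit 0, nat_lit 0, nat_lit 2, nat_lit 1, nat_lit 2, nat_lit 0, nat_lit 0, nat_lit 2, nat_lit 0, nat_lit 2])) (cond (Nat.ble e (nat_lit 501)) (cond (Nat.ble e (nat_lit 500)) [nat_lit 0, nat_lit 0, nat_lit 2, nat_lit 1, nat_lit 1, nat_lit 1, nat_lit 2, nat_lit 1, nat_lit 2, nat_lit 0, nat_lit 0, nat_lit 0, nat_lit 2, nat_lit 1, nat_lit 1, nat_lit 1] []) (cond (Nat.ble e (nat_lit 502)) [] []))) (cond (Nat.ble e (nat_lit 507)) (cond (Nat.ble e (nat_lit 505)) (cond (Nat.ble e (nat_lit 504))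 [] []) (cond (Nat.ble e (nat_lit 506)) [] [])) (cond (Nat.ble e (nat_lit 509)) (cond (Nat.ble e (nat_lit 508)) [nat_lit 2, nat_lit 1, nat_lit 2, nat_lit 1, nat_lit 1, nat_lit 2, nat_lit 0, nat_lit 0, nat_lit 2, nat_lit 1, nat_lit 2, nat_lit 0, nat_lit 0] [nat_lit 0, nat_lit 2, nat_lit 1, nat_lit 2, nat_lit 0, nat_lit 0, nat_lit 0, nat_lit 2, nat_lit 0, nat_lit 2, nat_lit 1, nat_lit 1]) (cond (Nat.ble e (nat_lit 510)) [] [])))))
/-- a chunk -/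
def Wv1_16 (e : ℕ) : List ℕ := (cond (Nat.ble e (nat_lit 527)) (cond (Nat.ble e (nat_lit 519)) (cond (Nat.ble e (nat_lit 515)) (cond (Nat.ble e (nat_lit 513)) (cond (Nat.ble e (nat_lit 512)) [] [nat_lit 0, nat_lit 0, nat_lit 2, nat_lit 1, nat_lit 1, nat_lit 1, nat_lit 2, nat_lit 1, nat_lit 2, nat_lit 0, nat_lit 0, nat_lit 0, nat_lit 2, nat_lit 1]) (cond (Nat.ble e (nat_lit 514)) [] [nat_lit 0, nat_lit 0, nat_lit 2, nat_lit 1, nat_lit 1, nat_lit 1, nat_lit 2, nat_lit 1, nat_lit 2, nat_lit 0, nat_lit 2, nat_lit 0, nat_lit 2, nat_lit 1, nat_lit 1])) (cond (Nat.ble e (nat_lit 517)) (cond (Nat.ble e (nat_lit 516)) [nat_lit 1, nat_lit 1, nat_lit 1] []) (cond (Nat.ble e (nat_lit 518)) [] [nat_lit 0, nat_lit 2, nat_lit 0, nat_lit 2, nat_lit 1, nat_lit 1, nat_lit 2, nat_lit 1, nat_lit 2, nat_lit 1, nat_lit 1, nat_lit 1, nat_lit 2, nat_lit 1]))) (cond (Nat.ble e (nat_lit 523))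 (cond (Nat.ble e (nat_lit 521)) (cond (Nat.ble e (nat_lit 520)) [] []) (cond (Nat.ble e (nat_lit 522)) [] [])) (cond (Nat.ble e (nat_lit 525)) (cond (Nat.ble e (nat_lit 524)) [nat_lit 0, nat_lit 2, nat_lit 0, nat_lit 0, nat_lit 0, nat_lit 2, nat_lit 0, nat_lit 2, nat_lit 0, nat_lit 0, nat_lit 2, nat_lit 0, nat_lit 2, nat_lit 0] []) (cond (Nat.ble e (nat_lit 526)) [] [nat_lit 1, nat_lit 2, nat_lit 0, nat_lit 0, nat_lit 0, nat_lit 2, nat_lit 1, nat_lit 2, nat_lit 1, nat_lit 1, nat_lit 2, nat_lit 1, nat_lit 1, nat_lit 2, nat_lit 1])))) (cond (Nat.ble e (nat_lit 535)) (cond (Nat.ble e (nat_lit 531)) (cond (Nat.ble e (nat_lit 529)) (cond (Nat.ble e (nat_lit 528)) [nat_lit 1, nat_lit 2, nat_lit 0, nat_lit 0, nat_lit 2, nat_lit 1, nat_lit 2, nat_lit 0, nat_lit 2, nat_lit 1, nat_lit 1, nat_lit 2, nat_lit 1, nat_lit 1, nat_lit 1, nat_lit 2] [nat_lit 2, nat_lit 0, nat_lit 2,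 nat_lit 1, nat_lit 1, nat_lit 2, nat_lit 0, nat_lit 0, nat_lit 2, nat_lit 0, nat_lit 2, nat_lit 0, nat_lit 0, nat_lit 0]) (cond (Nat.ble e (nat_lit 530)) [nat_lit 2, nat_lit 0, nat_lit 2, nat_lit 1, nat_lit 1, nat_lit 2, nat_lit 0, nat_lit 0, nat_lit 2, nat_lit 0, nat_lit 2, nat_lit 0, nat_lit 0] [])) (cond (Nat.ble e (nat_lit 533)) (cond (Nat.ble e (nat_lit 532)) [] [nat_lit 1, nat_lit 1, nat_lit 1, nat_lit 2, nat_lit 1, nat_lit 2, nat_lit 0, nat_lit 2, nat_lit 0, nat_lit 0, nat_lit 0, nat_lit 2, nat_lit 1, nat_lit 2, nat_lit 0, nat_lit 2, nat_lit 0]) (cond (Nat.ble e (nat_lit 534)) [] []))) (cond (Nat.ble e (nat_lit 539)) (cond (Nat.ble e (nat_lit 537)) (cond (Nat.ble e (nat_lit 536)) [] []) (cond (Nat.ble e (nat_lit 538)) [] [])) (cond (Nat.ble e (nat_lit 541)) (cond (Nat.ble e (nat_lit 540)) [] [nat_lit 2, nat_lit 0, nat_lit 0, nat_lit 2, nat_lit 0, nat_lit 0,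 nat_lit 0, nat_lit 2, nat_lit 1, nat_lit 1, nat_lit 1, nat_lit 2, nat_lit 1, nat_lit 1, nat_lit 2]) (cond (Nat.ble e (nat_lit 542)) [] [])))))
/-- a chunk -/
def Wv1_17 (e : ℕ) : List ℕ := (cond (Nat.ble e (nat_lit 559)) (cond (Nat.ble e (nat_lit 551)) (cond (Nat.ble e (nat_lit 547)) (cond (Nat.ble e (nat_lit 545)) (cond (Nat.ble e (nat_lit 544)) [nat_lit 0, nat_lit 2, nat_lit 0, nat_lit 2, nat_lit 1, nat_lit 1, nat_lit 2, nat_lit 1, nat_lit 2, nat_lit 0, nat_lit 0, nat_lit 0, nat_lit 2, nat_lit 0] []) (cond (Nat.ble e (nat_lit 546)) [] [nat_lit 0, nat_lit 2, nat_lit 0, nat_lit 2, nat_lit 1, nat_lit 1, nat_lit 1, nat_lit 2, nat_lit 0, nat_lit 2, nat_lit 1, nat_lit 1, nat_lit 2, nat_lit 0, nat_lit 2, nat_lit 1, nat_lit 2])) (cond (Nat.ble e (nat_lit 549)) (cond (Nat.ble e (nat_lit 548)) [] []) (cond (Nat.ble e (nat_lit 550)) [nat_lit 1, nat_lit 2, nat_lit 0, nat_lit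 2, nat_lit 0, nat_lit 0, nat_lit 0, nat_lit 2, nat_lit 1, nat_lit 2, nat_lit 0, nat_lit 2, nat_lit 0, nat_lit 0] []))) (cond (Nat.ble e (nat_lit 555)) (cond (Nat.ble e (nat_lit 553)) (cond (Nat.ble e (nat_lit 552)) [] [nat_lit 1, nat_lit 1, nat_lit 2, nat_lit 0, nat_lit 0, nat_lit 0, nat_lit 2, nat_lit 1, nat_lit 1, nat_lit 1, nat_lit 2, nat_lit 1, nat_lit 2]) (cond (Nat.ble e (nat_lit 554)) [] [])) (cond (Nat.ble e (nat_lit 557)) (cond (Nat.ble e (nat_lit 556)) [] [nat_lit 2, nat_lit 1, nat_lit 1, nat_lit 2, nat_lit 0, nat_lit 2, nat_lit 0, nat_lit 0, nat_lit 2, nat_lit 0, nat_lit 0, nat_lit 2, nat_lit 0, nat_lit 0]) (cond (Nat.ble e (nat_lit 558)) [] [])))) (cond (Nat.ble e (nat_lit 567)) (cond (Nat.ble e (nat_lit 563)) (cond (Nat.ble e (nat_lit 561)) (cond (Nat.ble e (nat_lit 560)) [] []) (cond (Nat.ble e (nat_lit 562)) [] [])) (cond (Nat.ble e (nat_lit 565)) (cond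 (Nat.ble e (nat_lit 564)) [] [nat_lit 0, nat_lit 0, nat_lit 2, nat_lit 1, nat_lit 2, nat_lit 0, nat_lit 0, nat_lit 2, nat_lit 1, nat_lit 2, nat_lit 0, nat_lit 2, nat_lit 0]) (cond (Nat.ble e (nat_lit 566)) [] [nat_lit 2, nat_lit 0, nat_lit 2, nat_lit 1, nat_lit 2, nat_lit 0, nat_lit 2, nat_lit 1, nat_lit 1, nat_lit 2, nat_lit 0, nat_lit 0, nat_lit 2, nat_lit 0, nat_lit 2]))) (cond (Nat.ble e (nat_lit 571)) (cond (Nat.ble e (nat_lit 569)) (cond (Nat.ble e (nat_lit 568)) [] []) (cond (Nat.ble e (nat_lit 570)) [nat_lit 1, nat_lit 1, nat_lit 2, nat_lit 1, nat_lit 2, nat_lit 0, nat_lit 0, nat_lit 2, nat_lit 1, nat_lit 2, nat_lit 0, nat_lit 0, nat_lit 2] [nat_lit 1, nat_lit 1, nat_lit 1, nat_lit 2, nat_lit 1, nat_lit 2, nat_lit 1, nat_lit 1, nat_lit 2, nat_lit 0, nat_lit 0, nat_lit 2, nat_lit 1, nat_lit 2])) (cond (Nat.ble e (nat_lit 573)) (cond (Nat.ble e (nat_lit 572))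 [nat_lit 2, nat_lit 0, nat_lit 2, nat_lit 0, nat_lit 0, nat_lit 0, nat_lit 2, nat_lit 1, nat_lit 1, nat_lit 1, nat_lit 2] []) (cond (Nat.ble e (nat_lit 574)) [] [])))))
/-- a chunk -/
def Wv1_18 (e : ℕ) : List ℕ := (cond (Nat.ble e (nat_lit 591)) (cond (Nat.ble e (nat_lit 583)) (cond (Nat.ble e (nat_lit 579)) (cond (Nat.ble e (nat_lit 577)) (cond (Nat.ble e (nat_lit 576)) [] []) (cond (Nat.ble e (nat_lit 578)) [nat_lit 2, nat_lit 0, nat_lit 0, nat_lit 2, nat_lit 0, nat_lit 0, nat_lit 0, nat_lit 2, nat_lit 1, nat_lit 1, nat_lit 1, nat_lit 2, nat_lit 1, nat_lit 1, nat_lit 2] [])) (cond (Nat.ble e (nat_lit 581)) (cond (Nat.ble e (nat_lit 580)) [] []) (cond (Nat.ble e (nat_lit 582)) [] []))) (cond (Nat.ble e (nat_lit 587)) (cond (Nat.ble e (nat_lit 585)) (cond (Nat.ble e (nat_lit 584)) [] [nat_lit 0, nat_lit 2, nat_lit 0, nat_lit 2, nat_lit 0, nat_lit 0, nat_lit 0, nat_lit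 2, nat_lit 1, nat_lit 1, nat_lit 1, nat_lit 2, nat_lit 1, nat_lit 2, nat_lit 1]) (cond (Nat.ble e (nat_lit 586)) [] [nat_lit 2, nat_lit 1, nat_lit 2, nat_lit 0, nat_lit 0, nat_lit 2, nat_lit 1, nat_lit 1, nat_lit 2, nat_lit 1, nat_lit 2, nat_lit 0, nat_lit 2, nat_lit 0])) (cond (Nat.ble e (nat_lit 589)) (cond (Nat.ble e (nat_lit 588)) [nat_lit 2, nat_lit 1, nat_lit 1, nat_lit 2, nat_lit 0, nat_lit 0, nat_lit 0, nat_lit 2, nat_lit 1, nat_lit 2, nat_lit 0, nat_lit 2, nat_lit 0, nat_lit 0] []) (cond (Nat.ble e (nat_lit 590)) [] [])))) (cond (Nat.ble e (nat_lit 599)) (cond (Nat.ble e (nat_lit 595)) (cond (Nat.ble e (nat_lit 593)) (cond (Nat.ble e (nat_lit 592)) [] []) (cond (Nat.ble e (nat_lit 594)) [nat_lit 0, nat_lit 2, nat_lit 1, nat_lit 2, nat_lit 1, nat_lit 1, nat_lit 2, nat_lit 1, nat_lit 1, nat_lit 1, nat_lit 2, nat_lit 0, nat_lit 2] [nat_lit 2, nat_lit 1, nat_lit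 1, nat_lit 2, nat_lit 1, nat_lit 1, nat_lit 1, nat_lit 2, nat_lit 0, nat_lit 2, nat_lit 0, nat_lit 0, nat_lit 0, nat_lit 2, nat_lit 0, nat_lit 0])) (cond (Nat.ble e (nat_lit 597)) (cond (Nat.ble e (nat_lit 596)) [] [nat_lit 1, nat_lit 1, nat_lit 2, nat_lit 1, nat_lit 1, nat_lit 2, nat_lit 0, nat_lit 0, nat_lit 0, nat_lit 2, nat_lit 0]) (cond (Nat.ble e (nat_lit 598)) [nat_lit 1, nat_lit 1, nat_lit 2, nat_lit 1, nat_lit 2, nat_lit 1, nat_lit 1, nat_lit 1, nat_lit 2, nat_lit 0, nat_lit 0, nat_lit 2, nat_lit 0] [nat_lit 0, nat_lit 2, nat_lit 0, nat_lit 0, nat_lit 0, nat_lit 2, nat_lit 0, nat_lit 2, nat_lit 0, nat_lit 0, nat_lit 2, nat_lit 1, nat_lit 2, nat_lit 1]))) (cond (Nat.ble e (nat_lit 603)) (cond (Nat.ble e (nat_lit 601)) (cond (Nat.ble e (nat_lit 600)) [nat_lit 2, nat_lit 1, nat_lit 1, nat_lit 2, nat_lit 1, nat_lit 1, nat_lit 1, nat_lit 2, nat_lit 0, nat_lit 2,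 nat_lit 0, nat_lit 0, nat_lit 0, nat_lit 2, nat_lit 0, nat_lit 0] []) (cond (Nat.ble e (nat_lit 602)) [] [])) (cond (Nat.ble e (nat_lit 605)) (cond (Nat.ble e (nat_lit 604)) [] [nat_lit 1, nat_lit 2, nat_lit 1, nat_lit 2, nat_lit 0, nat_lit 2, nat_lit 1, nat_lit 1, nat_lit 2, nat_lit 0, nat_lit 2, nat_lit 1, nat_lit 1]) (cond (Nat.ble e (nat_lit 606)) [] [nat_lit 2, nat_lit 1, nat_lit 1, nat_lit 2, nat_lit 1, nat_lit 1, nat_lit 1, nat_lit 2, nat_lit 0, nat_lit 0, nat_lit 0, nat_lit 2, nat_lit 0, nat_lit 0, nat_lit 2])))))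
/-- a chunk -/
def Wv1_19 (e : ℕ) : List ℕ := (cond (Nat.ble e (nat_lit 623)) (cond (Nat.ble e (nat_lit 615)) (cond (Nat.ble e (nat_lit 611)) (cond (Nat.ble e (nat_lit 609)) (cond (Nat.ble e (nat_lit 608)) [] []) (cond (Nat.ble e (nat_lit 610)) [] [nat_lit 2, nat_lit 0, nat_lit 0, nat_lit 2, nat_lit 1, nat_lit 2, nat_lit 0, nat_lit 0, nat_lit 0, nat_lit 2, nat_lit 1, nat_lit 2])) (cond (Nat.ble e (nat_lit 613)) (cond (Nat.ble e (nat_lit 612)) [] [nat_lit 1, nat_lit 2, nat_lit 0, nat_lit 2, nat_lit 1, nat_lit 2, nat_lit 0, nat_lit 2, nat_lit 1, nat_lit 2, nat_lit 0, nat_lit 2]) (cond (Nat.ble e (nat_lit 614)) [] []))) (cond (Nat.ble e (nat_lit 619)) (cond (Nat.ble e (nat_lit 617)) (cond (Nat.ble e (nat_lit 616)) [nat_lit 0, nat_lit 0, nat_lit 0] [nat_lit 0, nat_lit 0, nat_lit 2, nat_lit 0, nat_lit 0, nat_lit 0, nat_lit 2, nat_lit 1, nat_lit 2, nat_lit 1, nat_lit 2,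 nat_lit 0, nat_lit 2, nat_lit 0, nat_lit 0]) (cond (Nat.ble e (nat_lit 618)) [] [nat_lit 1])) (cond (Nat.ble e (nat_lit 621)) (cond (Nat.ble e (nat_lit 620)) [nat_lit 0, nat_lit 0, nat_lit 2, nat_lit 1, nat_lit 1, nat_lit 2, nat_lit 0, nat_lit 0, nat_lit 2, nat_lit 1, nat_lit 2] []) (cond (Nat.ble e (nat_lit 622)) [] [nat_lit 0, nat_lit 0])))) (cond (Nat.ble e (nat_lit 631)) (cond (Nat.ble e (nat_lit 627)) (cond (Nat.ble e (nat_lit 625)) (cond (Nat.ble e (nat_lit 624)) [nat_lit 2, nat_lit 1, nat_lit 1, nat_lit 2, nat_lit 0, nat_lit 0, nat_lit 0, nat_lit 2, nat_lit 0, nat_lit 0, nat_lit 0, nat_lit 2, nat_lit 1] []) (cond (Nat.ble e (nat_lit 626)) [] [])) (cond (Nat.ble e (nat_lit 629)) (cond (Nat.ble e (nat_lit 628)) [nat_lit 0, nat_lit 2, nat_lit 0, nat_lit 0, nat_lit 0, nat_lit 2, nat_lit 1, nat_lit 2, nat_lit 0, nat_lit 2, nat_lit 0, nat_lit 2, nat_lit 1, nat_lit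 2, nat_lit 1] []) (cond (Nat.ble e (nat_lit 630)) [] [nat_lit 1, nat_lit 2, nat_lit 1, nat_lit 2, nat_lit 0, nat_lit 0, nat_lit 2, nat_lit 1, nat_lit 2, nat_lit 0, nat_lit 2, nat_lit 1, nat_lit 1, nat_lit 2, nat_lit 0, nat_lit 2, nat_lit 0]))) (cond (Nat.ble e (nat_lit 635)) (cond (Nat.ble e (nat_lit 633)) (cond (Nat.ble e (nat_lit 632)) [] [nat_lit 0, nat_lit 2, nat_lit 1, nat_lit 1, nat_lit 1, nat_lit 2, nat_lit 1, nat_lit 1, nat_lit 2, nat_lit 1, nat_lit 2, nat_lit 0]) (cond (Nat.ble e (nat_lit 634)) [] [nat_lit 1, nat_lit 2, nat_lit 0, nat_lit 2, nat_lit 0, nat_lit 0, nat_lit 2, nat_lit 0, nat_lit 0, nat_lit 0, nat_lit 2, nat_lit 1, nat_lit 1])) (cond (Nat.ble e (nat_lit 637)) (cond (Nat.ble e (nat_lit 636)) [] []) (cond (Nat.ble e (nat_lit 638)) [nat_lit 2, nat_lit 0, nat_lit 0, nat_lit 2, nat_lit 0, nat_lit 2, nat_lit 1, nat_lit 1, nat_lit 2] [])))))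
/-- a chunk -/
def Wv1_20 (e : ℕ) : List ℕ := (cond (Nat.ble e (nat_lit 655)) (cond (Nat.ble e (nat_lit 647)) (cond (Nat.ble e (nat_lit 643)) (cond (Nat.ble e (nat_lit 641)) (cond (Nat.ble e (nat_lit 640)) [] [nat_lit 0, nat_lit 2, nat_lit 0, nat_lit 0, nat_lit 2, nat_lit 0, nat_lit 2, nat_lit 1, nat_lit 2, nat_lit 1, nat_lit 2, nat_lit 0, nat_lit 0, nat_lit 0, nat_lit 2, nat_lit 1]) (cond (Nat.ble e (nat_lit 642)) [nat_lit 2, nat_lit 1, nat_lit 1, nat_lit 1, nat_lit 2, nat_lit 0, nat_lit 2, nat_lit 1] [])) (cond (Nat.ble e (nat_lit 645)) (cond (Nat.ble e (nat_lit 644)) [] [nat_lit 1, nat_lit 2, nat_lit 0, nat_lit 2, nat_lit 0, nat_lit 0, nat_lit 2, nat_lit 0, nat_lit 0, nat_lit 0, nat_lit 2, nat_lit 1]) (cond (Nat.ble e (nat_lit 646)) [] []))) (cond (Nat.ble e (nat_lit 651)) (cond (Nat.ble e (nat_lit 649)) (cond (Nat.ble e (nat_lit 648)) [nat_lit 0, nat_lit 2, nat_lit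 1, nat_lit 1, nat_lit 2, nat_lit 0, nat_lit 2, nat_lit 0, nat_lit 0, nat_lit 0, nat_lit 2, nat_lit 1, nat_lit 2, nat_lit 0, nat_lit 2, nat_lit 0] [nat_lit 1, nat_lit 2, nat_lit 1, nat_lit 2, nat_lit 0, nat_lit 2, nat_lit 0, nat_lit 0, nat_lit 2, nat_lit 1, nat_lit 1, nat_lit 2, nat_lit 0, nat_lit 2]) (cond (Nat.ble e (nat_lit 650)) [] [])) (cond (Nat.ble e (nat_lit 653)) (cond (Nat.ble e (nat_lit 652)) [] []) (cond (Nat.ble e (nat_lit 654)) [] [nat_lit 0, nat_lit 0, nat_lit 2, nat_lit 1, nat_lit 1, nat_lit 2, nat_lit 0, nat_lit 0, nat_lit 2, nat_lit 0, nat_lit 2, nat_lit 1, nat_lit 1, nat_lit 2, nat_lit 0, nat_lit 2])))) (cond (Nat.ble e (nat_lit 663)) (cond (Nat.ble e (nat_lit 659)) (cond (Nat.ble e (nat_lit 657)) (cond (Nat.ble e (nat_lit 656)) [] []) (cond (Nat.ble e (nat_lit 658)) [nat_lit 2, nat_lit 1, nat_lit 2, nat_lit 0, nat_lit 2, nat_lit 1, nat_lit 2, nat_lit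 1, nat_lit 2, nat_lit 0, nat_lit 2, nat_lit 0, nat_lit 0] [])) (cond (Nat.ble e (nat_lit 661)) (cond (Nat.ble e (nat_lit 660)) [] [nat_lit 0, nat_lit 2, nat_lit 0, nat_lit 0, nat_lit 2, nat_lit 0, nat_lit 0, nat_lit 2, nat_lit 0, nat_lit 2, nat_lit 1, nat_lit 1, nat_lit 1, nat_lit 2, nat_lit 0]) (cond (Nat.ble e (nat_lit 662)) [nat_lit 1, nat_lit 2, nat_lit 1, nat_lit 1, nat_lit 2, nat_lit 1, nat_lit 2, nat_lit 0] []))) (cond (Nat.ble e (nat_lit 667)) (cond (Nat.ble e (nat_lit 665)) (cond (Nat.ble e (nat_lit 664)) [] [nat_lit 1, nat_lit 2, nat_lit 1, nat_lit 1, nat_lit 2, nat_lit 0, nat_lit 2, nat_lit 0, nat_lit 0, nat_lit 0, nat_lit 2, nat_lit 1, nat_lit 2, nat_lit 0, nat_lit 2, nat_lit 0, nat_lit 2]) (cond (Nat.ble e (nat_lit 666)) [] [])) (cond (Nat.ble e (nat_lit 669)) (cond (Nat.ble e (nat_lit 668)) [] [nat_lit 1, nat_lit 2, nat_lit 1, nat_lit 2, nat_lit 0, nat_lit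 2, nat_lit 0, nat_lit 2, nat_lit 1, nat_lit 2, nat_lit 0, nat_lit 0, nat_lit 0, nat_lit 2, nat_lit 0]) (cond (Nat.ble e (nat_lit 670)) [] [nat_lit 2, nat_lit 0, nat_lit 2, nat_lit 1, nat_lit 2, nat_lit 0, nat_lit 0, nat_lit 2, nat_lit 1, nat_lit 2, nat_lit 0, nat_lit 0, nat_lit 0, nat_lit 2, nat_lit 1, nat_lit 2, nat_lit 1])))))
/-- a chunk -/
def Wv1_21 (e : ℕ) : List ℕ := (cond (Nat.ble e (nat_lit 687)) (cond (Nat.ble e (nat_lit 679)) (cond (Nat.ble e (nat_lit 675)) (cond (Nat.ble e (nat_lit 673)) (cond (Nat.ble e (nat_lit 672)) [] [nat_lit 0, nat_lit 0, nat_lit 2, nat_lit 1, nat_lit 2, nat_lit 1, nat_lit 1, nat_lit 1, nat_lit 2, nat_lit 0, nat_lit 2, nat_lit 1]) (cond (Nat.ble e (nat_lit 674)) [] [nat_lit 0, nat_lit 2, nat_lit 1, nat_lit 1, nat_lit 1, nat_lit 2, nat_lit 1, nat_lit 2, nat_lit 1, nat_lit 1, nat_lit 2, nat_lit 1, nat_lit 2, nat_lit 0, nat_lit 2]))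 (cond (Nat.ble e (nat_lit 677)) (cond (Nat.ble e (nat_lit 676)) [nat_lit 0, nat_lit 0, nat_lit 2, nat_lit 1, nat_lit 2, nat_lit 1, nat_lit 1, nat_lit 1, nat_lit 2, nat_lit 0, nat_lit 2, nat_lit 1] [nat_lit 1, nat_lit 1, nat_lit 2, nat_lit 0, nat_lit 0]) (cond (Nat.ble e (nat_lit 678)) [] []))) (cond (Nat.ble e (nat_lit 683)) (cond (Nat.ble e (nat_lit 681)) (cond (Nat.ble e (nat_lit 680)) [] [nat_lit 1, nat_lit 1, nat_lit 1, nat_lit 2, nat_lit 1, nat_lit 2, nat_lit 1, nat_lit 1, nat_lit 2, nat_lit 1, nat_lit 2, nat_lit 0, nat_lit 2, nat_lit 1]) (cond (Nat.ble e (nat_lit 682)) [nat_lit 1, nat_lit 1, nat_lit 1, nat_lit 2, nat_lit 0, nat_lit 0, nat_lit 0, nat_lit 2, nat_lit 1, nat_lit 1, nat_lit 2] [])) (cond (Nat.ble e (nat_lit 685)) (cond (Nat.ble e (nat_lit 684)) [] [nat_lit 0, nat_lit 2, nat_lit 0, nat_lit 2, nat_lit 0, nat_lit 0, nat_lit 2, nat_lit 0, nat_lit 2, nat_lit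 0, nat_lit 2]) (cond (Nat.ble e (nat_lit 686)) [] [])))) (cond (Nat.ble e (nat_lit 695)) (cond (Nat.ble e (nat_lit 691)) (cond (Nat.ble e (nat_lit 689)) (cond (Nat.ble e (nat_lit 688)) [] [nat_lit 0, nat_lit 0, nat_lit 2, nat_lit 1, nat_lit 1, nat_lit 1, nat_lit 2, nat_lit 1, nat_lit 1, nat_lit 2, nat_lit 1, nat_lit 2, nat_lit 0]) (cond (Nat.ble e (nat_lit 690)) [] [nat_lit 2, nat_lit 1, nat_lit 2, nat_lit 0, nat_lit 2, nat_lit 0, nat_lit 0, nat_lit 2, nat_lit 0, nat_lit 2, nat_lit 0, nat_lit 0, nat_lit 0, nat_lit 2, nat_lit 1])) (cond (Nat.ble e (nat_lit 693)) (cond (Nat.ble e (nat_lit 692)) [nat_lit 0, nat_lit 2, nat_lit 1, nat_lit 2, nat_lit 0, nat_lit 0, nat_lit 0, nat_lit 2, nat_lit 0, nat_lit 2, nat_lit 1, nat_lit 1] []) (cond (Nat.ble e (nat_lit 694)) [] [nat_lit 1, nat_lit 2, nat_lit 1, nat_lit 1, nat_lit 2, nat_lit 1, nat_lit 2, nat_lit 0, nat_lit 2, nat_lit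 0, nat_lit 2, nat_lit 1, nat_lit 2, nat_lit 0, nat_lit 0]))) (cond (Nat.ble e (nat_lit 699)) (cond (Nat.ble e (nat_lit 697)) (cond (Nat.ble e (nat_lit 696)) [] []) (cond (Nat.ble e (nat_lit 698)) [] [nat_lit 2, nat_lit 0, nat_lit 0, nat_lit 0, nat_lit 2, nat_lit 1, nat_lit 2, nat_lit 1, nat_lit 2, nat_lit 0, nat_lit 2, nat_lit 1, nat_lit 1])) (cond (Nat.ble e (nat_lit 701)) (cond (Nat.ble e (nat_lit 700)) [nat_lit 0, nat_lit 0, nat_lit 0, nat_lit 2, nat_lit 1, nat_lit 1, nat_lit 2, nat_lit 1, nat_lit 2, nat_lit 1, nat_lit 1, nat_lit 1, nat_lit 2, nat_lit 1] []) (cond (Nat.ble e (nat_lit 702)) [] [nat_lit 2, nat_lit 1, nat_lit 1, nat_lit 2, nat_lit 0, nat_lit 0, nat_lit 0, nat_lit 2, nat_lit 1, nat_lit 2, nat_lit 1, nat_lit 1, nat_lit 2, nat_lit 1, nat_lit 1, nat_lit 1])))))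
/-- a chunk -/
def Wv1_22 (e : ℕ) : List ℕ := (cond (Nat.ble e (nat_lit 719)) (cond (Nat.ble e (nat_lit 711)) (cond (Nat.ble e (nat_lit 707)) (cond (Nat.ble e (nat_lit 705)) (cond (Nat.ble e (nat_lit 704)) [] [nat_lit 0, nat_lit 2, nat_lit 1, nat_lit 2, nat_lit 1, nat_lit 1, nat_lit 2, nat_lit 1, nat_lit 1, nat_lit 1, nat_lit 2, nat_lit 0, nat_lit 2, nat_lit 1, nat_lit 2]) (cond (Nat.ble e (nat_lit 706)) [nat_lit 1, nat_lit 1, nat_lit 2, nat_lit 0, nat_lit 0, nat_lit 2, nat_lit 1, nat_lit 2, nat_lit 0, nat_lit 0, nat_lit 2, nat_lit 1, nat_lit 2, nat_lit 0, nat_lit 2, nat_lit 0] [])) (cond (Nat.ble e (nat_lit 709)) (cond (Nat.ble e (nat_lit 708)) [] []) (cond (Nat.ble e (nat_lit 710)) [] []))) (cond (Nat.ble e (nat_lit 715)) (cond (Nat.ble e (nat_lit 713)) (cond (Nat.ble e (nat_lit 712)) [] [nat_lit 1, nat_lit 1, nat_lit 2, nat_lit 1, nat_lit 1, nat_lit 1, nat_lit 2,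 nat_lit 1, nat_lit 2, nat_lit 0, nat_lit 0, nat_lit 0, nat_lit 2, nat_lit 0, nat_lit 0, nat_lit 2]) (cond (Nat.ble e (nat_lit 714)) [nat_lit 0, nat_lit 2, nat_lit 1, nat_lit 1, nat_lit 1, nat_lit 2, nat_lit 0, nat_lit 2, nat_lit 1, nat_lit 1, nat_lit 2, nat_lit 1, nat_lit 2, nat_lit 0, nat_lit 0] [nat_lit 0, nat_lit 0, nat_lit 2, nat_lit 1, nat_lit 1, nat_lit 2, nat_lit 0, nat_lit 0, nat_lit 0, nat_lit 2, nat_lit 1, nat_lit 2, nat_lit 0, nat_lit 0, nat_lit 2])) (cond (Nat.ble e (nat_lit 717)) (cond (Nat.ble e (nat_lit 716)) [] []) (cond (Nat.ble e (nat_lit 718)) [] [])))) (cond (Nat.ble e (nat_lit 727)) (cond (Nat.ble e (nat_lit 723)) (cond (Nat.ble e (nat_lit 721)) (cond (Nat.ble e (nat_lit 720)) [] [nat_lit 2, nat_lit 1, nat_lit 2, nat_lit 0, nat_lit 0, nat_lit 2, nat_lit 1, nat_lit 2, nat_lit 1, nat_lit 1, nat_lit 2, nat_lit 0, nat_lit 0, nat_lit 2, nat_lit 1, nat_lit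 1]) (cond (Nat.ble e (nat_lit 722)) [nat_lit 2, nat_lit 0, nat_lit 2, nat_lit 0, nat_lit 2, nat_lit 1, nat_lit 1, nat_lit 1, nat_lit 2, nat_lit 1, nat_lit 2, nat_lit 0, nat_lit 2, nat_lit 1] [])) (cond (Nat.ble e (nat_lit 725)) (cond (Nat.ble e (nat_lit 724)) [nat_lit 0, nat_lit 2, nat_lit 0, nat_lit 0, nat_lit 0, nat_lit 2, nat_lit 1, nat_lit 2, nat_lit 0, nat_lit 2, nat_lit 0, nat_lit 2, nat_lit 1, nat_lit 2, nat_lit 1] [nat_lit 2, nat_lit 0, nat_lit 0, nat_lit 2, nat_lit 0, nat_lit 2, nat_lit 1, nat_lit 1, nat_lit 2, nat_lit 0, nat_lit 0, nat_lit 0, nat_lit 2, nat_lit 1, nat_lit 2]) (cond (Nat.ble e (nat_lit 726)) [] [nat_lit 2, nat_lit 0, nat_lit 2, nat_lit 0, nat_lit 0, nat_lit 0, nat_lit 2, nat_lit 1, nat_lit 1, nat_lit 1, nat_lit 2, nat_lit 0, nat_lit 0]))) (cond (Nat.ble e (nat_lit 731)) (cond (Nat.ble e (nat_lit 729)) (cond (Nat.ble e (nat_lit 728)) [] [])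 (cond (Nat.ble e (nat_lit 730)) [nat_lit 2, nat_lit 0, nat_lit 2, nat_lit 1, nat_lit 1, nat_lit 2, nat_lit 0, nat_lit 0, nat_lit 2] [])) (cond (Nat.ble e (nat_lit 733)) (cond (Nat.ble e (nat_lit 732)) [nat_lit 2, nat_lit 1, nat_lit 2, nat_lit 1, nat_lit 1, nat_lit 2, nat_lit 1, nat_lit 1, nat_lit 1, nat_lit 2, nat_lit 0, nat_lit 2, nat_lit 1, nat_lit 2, nat_lit 1] []) (cond (Nat.ble e (nat_lit 734)) [] [])))))
/-- a chunk -/
def Wv1_23 (e : ℕ) : List ℕ := (cond (Nat.ble e (nat_lit 751)) (cond (Nat.ble e (nat_lit 743)) (cond (Nat.ble e (nat_lit 739)) (cond (Nat.ble e (nat_lit 737)) (cond (Nat.ble e (nat_lit 736)) [] [nat_lit 1, nat_lit 1, nat_lit 1, nat_lit 2, nat_lit 1, nat_lit 1, nat_lit 2, nat_lit 1, nat_lit 2, nat_lit 1, nat_lit 2, nat_lit 0, nat_lit 2, nat_lit 1, nat_lit 1]) (cond (Nat.ble e (nat_lit 738)) [] [nat_lit 0, nat_lit 2, nat_lit 0, nat_lit 2, nat_lit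 0, nat_lit 0, nat_lit 0, nat_lit 2, nat_lit 1, nat_lit 2, nat_lit 0, nat_lit 2, nat_lit 1, nat_lit 1, nat_lit 2])) (cond (Nat.ble e (nat_lit 741)) (cond (Nat.ble e (nat_lit 740)) [] [nat_lit 0, nat_lit 0, nat_lit 2, nat_lit 1, nat_lit 1, nat_lit 1, nat_lit 2, nat_lit 1, nat_lit 1, nat_lit 2, nat_lit 1, nat_lit 2, nat_lit 0]) (cond (Nat.ble e (nat_lit 742)) [] [nat_lit 2, nat_lit 0, nat_lit 0, nat_lit 2, nat_lit 0, nat_lit 2, nat_lit 0, nat_lit 2, nat_lit 1, nat_lit 2]))) (cond (Nat.ble e (nat_lit 747)) (cond (Nat.ble e (nat_lit 745)) (cond (Nat.ble e (nat_lit 744)) [] []) (cond (Nat.ble e (nat_lit 746)) [] [])) (cond (Nat.ble e (nat_lit 749)) (cond (Nat.ble e (nat_lit 748)) [nat_lit 2, nat_lit 0, nat_lit 0, nat_lit 2, nat_lit 1, nat_lit 2, nat_lit 0, nat_lit 2, nat_lit 0, nat_lit 2, nat_lit 1] []) (cond (Nat.ble e (nat_lit 750)) [nat_lit 0, nat_lit 2, nat_lit 1, nat_lit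 2, nat_lit 0, nat_lit 0, nat_lit 0, nat_lit 2] [nat_lit 0, nat_lit 0, nat_lit 2, nat_lit 1, nat_lit 1, nat_lit 2, nat_lit 0, nat_lit 0, nat_lit 2, nat_lit 1, nat_lit 1])))) (cond (Nat.ble e (nat_lit 759)) (cond (Nat.ble e (nat_lit 755)) (cond (Nat.ble e (nat_lit 753)) (cond (Nat.ble e (nat_lit 752)) [] []) (cond (Nat.ble e (nat_lit 754)) [] [])) (cond (Nat.ble e (nat_lit 757)) (cond (Nat.ble e (nat_lit 756)) [] [nat_lit 1, nat_lit 2, nat_lit 1, nat_lit 1, nat_lit 1, nat_lit 2, nat_lit 0, nat_lit 2, nat_lit 1, nat_lit 2, nat_lit 1, nat_lit 2, nat_lit 0, nat_lit 2, nat_lit 0]) (cond (Nat.ble e (nat_lit 758)) [nat_lit 0, nat_lit 0, nat_lit 2, nat_lit 1, nat_lit 2, nat_lit 0, nat_lit 2, nat_lit 0, nat_lit 0, nat_lit 2, nat_lit 0, nat_lit 0, nat_lit 2, nat_lit 0, nat_lit 2, nat_lit 1, nat_lit 1] [nat_lit 1, nat_lit 1, nat_lit 2, nat_lit 1, nat_lit 1, nat_lit 2, nat_lit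 1, nat_lit 1, nat_lit 2, nat_lit 1, nat_lit 2, nat_lit 0, nat_lit 0, nat_lit 2]))) (cond (Nat.ble e (nat_lit 763)) (cond (Nat.ble e (nat_lit 761)) (cond (Nat.ble e (nat_lit 760)) [] [nat_lit 0, nat_lit 2, nat_lit 1, nat_lit 2, nat_lit 0, nat_lit 2, nat_lit 1, nat_lit 1, nat_lit 1, nat_lit 2, nat_lit 1, nat_lit 1, nat_lit 1, nat_lit 2, nat_lit 1, nat_lit 1]) (cond (Nat.ble e (nat_lit 762)) [] [nat_lit 1, nat_lit 2, nat_lit 1, nat_lit 1, nat_lit 1, nat_lit 2, nat_lit 0, nat_lit 0, nat_lit 2, nat_lit 0, nat_lit 0])) (cond (Nat.ble e (nat_lit 765)) (cond (Nat.ble e (nat_lit 764)) [nat_lit 2, nat_lit 0, nat_lit 0, nat_lit 2, nat_lit 0, nat_lit 0, nat_lit 0, nat_lit 2, nat_lit 1, nat_lit 1, nat_lit 2, nat_lit 1, nat_lit 2, nat_lit 1] []) (cond (Nat.ble e (nat_lit 766)) [nat_lit 1, nat_lit 2, nat_lit 0, nat_lit 2, nat_lit 1, nat_lit 1, nat_lit 2, nat_lit 1, nat_lit 2, nat_lit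 0, nat_lit 0, nat_lit 0, nat_lit 2, nat_lit 0, nat_lit 2, nat_lit 1] [nat_lit 1, nat_lit 2, nat_lit 1, nat_lit 2, nat_lit 0, nat_lit 2, nat_lit 1, nat_lit 1, nat_lit 2, nat_lit 0, nat_lit 0, nat_lit 2, nat_lit 0, nat_lit 0, nat_lit 2])))))
/-- a chunk -/
def Wv1_24 (e : ℕ) : List ℕ := (cond (Nat.ble e (nat_lit 783)) (cond (Nat.ble e (nat_lit 775)) (cond (Nat.ble e (nat_lit 771)) (cond (Nat.ble e (nat_lit 769)) (cond (Nat.ble e (nat_lit 768)) [] [nat_lit 0]) (cond (Nat.ble e (nat_lit 770)) [nat_lit 2, nat_lit 1, nat_lit 2, nat_lit 0, nat_lit 2, nat_lit 0, nat_lit 0, nat_lit 0, nat_lit 2, nat_lit 1, nat_lit 2, nat_lit 0, nat_lit 2, nat_lit 0, nat_lit 0, nat_lit 0] [nat_lit 0, nat_lit 2, nat_lit 0, nat_lit 2, nat_lit 1, nat_lit 1, nat_lit 2, nat_lit 1, nat_lit 2, nat_lit 0, nat_lit 0, nat_lit 0, nat_lit 2, nat_lit 0])) (cond (Nat.ble e (nat_lit 773)) (cond (Nat.ble e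 (nat_lit 772)) [] [nat_lit 0, nat_lit 0, nat_lit 2, nat_lit 0, nat_lit 2, nat_lit 0, nat_lit 0, nat_lit 2, nat_lit 0, nat_lit 0, nat_lit 2, nat_lit 0, nat_lit 2, nat_lit 1]) (cond (Nat.ble e (nat_lit 774)) [nat_lit 0, nat_lit 2, nat_lit 0, nat_lit 0, nat_lit 0, nat_lit 2, nat_lit 0, nat_lit 0, nat_lit 0, nat_lit 2, nat_lit 1, nat_lit 2, nat_lit 0, nat_lit 0, nat_lit 2, nat_lit 1] []))) (cond (Nat.ble e (nat_lit 779)) (cond (Nat.ble e (nat_lit 777)) (cond (Nat.ble e (nat_lit 776)) [nat_lit 1, nat_lit 1, nat_lit 2, nat_lit 1, nat_lit 1, nat_lit 1, nat_lit 2, nat_lit 0, nat_lit 2, nat_lit 0, nat_lit 0, nat_lit 2, nat_lit 0, nat_lit 2, nat_lit 0, nat_lit 0, nat_lit 0] [nat_lit 0, nat_lit 2, nat_lit 0, nat_lit 2, nat_lit 0, nat_lit 2, nat_lit 1, nat_lit 2, nat_lit 0, nat_lit 0, nat_lit 0, nat_lit 2, nat_lit 1, nat_lit 2, nat_lit 1]) (cond (Nat.ble e (nat_lit 778)) [] []))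 (cond (Nat.ble e (nat_lit 781)) (cond (Nat.ble e (nat_lit 780)) [nat_lit 0, nat_lit 2, nat_lit 0, nat_lit 0, nat_lit 2, nat_lit 0, nat_lit 2, nat_lit 1, nat_lit 1, nat_lit 2, nat_lit 0, nat_lit 2, nat_lit 1, nat_lit 1] []) (cond (Nat.ble e (nat_lit 782)) [] [nat_lit 1, nat_lit 1, nat_lit 2, nat_lit 1, nat_lit 2, nat_lit 0, nat_lit 2, nat_lit 0, nat_lit 0, nat_lit 0, nat_lit 2, nat_lit 1, nat_lit 2, nat_lit 0, nat_lit 2])))) (cond (Nat.ble e (nat_lit 791)) (cond (Nat.ble e (nat_lit 787)) (cond (Nat.ble e (nat_lit 785)) (cond (Nat.ble e (nat_lit 784)) [] [nat_lit 2, nat_lit 0, nat_lit 0, nat_lit 2, nat_lit 0, nat_lit 0, nat_lit 2, nat_lit 0, nat_lit 0]) (cond (Nat.ble e (nat_lit 786)) [] [])) (cond (Nat.ble e (nat_lit 789)) (cond (Nat.ble e (nat_lit 788)) [] [nat_lit 1, nat_lit 2, nat_lit 0, nat_lit 0, nat_lit 0, nat_lit 2, nat_lit 1, nat_lit 1, nat_lit 2, nat_lit 1,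 nat_lit 2, nat_lit 1, nat_lit 2, nat_lit 0, nat_lit 2, nat_lit 1, nat_lit 2]) (cond (Nat.ble e (nat_lit 790)) [nat_lit 2, nat_lit 1, nat_lit 1, nat_lit 2, nat_lit 1, nat_lit 2, nat_lit 1, nat_lit 2, nat_lit 0, nat_lit 2, nat_lit 1, nat_lit 1] []))) (cond (Nat.ble e (nat_lit 795)) (cond (Nat.ble e (nat_lit 793)) (cond (Nat.ble e (nat_lit 792)) [nat_lit 0, nat_lit 2, nat_lit 1, nat_lit 1, nat_lit 2, nat_lit 0, nat_lit 0, nat_lit 2, nat_lit 0, nat_lit 2, nat_lit 0, nat_lit 0, nat_lit 2, nat_lit 0, nat_lit 2] [nat_lit 0, nat_lit 2, nat_lit 0, nat_lit 2, nat_lit 1, nat_lit 1, nat_lit 1, nat_lit 2, nat_lit 0, nat_lit 0, nat_lit 2, nat_lit 1]) (cond (Nat.ble e (nat_lit 794)) [nat_lit 2, nat_lit 0, nat_lit 2, nat_lit 1, nat_lit 2, nat_lit 0, nat_lit 0, nat_lit 0, nat_lit 2, nat_lit 0, nat_lit 0, nat_lit 2, nat_lit 0, nat_lit 2, nat_lit 1] [])) (cond (Nat.ble e (nat_lit 797))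 (cond (Nat.ble e (nat_lit 796)) [nat_lit 0, nat_lit 0, nat_lit 2, nat_lit 0, nat_lit 0, nat_lit 0, nat_lit 2, nat_lit 0, nat_lit 0, nat_lit 0, nat_lit 2, nat_lit 1, nat_lit 2, nat_lit 0, nat_lit 2, nat_lit 1] [nat_lit 0, nat_lit 0, nat_lit 2, nat_lit 0, nat_lit 0, nat_lit 0, nat_lit 2, nat_lit 0, nat_lit 0, nat_lit 0, nat_lit 2, nat_lit 1, nat_lit 2, nat_lit 0, nat_lit 2, nat_lit 1]) (cond (Nat.ble e (nat_lit 798)) [] [])))))
/-- a chunk -/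
def Wv1_25 (e : ℕ) : List ℕ := (cond (Nat.ble e (nat_lit 815)) (cond (Nat.ble e (nat_lit 807)) (cond (Nat.ble e (nat_lit 803)) (cond (Nat.ble e (nat_lit 801)) (cond (Nat.ble e (nat_lit 800)) [nat_lit 0, nat_lit 2, nat_lit 1, nat_lit 1, nat_lit 1, nat_lit 2, nat_lit 1, nat_lit 2, nat_lit 1, nat_lit 1, nat_lit 1, nat_lit 2] []) (cond (Nat.ble e (nat_lit 802)) [] [])) (cond (Nat.ble e (nat_lit 805)) (cond (Nat.ble e (nat_lit 804)) [] [nat_lit 1, nat_lit 2, nat_lit 1, nat_lit 1, nat_lit 1, nat_lit 2, nat_lit 0, nat_lit 2, nat_lit 0, nat_lit 0, nat_lit 2, nat_lit 1, nat_lit 2, nat_lit 1]) (cond (Nat.ble e (nat_lit 806)) [nat_lit 1, nat_lit 2, nat_lit 0, nat_lit 0, nat_lit 0, nat_lit 2, nat_lit 1, nat_lit 2, nat_lit 1, nat_lit 1, nat_lit 2, nat_lit 1, nat_lit 2, nat_lit 0] [nat_lit 1, nat_lit 1, nat_lit 2, nat_lit 1, nat_lit 1, nat_lit 2, nat_lit 1, nat_lit 1, nat_lit 2])))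 (cond (Nat.ble e (nat_lit 811)) (cond (Nat.ble e (nat_lit 809)) (cond (Nat.ble e (nat_lit 808)) [] []) (cond (Nat.ble e (nat_lit 810)) [] [])) (cond (Nat.ble e (nat_lit 813)) (cond (Nat.ble e (nat_lit 812)) [] []) (cond (Nat.ble e (nat_lit 814)) [nat_lit 0, nat_lit 2, nat_lit 1, nat_lit 1, nat_lit 2, nat_lit 1, nat_lit 2, nat_lit 0, nat_lit 0, nat_lit 2, nat_lit 1, nat_lit 1, nat_lit 2] [nat_lit 1, nat_lit 1, nat_lit 2, nat_lit 0, nat_lit 2, nat_lit 1, nat_lit 2, nat_lit 1, nat_lit 2, nat_lit 0, nat_lit 2, nat_lit 0, nat_lit 0, nat_lit 2, nat_lit 0])))) (cond (Nat.ble e (nat_lit 823)) (cond (Nat.ble e (nat_lit 819)) (cond (Nat.ble e (nat_lit 817)) (cond (Nat.ble e (nat_lit 816)) [] [nat_lit 2, nat_lit 0, nat_lit 2, nat_lit 1, nat_lit 2, nat_lit 0, nat_lit 0, nat_lit 0, nat_lit 2, nat_lit 0, nat_lit 0, nat_lit 2, nat_lit 0, nat_lit 2, nat_lit 1]) (cond (Nat.ble e (nat_lit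 818)) [] [])) (cond (Nat.ble e (nat_lit 821)) (cond (Nat.ble e (nat_lit 820)) [] [nat_lit 0, nat_lit 2, nat_lit 0, nat_lit 2, nat_lit 1, nat_lit 1, nat_lit 1, nat_lit 2, nat_lit 0, nat_lit 0, nat_lit 2, nat_lit 0, nat_lit 2, nat_lit 0, nat_lit 2]) (cond (Nat.ble e (nat_lit 822)) [] []))) (cond (Nat.ble e (nat_lit 827)) (cond (Nat.ble e (nat_lit 825)) (cond (Nat.ble e (nat_lit 824)) [] []) (cond (Nat.ble e (nat_lit 826)) [] [])) (cond (Nat.ble e (nat_lit 829)) (cond (Nat.ble e (nat_lit 828)) [] []) (cond (Nat.ble e (nat_lit 830)) [] [nat_lit 2, nat_lit 0, nat_lit 0, nat_lit 2, nat_lit 1, nat_lit 2, nat_lit 0, nat_lit 2, nat_lit 1, nat_lit 2, nat_lit 0, nat_lit 2, nat_lit 1, nat_lit 2, nat_lit 1, nat_lit 2])))))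
/-- a chunk -/
def Wv1_26 (e : ℕ) : List ℕ := (cond (Nat.ble e (nat_lit 847)) (cond (Nat.ble e (nat_lit 839)) (cond (Nat.ble e (nat_lit 835)) (cond (Nat.ble e (nat_lit 833)) (cond (Nat.ble e (nat_lit 832)) [nat_lit 1, nat_lit 1, nat_lit 1, nat_lit 2, nat_lit 0, nat_lit 2, nat_lit 1, nat_lit 1, nat_lit 1, nat_lit 2, nat_lit 0, nat_lit 0, nat_lit 2, nat_lit 1, nat_lit 2, nat_lit 0] [nat_lit 1, nat_lit 1, nat_lit 1, nat_lit 2, nat_lit 1, nat_lit 2, nat_lit 0, nat_lit 2, nat_lit 0, nat_lit 0, nat_lit 0, nat_lit 2, nat_lit 1, nat_lit 2, nat_lit 0, nat_lit 2, nat_lit 0]) (cond (Nat.ble e (nat_lit 834)) [] [])) (cond (Nat.ble e (nat_lit 837)) (cond (Nat.ble e (nat_lit 836)) [nat_lit 1, nat_lit 2, nat_lit 1, nat_lit 2, nat_lit 0, nat_lit 2, nat_lit 0, nat_lit 2, nat_lit 1, nat_lit 1, nat_lit 1, nat_lit 2, nat_lit 0, nat_lit 0, nat_lit 0, nat_lit 2] [nat_lit 0, nat_lit 0, nat_lit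 2, nat_lit 1, nat_lit 1, nat_lit 2, nat_lit 1, nat_lit 2, nat_lit 1, nat_lit 2, nat_lit 0, nat_lit 2, nat_lit 0, nat_lit 0, nat_lit 0]) (cond (Nat.ble e (nat_lit 838)) [] [nat_lit 2, nat_lit 0, nat_lit 2, nat_lit 0, nat_lit 0, nat_lit 2, nat_lit 0, nat_lit 0, nat_lit 0, nat_lit 2, nat_lit 0]))) (cond (Nat.ble e (nat_lit 843)) (cond (Nat.ble e (nat_lit 841)) (cond (Nat.ble e (nat_lit 840)) [] [nat_lit 0, nat_lit 0, nat_lit 2, nat_lit 1, nat_lit 2, nat_lit 0, nat_lit 2, nat_lit 0, nat_lit 2, nat_lit 1, nat_lit 1, nat_lit 1, nat_lit 2]) (cond (Nat.ble e (nat_lit 842)) [] [nat_lit 0, nat_lit 0, nat_lit 0, nat_lit 2, nat_lit 0, nat_lit 0, nat_lit 2, nat_lit 0, nat_lit 2, nat_lit 1, nat_lit 1, nat_lit 1, nat_lit 2, nat_lit 0, nat_lit 0, nat_lit 2])) (cond (Nat.ble e (nat_lit 845)) (cond (Nat.ble e (nat_lit 844)) [] []) (cond (Nat.ble e (nat_lit 846)) [] [nat_lit 1, nat_lit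 2, nat_lit 0, nat_lit 2, nat_lit 1, nat_lit 1, nat_lit 2, nat_lit 1, nat_lit 2, nat_lit 1])))) (cond (Nat.ble e (nat_lit 855)) (cond (Nat.ble e (nat_lit 851)) (cond (Nat.ble e (nat_lit 849)) (cond (Nat.ble e (nat_lit 848)) [nat_lit 0, nat_lit 0, nat_lit 0, nat_lit 2, nat_lit 0, nat_lit 0, nat_lit 2, nat_lit 0, nat_lit 2, nat_lit 0, nat_lit 0, nat_lit 2, nat_lit 0, nat_lit 2, nat_lit 1, nat_lit 1, nat_lit 1] [nat_lit 0, nat_lit 0, nat_lit 2, nat_lit 1, nat_lit 2, nat_lit 1, nat_lit 1, nat_lit 1, nat_lit 2, nat_lit 0, nat_lit 0, nat_lit 2, nat_lit 0, nat_lit 0, nat_lit 2]) (cond (Nat.ble e (nat_lit 850)) [] [nat_lit 0, nat_lit 2, nat_lit 0, nat_lit 2, nat_lit 0, nat_lit 0, nat_lit 2, nat_lit 1, nat_lit 2, nat_lit 0])) (cond (Nat.ble e (nat_lit 853)) (cond (Nat.ble e (nat_lit 852)) [nat_lit 2, nat_lit 0, nat_lit 0, nat_lit 0, nat_lit 2, nat_lit 1, nat_lit 2, nat_lit 0,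 nat_lit 2, nat_lit 0, nat_lit 0, nat_lit 2] []) (cond (Nat.ble e (nat_lit 854)) [nat_lit 0, nat_lit 0, nat_lit 0, nat_lit 2, nat_lit 1, nat_lit 2, nat_lit 1, nat_lit 1, nat_lit 2, nat_lit 1, nat_lit 2, nat_lit 1, nat_lit 1, nat_lit 2, nat_lit 1, nat_lit 1, nat_lit 1] []))) (cond (Nat.ble e (nat_lit 859)) (cond (Nat.ble e (nat_lit 857)) (cond (Nat.ble e (nat_lit 856)) [] [nat_lit 0, nat_lit 2, nat_lit 0, nat_lit 0, nat_lit 2, nat_lit 0, nat_lit 2, nat_lit 0, nat_lit 0, nat_lit 2, nat_lit 1, nat_lit 2, nat_lit 0]) (cond (Nat.ble e (nat_lit 858)) [nat_lit 2, nat_lit 1, nat_lit 1, nat_lit 1, nat_lit 2, nat_lit 0, nat_lit 0, nat_lit 0, nat_lit 2, nat_lit 1, nat_lit 1, nat_lit 1] [])) (cond (Nat.ble e (nat_lit 861)) (cond (Nat.ble e (nat_lit 860)) [] [nat_lit 0, nat_lit 2, nat_lit 1, nat_lit 1, nat_lit 2, nat_lit 0, nat_lit 0, nat_lit 0, nat_lit 2, nat_lit 1, nat_lit 2,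 nat_lit 1]) (cond (Nat.ble e (nat_lit 862)) [nat_lit 2, nat_lit 1, nat_lit 1, nat_lit 1, nat_lit 2, nat_lit 0, nat_lit 0, nat_lit 2, nat_lit 1, nat_lit 1, nat_lit 2, nat_lit 0, nat_lit 0] [])))))
/-- a chunk -/
def Wv1_27 (e : ℕ) : List ℕ := (cond (Nat.ble e (nat_lit 879)) (cond (Nat.ble e (nat_lit 871)) (cond (Nat.ble e (nat_lit 867)) (cond (Nat.ble e (nat_lit 865)) (cond (Nat.ble e (nat_lit 864)) [] [nat_lit 0, nat_lit 2, nat_lit 1, nat_lit 2, nat_lit 0, nat_lit 2, nat_lit 0, nat_lit 0, nat_lit 2, nat_lit 0, nat_lit 2, nat_lit 0, nat_lit 0, nat_lit 0]) (cond (Nat.ble e (nat_lit 866)) [] [nat_lit 1, nat_lit 1, nat_lit 2, nat_lit 1, nat_lit 1, nat_lit 2, nat_lit 1, nat_lit 1, nat_lit 2, nat_lit 1, nat_lit 2, nat_lit 0])) (cond (Nat.ble e (nat_lit 869)) (cond (Nat.ble e (nat_lit 868)) [nat_lit 0, nat_lit 0, nat_lit 2, nat_lit 0, nat_lit 2, nat_lit 0, nat_lit 0, nat_lit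 2, nat_lit 0, nat_lit 0, nat_lit 2, nat_lit 0, nat_lit 0] []) (cond (Nat.ble e (nat_lit 870)) [] [nat_lit 0, nat_lit 2, nat_lit 1, nat_lit 2, nat_lit 0, nat_lit 0, nat_lit 2, nat_lit 1, nat_lit 2, nat_lit 0, nat_lit 0, nat_lit 2, nat_lit 1, nat_lit 2, nat_lit 0]))) (cond (Nat.ble e (nat_lit 875)) (cond (Nat.ble e (nat_lit 873)) (cond (Nat.ble e (nat_lit 872)) [] [nat_lit 0, nat_lit 0, nat_lit 2, nat_lit 1, nat_lit 1, nat_lit 2, nat_lit 0, nat_lit 0, nat_lit 2, nat_lit 0, nat_lit 2, nat_lit 0, nat_lit 0, nat_lit 2]) (cond (Nat.ble e (nat_lit 874)) [] [nat_lit 2, nat_lit 0, nat_lit 0, nat_lit 0, nat_lit 2, nat_lit 1, nat_lit 2, nat_lit 0, nat_lit 2, nat_lit 0, nat_lit 2, nat_lit 1])) (cond (Nat.ble e (nat_lit 877)) (cond (Nat.ble e (nat_lit 876)) [] []) (cond (Nat.ble e (nat_lit 878)) [] [nat_lit 2, nat_lit 1, nat_lit 2, nat_lit 1, nat_lit 2, nat_lit 0, nat_lit 2, nat_lit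 1, nat_lit 1, nat_lit 1, nat_lit 2, nat_lit 0, nat_lit 2, nat_lit 1])))) (cond (Nat.ble e (nat_lit 887)) (cond (Nat.ble e (nat_lit 883)) (cond (Nat.ble e (nat_lit 881)) (cond (Nat.ble e (nat_lit 880)) [] [nat_lit 2, nat_lit 0, nat_lit 0, nat_lit 2, nat_lit 1, nat_lit 2, nat_lit 0, nat_lit 2, nat_lit 1, nat_lit 1, nat_lit 1, nat_lit 2, nat_lit 1, nat_lit 2, nat_lit 1]) (cond (Nat.ble e (nat_lit 882)) [nat_lit 2, nat_lit 0, nat_lit 0, nat_lit 2, nat_lit 1, nat_lit 2, nat_lit 0, nat_lit 2, nat_lit 1, nat_lit 2, nat_lit 0] [])) (cond (Nat.ble e (nat_lit 885)) (cond (Nat.ble e (nat_lit 884)) [] [nat_lit 2, nat_lit 0, nat_lit 0, nat_lit 0, nat_lit 2, nat_lit 1, nat_lit 2, nat_lit 1, nat_lit 2, nat_lit 0, nat_lit 2, nat_lit 0, nat_lit 2, nat_lit 1, nat_lit 1]) (cond (Nat.ble e (nat_lit 886)) [] [nat_lit 1, nat_lit 2, nat_lit 1, nat_lit 2, nat_lit 0, nat_lit 0, nat_lit 2,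 nat_lit 1, nat_lit 2, nat_lit 0, nat_lit 2, nat_lit 1, nat_lit 1, nat_lit 2, nat_lit 0, nat_lit 2, nat_lit 0]))) (cond (Nat.ble e (nat_lit 891)) (cond (Nat.ble e (nat_lit 889)) (cond (Nat.ble e (nat_lit 888)) [nat_lit 2, nat_lit 1, nat_lit 1, nat_lit 2, nat_lit 1, nat_lit 1, nat_lit 1, nat_lit 2, nat_lit 0, nat_lit 0] [nat_lit 2, nat_lit 1, nat_lit 2, nat_lit 1, nat_lit 1, nat_lit 2, nat_lit 1, nat_lit 2, nat_lit 1, nat_lit 2, nat_lit 0, nat_lit 2, nat_lit 0, nat_lit 2]) (cond (Nat.ble e (nat_lit 890)) [] [nat_lit 1, nat_lit 2, nat_lit 1, nat_lit 1, nat_lit 2, nat_lit 1, nat_lit 2, nat_lit 0, nat_lit 2, nat_lit 0, nat_lit 2, nat_lit 1, nat_lit 2, nat_lit 0, nat_lit 0])) (cond (Nat.ble e (nat_lit 893)) (cond (Nat.ble e (nat_lit 892)) [nat_lit 0, nat_lit 2, nat_lit 1, nat_lit 1, nat_lit 2, nat_lit 1, nat_lit 2, nat_lit 0, nat_lit 2, nat_lit 0, nat_lit 2, nat_lit 1, nat_lit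 2, nat_lit 0, nat_lit 0, nat_lit 0] [nat_lit 0, nat_lit 2, nat_lit 1, nat_lit 2, nat_lit 0, nat_lit 0, nat_lit 0, nat_lit 2, nat_lit 1, nat_lit 2, nat_lit 0, nat_lit 2, nat_lit 0, nat_lit 2]) (cond (Nat.ble e (nat_lit 894)) [] [])))))
/-- a chunk -/
def Wv1_28 (e : ℕ) : List ℕ := (cond (Nat.ble e (nat_lit 911)) (cond (Nat.ble e (nat_lit 903)) (cond (Nat.ble e (nat_lit 899)) (cond (Nat.ble e (nat_lit 897)) (cond (Nat.ble e (nat_lit 896)) [] [nat_lit 0, nat_lit 0, nat_lit 2, nat_lit 1, nat_lit 2, nat_lit 1, nat_lit 2, nat_lit 0, nat_lit 2, nat_lit 0, nat_lit 2, nat_lit 1, nat_lit 1, nat_lit 1, nat_lit 2]) (cond (Nat.ble e (nat_lit 898)) [] [])) (cond (Nat.ble e (nat_lit 901)) (cond (Nat.ble e (nat_lit 900)) [nat_lit 1, nat_lit 1, nat_lit 1, nat_lit 2, nat_lit 1, nat_lit 1, nat_lit 2, nat_lit 1, nat_lit 2, nat_lit 1, nat_lit 2, nat_lit 0, nat_lit 2] [nat_lit 2, nat_lit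 0, nat_lit 2, nat_lit 1, nat_lit 1, nat_lit 1, nat_lit 2, nat_lit 0, nat_lit 2, nat_lit 1, nat_lit 1, nat_lit 2, nat_lit 0, nat_lit 0, nat_lit 0]) (cond (Nat.ble e (nat_lit 902)) [nat_lit 2, nat_lit 1, nat_lit 2, nat_lit 0, nat_lit 0, nat_lit 2, nat_lit 1, nat_lit 2, nat_lit 0, nat_lit 2, nat_lit 1, nat_lit 2, nat_lit 0, nat_lit 0, nat_lit 0] [nat_lit 2, nat_lit 1, nat_lit 1, nat_lit 2, nat_lit 1, nat_lit 2, nat_lit 1, nat_lit 1, nat_lit 2, nat_lit 0, nat_lit 0, nat_lit 2, nat_lit 1, nat_lit 1]))) (cond (Nat.ble e (nat_lit 907)) (cond (Nat.ble e (nat_lit 905)) (cond (Nat.ble e (nat_lit 904)) [nat_lit 2, nat_lit 1, nat_lit 1, nat_lit 2, nat_lit 0, nat_lit 0, nat_lit 2, nat_lit 1, nat_lit 2, nat_lit 0, nat_lit 2, nat_lit 0, nat_lit 0] []) (cond (Nat.ble e (nat_lit 906)) [nat_lit 1, nat_lit 1, nat_lit 1, nat_lit 2, nat_lit 0, nat_lit 0, nat_lit 2] [])) (cond (Nat.ble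 e (nat_lit 909)) (cond (Nat.ble e (nat_lit 908)) [nat_lit 0, nat_lit 2, nat_lit 0, nat_lit 0, nat_lit 0, nat_lit 2, nat_lit 1, nat_lit 2, nat_lit 0, nat_lit 2, nat_lit 0, nat_lit 2, nat_lit 1, nat_lit 2, nat_lit 1] []) (cond (Nat.ble e (nat_lit 910)) [nat_lit 2, nat_lit 1, nat_lit 1, nat_lit 1, nat_lit 2, nat_lit 0, nat_lit 0, nat_lit 0, nat_lit 2, nat_lit 1] [])))) (cond (Nat.ble e (nat_lit 919)) (cond (Nat.ble e (nat_lit 915)) (cond (Nat.ble e (nat_lit 913)) (cond (Nat.ble e (nat_lit 912)) [] [nat_lit 1, nat_lit 2, nat_lit 0, nat_lit 2, nat_lit 1, nat_lit 2, nat_lit 0, nat_lit 2, nat_lit 1, nat_lit 2, nat_lit 1, nat_lit 2, nat_lit 0, nat_lit 2]) (cond (Nat.ble e (nat_lit 914)) [nat_lit 1, nat_lit 2, nat_lit 0, nat_lit 2, nat_lit 1, nat_lit 1, nat_lit 2, nat_lit 0, nat_lit 0, nat_lit 0, nat_lit 2, nat_lit 1, nat_lit 2, nat_lit 0, nat_lit 0, nat_lit 0] [nat_lit 0,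 nat_lit 2, nat_lit 1, nat_lit 2, nat_lit 1, nat_lit 1, nat_lit 2, nat_lit 1, nat_lit 1, nat_lit 2, nat_lit 1, nat_lit 2, nat_lit 1, nat_lit 1])) (cond (Nat.ble e (nat_lit 917)) (cond (Nat.ble e (nat_lit 916)) [nat_lit 1, nat_lit 2, nat_lit 0, nat_lit 2, nat_lit 0, nat_lit 0, nat_lit 0, nat_lit 2, nat_lit 0, nat_lit 0] []) (cond (Nat.ble e (nat_lit 918)) [nat_lit 1, nat_lit 1, nat_lit 1, nat_lit 2, nat_lit 0, nat_lit 2, nat_lit 1, nat_lit 1, nat_lit 2, nat_lit 0, nat_lit 2, nat_lit 0, nat_lit 0, nat_lit 0] [nat_lit 1, nat_lit 1, nat_lit 2, nat_lit 0, nat_lit 0, nat_lit 2, nat_lit 1, nat_lit 1, nat_lit 1, nat_lit 2, nat_lit 0, nat_lit 2, nat_lit 1, nat_lit 1, nat_lit 2, nat_lit 1, nat_lit 2]))) (cond (Nat.ble e (nat_lit 923)) (cond (Nat.ble e (nat_lit 921)) (cond (Nat.ble e (nat_lit 920)) [] []) (cond (Nat.ble e (nat_lit 922)) [nat_lit 0, nat_lit 0, nat_lit 2, nat_lit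 1, nat_lit 2, nat_lit 0, nat_lit 0, nat_lit 0, nat_lit 2, nat_lit 1, nat_lit 2, nat_lit 0, nat_lit 2, nat_lit 0, nat_lit 2, nat_lit 1] [])) (cond (Nat.ble e (nat_lit 925)) (cond (Nat.ble e (nat_lit 924)) [] [nat_lit 0, nat_lit 2, nat_lit 1, nat_lit 2, nat_lit 1, nat_lit 1, nat_lit 2, nat_lit 0, nat_lit 0, nat_lit 0, nat_lit 2, nat_lit 1, nat_lit 2, nat_lit 1, nat_lit 2, nat_lit 0, nat_lit 2, nat_lit 0]) (cond (Nat.ble e (nat_lit 926)) [nat_lit 0, nat_lit 2, nat_lit 1, nat_lit 2, nat_lit 1, nat_lit 1, nat_lit 2, nat_lit 0, nat_lit 0, nat_lit 2] [])))))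
/-- a chunk -/
def Wv1_29 (e : ℕ) : List ℕ := (cond (Nat.ble e (nat_lit 943)) (cond (Nat.ble e (nat_lit 935)) (cond (Nat.ble e (nat_lit 931)) (cond (Nat.ble e (nat_lit 929)) (cond (Nat.ble e (nat_lit 928)) [nat_lit 2, nat_lit 0, nat_lit 0, nat_lit 0, nat_lit 2, nat_lit 1, nat_lit 1, nat_lit 1, nat_lit 2, nat_lit 0, nat_lit 2, nat_lit 0, nat_lit 0, nat_lit 2] [nat_lit 2, nat_lit 1, nat_lit 1, nat_lit 2, nat_lit 1, nat_lit 1, nat_lit 2, nat_lit 1, nat_lit 2, nat_lit 0, nat_lit 0, nat_lit 2]) (cond (Nat.ble e (nat_lit 930)) [nat_lit 2, nat_lit 1, nat_lit 1, nat_lit 2, nat_lit 1, nat_lit 2, nat_lit 1, nat_lit 1, nat_lit 2, nat_lit 1, nat_lit 1, nat_lit 2, nat_lit 0, nat_lit 0, nat_lit 0] [])) (cond (Nat.ble e (nat_lit 933)) (cond (Nat.ble e (nat_lit 932)) [] [nat_lit 0, nat_lit 2, nat_lit 1, nat_lit 2, nat_lit 1, nat_lit 2, nat_lit 0, nat_lit 2, nat_lit 1, nat_lit 1, nat_lit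 1, nat_lit 2]) (cond (Nat.ble e (nat_lit 934)) [nat_lit 0, nat_lit 2, nat_lit 0, nat_lit 2, nat_lit 1, nat_lit 2, nat_lit 0, nat_lit 0, nat_lit 0, nat_lit 2, nat_lit 0, nat_lit 2, nat_lit 0, nat_lit 0] []))) (cond (Nat.ble e (nat_lit 939)) (cond (Nat.ble e (nat_lit 937)) (cond (Nat.ble e (nat_lit 936)) [nat_lit 0, nat_lit 2, nat_lit 0, nat_lit 2, nat_lit 1, nat_lit 2, nat_lit 1, nat_lit 2, nat_lit 0, nat_lit 2, nat_lit 1, nat_lit 1, nat_lit 1, nat_lit 2, nat_lit 0, nat_lit 2] [nat_lit 2, nat_lit 0, nat_lit 0, nat_lit 2, nat_lit 0, nat_lit 0, nat_lit 2, nat_lit 0, nat_lit 0]) (cond (Nat.ble e (nat_lit 938)) [] [nat_lit 2, nat_lit 1, nat_lit 1, nat_lit 2, nat_lit 1, nat_lit 1, nat_lit 2, nat_lit 0, nat_lit 0, nat_lit 0, nat_lit 2, nat_lit 0, nat_lit 2, nat_lit 1, nat_lit 1])) (cond (Nat.ble e (nat_lit 941)) (cond (Nat.ble e (nat_lit 940)) [] [nat_lit 1, nat_lit 1, nat_lit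 2, nat_lit 0, nat_lit 0, nat_lit 2, nat_lit 1, nat_lit 1, nat_lit 2, nat_lit 0, nat_lit 0]) (cond (Nat.ble e (nat_lit 942)) [nat_lit 2, nat_lit 0, nat_lit 0, nat_lit 0, nat_lit 2, nat_lit 1, nat_lit 1, nat_lit 2, nat_lit 1, nat_lit 2, nat_lit 0, nat_lit 2] [])))) (cond (Nat.ble e (nat_lit 951)) (cond (Nat.ble e (nat_lit 947)) (cond (Nat.ble e (nat_lit 945)) (cond (Nat.ble e (nat_lit 944)) [] []) (cond (Nat.ble e (nat_lit 946)) [nat_lit 1, nat_lit 1, nat_lit 2, nat_lit 1, nat_lit 2, nat_lit 1, nat_lit 1, nat_lit 2, nat_lit 1, nat_lit 2, nat_lit 0, nat_lit 0, nat_lit 0] [nat_lit 0, nat_lit 2, nat_lit 1, nat_lit 2, nat_lit 0, nat_lit 2, nat_lit 0, nat_lit 2, nat_lit 1, nat_lit 2, nat_lit 0, nat_lit 2])) (cond (Nat.ble e (nat_lit 949)) (cond (Nat.ble e (nat_lit 948)) [nat_lit 2, nat_lit 0, nat_lit 0, nat_lit 2, nat_lit 1, nat_lit 1, nat_lit 1, nat_lit 2, nat_lit 0, nat_lit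 2, nat_lit 0, nat_lit 0, nat_lit 2, nat_lit 1] []) (cond (Nat.ble e (nat_lit 950)) [] [nat_lit 1, nat_lit 2, nat_lit 0, nat_lit 2, nat_lit 0, nat_lit 0, nat_lit 0, nat_lit 2, nat_lit 1, nat_lit 1, nat_lit 1, nat_lit 2, nat_lit 1, nat_lit 2, nat_lit 0]))) (cond (Nat.ble e (nat_lit 955)) (cond (Nat.ble e (nat_lit 953)) (cond (Nat.ble e (nat_lit 952)) [nat_lit 0, nat_lit 0, nat_lit 0, nat_lit 2, nat_lit 1, nat_lit 1, nat_lit 1, nat_lit 2, nat_lit 1, nat_lit 2, nat_lit 1, nat_lit 1, nat_lit 2, nat_lit 1, nat_lit 1, nat_lit 2, nat_lit 1] []) (cond (Nat.ble e (nat_lit 954)) [nat_lit 0, nat_lit 2, nat_lit 1, nat_lit 1, nat_lit 2, nat_lit 1, nat_lit 2, nat_lit 0, nat_lit 0, nat_lit 0, nat_lit 2, nat_lit 1, nat_lit 1, nat_lit 2] [nat_lit 2, nat_lit 0, nat_lit 0, nat_lit 2, nat_lit 1, nat_lit 2, nat_lit 0, nat_lit 2, nat_lit 1, nat_lit 2, nat_lit 0, nat_lit 2, nat_lit 1, nat_lit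 1, nat_lit 2])) (cond (Nat.ble e (nat_lit 957)) (cond (Nat.ble e (nat_lit 956)) [] [nat_lit 1, nat_lit 1, nat_lit 2, nat_lit 0, nat_lit 2, nat_lit 1, nat_lit 2, nat_lit 1, nat_lit 2, nat_lit 0, nat_lit 2, nat_lit 0, nat_lit 0, nat_lit 2, nat_lit 0]) (cond (Nat.ble e (nat_lit 958)) [nat_lit 1, nat_lit 2, nat_lit 0, nat_lit 2, nat_lit 1, nat_lit 1, nat_lit 2, nat_lit 1, nat_lit 2, nat_lit 0, nat_lit 0, nat_lit 0, nat_lit 2, nat_lit 0, nat_lit 2, nat_lit 1] [nat_lit 1, nat_lit 1, nat_lit 2, nat_lit 1, nat_lit 1, nat_lit 2, nat_lit 1, nat_lit 1, nat_lit 2])))))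
/-- a chunk -/
def Wv1_30 (e : ℕ) : List ℕ := (cond (Nat.ble e (nat_lit 975)) (cond (Nat.ble e (nat_lit 967)) (cond (Nat.ble e (nat_lit 963)) (cond (Nat.ble e (nat_lit 961)) (cond (Nat.ble e (nat_lit 960)) [] [nat_lit 1, nat_lit 2, nat_lit 1, nat_lit 1, nat_lit 1, nat_lit 2, nat_lit 1, nat_lit 1, nat_lit 2, nat_lit 1, nat_lit 2]) (cond (Nat.ble e (nat_lit 962)) [nat_lit 1, nat_lit 2, nat_lit 0, nat_lit 0, nat_lit 0, nat_lit 2, nat_lit 1, nat_lit 2, nat_lit 1, nat_lit 1, nat_lit 2, nat_lit 1, nat_lit 1, nat_lit 2, nat_lit 1, nat_lit 1] [])) (cond (Nat.ble e (nat_lit 965)) (cond (Nat.ble e (nat_lit 964)) [] [nat_lit 0, nat_lit 0, nat_lit 2, nat_lit 0, nat_lit 2, nat_lit 0, nat_lit 0, nat_lit 2, nat_lit 0, nat_lit 0, nat_lit 0, nat_lit 2, nat_lit 1, nat_lit 1, nat_lit 1, nat_lit 2, nat_lit 1, nat_lit 2, nat_lit 1]) (cond (Nat.ble e (nat_lit 966)) [nat_lit 1, nat_lit 2,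 nat_lit 1, nat_lit 2, nat_lit 0, nat_lit 2, nat_lit 1, nat_lit 1, nat_lit 1, nat_lit 2, nat_lit 1, nat_lit 2, nat_lit 0, nat_lit 0, nat_lit 2, nat_lit 1] [nat_lit 2, nat_lit 0, nat_lit 2, nat_lit 0, nat_lit 0, nat_lit 2, nat_lit 1, nat_lit 2, nat_lit 0, nat_lit 0, nat_lit 0, nat_lit 2, nat_lit 1, nat_lit 1, nat_lit 2, nat_lit 0, nat_lit 0]))) (cond (Nat.ble e (nat_lit 971)) (cond (Nat.ble e (nat_lit 969)) (cond (Nat.ble e (nat_lit 968)) [nat_lit 2, nat_lit 0, nat_lit 0, nat_lit 0, nat_lit 2, nat_lit 1, nat_lit 2, nat_lit 0, nat_lit 2, nat_lit 1, nat_lit 1, nat_lit 2, nat_lit 0, nat_lit 0, nat_lit 0] []) (cond (Nat.ble e (nat_lit 970)) [nat_lit 0, nat_lit 2, nat_lit 0, nat_lit 0, nat_lit 2, nat_lit 1, nat_lit 2, nat_lit 0, nat_lit 0, nat_lit 2, nat_lit 1, nat_lit 2, nat_lit 1, nat_lit 1, nat_lit 2, nat_lit 1] [])) (cond (Nat.ble e (nat_lit 973)) (cond (Nat.ble e (nat_lit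 972)) [nat_lit 0, nat_lit 0, nat_lit 0, nat_lit 2, nat_lit 0, nat_lit 2, nat_lit 0, nat_lit 0, nat_lit 2, nat_lit 0, nat_lit 0, nat_lit 0] []) (cond (Nat.ble e (nat_lit 974)) [] [nat_lit 1, nat_lit 2, nat_lit 0, nat_lit 2, nat_lit 1, nat_lit 1, nat_lit 2, nat_lit 1, nat_lit 2, nat_lit 1, nat_lit 1, nat_lit 2, nat_lit 1])))) (cond (Nat.ble e (nat_lit 983)) (cond (Nat.ble e (nat_lit 979)) (cond (Nat.ble e (nat_lit 977)) (cond (Nat.ble e (nat_lit 976)) [] [nat_lit 1, nat_lit 1, nat_lit 2, nat_lit 0, nat_lit 2, nat_lit 1, nat_lit 1, nat_lit 1, nat_lit 2, nat_lit 0, nat_lit 2]) (cond (Nat.ble e (nat_lit 978)) [nat_lit 0, nat_lit 0, nat_lit 2, nat_lit 1, nat_lit 2, nat_lit 0, nat_lit 2, nat_lit 0, nat_lit 0, nat_lit 2, nat_lit 0, nat_lit 2, nat_lit 1, nat_lit 1, nat_lit 2] [nat_lit 1, nat_lit 2, nat_lit 0, nat_lit 2, nat_lit 0, nat_lit 0, nat_lit 2, nat_lit 0, nat_lit 0,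 nat_lit 2, nat_lit 0, nat_lit 0])) (cond (Nat.ble e (nat_lit 981)) (cond (Nat.ble e (nat_lit 980)) [] [nat_lit 2, nat_lit 1, nat_lit 2, nat_lit 0, nat_lit 2, nat_lit 0, nat_lit 2, nat_lit 1, nat_lit 2, nat_lit 0, nat_lit 2, nat_lit 1, nat_lit 2, nat_lit 0]) (cond (Nat.ble e (nat_lit 982)) [nat_lit 0, nat_lit 0, nat_lit 0, nat_lit 2, nat_lit 1, nat_lit 2, nat_lit 0, nat_lit 2, nat_lit 0, nat_lit 0, nat_lit 2] [nat_lit 1, nat_lit 1, nat_lit 1, nat_lit 2, nat_lit 1, nat_lit 2, nat_lit 0, nat_lit 2, nat_lit 1, nat_lit 1, nat_lit 1, nat_lit 2, nat_lit 0, nat_lit 0]))) (cond (Nat.ble e (nat_lit 987)) (cond (Nat.ble e (nat_lit 985)) (cond (Nat.ble e (nat_lit 984)) [] [nat_lit 2, nat_lit 1, nat_lit 2, nat_lit 0, nat_lit 0, nat_lit 0, nat_lit 2, nat_lit 1, nat_lit 2, nat_lit 0, nat_lit 0]) (cond (Nat.ble e (nat_lit 986)) [nat_lit 0, nat_lit 2, nat_lit 1, nat_lit 2, nat_lit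 1, nat_lit 1, nat_lit 1, nat_lit 2, nat_lit 0, nat_lit 0, nat_lit 2, nat_lit 0, nat_lit 0, nat_lit 2] [])) (cond (Nat.ble e (nat_lit 989)) (cond (Nat.ble e (nat_lit 988)) [] [nat_lit 2, nat_lit 0, nat_lit 2, nat_lit 0, nat_lit 2, nat_lit 1, nat_lit 1, nat_lit 1, nat_lit 2, nat_lit 0, nat_lit 2, nat_lit 0, nat_lit 0, nat_lit 0, nat_lit 2]) (cond (Nat.ble e (nat_lit 990)) [] [nat_lit 2, nat_lit 1, nat_lit 1, nat_lit 2, nat_lit 0, nat_lit 2, nat_lit 0, nat_lit 0, nat_lit 2, nat_lit 0, nat_lit 0, nat_lit 2])))))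
/-- a chunk -/
def Wv1_31 (e : ℕ) : List ℕ := (cond (Nat.ble e (nat_lit 1001)) (cond (Nat.ble e (nat_lit 996)) (cond (Nat.ble e (nat_lit 993)) (cond (Nat.ble e (nat_lit 992)) [nat_lit 1, nat_lit 2, nat_lit 1, nat_lit 2, nat_lit 0, nat_lit 2, nat_lit 0, nat_lit 0, nat_lit 0, nat_lit 2, nat_lit 1, nat_lit 2, nat_lit 0, nat_lit 2] []) (cond (Nat.ble e (nat_lit 994)) [nat_lit 0, nat_lit 2, nat_lit 0, nat_lit 2, nat_lit 1, nat_lit 1, nat_lit 1, nat_lit 2, nat_lit 0, nat_lit 2, nat_lit 0, nat_lit 0, nat_lit 2, nat_lit 1, nat_lit 2, nat_lit 1, nat_lit 1, nat_lit 2] (cond (Nat.ble e (nat_lit 995)) [nat_lit 1, nat_lit 1, nat_lit 1, nat_lit 2, nat_lit 0, nat_lit 0, nat_lit 2, nat_lit 1, nat_lit 2, nat_lit 0, nat_lit 0, nat_lit 0, nat_lit 2, nat_lit 1, nat_lit 2] []))) (cond (Nat.ble e (nat_lit 998)) (cond (Nat.ble e (nat_lit 997)) [nat_lit 0, nat_lit 2, nat_lit 1, nat_lit 1,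 nat_lit 1, nat_lit 2, nat_lit 1, nat_lit 2, nat_lit 0, nat_lit 2, nat_lit 1, nat_lit 2, nat_lit 0, nat_lit 0, nat_lit 0] [nat_lit 0, nat_lit 2, nat_lit 1, nat_lit 2, nat_lit 0, nat_lit 0, nat_lit 2, nat_lit 1, nat_lit 2, nat_lit 0, nat_lit 0, nat_lit 0, nat_lit 2, nat_lit 1, nat_lit 2, nat_lit 0]) (cond (Nat.ble e (nat_lit 999)) [nat_lit 1, nat_lit 1, nat_lit 1, nat_lit 2, nat_lit 0, nat_lit 2, nat_lit 1, nat_lit 2, nat_lit 0, nat_lit 2, nat_lit 0, nat_lit 0, nat_lit 0, nat_lit 2, nat_lit 1] (cond (Nat.ble e (nat_lit 1000)) [nat_lit 2, nat_lit 0, nat_lit 2, nat_lit 1, nat_lit 2, nat_lit 1, nat_lit 1, nat_lit 1, nat_lit 2, nat_lit 0, nat_lit 2, nat_lit 0, nat_lit 0, nat_lit 2, nat_lit 0, nat_lit 0] [])))) (cond (Nat.ble e (nat_lit 1006)) (cond (Nat.ble e (nat_lit 1003)) (cond (Nat.ble e (nat_lit 1002)) [nat_lit 1, nat_lit 2, nat_lit 1, nat_lit 2, nat_lit 0, nat_lit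 2, nat_lit 0, nat_lit 2, nat_lit 1, nat_lit 2] []) (cond (Nat.ble e (nat_lit 1004)) [nat_lit 0, nat_lit 2, nat_lit 1, nat_lit 1, nat_lit 1, nat_lit 2, nat_lit 1, nat_lit 1, nat_lit 1, nat_lit 2, nat_lit 0, nat_lit 0, nat_lit 2] (cond (Nat.ble e (nat_lit 1005)) [nat_lit 0, nat_lit 2, nat_lit 0, nat_lit 2, nat_lit 1, nat_lit 2, nat_lit 1] []))) (cond (Nat.ble e (nat_lit 1008)) (cond (Nat.ble e (nat_lit 1007)) [nat_lit 1, nat_lit 1, nat_lit 2, nat_lit 0, nat_lit 0, nat_lit 0, nat_lit 2, nat_lit 1, nat_lit 2, nat_lit 0, nat_lit 2, nat_lit 0, nat_lit 0, nat_lit 0] [nat_lit 0, nat_lit 2, nat_lit 1, nat_lit 2, nat_lit 0, nat_lit 0, nat_lit 2, nat_lit 1, nat_lit 2, nat_lit 0, nat_lit 0, nat_lit 0, nat_lit 2, nat_lit 1, nat_lit 2, nat_lit 0]) (cond (Nat.ble e (nat_lit 1009)) [] (cond (Nat.ble e (nat_lit 1010)) [nat_lit 1, nat_lit 2, nat_lit 1, nat_lit 1, nat_lit 2, nat_lit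 0, nat_lit 0, nat_lit 0, nat_lit 2, nat_lit 1, nat_lit 2, nat_lit 1, nat_lit 2] [nat_lit 1, nat_lit 1, nat_lit 2, nat_lit 0, nat_lit 2, nat_lit 1, nat_lit 1, nat_lit 1, nat_lit 2, nat_lit 0, nat_lit 0, nat_lit 2, nat_lit 1, nat_lit 1, nat_lit 2])))))
/-- a leaf -/
def Wv1_l0 (_ e : ℕ) : List ℕ := Wv1_0 e
/-- a leaf -/
def Wv1_l1 (_ e : ℕ) : List ℕ := Wv1_1 e
/-- a node -/
def Wv1_s0_2 (c e : ℕ) : List ℕ := cond (Nat.ble c (nat_lit 0)) (Wv1_l0 c e) (Wv1_l1 c e)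
/-- a leaf -/
def Wv1_l2 (_ e : ℕ) : List ℕ := Wv1_2 e
/-- a leaf -/
def Wv1_l3 (_ e : ℕ) : List ℕ := Wv1_3 e
/-- a node -/
def Wv1_s2_4 (c e : ℕ) : List ℕ := cond (Nat.ble c (nat_lit 2)) (Wv1_l2 c e) (Wv1_l3 c e)
/-- a node -/
def Wv1_s0_4 (c e : ℕ) : List ℕ := cond (Nat.ble c (nat_lit 1)) (Wv1_s0_2 c e) (Wv1_s2_4 c e)
/-- a leaf -/
def Wv1_l4 (_ e : ℕ) : List ℕ := Wv1_4 e
/-- a leaf -/
def Wv1_l5 (_ e : ℕ) : List ℕ := Wv1_5 e
/-- a node -/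
def Wv1_s4_6 (c e : ℕ) : List ℕ := cond (Nat.ble c (nat_lit 4)) (Wv1_l4 c e) (Wv1_l5 c e)
/-- a leaf -/
def Wv1_l6 (_ e : ℕ) : List ℕ := Wv1_6 e
/-- a leaf -/
def Wv1_l7 (_ e : ℕ) : List ℕ := Wv1_7 e
/-- a node -/
def Wv1_s6_8 (c e : ℕ) : List ℕ := cond (Nat.ble c (nat_lit 6)) (Wv1_l6 c e) (Wv1_l7 c e)
/-- a node -/
def Wv1_s4_8 (c e : ℕ) : List ℕ := cond (Nat.ble c (nat_lit 5)) (Wv1_s4_6 c e) (Wv1_s6_8 c e)
/-- a node -/
def Wv1_s0_8 (c e : ℕ) : List ℕ := cond (Nat.ble c (nat_lit 3)) (Wv1_s0_4 c e) (Wv1_s4_8 c e)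
/-- a leaf -/
def Wv1_l8 (_ e : ℕ) : List ℕ := Wv1_8 e
/-- a leaf -/
def Wv1_l9 (_ e : ℕ) : List ℕ := Wv1_9 e
/-- a node -/
def Wv1_s8_10 (c e : ℕ) : List ℕ := cond (Nat.ble c (nat_lit 8)) (Wv1_l8 c e) (Wv1_l9 c e)
/-- a leaf -/
def Wv1_l10 (_ e : ℕ) : List ℕ := Wv1_10 e
/-- a leaf -/
def Wv1_l11 (_ e : ℕ) : List ℕ := Wv1_11 e
/-- a node -/
def Wv1_s10_12 (c e : ℕ) : List ℕ := cond (Nat.ble c (nat_lit 10)) (Wv1_l10 c e) (Wv1_l11 c e)
/-- a node -/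
def Wv1_s8_12 (c e : ℕ) : List ℕ := cond (Nat.ble c (nat_lit 9)) (Wv1_s8_10 c e) (Wv1_s10_12 c e)
/-- a leaf -/
def Wv1_l12 (_ e : ℕ) : List ℕ := Wv1_12 e
/-- a leaf -/
def Wv1_l13 (_ e : ℕ) : List ℕ := Wv1_13 e
/-- a node -/
def Wv1_s12_14 (c e : ℕ) : List ℕ := cond (Nat.ble c (nat_lit 12)) (Wv1_l12 c e) (Wv1_l13 c e)
/-- a leaf -/
def Wv1_l14 (_ e : ℕ) : List ℕ := Wv1_14 e
/-- a leaf -/
def Wv1_l15 (_ e : ℕ) : List ℕ := Wv1_15 e
/-- a node -/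
def Wv1_s14_16 (c e : ℕ) : List ℕ := cond (Nat.ble c (nat_lit 14)) (Wv1_l14 c e) (Wv1_l15 c e)
/-- a node -/
def Wv1_s12_16 (c e : ℕ) : List ℕ := cond (Nat.ble c (nat_lit 13)) (Wv1_s12_14 c e) (Wv1_s14_16 c e)
/-- a node -/
def Wv1_s8_16 (c e : ℕ) : List ℕ := cond (Nat.ble c (nat_lit 11)) (Wv1_s8_12 c e) (Wv1_s12_16 c e)
/-- a node -/
def Wv1_s0_16 (c e : ℕ) : List ℕ := cond (Nat.ble c (nat_lit 7)) (Wv1_s0_8 c e) (Wv1_s8_16 c e)
/-- a leaf -/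
def Wv1_l16 (_ e : ℕ) : List ℕ := Wv1_16 e
/-- a leaf -/
def Wv1_l17 (_ e : ℕ) : List ℕ := Wv1_17 e
/-- a node -/
def Wv1_s16_18 (c e : ℕ) : List ℕ := cond (Nat.ble c (nat_lit 16)) (Wv1_l16 c e) (Wv1_l17 c e)
/-- a leaf -/
def Wv1_l18 (_ e : ℕ) : List ℕ := Wv1_18 e
/-- a leaf -/
def Wv1_l19 (_ e : ℕ) : List ℕ := Wv1_19 e
/-- a node -/
def Wv1_s18_20 (c e : ℕ) : List ℕ := cond (Nat.ble c (nat_lit 18)) (Wv1_l18 c e) (Wv1_l19 c e)
/-- a node -/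
def Wv1_s16_20 (c e : ℕ) : List ℕ := cond (Nat.ble c (nat_lit 17)) (Wv1_s16_18 c e) (Wv1_s18_20 c e)
/-- a leaf -/
def Wv1_l20 (_ e : ℕ) : List ℕ := Wv1_20 e
/-- a leaf -/
def Wv1_l21 (_ e : ℕ) : List ℕ := Wv1_21 e
/-- a node -/
def Wv1_s20_22 (c e : ℕ) : List ℕ := cond (Nat.ble c (nat_lit 20)) (Wv1_l20 c e) (Wv1_l21 c e)
/-- a leaf -/
def Wv1_l22 (_ e : ℕ) : List ℕ := Wv1_22 e
/-- a leaf -/
def Wv1_l23 (_ e : ℕ) : List ℕ := Wv1_23 e
/-- a node -/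
def Wv1_s22_24 (c e : ℕ) : List ℕ := cond (Nat.ble c (nat_lit 22)) (Wv1_l22 c e) (Wv1_l23 c e)
/-- a node -/
def Wv1_s20_24 (c e : ℕ) : List ℕ := cond (Nat.ble c (nat_lit 21)) (Wv1_s20_22 c e) (Wv1_s22_24 c e)
/-- a node -/
def Wv1_s16_24 (c e : ℕ) : List ℕ := cond (Nat.ble c (nat_lit 19)) (Wv1_s16_20 c e) (Wv1_s20_24 c e)
/-- a leaf -/
def Wv1_l24 (_ e : ℕ) : List ℕ := Wv1_24 e
/-- a leaf -/
def Wv1_l25 (_ e : ℕ) : List ℕ := Wv1_25 e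
/-- a node -/
def Wv1_s24_26 (c e : ℕ) : List ℕ := cond (Nat.ble c (nat_lit 24)) (Wv1_l24 c e) (Wv1_l25 c e)
/-- a leaf -/
def Wv1_l26 (_ e : ℕ) : List ℕ := Wv1_26 e
/-- a leaf -/
def Wv1_l27 (_ e : ℕ) : List ℕ := Wv1_27 e
/-- a node -/
def Wv1_s26_28 (c e : ℕ) : List ℕ := cond (Nat.ble c (nat_lit 26)) (Wv1_l26 c e) (Wv1_l27 c e)
/-- a node -/
def Wv1_s24_28 (c e : ℕ) : List ℕ := cond (Nat.ble c (nat_lit 25)) (Wv1_s24_26 c e) (Wv1_s26_28 c e)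
/-- a leaf -/
def Wv1_l28 (_ e : ℕ) : List ℕ := Wv1_28 e
/-- a leaf -/
def Wv1_l29 (_ e : ℕ) : List ℕ := Wv1_29 e
/-- a node -/
def Wv1_s28_30 (c e : ℕ) : List ℕ := cond (Nat.ble c (nat_lit 28)) (Wv1_l28 c e) (Wv1_l29 c e)
/-- a leaf -/
def Wv1_l30 (_ e : ℕ) : List ℕ := Wv1_30 e
/-- a leaf -/
def Wv1_l31 (_ e : ℕ) : List ℕ := Wv1_31 e
/-- a node -/
def Wv1_s30_32 (c e : ℕ) : List ℕ := cond (Nat.ble c (nat_lit 30)) (Wv1_l30 c e) (Wv1_l31 c e)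
/-- a node -/
def Wv1_s28_32 (c e : ℕ) : List ℕ := cond (Nat.ble c (nat_lit 29)) (Wv1_s28_30 c e) (Wv1_s30_32 c e)
/-- a node -/
def Wv1_s24_32 (c e : ℕ) : List ℕ := cond (Nat.ble c (nat_lit 27)) (Wv1_s24_28 c e) (Wv1_s28_32 c e)
/-- a node -/
def Wv1_s16_32 (c e : ℕ) : List ℕ := cond (Nat.ble c (nat_lit 23)) (Wv1_s16_24 c e) (Wv1_s24_32 c e)
/-- a node -/
def Wv1_s0_32 (c e : ℕ) : List ℕ := cond (Nat.ble c (nat_lit 15)) (Wv1_s0_16 c e) (Wv1_s16_32 c e)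
/-- the words of the Schreier elements -/
def Wv1 (e : ℕ) : List ℕ := Wv1_s0_32 (Nat.shiftRight e (nat_lit 5)) e

theorem tab1_chk : allV (tabRow 506 T1 par1) 506 = true := by decide +kernel

theorem tab1 : Cfsg.Agent.Lib.SchurCoset46.Tab 506 2 T1 par1 := tab_of_chk (by norm_num) tab1_chk

theorem tp1_chk : allV (tpRow cL1 tp1 par1) 506 = true := by decide +kernel

theorem rel1_chk : allV (relRow cL1 rels1) 60 = true := by decide +kernel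

theorem edge1_chk : allV (edgeRow cL1 cL2 tp1 T1 Wv1) 1012 = true := by decide +kernel

/-- a word -/
def ws2 : List ℕ := [nat_lit 1, nat_lit 1, nat_lit 2, nat_lit 1, nat_lit 2, nat_lit 1, nat_lit 2, nat_lit 0, nat_lit 0, nat_lit 3, nat_lit 0, nat_lit 0, nat_lit 3, nat_lit 1, nat_lit 3, nat_lit 0, nat_lit 0, nat_lit 0, nat_lit 2, nat_lit 0, nat_lit 2, nat_lit 0, nat_lit 0, nat_lit 2, nat_lit 0, nat_lit 3, nat_lit 1, nat_lit 1, nat_lit 1, nat_lit 3, nat_lit 1, nat_lit 3]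

/-- a word -/
def wA : List ℕ := [nat_lit 1, nat_lit 1, nat_lit 1, nat_lit 1, nat_lit 1, nat_lit 2, nat_lit 1, nat_lit 2, nat_lit 1, nat_lit 2, nat_lit 0, nat_lit 0, nat_lit 3, nat_lit 0, nat_lit 0, nat_lit 3, nat_lit 1, nat_lit 3, nat_lit 0, nat_lit 0, nat_lit 0, nat_lit 2, nat_lit 0, nat_lit 2, nat_lit 0, nat_lit 0, nat_lit 2, nat_lit 0, nat_lit 3, nat_lit 1, nat_lit 1, nat_lit 1, nat_lit 3, nat_lit 1, nat_lit 3, nat_lit 1, nat_lit 1, nat_lit 1, nat_lit 2, nat_lit 1, nat_lit 2, nat_lit 1, nat_lit 2, nat_lit 0, nat_lit 0, nat_lit 3, nat_lit 0, nat_lit 0, nat_lit 3, nat_lit 1, nat_lit 3, nat_lit 0, nat_lit 0, nat_lit 0, nat_lit 2, nat_lit 0, nat_lit 2, nat_lit 0, nat_lit 0, nat_lit 2, nat_lit 0, nat_lit 3, nat_lit 1, nat_lit 1, nat_lit 1, nat_lit 3, nat_lit 1, nat_lit 3, nat_lit 0, nat_lit 1, nat_lit 1, nat_lit 2, nat_lit 1, nat_lit 2, nat_lit 1, nat_lit 2, nat_lit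 0, nat_lit 0, nat_lit 3, nat_lit 0, nat_lit 0, nat_lit 3, nat_lit 1, nat_lit 3, nat_lit 0, nat_lit 0, nat_lit 0, nat_lit 2, nat_lit 0, nat_lit 2, nat_lit 0, nat_lit 0, nat_lit 2, nat_lit 0, nat_lit 3, nat_lit 1, nat_lit 1, nat_lit 1, nat_lit 3, nat_lit 1, nat_lit 3, nat_lit 1, nat_lit 1, nat_lit 2, nat_lit 0, nat_lit 0, nat_lit 2, nat_lit 0, nat_lit 2, nat_lit 1, nat_lit 1, nat_lit 2]

/-- a word -/
def wB : List ℕ := [nat_lit 1, nat_lit 1, nat_lit 1, nat_lit 2, nat_lit 1, nat_lit 2, nat_lit 1, nat_lit 2, nat_lit 0, nat_lit 0, nat_lit 3, nat_lit 0, nat_lit 0, nat_lit 3, nat_lit 1, nat_lit 3, nat_lit 0, nat_lit 0, nat_lit 0, nat_lit 2, nat_lit 0, nat_lit 2, nat_lit 0, nat_lit 0, nat_lit 2, nat_lit 0, nat_lit 3, nat_lit 1, nat_lit 1, nat_lit 1, nat_lit 3, nat_lit 1, nat_lit 3, nat_lit 1, nat_lit 1, nat_lit 1, nat_lit 2, nat_lit 1, nat_lit 2, nat_lit 1, nat_lit 2, nat_lit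 0, nat_lit 0, nat_lit 3, nat_lit 0, nat_lit 0, nat_lit 3, nat_lit 1, nat_lit 3, nat_lit 0, nat_lit 0, nat_lit 0, nat_lit 2, nat_lit 0, nat_lit 2, nat_lit 0, nat_lit 0, nat_lit 2, nat_lit 0, nat_lit 3, nat_lit 1, nat_lit 1, nat_lit 1, nat_lit 3, nat_lit 1, nat_lit 3, nat_lit 0, nat_lit 0, nat_lit 1, nat_lit 1, nat_lit 2, nat_lit 1, nat_lit 2, nat_lit 1, nat_lit 2, nat_lit 0, nat_lit 0, nat_lit 3, nat_lit 0, nat_lit 0, nat_lit 3, nat_lit 1, nat_lit 3, nat_lit 0, nat_lit 0, nat_lit 0, nat_lit 2, nat_lit 0, nat_lit 2, nat_lit 0, nat_lit 0, nat_lit 2, nat_lit 0, nat_lit 3, nat_lit 1, nat_lit 1, nat_lit 1, nat_lit 3, nat_lit 1, nat_lit 3, nat_lit 1, nat_lit 1, nat_lit 1, nat_lit 2, nat_lit 1, nat_lit 2, nat_lit 1, nat_lit 2, nat_lit 0, nat_lit 0, nat_lit 3, nat_lit 0, nat_lit 0, nat_lit 3, nat_lit 1, nat_lit 3, nat_lit 0, nat_lit 0, nat_lit 0, nat_lit 2, nat_lit 0, nat_lit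 2, nat_lit 0, nat_lit 0, nat_lit 2, nat_lit 0, nat_lit 3, nat_lit 1, nat_lit 1, nat_lit 1, nat_lit 3, nat_lit 1, nat_lit 3, nat_lit 0, nat_lit 1, nat_lit 1, nat_lit 2, nat_lit 1, nat_lit 2, nat_lit 1, nat_lit 2, nat_lit 0, nat_lit 0, nat_lit 3, nat_lit 0, nat_lit 0, nat_lit 3, nat_lit 1, nat_lit 3, nat_lit 0, nat_lit 0, nat_lit 0, nat_lit 2, nat_lit 0, nat_lit 2, nat_lit 0, nat_lit 0, nat_lit 2, nat_lit 0, nat_lit 3, nat_lit 1, nat_lit 1, nat_lit 1, nat_lit 3, nat_lit 1, nat_lit 3, nat_lit 1, nat_lit 1, nat_lit 2, nat_lit 0, nat_lit 2, nat_lit 0, nat_lit 2, nat_lit 0, nat_lit 0, nat_lit 2, nat_lit 1]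

/-- the exponent -/
def eZ : ℕ := 2

/-- the word of an involution -/
def w00 : List ℕ := [0, 2, 0, 2, 0, 2]

theorem rels2_j12 : rels2 40 = w00 ++ w00 := by decide +kernel

theorem rels2_j2 : rels2 0 = [2, 2] := by decide +kernel

end Cfsg.Agent.Lib.TwM23G
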