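import Mathlib
import Cfsg.Agent.Lib.TwM23G

/-!
# The chain `M₂₃ > A₈ > 7:3` for extensions by a module of dimension eleven
-/

set_option autoImplicit false
set_option maxRecDepth 100000

namespace Cfsg.Agent.Lib.TwM23Run

open Cfsg Cfsg.Spor Cfsg.Agent.Lib.Golay Cfsg.Agent.Lib.GolaySift Cfsg.Agent.Lib.MathieuOut
  Cfsg.Agent.Lib.SchurCoset46 Cfsg.Agent.Lib.SchurCosetGolay46 Cfsg.Agent.Lib.TwCoset Cfsg.Agent.Lib.TwSolve
  Cfsg.Agent.Lib.TwLevel Cfsg.Agent.Lib.TwChain Cfsg.Agent.Lib.TwM23Core Cfsg.Agent.Lib.TwM23G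

/-- An element from a code. -/
noncomputable def gOf (c : ℕ) (h : isM24 c = true) (h2 : ap c 23 = 23) : ↥M23 :=
  ⟨decode c, Cfsg.Agent.S2037.mem_of_code h h2⟩

theorem rep_gOf {c : ℕ} (h : isM24 c = true) (h2 : ap c 23 = 23) : Rep (gOf c h h2 : Equiv.Perm GolayPt) c :=
  rep_decode (isM24_valid h)

/-- The element of order `7`. -/
noncomputable def gS1 : ↥M23 := gOf cS1 (by decide +kernel) (by decide +kernel)
/-- The involution of the first level. -/
noncomputable def gG2 : ↥M23 := gOf cG2 (by decide +kernel) (by decide +kernel)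
/-- The involution of the second level. -/
noncomputable def gS2 : ↥M23 := gOf cS2 (by decide +kernel) (by decide +kernel)
/-- The element of order `3`. -/
noncomputable def gZ3 : ↥M23 := gOf cZ3 (by decide +kernel) (by decide +kernel)
/-- A conjugator. -/
noncomputable def gH : ↥M23 := gOf cH (by decide +kernel) (by decide +kernel)

theorem rep_S1 : Rep (gS1 : Equiv.Perm GolayPt) cS1 := rep_gOf _ _
theorem rep_G2 : Rep (gG2 : Equiv.Perm GolayPt) cG2 := rep_gOf _ _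
theorem rep_S2 : Rep (gS2 : Equiv.Perm GolayPt) cS2 := rep_gOf _ _
theorem rep_Z3 : Rep (gZ3 : Equiv.Perm GolayPt) cZ3 := rep_gOf _ _
theorem rep_H : Rep (gH : Equiv.Perm GolayPt) cH := rep_gOf _ _

theorem rep_S1i : Rep ((gS1 : Equiv.Perm GolayPt)⁻¹) cS1i := Rep.inv rep_S1 (by decide +kernel)
theorem rep_G2i : Rep ((gG2 : Equiv.Perm GolayPt)⁻¹) cG2i := Rep.inv rep_G2 (by decide +kernel)
theorem rep_S2i : Rep ((gS2 : Equiv.Perm GolayPt)⁻¹) cS2i := Rep.inv rep_S2 (by decide +kernel)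
theorem rep_Z3i : Rep ((gZ3 : Equiv.Perm GolayPt)⁻¹) cZ3i := Rep.inv rep_Z3 (by decide +kernel)
theorem rep_Hi : Rep ((gH : Equiv.Perm GolayPt)⁻¹) cHi := Rep.inv rep_H (by decide +kernel)

theorem reps {a b : ↥M23} {ca cai cb cbi : ℕ} (h0 : Rep (a : Equiv.Perm GolayPt) ca)
    (h1 : Rep ((a : Equiv.Perm GolayPt)⁻¹) cai) (h2 : Rep (b : Equiv.Perm GolayPt) cb)
    (h3 : Rep ((b : Equiv.Perm GolayPt)⁻¹) cbi) :
    ∀ l, l < 2 * 2 → Rep (lett (cf (pick a b)) l) (c4 ca cai cb cbi l) := by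
  intro l hl
  have hl' : l < 4 := hl
  interval_cases l
  · show Rep (lett (cf (pick a b)) (2 * 0)) ca
    rw [lett_even]
    exact h0
  · show Rep (lett (cf (pick a b)) (2 * 0 + 1)) cai
    rw [lett_odd]
    exact h1
  · show Rep (lett (cf (pick a b)) (2 * 1)) cb
    rw [lett_even]
    exact h2
  · show Rep (lett (cf (pick a b)) (2 * 1 + 1)) cbi
    rw [lett_odd]
    exact h3

theorem hs1 : ∀ l, l < 2 * 2 → Rep (lett (cf (pick gS1 gG2)) l) (cL1 l) := reps rep_S1 rep_S1i rep_G2 rep_G2i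
theorem hs2 : ∀ l, l < 2 * 2 → Rep (lett (cf (pick gS1 gS2)) l) (cL2 l) := reps rep_S1 rep_S1i rep_S2 rep_S2i
theorem hk2 : ∀ l, l < 2 * 2 → Rep (lett (cf (pick gS1 gZ3)) l) (kL2 l) := reps rep_S1 rep_S1i rep_Z3 rep_Z3i

theorem lvl1_rel : (∀ j, j < 60 → ∀ l ∈ rels1 j, l < 2 * 2) ∧ ∀ j, j < 60 → evW (pick gS1 gG2) (rels1 j) = 1 :=
  level_rel hs1 (fun j hj => of_allV rel1_chk j hj)

theorem lvl2_rel : (∀ j, j < 41 → ∀ l ∈ rels2 j, l < 2 * 2) ∧ ∀ j, j < 41 → evW (pick gS1 gS2) (rels2 j) = 1 :=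
  level_rel hs2 (fun j hj => of_allV rel2_chk j hj)

theorem lvl1_edge : ∀ c, c < 506 → ∀ i, i < 2 →
    tOf (pick gS1 gG2) par1 c * pick gS1 gG2 i * (tOf (pick gS1 gG2) par1 (T1 c (2 * i)))⁻¹ =
      evW (pick gS1 gS2) (Wv1 (2 * c + i)) :=
  level_edge hs1 hs2 tab1 (fun c hc => of_allV tp1_chk c hc) (fun e he => of_allV edge1_chk e (by omega))

theorem lvl2_edge : ∀ c, c < 960 → ∀ i, i < 2 →
    tOf (pick gS1 gS2) par2 c * pick gS1 gS2 i * (tOf (pick gS1 gS2) par2 (T2 c (2 * i)))⁻¹ =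
      evW (pick gS1 gZ3) (Wv2 (2 * c + i)) :=
  level_edge hs2 hk2 tab2 (fun c hc => of_allV tp2_chk c hc) (fun e he => of_allV edge2_chk e (by omega))

/-- Generation of the group. -/
theorem gen1 : Subgroup.closure (pick gS1 gG2 '' Set.Iio 2) = ⊤ := by
  apply closure_eq_top
  have hw : ∀ w : List ℕ, evW (pick gS1 gG2) w ∈ Subgroup.closure (pick gS1 gG2 '' Set.Iio 2) := by
    intro w
    induction w with
    | nil => exact Subgroup.one_mem _
    | cons l w ih =>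
      refine Subgroup.mul_mem _ ?_ ih
      have hg : ∀ i, pick gS1 gG2 i ∈ Subgroup.closure (pick gS1 gG2 '' Set.Iio 2) := by
        intro i
        cases i with
        | zero => exact Subgroup.subset_closure ⟨0, by simp, rfl⟩
        | succ i => exact Subgroup.subset_closure ⟨1, by simp, rfl⟩
      unfold lett
      split_ifs
      · exact hg _
      · exact Subgroup.inv_mem _ (hg _)
  have hr : ∀ (w : List ℕ) (c : ℕ) (g : Equiv.Perm GolayPt), (∀ l ∈ w, l < 2 * 2) → Rep g c →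
      eqC (wordC cL1 w) c = true → g ∈ (Subgroup.closure (pick gS1 gG2 '' Set.Iio 2)).map M23.subtype := by
    intro w c g h1 h2 h3
    refine ⟨evW (pick gS1 gG2) w, hw w, ?_⟩
    have e1 : ((evW (pick gS1 gG2) w : ↥M23) : Equiv.Perm GolayPt) = evW (cf (pick gS1 gG2)) w :=
      map_evW M23.subtype _ w
    show ((evW (pick gS1 gG2) w : ↥M23) : Equiv.Perm GolayPt) = g
    rw [e1]
    exact eq_of_eqC (rep_evW (m := 2) hs1 w h1) h2 h3
  apply Cfsg.Agent.S2037.sift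
  · rintro _ ⟨y, _, rfl⟩
    exact Cfsg.Agent.S2037.M23_le_M24 y.2
  · exact hr wA _ _ (by decide +kernel) Cfsg.Agent.S2037.rep_a (by decide +kernel)
  · exact hr wB _ _ (by decide +kernel) Cfsg.Agent.S2037.rep_b (by decide +kernel)

theorem eq_of_rep {a b : ↥M23} {c d : ℕ} (h1 : Rep (a : Equiv.Perm GolayPt) c) (h2 : Rep (b : Equiv.Perm GolayPt) d)
    (h : eqC c d = true) : a = b :=
  Subtype.ext (eq_of_eqC h1 h2 h)

theorem rep_one' : Rep ((1 : ↥M23) : Equiv.Perm GolayPt) idC := rep_one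

theorem rep_mul' {a b : ↥M23} {c d : ℕ} (h1 : Rep (a : Equiv.Perm GolayPt) c) (h2 : Rep (b : Equiv.Perm GolayPt) d) :
    Rep ((a * b : ↥M23) : Equiv.Perm GolayPt) (comp c d) := h1.mul h2

theorem s1_pow : gS1 ^ 7 = 1 := by
  have h := rep_mul' rep_S1 (rep_mul' rep_S1 (rep_mul' rep_S1 (rep_mul' rep_S1 (rep_mul' rep_S1 (rep_mul' rep_S1 rep_S1)))))
  have e : gS1 * (gS1 * (gS1 * (gS1 * (gS1 * (gS1 * gS1))))) = 1 := eq_of_rep h rep_one' (by decide +kernel)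
  rw [← e]
  simp only [pow_succ, pow_zero, one_mul, mul_assoc]

theorem z3_pow : gZ3 ^ 3 = 1 := by
  have h := rep_mul' rep_Z3 (rep_mul' rep_Z3 rep_Z3)
  have e : gZ3 * (gZ3 * gZ3) = 1 := eq_of_rep h rep_one' (by decide +kernel)
  rw [← e]
  simp only [pow_succ, pow_zero, one_mul, mul_assoc]

theorem s1_ne : gS1 ≠ 1 := by
  intro h
  have h1 : Rep ((1 : ↥M23) : Equiv.Perm GolayPt) cS1 := h ▸ rep_S1
  have := eqC_of_eq h1 rep_one'
  exact absurd this (by decide +kernel)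

theorem z3_ne : gZ3 ≠ 1 := by
  intro h
  have h1 : Rep ((1 : ↥M23) : Equiv.Perm GolayPt) cZ3 := h ▸ rep_Z3
  have := eqC_of_eq h1 rep_one'
  exact absurd this (by decide +kernel)

theorem z3_s1 : gZ3 * gS1 * gZ3⁻¹ = gS1 ^ 2 := by
  have h1 : Rep ((gZ3⁻¹ : ↥M23) : Equiv.Perm GolayPt) cZ3i := rep_Z3i
  have h := rep_mul' (rep_mul' rep_Z3 rep_S1) h1
  have h2 := rep_mul' rep_S1 rep_S1
  have e : gZ3 * gS1 * gZ3⁻¹ = gS1 * gS1 := eq_of_rep h h2 (by decide +kernel)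
  rw [e, pow_two]

theorem card_K0 : Nat.card ↥(Subgroup.closure (pick gS1 gZ3 '' Set.Iio 2)) = 21 :=
  card_7_3 s1_pow z3_pow s1_ne z3_ne z3_s1

theorem h_conj : gH * evW (pick gS1 gS2) w00 * gH⁻¹ = gS2 := by
  have h1 : Rep ((gH⁻¹ : ↥M23) : Equiv.Perm GolayPt) cHi := rep_Hi
  have h2 : Rep ((evW (pick gS1 gS2) w00 : ↥M23) : Equiv.Perm GolayPt) (wordC cL2 w00) := by
    have e1 : ((evW (pick gS1 gS2) w00 : ↥M23) : Equiv.Perm GolayPt) = evW (cf (pick gS1 gS2)) w00 :=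
      map_evW M23.subtype _ w00
    rw [e1]
    exact rep_evW (m := 2) hs2 w00 (by decide +kernel)
  exact eq_of_rep (rep_mul' (rep_mul' rep_H h2) h1) rep_S2 (by decide +kernel)

/-! ### The lower bound for the octad stabiliser -/

/-- The trivial coordinates. -/
theorem crd_bot {Γ : Type*} [Group Γ] : Crd (⊥ : Subgroup Γ) (fun _ : Γ => (0 : V11)) where
  nrm := by
    intro a ha g
    rw [Subgroup.mem_bot] at ha ⊢
    rw [ha]
    simp
  add := fun _ _ _ _ => by simp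
  inj := fun a ha _ => Subgroup.mem_bot.mp ha
  two := fun v => z2_add_self_pi v

end Cfsg.Agent.Lib.TwM23Run
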