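import Mathlib
import Cfsg.Agent.Lib.TwM23Run

/-!
# The chain for the group `M₂₃`: complements
-/

set_option autoImplicit false
set_option maxRecDepth 100000

namespace Cfsg.Agent.Lib.TwM23Step

open Cfsg Cfsg.Spor Cfsg.Agent.Lib.SchurCoset46 Cfsg.Agent.Lib.TwCoset Cfsg.Agent.Lib.TwSolve
  Cfsg.Agent.Lib.TwLevel Cfsg.Agent.Lib.TwChain Cfsg.Agent.Lib.TwM23G Cfsg.Agent.Lib.TwM23Run

universe u

/-- The order of the octad stabiliser is large enough. -/
theorem card_K2 : 20160 ≤ Nat.card ↥(Subgroup.closure (pick gS1 gS2 '' Set.Iio 2)) := by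
  set K₂ := Subgroup.closure (pick gS1 gS2 '' Set.Iio 2) with hK₂
  have hz : ∀ i, pick gS1 gS2 i ∈ K₂ := by
    intro i
    cases i with
    | zero => exact Subgroup.subset_closure ⟨0, by simp, rfl⟩
    | succ i => exact Subgroup.subset_closure ⟨1, by simp, rfl⟩
  have Y : Sys (⊥ : Subgroup ↥M23) (fun _ : ↥M23 => (0 : V11)) K₂ 506 2 T1 par1 (pick gS1 gG2)
      (fun c i => evW (pick gS1 gS2) (Wv1 (2 * c + i))) (fun _ v => v) := by
    refine ⟨crd_bot, tab1, ?_, fun c _ i _ => evW_mem hz _, ?_, ?_, fun _ _ _ => rfl⟩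
    · intro a _ ha
      exact Subgroup.mem_bot.mp ha
    · intro c hc i hi
      have h := lvl1_edge c hc i hi
      rw [Subgroup.mem_bot, nn, ee, h, mul_inv_cancel]
    · intro l a ha
      rfl
  have h := card_closure_le Y (fun c _ i _ => by simp [Phi])
  rw [gen1] at h
  have h1 : Nat.card ↥(⊤ : Subgroup ↥M23) = 10200960 := by
    rw [Nat.card_congr Subgroup.topEquiv.toEquiv]
    exact Cfsg.Agent.S2037.card_M23
  rw [h1] at h
  omega

variable {E : Type u} [Group E]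

/-- A subgroup with the right order on which a homomorphism has the right image meets the kernel trivially. -/
theorem inj_of_card {G : Type*} [Group G] [Finite E] {π : E →* G} {H : Subgroup E} {K : Subgroup G} (hm : H.map π = K)
    (hc : Nat.card ↥H ≤ Nat.card ↥K) : ∀ a ∈ H, π a = 1 → a = 1 := by
  classical
  let f : ↥H → ↥K := fun a => ⟨π a, by rw [← hm]; exact ⟨a, a.2, rfl⟩⟩
  have hf : Function.Surjective f := by
    rintro ⟨k, hk⟩
    rw [← hm] at hk
    obtain ⟨a, ha, rfl⟩ := hk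
    exact ⟨⟨a, ha⟩, rfl⟩
  have : Finite ↥K := Finite.of_surjective f hf
  have hb := hf.bijective_of_nat_card_le hc
  intro a ha h1
  have := hb.1 (a₁ := ⟨a, ha⟩) (a₂ := 1) (Subtype.ext (by simpa [f] using h1))
  exact congrArg Subtype.val this

/-- The context. -/
structure Ctx (π : E →* ↥M23) (N : Subgroup E) (φ : E → V11) : Prop where
  surj : Function.Surjective π
  hN : ∀ a, a ∈ N ↔ π a = 1
  C : Crd N φ
  hsurj : ∀ v : V11, ∃ u ∈ N, φ u = v
  card : Nat.card ↥N = 2048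

theorem xg_image (x₀ x₁ u : E) : xg x₀ x₁ u '' Set.Iio 2 = pick x₀ (x₁ * u) '' Set.Iio 2 := by
  apply Set.image_congr
  intro i hi
  have hi' : i < 2 := hi
  interval_cases i
  · simp [xg]
  · simp [xg]

theorem map_closure_pick {G : Type*} [Group G] (π : E →* G) {a b : E} {a' b' : G} (ha : π a = a') (hb : π b = b') :
    (Subgroup.closure (pick a b '' Set.Iio 2)).map π = Subgroup.closure (pick a' b' '' Set.Iio 2) := by
  rw [MonoidHom.map_closure, Set.image_image]
  congr 2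
  funext i
  subst ha hb
  cases i <;> rfl

variable {π : E →* ↥M23} {N : Subgroup E} {φ : E → V11}

/-- The second level of the chain: a complement over the subgroup of order `20160`. -/
theorem chain2 [Finite E] (X : Ctx π N φ) {L : LD} (hL : L.Ok) (hn : L.n = 960) (hR : L.R = 41) (hT : L.T = T2)
    (hpar : L.par = par2) (hrels : L.rels = rels2) {τ : R11} {Mh : TwSolve.M11} {rr : ℕ → ℕ × ℕ}
    (hB : ∀ q, L.Rel q = relF L.n 2 L.R L.NV L.T L.Af L.rels L.val rr q ∨
      L.Rel q = extForm τ Mh (L.val (960 * 2 + 40)) (L.val (960 * 2 + 0)))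
    (hcov : ∀ b, b < L.W → L.J.testBit b = true → ∃ k, k < L.K ∧ L.pb k = b)
    (hact : ∀ l, Acts π φ N (lett (pick gS1 gS2) l) (L.A l))
    (hH : Acts π φ N gH Mh)
    (hτ : ∀ v, mulR τ (mA (L.A 3) v) = mulR τ v) :
    ∃ z₀ z₁, π z₀ = gS1 ∧ π z₁ = gS2 ∧
      (∀ a ∈ Subgroup.closure (pick z₀ z₁ '' Set.Iio 2), a ∈ N → a = 1) ∧
      Nat.card ↥(Subgroup.closure (pick z₀ z₁ '' Set.Iio 2)) ≤ 20160 := by
  classical
  have hK0 : Nat.card ↥(Subgroup.closure (pick gS1 gZ3 '' Set.Iio 2)) = 21 := card_K0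
  obtain ⟨S₀, hS₀N, hS₀lift, hS₀card⟩ := exists_S0 π X.surj X.hN (Subgroup.closure (pick gS1 gZ3 '' Set.Iio 2))
    (by rw [X.card, hK0]; norm_num)
  obtain ⟨a₀, ha₀, ea₀⟩ := hS₀lift gS1 (Subgroup.subset_closure ⟨0, by simp, rfl⟩)
  obtain ⟨a₁, ha₁, ea₁⟩ := hS₀lift gZ3 (Subgroup.subset_closure ⟨1, by simp, rfl⟩)
  obtain ⟨x₁, hx₁⟩ := X.surj gS2
  have hx : ∀ i, π (pick a₀ x₁ i) = pick gS1 gS2 i := by
    intro i
    cases i
    · exact ea₀
    · exact hx₁
  have Y0 : Sys N φ S₀ L.n 2 L.T L.par (pick a₀ x₁) (fun c i => evW (pick a₀ a₁) (Wv2 (2 * c + i)))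
      (fun l => mA (L.A l)) := by
    refine sys_of_words π X.hN X.C hL.tab hS₀N hx (k := pick gS1 gZ3) ?_ ?_ ?_ hact
    · intro i
      cases i
      · exact ha₀
      · exact ha₁
    · intro i
      cases i
      · exact ea₀
      · exact ea₁
    · intro c hc i hi
      rw [hT, hpar]
      rw [hn] at hc
      exact lvl2_edge c hc i hi
  obtain ⟨u, hu, Y, hpiv⟩ := level_gauge hL Y0 X.hsurj
  have hx' : ∀ i, π (xg a₀ x₁ u i) = pick gS1 gS2 i := by
    intro i
    rw [map_xg π X.hN hu, ea₀, hx₁]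
  have hfx : (fun i => π (xg a₀ x₁ u i)) = pick gS1 gS2 := funext hx'
  have hπw : ∀ w : List ℕ, π (evW (xg a₀ x₁ u) w) = evW (pick gS1 gS2) w := by
    intro w
    rw [map_evW, hfx]
  have hNr : ∀ j, j < L.R → evW (xg a₀ x₁ u) (L.rels j) ∈ N := by
    intro j hj
    rw [X.hN, hπw, hrels]
    rw [hR] at hj
    exact lvl2_rel.2 j hj
  have h0 := level_zero hL Y X.hsurj hNr (by rw [xg_zero]; exact ha₀) ?_ ?_
  · refine ⟨a₀, x₁ * u, ea₀, ?_, ?_, ?_⟩
    · rw [map_mul, (X.hN u).1 hu, mul_one, hx₁]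
    · have hcard := card_closure_le Y h0
      have hm : (Subgroup.closure (pick a₀ (x₁ * u) '' Set.Iio 2)).map π = Subgroup.closure (pick gS1 gS2 '' Set.Iio 2) :=
        map_closure_pick π ea₀ (by rw [map_mul, (X.hN u).1 hu, mul_one, hx₁])
      rw [xg_image, hn] at hcard
      have h21 : Nat.card ↥S₀ ≤ 21 := hK0 ▸ hS₀card
      have h2 : Nat.card ↥(Subgroup.closure (pick a₀ (x₁ * u) '' Set.Iio 2)) ≤ Nat.card ↥(Subgroup.closure (pick gS1 gS2 '' Set.Iio 2)) := by
        have := card_K2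
        omega
      intro a ha han
      exact inj_of_card hm h2 a ha ((X.hN a).1 han)
    · have hcard := card_closure_le Y h0
      rw [xg_image, hn] at hcard
      have h21 : Nat.card ↥S₀ ≤ 21 := hK0 ▸ hS₀card
      omega
  · -- the relations
    intro hF q
    rcases hB q with e | e
    · rw [e]
      refine relF_zero hL.hAf hF hL.hNV ?_ q
      intro j hj c hc hcl
      exact hrow_Fv Y hL.hlet hNr hj hc hcl
    · rw [e]
      apply sem_extForm
      have hNV : L.n * 2 + L.R ≤ L.NV := hL.hNV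
      have e40 := hF (960 * 2 + 40) (by rw [hn, hR] at hNV; omega)
      have e0 := hF (960 * 2 + 0) (by rw [hn, hR] at hNV; omega)
      rw [← e40, ← e0]
      have hv : ∀ j, j < 41 → Fv L.n 2 L.T L.par (xg a₀ x₁ u) (fun c i => evW (pick a₀ a₁) (Wv2 (2 * c + i))) φ L.rels (960 * 2 + j) =
          φ (evW (xg a₀ x₁ u) (rels2 j)) := by
        intro j hj
        rw [Fv, hn, hrels, if_neg (by omega)]
        congr 3
        omega
      rw [hv 40 (by norm_num), hv 0 (by norm_num), rels2_j12, rels2_j2, evW_append]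
      have hlet3 : (xg a₀ x₁ u 1)⁻¹ = lett (xg a₀ x₁ u) 3 := (lett_odd _ 1).symm
      have hc2 : evW (xg a₀ x₁ u) [2, 2] = xg a₀ x₁ u 1 * xg a₀ x₁ u 1 := by
        have : lett (xg a₀ x₁ u) 2 = xg a₀ x₁ u 1 := lett_even _ 1
        simp [evW, this]
      rw [hc2]
      obtain ⟨h', hh'⟩ := X.surj gH
      refine fusion_eq (h := h') π X.hN X.C ?_ ?_ (hH h' hh') ?_ ?_ hτ
      · rw [map_mul, map_mul, map_inv, hh', hπw, h_conj, hx']
        rfl
      · rw [X.hN, map_mul, hπw, ← evW_append, ← rels2_j12]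
        exact lvl2_rel.2 40 (by norm_num)
      · intro b hb
        have h3 := hact 3 (xg a₀ x₁ u 1)⁻¹ (by
          rw [map_inv, hx']
          exact (lett_odd _ 1).symm) b hb
        simpa using h3
      · rw [X.hN, map_mul, hx']
        have h4 := lvl2_rel.2 0 (by norm_num)
        rw [rels2_j2] at h4
        have : lett (pick gS1 gS2) 2 = pick gS1 gS2 1 := lett_even _ 1
        simpa [evW, this] using h4
  · intro b hb hJ
    obtain ⟨k, hk, rfl⟩ := hcov b hb hJ
    exact hpiv k hk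

/-- The first level of the chain: the system and the gauge. -/
theorem chain1 [Finite E] (X : Ctx π N φ) {L : LD} (hL : L.Ok) (hn : L.n = 506) (hR : L.R = 60) (hT : L.T = T1)
    (hpar : L.par = par1) (hrels : L.rels = rels1)
    (hact : ∀ l, Acts π φ N (lett (pick gS1 gG2) l) (L.A l))
    {z₀ z₁ : E} (hz₀ : π z₀ = gS1) (hz₁ : π z₁ = gS2)
    (hSN : ∀ a ∈ Subgroup.closure (pick z₀ z₁ '' Set.Iio 2), a ∈ N → a = 1) :
    ∃ x : ℕ → E, (∀ i, π (x i) = pick gS1 gG2 i) ∧ x 0 = z₀ ∧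
      Sys N φ (Subgroup.closure (pick z₀ z₁ '' Set.Iio 2)) L.n 2 L.T L.par x
        (fun c i => evW (pick z₀ z₁) (Wv1 (2 * c + i))) (fun l => mA (L.A l)) ∧
      ∀ k, k < L.K → Pv L.pr (Fv L.n 2 L.T L.par x (fun c i => evW (pick z₀ z₁) (Wv1 (2 * c + i))) φ L.rels) (L.pb k) = 0 := by
  classical
  obtain ⟨x₁, hx₁⟩ := X.surj gG2
  have hx : ∀ i, π (pick z₀ x₁ i) = pick gS1 gG2 i := by
    intro i
    cases i
    · exact hz₀
    · exact hx₁
  have Y0 : Sys N φ (Subgroup.closure (pick z₀ z₁ '' Set.Iio 2)) L.n 2 L.T L.par (pick z₀ x₁)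
      (fun c i => evW (pick z₀ z₁) (Wv1 (2 * c + i))) (fun l => mA (L.A l)) := by
    refine sys_of_words π X.hN X.C hL.tab hSN hx (k := pick gS1 gS2) ?_ ?_ ?_ hact
    · intro i
      cases i with
      | zero => exact Subgroup.subset_closure ⟨0, by simp, rfl⟩
      | succ i => exact Subgroup.subset_closure ⟨1, by simp, rfl⟩
    · intro i
      cases i
      · exact hz₀
      · exact hz₁
    · intro c hc i hi
      rw [hT, hpar]
      rw [hn] at hc
      exact lvl1_edge c hc i hi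
  obtain ⟨u, hu, Y, hpiv⟩ := level_gauge hL Y0 X.hsurj
  refine ⟨xg z₀ x₁ u, ?_, xg_zero _ _ _, Y, hpiv⟩
  intro i
  rw [map_xg π X.hN hu, hz₀, hx₁]

/-- A complement from a system with vanishing edges. -/
theorem complement_of_edges [Finite E] (X : Ctx π N φ) {x : ℕ → E} (hx : ∀ i, π (x i) = pick gS1 gG2 i)
    {S : Subgroup E} {y : ℕ → ℕ → E} {A : ℕ → V11 → V11}
    (Y : Sys N φ S 506 2 T1 par1 x y A) (hS : Nat.card ↥S ≤ 20160)
    (h0 : ∀ c, c < 506 → ∀ i, i < 2 → Phi T1 par1 x y φ c i = 0) :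
    ∃ H : Subgroup E, H ⊓ N = ⊥ ∧ H ⊔ N = ⊤ := by
  classical
  have hcard := card_closure_le Y h0
  set H := Subgroup.closure (x '' Set.Iio 2) with hH
  have hm : H.map π = ⊤ := by
    rw [hH, MonoidHom.map_closure, Set.image_image, ← gen1]
    apply congrArg
    apply Set.image_congr
    intro i _
    exact hx i
  have h1 : Nat.card ↥(⊤ : Subgroup ↥M23) = 10200960 := by
    rw [Nat.card_congr Subgroup.topEquiv.toEquiv]
    exact Cfsg.Agent.S2037.card_M23
  have h2 : Nat.card ↥H ≤ Nat.card ↥(⊤ : Subgroup ↥M23) := by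
    rw [h1]
    omega
  have hinj := inj_of_card hm h2
  refine ⟨H, ?_, ?_⟩
  · rw [eq_bot_iff]
    rintro a ⟨h3, h4⟩
    exact Subgroup.mem_bot.mpr (hinj a h3 ((X.hN a).1 h4))
  · rw [eq_top_iff]
    intro e _
    have h3 : π e ∈ H.map π := by rw [hm]; trivial
    obtain ⟨w, hw, e1⟩ := h3
    have h4 : w⁻¹ * e ∈ N := by
      rw [X.hN, map_mul, map_inv, e1]
      simp
    have h5 : e = w * (w⁻¹ * e) := by group
    rw [h5]
    exact Subgroup.mul_mem_sup hw h4

end Cfsg.Agent.Lib.TwM23Step
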