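import Mathlib
import Cfsg.Agent.Lib.TwM23Step
import Cfsg.Agent.Lib.M23Cocode

/-!
# Coordinates on the code module and on the cocode module of `M₂₃`
-/

set_option autoImplicit false
set_option maxRecDepth 100000

namespace Cfsg.Agent.Lib.TwM23Mode

open Cfsg Cfsg.Spor Cfsg.Agent.Lib.Golay Cfsg.Agent.Lib.GolaySift Cfsg.Agent.Lib.M23Cocode
  Cfsg.Agent.Lib.TwCoset Cfsg.Agent.Lib.TwSolve Cfsg.Agent.Lib.TwChain Cfsg.Agent.Lib.TwM23Step

universe u

theorem bk_apply {j : ℕ} (hj : j < 11) (p : GolayPt) :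
    (cw (2 ^ j)).1 p = if (wm (2 ^ j)).testBit (idx p) = true then 1 else 0 := by
  rw [cw_val (bk_lt hj)]
  rfl

theorem bk_pt {j t : ℕ} (hj : j < 11) (ht : t < 11) : (cw (2 ^ j)).1 (pt t) = if j = t then 1 else 0 := by
  rw [bk_apply hj, idx_pt (by omega), bk_chk j hj t ht]
  by_cases h : j = t <;> simp [h]

/-- An additive function on the code words vanishing at the extra point, in terms of a basis. -/
theorem expand_gen (H : ↥Cinf → ZMod 2) (hadd : ∀ c d, H (c + d) = H c + H d) (c : ↥Cinf) :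
    H c = ∑ j : Fin 11, c.1 (pt j.1) * H (cw (2 ^ j.1)) := by
  have h := add_ext (fun c => H c + ∑ j : Fin 11, c.1 (pt j.1) * H (cw (2 ^ j.1))) ?_ ?_ c
  · have h2 := z2_add_self (∑ j : Fin 11, c.1 (pt j.1) * H (cw (2 ^ j.1)))
    have h3 : H c + ∑ j : Fin 11, c.1 (pt j.1) * H (cw (2 ^ j.1)) = 0 := h
    calc H c = H c + (∑ j : Fin 11, c.1 (pt j.1) * H (cw (2 ^ j.1)) + ∑ j : Fin 11, c.1 (pt j.1) * H (cw (2 ^ j.1))) := by
          rw [h2, add_zero]
      _ = ∑ j : Fin 11, c.1 (pt j.1) * H (cw (2 ^ j.1)) := by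
          rw [← add_assoc, h3, zero_add]
  · intro c d
    have h1 : ∑ j : Fin 11, (c + d).1 (pt j.1) * H (cw (2 ^ j.1)) =
        ∑ j : Fin 11, c.1 (pt j.1) * H (cw (2 ^ j.1)) + ∑ j : Fin 11, d.1 (pt j.1) * H (cw (2 ^ j.1)) := by
      rw [← Finset.sum_add_distrib]
      apply Finset.sum_congr rfl
      intro j _
      have : (c + d).1 (pt j.1) = c.1 (pt j.1) + d.1 (pt j.1) := rfl
      rw [this, add_mul]
    show H (c + d) + ∑ j : Fin 11, (c + d).1 (pt j.1) * H (cw (2 ^ j.1)) = _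
    rw [hadd, h1]
    ring
  · intro k hk
    show H (cw (2 ^ k)) + ∑ j : Fin 11, (cw (2 ^ k)).1 (pt j.1) * H (cw (2 ^ j.1)) = 0
    rw [Finset.sum_eq_single (⟨k, hk⟩ : Fin 11)]
    · rw [bk_pt hk hk, if_pos rfl, one_mul]
      exact z2_add_self _
    · intro j _ hj
      have hj' : k ≠ j.1 := fun e => hj (Fin.ext e.symm)
      rw [bk_pt hk j.2, if_neg hj', zero_mul]
    · intro h
      exact absurd (Finset.mem_univ _) h

/-- The coordinates of a code word vanishing at the extra point determine it. -/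
theorem expand (c : ↥Cinf) (p : GolayPt) : c.1 p = ∑ j : Fin 11, c.1 (pt j.1) * (cw (2 ^ j.1)).1 p :=
  expand_gen (fun c => c.1 p) (fun _ _ => rfl) c

/-- The order of the normal subgroup from the coordinates. -/
theorem card_of_crd {E : Type u} [Group E] {N : Subgroup E} {φ : E → V11} (C : Crd N φ)
    (hs : ∀ v : V11, ∃ u ∈ N, φ u = v) : Nat.card ↥N = 2048 := by
  have hb : Function.Bijective (fun a : ↥N => φ a.1) := by
    constructor
    · intro a b h
      have h1 : φ (a.1 * b.1⁻¹) = 0 := by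
        rw [C.add _ a.2 _ (N.inv_mem b.2), C.map_inv b.2]
        have h' : φ a.1 = φ b.1 := h
        rw [h']
        exact C.two _
      have h2 := C.inj _ (N.mul_mem a.2 (N.inv_mem b.2)) h1
      exact Subtype.ext (mul_inv_eq_one.mp h2)
    · intro v
      obtain ⟨u, hu, e⟩ := hs v
      exact ⟨⟨u, hu⟩, e⟩
  rw [Nat.card_congr (Equiv.ofBijective _ hb)]
  simp [V11, Nat.card_eq_fintype_card, ZMod.card]

/-- The invariance of a row of a matrix from a test. -/
theorem mulR_inv_of_chk {τ : R11} {M : TwSolve.M11} (h : selR τ (actF M TwLevel.idF) = selR τ TwLevel.idF) (v : V11) :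
    mulR τ (mA M v) = mulR τ v := by
  have h1 := evB_selR (TwLevel.yb v) 11 τ (actF M TwLevel.idF)
  have h2 := evB_selR (TwLevel.yb v) 11 τ TwLevel.idF
  rw [TwLevel.sem_idF] at h2
  rw [sem_act, TwLevel.sem_idF] at h1
  rw [← h1, ← h2, h]

section Ext

variable {E : Type u} [Group E] {N : Subgroup E} [hN : N.Normal]

/-- The map to the group. -/
def piOf (f : E ⧸ N ≃* ↥M23) : E →* ↥M23 := f.toMonoidHom.comp (QuotientGroup.mk' N)

theorem piOf_apply (f : E ⧸ N ≃* ↥M23) (e : E) : piOf f e = f (QuotientGroup.mk e) := rfl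

theorem piOf_surj (f : E ⧸ N ≃* ↥M23) : Function.Surjective (piOf f) :=
  f.surjective.comp (QuotientGroup.mk'_surjective N)

theorem piOf_mem (f : E ⧸ N ≃* ↥M23) (a : E) : a ∈ N ↔ piOf f a = 1 := by
  rw [piOf_apply, map_eq_one_iff f f.injective, QuotientGroup.eq_one_iff]

/-! ### The code module -/

open Classical in
/-- The coordinates on the code module. -/
noncomputable def crdV (ψ : Additive ↥N →+ (GolayPt → ZMod 2)) (g : E) : V11 :=
  if h : g ∈ N then fun t => ψ (Additive.ofMul ⟨g, h⟩) (pt t.1) else 0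

theorem crdV_of_mem (ψ : Additive ↥N →+ (GolayPt → ZMod 2)) {a : E} (ha : a ∈ N) :
    crdV ψ a = fun t => ψ (Additive.ofMul ⟨a, ha⟩) (pt t.1) := dif_pos ha

variable {ψ : Additive ↥N →+ (GolayPt → ZMod 2)}

theorem ctxV (f : E ⧸ N ≃* ↥M23) (hinj : Function.Injective ψ)
    (hrange : ∀ w : GolayPt → ZMod 2, w ∈ Set.range ψ ↔ (w ∈ golayCode ∧ w none = 0)) :
    Ctx (piOf f) N (crdV ψ) := by
  have C : Crd N (crdV ψ) := by
    refine ⟨fun a ha g => hN.conj_mem a ha g, ?_, ?_, fun v => z2_add_self_pi v⟩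
    · intro a ha b hb
      rw [crdV_of_mem ψ ha, crdV_of_mem ψ hb, crdV_of_mem ψ (N.mul_mem ha hb)]
      funext t
      have e : (⟨a * b, N.mul_mem ha hb⟩ : ↥N) = ⟨a, ha⟩ * ⟨b, hb⟩ := rfl
      rw [e, ofMul_mul, map_add]
      rfl
    · intro a ha h
      rw [crdV_of_mem ψ ha] at h
      have h0 : ∀ t : Fin 11, ψ (Additive.ofMul ⟨a, ha⟩) (pt t.1) = 0 := fun t => congrFun h t
      let c : ↥Cinf := ⟨ψ (Additive.ofMul ⟨a, ha⟩), (hrange _).1 ⟨_, rfl⟩⟩
      have h1 : ψ (Additive.ofMul ⟨a, ha⟩) = 0 := by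
        funext p
        have h2 := expand c p
        have h3 : ∀ j : Fin 11, c.1 (pt j.1) * (cw (2 ^ j.1)).1 p = 0 := by
          intro j
          show ψ (Additive.ofMul ⟨a, ha⟩) (pt j.1) * _ = 0
          rw [h0 j, zero_mul]
        rw [Finset.sum_congr rfl (fun j _ => h3 j)] at h2
        simpa using h2
      have h2 := hinj (h1.trans (map_zero ψ).symm)
      have h3 : (⟨a, ha⟩ : ↥N) = 1 := h2
      exact congrArg Subtype.val h3
  have hs : ∀ v : V11, ∃ u ∈ N, crdV ψ u = v := by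
    intro v
    let c : ↥Cinf := ∑ j : Fin 11, if v j = 1 then cw (2 ^ j.1) else 0
    obtain ⟨a, ha⟩ := (hrange c.1).2 c.2
    refine ⟨a.toMul.1, a.toMul.2, ?_⟩
    rw [crdV_of_mem ψ a.toMul.2]
    funext t
    have e : Additive.ofMul (⟨a.toMul.1, a.toMul.2⟩ : ↥N) = a := rfl
    rw [e, ha]
    have h1 : ∀ (s : Finset (Fin 11)) (g : Fin 11 → ↥Cinf) (p : GolayPt), (∑ j ∈ s, g j).1 p = ∑ j ∈ s, (g j).1 p := by
      intro s g p
      induction s using Finset.induction_on with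
      | empty => rfl
      | insert x s hx ih =>
        rw [Finset.sum_insert hx, Finset.sum_insert hx]
        show (g x).1 p + (∑ j ∈ s, g j).1 p = _
        rw [ih]
    show (∑ j : Fin 11, if v j = 1 then cw (2 ^ j.1) else 0).1 (pt t.1) = v t
    rw [h1, Finset.sum_eq_single t]
    · rcases zmod2_cases (v t) with h2 | h2
      · rw [h2, if_neg (by decide)]
        rfl
      · rw [h2, if_pos rfl, bk_pt t.2 t.2, if_pos rfl]
    · intro j _ hj
      have hj' : j.1 ≠ t.1 := fun e => hj (Fin.ext e)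
      by_cases h2 : v j = 1
      · rw [if_pos h2, bk_pt j.2 t.2, if_neg hj']
      · rw [if_neg h2]
        rfl
    · intro h
      exact absurd (Finset.mem_univ _) h
  exact ⟨piOf_surj f, piOf_mem f, C, hs, card_of_crd C hs⟩

theorem acts_V (f : E ⧸ N ≃* ↥M23)
    (hrange : ∀ w : GolayPt → ZMod 2, w ∈ Set.range ψ ↔ (w ∈ golayCode ∧ w none = 0))
    (hψ : ∀ (g : E) (n : ↥N),
      ψ (Additive.ofMul ⟨g * n * g⁻¹, hN.conj_mem n n.2 g⟩)
        = ψ (Additive.ofMul n) ∘ ⇑(((f (QuotientGroup.mk g) : ↥M23) : Equiv.Perm GolayPt)⁻¹))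
    {g : ↥M23} {ci : ℕ} (hc : Rep ((g : Equiv.Perm GolayPt)⁻¹) ci) {M : TwSolve.M11}
    (hM : ∀ t j : Fin 11, (M.get t).get j = Nat.testBit (wm (2 ^ j.1)) (ap ci t.1)) :
    Acts (piOf f) (crdV ψ) N g M := by
  intro e he a ha
  rw [crdV_of_mem ψ (hN.conj_mem a ha e), crdV_of_mem ψ ha]
  funext t
  have h1 := hψ e ⟨a, ha⟩
  have h2 : f (QuotientGroup.mk e) = g := he
  rw [h2] at h1
  have h3 : ψ (Additive.ofMul ⟨e * a * e⁻¹, hN.conj_mem a ha e⟩) (pt t.1) =
      ψ (Additive.ofMul ⟨a, ha⟩) (((g : Equiv.Perm GolayPt)⁻¹) (pt t.1)) := congrFun h1 (pt t.1)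
  rw [h3]
  have hidx : idx (((g : Equiv.Perm GolayPt)⁻¹) (pt t.1)) = ap ci t.1 := by
    rw [hc (pt t.1), idx_pt (by have := t.2; omega)]
  let c : ↥Cinf := ⟨ψ (Additive.ofMul ⟨a, ha⟩), (hrange _).1 ⟨_, rfl⟩⟩
  have h4 := expand c (((g : Equiv.Perm GolayPt)⁻¹) (pt t.1))
  show c.1 _ = mulR (M.get t) _
  rw [h4, mulR]
  apply Finset.sum_congr rfl
  intro j _
  rw [hM t j, bk_apply j.2, hidx]
  cases Nat.testBit (wm (2 ^ j.1)) (ap ci t.1) <;> simp <;> rfl

/-! ### The cocode module -/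

theorem dotW_of_theta {θ : (GolayPt → ZMod 2) →+ Additive ↥N}
    (hker : ∀ w : GolayPt → ZMod 2, θ w = 0 ↔ (w ∈ golayCode ∨ w + Pi.single none 1 ∈ golayCode))
    {u v : GolayPt → ZMod 2} (h : θ u = θ v) (c : ↥Cinf) : dotW u c = dotW v c := by
  have h1 : θ (u + v) = 0 := by
    rw [map_add, h, ← map_add]
    have : v + v = 0 := by
      funext p
      exact z2_add_self _
    rw [this, map_zero]
  have h2 : dotW (u + v) c = 0 := by
    rcases (hker _).1 h1 with h3 | h3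
    · exact dotW_code h3 c
    · have h4 := dotW_code h3 c
      rw [dotW_add_left, dotW_e, add_zero] at h4
      exact h4
  rw [dotW_add_left] at h2
  have h3 := z2_add_self (dotW v c)
  calc dotW u c = dotW u c + (dotW v c + dotW v c) := by rw [h3, add_zero]
    _ = dotW v c := by rw [← add_assoc, h2, zero_add]

open Classical in
/-- The coordinates on the cocode module. -/
noncomputable def crdD {θ : (GolayPt → ZMod 2) →+ Additive ↥N} (hs : Function.Surjective θ) (g : E) : V11 :=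
  if h : g ∈ N then fun k => dotW (Function.surjInv hs (Additive.ofMul ⟨g, h⟩)) (cw (2 ^ k.1)) else 0

variable {θ : (GolayPt → ZMod 2) →+ Additive ↥N}

theorem crdD_theta (hs : Function.Surjective θ)
    (hker : ∀ w : GolayPt → ZMod 2, θ w = 0 ↔ (w ∈ golayCode ∨ w + Pi.single none 1 ∈ golayCode))
    (w : GolayPt → ZMod 2) : crdD hs ((θ w).toMul : E) = fun k => dotW w (cw (2 ^ k.1)) := by
  have h := (θ w).toMul.2
  rw [crdD, dif_pos h]
  funext k
  apply dotW_of_theta hker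
  rw [Function.surjInv_eq hs]
  rfl

theorem mem_theta (hs : Function.Surjective θ) {a : E} (ha : a ∈ N) : ∃ w, ((θ w).toMul : E) = a := by
  obtain ⟨w, e⟩ := hs (Additive.ofMul ⟨a, ha⟩)
  refine ⟨w, ?_⟩
  rw [e]
  rfl

theorem dotW_single (q : GolayPt) (c : ↥Cinf) : dotW (Pi.single q 1) c = c.1 q := by
  rw [dotW, Finset.sum_eq_single q]
  · simp
  · intro p _ hp
    simp [Pi.single_apply, hp]
  · intro h
    exact absurd (Finset.mem_univ _) h

theorem dotW_sum (s : Finset (Fin 11)) (g : Fin 11 → GolayPt → ZMod 2) (c : ↥Cinf) :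
    dotW (∑ j ∈ s, g j) c = ∑ j ∈ s, dotW (g j) c := by
  induction s using Finset.induction_on with
  | empty =>
    have : dotW (0 : GolayPt → ZMod 2) c = 0 := by simp [dotW]
    simpa using this
  | insert x s hx ih =>
    rw [Finset.sum_insert hx, Finset.sum_insert hx, dotW_add_left, ih]

theorem ctxD (f : E ⧸ N ≃* ↥M23) (hs : Function.Surjective θ)
    (hker : ∀ w : GolayPt → ZMod 2, θ w = 0 ↔ (w ∈ golayCode ∨ w + Pi.single none 1 ∈ golayCode)) :
    Ctx (piOf f) N (crdD hs) := by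
  have C : Crd N (crdD hs) := by
    refine ⟨fun a ha g => hN.conj_mem a ha g, ?_, ?_, fun v => z2_add_self_pi v⟩
    · intro a ha b hb
      obtain ⟨u, rfl⟩ := mem_theta hs ha
      obtain ⟨v, rfl⟩ := mem_theta hs hb
      have e : (((θ u).toMul : E) * ((θ v).toMul : E)) = ((θ (u + v)).toMul : E) := by
        rw [map_add]
        rfl
      rw [e, crdD_theta hs hker, crdD_theta hs hker, crdD_theta hs hker]
      funext k
      exact dotW_add_left _ _ _
    · intro a ha h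
      obtain ⟨w, rfl⟩ := mem_theta hs ha
      rw [crdD_theta hs hker] at h
      have h1 : ∀ k, k < 11 → dotW w (cw (2 ^ k)) = 0 := fun k hk => congrFun h ⟨k, hk⟩
      have h2 : ∀ c, dotW w c = 0 := add_ext (dotW w) (dotW_add_right w) h1
      have h3 := (hker w).2 (ker_fwd w h2)
      rw [h3]
      rfl
  have hsv : ∀ v : V11, ∃ u ∈ N, crdD hs u = v := by
    intro v
    let w : GolayPt → ZMod 2 := ∑ j : Fin 11, if v j = 1 then Pi.single (pt j.1) 1 else 0
    refine ⟨((θ w).toMul : E), (θ w).toMul.2, ?_⟩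
    rw [crdD_theta hs hker]
    funext k
    show dotW (∑ j : Fin 11, if v j = 1 then Pi.single (pt j.1) 1 else 0) _ = v k
    rw [dotW_sum, Finset.sum_eq_single k]
    · rcases zmod2_cases (v k) with h2 | h2
      · rw [h2, if_neg (by decide)]
        simp [dotW]
      · rw [h2, if_pos rfl, dotW_single, bk_pt k.2 k.2, if_pos rfl]
    · intro j _ hj
      have hj' : k.1 ≠ j.1 := fun e => hj (Fin.ext e.symm)
      by_cases h2 : v j = 1
      · rw [if_pos h2, dotW_single, bk_pt k.2 j.2, if_neg hj']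
      · rw [if_neg h2]
        simp [dotW]
    · intro h
      exact absurd (Finset.mem_univ _) h
  exact ⟨piOf_surj f, piOf_mem f, C, hsv, card_of_crd C hsv⟩

theorem acts_D (f : E ⧸ N ≃* ↥M23) (hs : Function.Surjective θ)
    (hker : ∀ w : GolayPt → ZMod 2, θ w = 0 ↔ (w ∈ golayCode ∨ w + Pi.single none 1 ∈ golayCode))
    (hθ : ∀ (g : E) (w : GolayPt → ZMod 2),
      ((θ (w ∘ ⇑(((f (QuotientGroup.mk g) : ↥M23) : Equiv.Perm GolayPt)⁻¹))).toMul : E)
        = g * ((θ w).toMul : E) * g⁻¹)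
    {g : ↥M23} {c : ℕ} (hc : Rep (g : Equiv.Perm GolayPt) c) {M : TwSolve.M11}
    (hM : ∀ k j : Fin 11, (M.get k).get j = Nat.testBit (wm (2 ^ k.1)) (ap c j.1)) :
    Acts (piOf f) (crdD hs) N g M := by
  intro e he a ha
  obtain ⟨w, rfl⟩ := mem_theta hs ha
  rw [← hθ e w, crdD_theta hs hker, crdD_theta hs hker]
  have h2 : f (QuotientGroup.mk e) = g := he
  rw [h2]
  funext k
  show dotW (w ∘ ⇑((g : Equiv.Perm GolayPt)⁻¹)) (cw (2 ^ k.1)) = mulR (M.get k) _
  rw [dotW_comp, expand_gen (dotW w) (dotW_add_right w), mulR]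
  apply Finset.sum_congr rfl
  intro j _
  have h3 : (gact g⁻¹ (cw (2 ^ k.1))).1 (pt j.1) = (cw (2 ^ k.1)).1 ((g : Equiv.Perm GolayPt) (pt j.1)) := rfl
  rw [h3, bk_apply k.2, hc (pt j.1), idx_pt (by have := j.2; omega), hM k j]
  cases Nat.testBit (wm (2 ^ k.1)) (ap c j.1) <;> simp

end Ext

end Cfsg.Agent.Lib.TwM23Mode
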