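import Mathlib
import Cfsg.Agent.Lib.TwM23Mode

/-!
# Two extensions with the same values on the edges are isomorphic
-/

set_option autoImplicit false
set_option maxRecDepth 100000

namespace Cfsg.Agent.Lib.TwM23Iso

open Cfsg Cfsg.Spor Cfsg.Agent.Lib.SchurCoset46 Cfsg.Agent.Lib.TwCoset Cfsg.Agent.Lib.TwSolve
  Cfsg.Agent.Lib.TwLevel Cfsg.Agent.Lib.TwChain Cfsg.Agent.Lib.TwM23G Cfsg.Agent.Lib.TwM23Run
  Cfsg.Agent.Lib.TwM23Step

universe u v

/-! ### Linear algebra on the two systems -/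

theorem Hw_add {T : ℕ → ℕ → ℕ} {A : ℕ → V11 → V11} (hA : ∀ l u v, A l (u + v) = A l u + A l v)
    (Φ Ψ : ℕ → ℕ → V11) (w : List ℕ) :
    ∀ c, Hw T A (fun c i => Φ c i + Ψ c i) c w = Hw T A Φ c w + Hw T A Ψ c w := by
  induction w with
  | nil =>
    intro c
    simp [Hw_nil]
  | cons l w ih =>
    intro c
    rw [Hw_cons, Hw_cons, Hw_cons, ih]
    split_ifs
    · rw [hA]
      abel
    · rw [← hA]
      congr 1
      abel

section Two

variable {E : Type u} [Group E] {N : Subgroup E} {φ : E → V11} {S : Subgroup E} {n m : ℕ} {T : ℕ → ℕ → ℕ}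
  {par : ℕ → ℕ × ℕ} {x : ℕ → E} {y : ℕ → ℕ → E} {A : ℕ → TwSolve.M11}

theorem Fv_zero (Y : Sys N φ S n m T par x y (fun l => mA (A l))) {rels : ℕ → List ℕ} (hm : 0 < m) (hx0 : x 0 ∈ S)
    (hT00 : T 0 (2 * 0) = 0) : Fv n m T par x y φ rels 0 = 0 := by
  have hn := Y.tab.n_pos
  have h1 : phV m (Fv n m T par x y φ rels) 0 0 = Phi T par x y φ 0 0 := phV_Fv hn hm
  simp only [phV] at h1
  rw [show 0 * m + 0 = 0 by omega] at h1
  rw [h1]
  apply Phi_zero_of_mem Y hn hm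
  simp only [ee, hT00, tOf_zero]
  simpa using hx0

theorem Fv_tree (Y : Sys N φ S n m T par x y (fun l => mA (A l))) {rels : ℕ → List ℕ} {c : ℕ} (h0 : 0 < c) (hc : c < n) :
    Fv n m T par x y φ rels (treeVar m par c) = 0 := by
  have h1 := tree_zero Y hc h0
  obtain ⟨h2, h3, h4⟩ := Y.tab.par_lt c hc h0
  unfold treeVar
  by_cases h : (par c).2 % 2 = 0
  · rw [if_pos h] at h1
    rw [TwSolve.beq_of_eq h, cond_true]
    have h5 := phV_Fv (n := n) (m := m) (T := T) (par := par) (x := x) (y := y) (φ := φ) (rels := rels)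
      (c := (par c).1) (i := (par c).2 / 2) (h2.trans hc) (by omega)
    simp only [phV] at h5
    rw [h5, h1]
  · rw [if_neg h] at h1
    rw [TwSolve.beq_false_of_ne h, cond_false]
    have h5 := phV_Fv (n := n) (m := m) (T := T) (par := par) (x := x) (y := y) (φ := φ) (rels := rels)
      (c := c) (i := (par c).2 / 2) hc (by omega)
    simp only [phV] at h5
    rw [h5, h1]

end Two

/-- Two systems with the same bits in `J` have the same values on the edges. -/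
theorem edges_eq {E : Type u} [Group E] {N : Subgroup E} {φ : E → V11} {S : Subgroup E} {n m : ℕ} {T : ℕ → ℕ → ℕ}
    {par : ℕ → ℕ × ℕ} {x : ℕ → E} {y : ℕ → ℕ → E} {A : ℕ → TwSolve.M11}
    {E' : Type v} [Group E'] {N' : Subgroup E'} {φ' : E' → V11} {S' : Subgroup E'} {x' : ℕ → E'} {y' : ℕ → ℕ → E'}
    (Y : Sys N φ S n m T par x y (fun l => mA (A l)))
    (Y' : Sys N' φ' S' n m T par x' y' (fun l => mA (A l)))
    (hsurj : ∀ v : V11, ∃ u ∈ N, φ u = v)
    {rels : ℕ → List ℕ} {R W NV J : ℕ} {val : ℕ → F11} {rk kd pr : ℕ → ℕ} {Rel : ℕ → F11} {combo : ℕ → List (ℕ × ℕ)}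
    {Af : ℕ → F11 → F11} {rr : ℕ → ℕ × ℕ} (hAf : ∀ l F, Af l F = actF (A l) F)
    (hm : 0 < m) (hNV : n * m + R ≤ NV)
    (hall : ∀ v, v < NV → varChk n m R W NV T par Af rels val rk kd pr v = true)
    (hbit : ∀ b, b < W → bitChk W Rel combo J b = true)
    (hlet : ∀ j, j < R → ∀ l ∈ rels j, l < 2 * m) (hN : ∀ j, j < R → evW x (rels j) ∈ N)
    (hN' : ∀ j, j < R → evW x' (rels j) ∈ N')
    (hx0 : x 0 ∈ S) (hx0' : x' 0 ∈ S') (hT00 : T 0 (2 * 0) = 0)
    (hRel : ∀ q, Rel q = relF n m R NV T Af rels val rr q)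
    (hJ : ∀ b, b < W → J.testBit b = true →
      Pv pr (Fv n m T par x y φ rels) b = Pv pr (Fv n m T par x' y' φ' rels) b) :
    ∀ c, c < n → ∀ i, i < m → Phi T par x y φ c i = Phi T par x' y' φ' c i := by
  set F₁ := Fv n m T par x y φ rels with hF₁
  set F₂ := Fv n m T par x' y' φ' rels with hF₂
  have hn := Y.tab.n_pos
  have hrow1 := fun j (hj : j < R) c (hc : c < n) (hcl : endV T c (rels j) = c) => hrow_Fv Y hlet hN hj hc hcl
  have hrow2 := fun j (hj : j < R) c (hc : c < n) (hcl : endV T c (rels j) = c) => hrow_Fv Y' hlet hN' hj hc hcl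
  have hrow : ∀ j, j < R → ∀ c, c < n → endV T c (rels j) = c →
      Hw T (fun l => mA (A l)) (phV m (fun v => F₁ v + F₂ v)) c (rels j) = F₁ (n * m + j) + F₂ (n * m + j) := by
    intro j hj c hc hcl
    have e : phV m (fun v => F₁ v + F₂ v) = fun c i => phV m F₁ c i + phV m F₂ c i := rfl
    rw [e, Hw_add (fun l u v => mA_add _ u v), hrow1 j hj c hc hcl, hrow2 j hj c hc hcl]
  have h0 := solve_zero (F := fun v => F₁ v + F₂ v) (pr := pr) hAf hall hbit hNV
    (by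
      show F₁ 0 + F₂ 0 = 0
      rw [hF₁, hF₂, Fv_zero Y hm hx0 hT00, Fv_zero Y' hm hx0' hT00, add_zero])
    (by
      intro c h0 hc
      show F₁ _ + F₂ _ = 0
      rw [hF₁, hF₂, Fv_tree Y h0 hc, Fv_tree Y' h0 hc, add_zero])
    hrow (mA_inj Y hsurj)
    (by
      intro hF q
      rw [hRel q]
      exact relF_zero hAf hF hNV hrow q)
    (by
      intro b hb hj
      show F₁ _ _ + F₂ _ _ = 0
      have h1 : F₁ (pr (b / 11)) ⟨b % 11, Nat.mod_lt _ (by norm_num)⟩ = F₂ (pr (b / 11)) ⟨b % 11, Nat.mod_lt _ (by norm_num)⟩ :=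
        hJ b hb hj
      rw [h1]
      exact z2_add_self _)
  intro c hc i hi
  have h1 := phV_Fv (n := n) (m := m) (T := T) (par := par) (x := x) (y := y) (φ := φ) (rels := rels) hc hi
  have h2 := phV_Fv (n := n) (m := m) (T := T) (par := par) (x := x') (y := y') (φ := φ') (rels := rels) hc hi
  rw [← h1, ← h2]
  simp only [phV]
  have h3 : c * m + i < NV := by
    have : c * m + i < n * m := by
      calc c * m + i < c * m + m := by omega
        _ = (c + 1) * m := by ring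
        _ ≤ n * m := Nat.mul_le_mul_right _ hc
    omega
  have h4 := h0 _ h3
  have h5 : (Fv n m T par x y φ rels (c * m + i)) + (Fv n m T par x' y' φ' rels (c * m + i)) = 0 := h4
  calc Fv n m T par x y φ rels (c * m + i) =
      (Fv n m T par x y φ rels (c * m + i) + Fv n m T par x' y' φ' rels (c * m + i)) +
        Fv n m T par x' y' φ' rels (c * m + i) := by
        rw [add_assoc, z2_add_self_pi, add_zero]
    _ = _ := by rw [h5, zero_add]

/-! ### The group -/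

theorem card_E {E : Type u} [Group E] {π : E →* ↥M23} {N : Subgroup E} {φ : E → V11} (X : Ctx π N φ) :
    Nat.card E = 2048 * 10200960 := by
  have h1 : N = π.ker := by
    ext a
    rw [X.hN, MonoidHom.mem_ker]
  have h2 := Subgroup.card_mul_index N
  rw [X.card, h1, Subgroup.index_ker, MonoidHom.range_eq_top.mpr X.surj] at h2
  have h3 : Nat.card ↥(⊤ : Subgroup ↥M23) = 10200960 := by
    rw [Nat.card_congr Subgroup.topEquiv.toEquiv]
    exact Cfsg.Agent.S2037.card_M23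
  rw [h3] at h2
  exact h2.symm

section Iso

variable {E : Type u} [Group E] {E' : Type v} [Group E']
  {π : E →* ↥M23} {N : Subgroup E} {φ : E → V11} {π' : E' →* ↥M23} {N' : Subgroup E'} {φ' : E' → V11}

/-- The graph of the identification of the normal subgroups. -/
def Dlt (XC : Crd N φ) (XC' : Crd N' φ') : Subgroup (E × E') where
  carrier := {p | p.1 ∈ N ∧ p.2 ∈ N' ∧ φ p.1 = φ' p.2}
  mul_mem' := by
    rintro a b ⟨h1, h2, h3⟩ ⟨h4, h5, h6⟩
    refine ⟨N.mul_mem h1 h4, N'.mul_mem h2 h5, ?_⟩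
    show φ (a.1 * b.1) = φ' (a.2 * b.2)
    rw [XC.add _ h1 _ h4, XC'.add _ h2 _ h5, h3, h6]
  one_mem' := by
    refine ⟨N.one_mem, N'.one_mem, ?_⟩
    show φ 1 = φ' 1
    rw [XC.map_one, XC'.map_one]
  inv_mem' := by
    rintro a ⟨h1, h2, h3⟩
    refine ⟨N.inv_mem h1, N'.inv_mem h2, ?_⟩
    show φ a.1⁻¹ = φ' a.2⁻¹
    rw [XC.map_inv h1, XC'.map_inv h2, h3]

/-- The elements over the same element of the quotient. -/
def Fbr (π : E →* ↥M23) (π' : E' →* ↥M23) : Subgroup (E × E') where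
  carrier := {p | π p.1 = π' p.2}
  mul_mem' := by
    intro a b h1 h2
    show π (a.1 * b.1) = π' (a.2 * b.2)
    rw [map_mul, map_mul, h1, h2]
  one_mem' := by
    show π 1 = π' 1
    rw [map_one, map_one]
  inv_mem' := by
    intro a h1
    show π a.1⁻¹ = π' a.2⁻¹
    rw [map_inv, map_inv, h1]

theorem mem_Fbr {g : E × E'} : g ∈ Fbr π π' ↔ π g.1 = π' g.2 := Iff.rfl

/-- A cover of the subgroup generated by a family and the graph. -/
theorem cover_two {G : Type*} [Group G] {D F : Subgroup G} {X : ℕ → G} {t : ℕ → G} {n m : ℕ} {T : ℕ → ℕ → ℕ}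
    (htab0 : 0 < n) (t0 : t 0 = 1)
    (hT : ∀ c, c < n → ∀ l, l < 2 * m → T c l < n)
    (hodd : ∀ c, c < n → ∀ i, i < m → T (T c (2 * i + 1)) (2 * i) = c)
    (hconj : ∀ f ∈ F, ∀ δ ∈ D, f * δ * f⁻¹ ∈ D)
    (htconj : ∀ c, c < n → ∀ δ ∈ D, t c * δ * (t c)⁻¹ ∈ D)
    (hee : ∀ c, c < n → ∀ i, i < m → ∃ δ ∈ D, ∃ f ∈ F, t c * X i * (t (T c (2 * i)))⁻¹ = δ * f) :
    ∀ g ∈ Subgroup.closure (X '' Set.Iio m ∪ (D : Set G)),
      ∃ d ∈ D, ∃ f ∈ F, ∃ c, c < n ∧ g = d * f * t c := by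
  intro g hg
  have stepD : ∀ a δ : G, δ ∈ D → (∃ d ∈ D, ∃ f ∈ F, ∃ c, c < n ∧ a = d * f * t c) →
      ∃ d ∈ D, ∃ f ∈ F, ∃ c, c < n ∧ a * δ = d * f * t c := by
    rintro a δ hδ ⟨d, hd, f, hf, c, hc, rfl⟩
    refine ⟨d * (f * (t c * δ * (t c)⁻¹) * f⁻¹), D.mul_mem hd (hconj f hf _ (htconj c hc δ hδ)), f, hf, c, hc, ?_⟩
    group
  induction hg using Subgroup.closure_induction_right with
  | one => exact ⟨1, D.one_mem, 1, F.one_mem, 0, htab0, by simp [t0]⟩
  | mul_right a _ b hb ih =>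
    rcases hb with ⟨i, hi, rfl⟩ | hb
    · obtain ⟨d, hd, f, hf, c, hc, rfl⟩ := ih
      have hi' : i < m := hi
      obtain ⟨δ, hδ, f₂, hf₂, e⟩ := hee c hc i hi'
      refine ⟨d * (f * δ * f⁻¹), D.mul_mem hd (hconj f hf δ hδ), f * f₂, F.mul_mem hf hf₂, T c (2 * i),
        hT c hc _ (by omega), ?_⟩
      have e2 : t c * X i = δ * f₂ * t (T c (2 * i)) := by
        rw [← e]
        group
      calc d * f * t c * X i = d * f * (t c * X i) := by group
        _ = d * f * (δ * f₂ * t (T c (2 * i))) := by rw [e2]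
        _ = _ := by group
    · exact stepD a b hb ih
  | mul_inv_cancel a _ b hb ih =>
    rcases hb with ⟨i, hi, rfl⟩ | hb
    · obtain ⟨d, hd, f, hf, c, hc, rfl⟩ := ih
      have hi' : i < m := hi
      have hc' : T c (2 * i + 1) < n := hT c hc _ (by omega)
      obtain ⟨δ, hδ, f₂, hf₂, e⟩ := hee _ hc' i hi'
      rw [hodd c hc i hi'] at e
      refine ⟨d * (f * (f₂⁻¹ * δ⁻¹ * f₂) * f⁻¹), D.mul_mem hd (hconj f hf _ (by
        simpa using hconj f₂⁻¹ (F.inv_mem hf₂) _ (D.inv_mem hδ))), f * f₂⁻¹, F.mul_mem hf (F.inv_mem hf₂),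
        T c (2 * i + 1), hc', ?_⟩
      have e2 : t c * (X i)⁻¹ = f₂⁻¹ * δ⁻¹ * t (T c (2 * i + 1)) := by
        have : t (T c (2 * i + 1)) * X i * (t c)⁻¹ = δ * f₂ := e
        have h3 : (t (T c (2 * i + 1)) * X i * (t c)⁻¹)⁻¹ = (δ * f₂)⁻¹ := by rw [this]
        have h4 : t c * (X i)⁻¹ * (t (T c (2 * i + 1)))⁻¹ = f₂⁻¹ * δ⁻¹ := by
          have h5 : (t (T c (2 * i + 1)) * X i * (t c)⁻¹)⁻¹ = t c * (X i)⁻¹ * (t (T c (2 * i + 1)))⁻¹ := by group
          rw [← h5, h3]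
          group
        rw [← h4]
        group
      calc d * f * t c * (X i)⁻¹ = d * f * (t c * (X i)⁻¹) := by group
        _ = d * f * (f₂⁻¹ * δ⁻¹ * t (T c (2 * i + 1))) := by rw [e2]
        _ = _ := by group
    · exact stepD a b⁻¹ (D.inv_mem hb) ih

theorem eq_of_crd {N : Subgroup E} {φ : E → V11} (C : Crd N φ) {a b : E} (ha : a ∈ N) (hb : b ∈ N) (h : φ a = φ b) :
    a = b := by
  have h1 : φ (a * b⁻¹) = 0 := by
    rw [C.add _ ha _ (N.inv_mem hb), C.map_inv hb, h]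
    exact C.two _
  exact mul_inv_eq_one.mp (C.inj _ (N.mul_mem ha (N.inv_mem hb)) h1)

/-- A subgroup containing lifts of the generators and the kernel is everything. -/
theorem all_mem (X : Ctx π N φ) {x : ℕ → E} (hx : ∀ i, π (x i) = pick gS1 gG2 i) {Q : Subgroup E}
    (hxQ : ∀ i, x i ∈ Q) (hNQ : N ≤ Q) (e : E) : e ∈ Q := by
  have hm : (Subgroup.closure (x '' Set.Iio 2)).map π = ⊤ := by
    rw [MonoidHom.map_closure, Set.image_image, ← gen1]
    apply congrArg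
    apply Set.image_congr
    intro i _
    exact hx i
  have h3 : π e ∈ (Subgroup.closure (x '' Set.Iio 2)).map π := by rw [hm]; trivial
  obtain ⟨w, hw, e1⟩ := h3
  have h4 : w⁻¹ * e ∈ N := by
    rw [X.hN, map_mul, map_inv, e1]
    simp
  have h5 : e = w * (w⁻¹ * e) := by group
  rw [h5]
  refine Q.mul_mem ?_ (hNQ h4)
  refine (Subgroup.closure_le Q).2 ?_ hw
  rintro _ ⟨i, _, rfl⟩
  exact hxQ i

theorem conj_cancel {G : Type*} [Group G] (p q : G) : p * (p⁻¹ * q * p) * p⁻¹ = q := by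
  group

/-- The isomorphism from equal values on the edges. -/
theorem iso_of_edges [Finite E] [Finite E'] (X : Ctx π N φ) (X' : Ctx π' N' φ')
    {x : ℕ → E} {x' : ℕ → E'} (hx : ∀ i, π (x i) = pick gS1 gG2 i) (hx' : ∀ i, π' (x' i) = pick gS1 gG2 i)
    {z₀ z₁ : E} {z₀' z₁' : E'} (hz₀ : π z₀ = π' z₀') (hz₁ : π z₁ = π' z₁')
    (hSN' : ∀ a ∈ Subgroup.closure (pick z₀' z₁' '' Set.Iio 2), a ∈ N' → a = 1)
    (hScard : Nat.card ↥(Subgroup.closure (pick z₀ z₁ '' Set.Iio 2)) ≤ 20160)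
    {A A' : ℕ → V11 → V11} {Wv : ℕ → List ℕ}
    (Y : Sys N φ (Subgroup.closure (pick z₀ z₁ '' Set.Iio 2)) 506 2 T1 par1 x (fun c i => evW (pick z₀ z₁) (Wv (2 * c + i))) A)
    (Y' : Sys N' φ' (Subgroup.closure (pick z₀' z₁' '' Set.Iio 2)) 506 2 T1 par1 x'
      (fun c i => evW (pick z₀' z₁') (Wv (2 * c + i))) A')
    (hPhi : ∀ c, c < 506 → ∀ i, i < 2 → Phi T1 par1 x (fun c i => evW (pick z₀ z₁) (Wv (2 * c + i))) φ c i =
        Phi T1 par1 x' (fun c i => evW (pick z₀' z₁') (Wv (2 * c + i))) φ' c i)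
    (hEq : ∀ e e', π e = π' e' → ∀ a ∈ N, ∀ a' ∈ N', φ a = φ' a' → φ (e * a * e⁻¹) = φ' (e' * a' * e'⁻¹)) :
    Nonempty (E ≃* E') := by
  classical
  have C := X.C
  have C' := X'.C
  set Δ := Dlt C C' with hΔ
  let Zi : ℕ → E × E' := fun i => (pick z₀ z₁ i, pick z₀' z₁' i)
  set Fib := Subgroup.closure (Zi '' Set.Iio 2) with hFib
  let XX : ℕ → E × E' := fun i => (x i, x' i)
  let t : ℕ → E × E' := tOf XX par1
  have hZi : ∀ i, Zi i ∈ Fib := by
    intro i
    cases i with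
    | zero => exact Subgroup.subset_closure ⟨0, by simp, rfl⟩
    | succ i => exact Subgroup.subset_closure ⟨1, by simp, rfl⟩
  have hFibΓ : Fib ≤ Fbr π π' := by
    refine (Subgroup.closure_le _).2 ?_
    rintro _ ⟨i, _, rfl⟩
    cases i
    · exact hz₀
    · exact hz₁
  have t1 : ∀ c, (t c).1 = tOf x par1 c := fun c => map_tOf (MonoidHom.fst E E') XX par1 c
  have t2 : ∀ c, (t c).2 = tOf x' par1 c := fun c => map_tOf (MonoidHom.snd E E') XX par1 c
  have hfx : (fun i => π (x i)) = pick gS1 gG2 := funext hx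
  have hfx' : (fun i => π' (x' i)) = pick gS1 gG2 := funext hx'
  have hπt : ∀ c, π (tOf x par1 c) = π' (tOf x' par1 c) := by
    intro c
    rw [map_tOf, map_tOf, hfx, hfx']
  have htΓ : ∀ c, t c ∈ Fbr π π' := by
    intro c
    show π (t c).1 = π' (t c).2
    rw [t1, t2]
    exact hπt c
  have conjΔ : ∀ g ∈ Fbr π π', ∀ δ ∈ Δ, g * δ * g⁻¹ ∈ Δ := by
    rintro g hg δ ⟨h1, h2, h3⟩
    exact ⟨C.nrm _ h1 _, C'.nrm _ h2 _, hEq g.1 g.2 hg _ h1 _ h2 h3⟩
  have hee : ∀ c, c < 506 → ∀ i, i < 2 → ∃ δ ∈ Δ, ∃ f ∈ Fib, t c * XX i * (t (T1 c (2 * i)))⁻¹ = δ * f := by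
    intro c hc i hi
    refine ⟨(nn T1 par1 x (fun c i => evW (pick z₀ z₁) (Wv (2 * c + i))) c i,
        nn T1 par1 x' (fun c i => evW (pick z₀' z₁') (Wv (2 * c + i))) c i), ⟨Y.n_mem c hc i hi, Y'.n_mem c hc i hi, ?_⟩,
        (evW (pick z₀ z₁) (Wv (2 * c + i)), evW (pick z₀' z₁') (Wv (2 * c + i))), ?_, ?_⟩
    · have h1 := Y.n_mem c hc i hi
      have h2 := Y'.n_mem c hc i hi
      have h3 := hEq (tOf x par1 c) (tOf x' par1 c) (hπt c) _ (by simpa using C.nrm _ h1 (tOf x par1 c)⁻¹) _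
        (by simpa using C'.nrm _ h2 (tOf x' par1 c)⁻¹) (hPhi c hc i hi)
      rw [conj_cancel, conj_cancel] at h3
      exact h3
    · have e : (evW (pick z₀ z₁) (Wv (2 * c + i)), evW (pick z₀' z₁') (Wv (2 * c + i))) = evW Zi (Wv (2 * c + i)) := by
        apply Prod.ext
        · exact (map_evW (MonoidHom.fst E E') Zi _).symm
        · exact (map_evW (MonoidHom.snd E E') Zi _).symm
      rw [e]
      exact evW_mem hZi _
    · apply Prod.ext
      · simp only [Prod.fst_mul, Prod.fst_inv]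
        rw [t1, t1]
        simp [nn, ee, XX]
      · simp only [Prod.snd_mul, Prod.snd_inv]
        rw [t2, t2]
        simp [nn, ee, XX]
  have hcov := cover_two (D := Δ) (F := Fib) (X := XX) (t := t) (n := 506) (m := 2) (T := T1) tab1.n_pos (tOf_zero _ _)
    tab1.T_lt tab1.T_odd (fun f hf δ hδ => conjΔ f (hFibΓ hf) δ hδ) (fun c _ δ hδ => conjΔ _ (htΓ c) δ hδ) hee
  set D := Subgroup.closure (XX '' Set.Iio 2 ∪ (Δ : Set (E × E'))) with hD
  have hcΔ : Nat.card ↥Δ ≤ 2048 := by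
    rw [← X.card]
    apply Nat.card_le_card_of_injective (fun p : ↥Δ => (⟨p.1.1, p.2.1⟩ : ↥N))
    rintro ⟨⟨a, a'⟩, h1⟩ ⟨⟨b, b'⟩, h2⟩ h
    have e : a = b := congrArg Subtype.val h
    subst e
    have h3 : φ' a' = φ' b' := h1.2.2.symm.trans h2.2.2
    have h4 := eq_of_crd C' h1.2.1 h2.2.1 h3
    subst h4
    rfl
  have hfst : ∀ p ∈ Fib, p.1 ∈ Subgroup.closure (pick z₀ z₁ '' Set.Iio 2) := by
    intro p hp
    have : Fib ≤ (Subgroup.closure (pick z₀ z₁ '' Set.Iio 2)).comap (MonoidHom.fst E E') := by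
      refine (Subgroup.closure_le _).2 ?_
      rintro _ ⟨i, hi, rfl⟩
      exact Subgroup.subset_closure ⟨i, hi, rfl⟩
    exact this hp
  have hsnd : ∀ p ∈ Fib, p.2 ∈ Subgroup.closure (pick z₀' z₁' '' Set.Iio 2) := by
    intro p hp
    have : Fib ≤ (Subgroup.closure (pick z₀' z₁' '' Set.Iio 2)).comap (MonoidHom.snd E E') := by
      refine (Subgroup.closure_le _).2 ?_
      rintro _ ⟨i, hi, rfl⟩
      exact Subgroup.subset_closure ⟨i, hi, rfl⟩
    exact this hp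
  have hcF : Nat.card ↥Fib ≤ 20160 := by
    refine le_trans ?_ hScard
    apply Nat.card_le_card_of_injective (fun p : ↥Fib => (⟨p.1.1, hfst _ p.2⟩ : ↥(Subgroup.closure (pick z₀ z₁ '' Set.Iio 2))))
    rintro ⟨⟨a, a'⟩, h1⟩ ⟨⟨b, b'⟩, h2⟩ h
    have e : a = b := congrArg Subtype.val h
    subst e
    have h3 : π a = π' a' := hFibΓ h1
    have h4 : π a = π' b' := hFibΓ h2
    have h5 : a' * b'⁻¹ = 1 := by
      apply hSN' _ (Subgroup.mul_mem _ (hsnd _ h1) (Subgroup.inv_mem _ (hsnd _ h2)))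
      rw [X'.hN, map_mul, map_inv, ← h3, ← h4]
      simp
    have h6 : a' = b' := mul_inv_eq_one.mp h5
    subst h6
    rfl
  have hcD : Nat.card ↥D ≤ 2048 * 10200960 := by
    let g : (↥Δ × ↥Fib) × Fin 506 → E × E' := fun p => (p.1.1 : E × E') * (p.1.2 : E × E') * t p.2
    have hsub : (D : Set (E × E')) ⊆ Set.range g := by
      intro a ha
      obtain ⟨d, hd, f, hf, c, hc, e⟩ := hcov a ha
      exact ⟨((⟨d, hd⟩, ⟨f, hf⟩), ⟨c, hc⟩), e.symm⟩
    have h1 : Nat.card ↥D ≤ Nat.card (Set.range g) := Nat.card_mono (Set.finite_range g) hsub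
    have h2 : Nat.card (Set.range g) ≤ Nat.card ((↥Δ × ↥Fib) × Fin 506) :=
      Nat.card_le_card_of_surjective (Set.rangeFactorization g) Set.rangeFactorization_surjective
    rw [Nat.card_prod, Nat.card_prod, Nat.card_fin] at h2
    have h3 : Nat.card ↥Δ * Nat.card ↥Fib ≤ 2048 * 20160 := Nat.mul_le_mul hcΔ hcF
    omega
  have hXD : ∀ i, i < 2 → XX i ∈ D := fun i hi => Subgroup.subset_closure (Or.inl ⟨i, hi, rfl⟩)
  have hΔD : Δ ≤ D := fun δ hδ => Subgroup.subset_closure (Or.inr hδ)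
  have hXD' : ∀ i, XX i ∈ D ∨ 2 ≤ i := by
    intro i
    by_cases h : i < 2
    · exact Or.inl (hXD i h)
    · exact Or.inr (by omega)
  have hs₁ : Function.Surjective ((MonoidHom.fst E E').comp D.subtype) := by
    intro e
    have h1 : e ∈ D.map (MonoidHom.fst E E') := by
      let x₂ : ℕ → E := pick (x 0) (x 1)
      have hx₂ : ∀ i, π (x₂ i) = pick gS1 gG2 i := by
        intro i
        cases i
        · exact hx 0
        · exact hx 1
      refine all_mem X hx₂ ?_ ?_ e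
      · intro i
        cases i
        · exact ⟨_, hXD 0 (by norm_num), rfl⟩
        · exact ⟨_, hXD 1 (by norm_num), rfl⟩
      · intro a ha
        obtain ⟨a', ha', e'⟩ := X'.hsurj (φ a)
        exact ⟨(a, a'), hΔD ⟨ha, ha', e'.symm⟩, rfl⟩
    obtain ⟨d, hd, rfl⟩ := h1
    exact ⟨⟨d, hd⟩, rfl⟩
  have hs₂ : Function.Surjective ((MonoidHom.snd E E').comp D.subtype) := by
    intro e
    have h1 : e ∈ D.map (MonoidHom.snd E E') := by
      let x₂ : ℕ → E' := pick (x' 0) (x' 1)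
      have hx₂ : ∀ i, π' (x₂ i) = pick gS1 gG2 i := by
        intro i
        cases i
        · exact hx' 0
        · exact hx' 1
      refine all_mem X' hx₂ ?_ ?_ e
      · intro i
        cases i
        · exact ⟨_, hXD 0 (by norm_num), rfl⟩
        · exact ⟨_, hXD 1 (by norm_num), rfl⟩
      · intro a' ha'
        obtain ⟨a, ha, e'⟩ := X.hsurj (φ' a')
        exact ⟨(a, a'), hΔD ⟨ha, ha', e'⟩, rfl⟩
    obtain ⟨d, hd, rfl⟩ := h1
    exact ⟨⟨d, hd⟩, rfl⟩
  have hb₁ := hs₁.bijective_of_nat_card_le (by rw [card_E X]; exact hcD)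
  have hb₂ := hs₂.bijective_of_nat_card_le (by rw [card_E X']; exact hcD)
  exact ⟨(MulEquiv.ofBijective _ hb₁).symm.trans (MulEquiv.ofBijective _ hb₂)⟩

end Iso

end Cfsg.Agent.Lib.TwM23Iso
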