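import Mathlib
import Cfsg.Agent.Lib.TwM23Iso
import Cfsg.Agent.Lib.TwM23D1
import Cfsg.Agent.Lib.TwM23D2

/-!
# Non-split extensions of `M₂₃` by the cocode module are isomorphic
-/

set_option autoImplicit false
set_option maxRecDepth 100000

namespace Cfsg.Agent.Lib.TwM23IsoD

open Cfsg Cfsg.Spor Cfsg.Agent.Lib.Golay Cfsg.Agent.Lib.GolaySift Cfsg.Agent.Lib.M23Cocode
  Cfsg.Agent.Lib.SchurCoset46 Cfsg.Agent.Lib.SchurCosetGolay46 Cfsg.Agent.Lib.TwCoset Cfsg.Agent.Lib.TwSolve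
  Cfsg.Agent.Lib.TwLevel Cfsg.Agent.Lib.TwChain Cfsg.Agent.Lib.TwM23G Cfsg.Agent.Lib.TwM23Run
  Cfsg.Agent.Lib.TwM23Step Cfsg.Agent.Lib.TwM23Mode Cfsg.Agent.Lib.TwM23Iso

universe u v

/-- The test of a matrix. -/
abbrev MD (M : TwSolve.M11) (c : ℕ) : Prop := ∀ k j : Fin 11, (M.get k).get j = Nat.testBit (wm (2 ^ k.1)) (ap c j.1)

theorem m20 : MD TwM23D2.A0 cS1 := by decide +kernel
theorem m21 : MD TwM23D2.A1 cS1i := by decide +kernel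
theorem m22 : MD TwM23D2.A2 cS2 := by decide +kernel
theorem m23 : MD TwM23D2.A3 cS2i := by decide +kernel
theorem mH : MD TwM23D2.Mh cH := by decide +kernel
theorem m10 : MD TwM23D1.A0 cS1 := by decide +kernel
theorem m11 : MD TwM23D1.A1 cS1i := by decide +kernel
theorem m12 : MD TwM23D1.A2 cG2 := by decide +kernel
theorem m13 : MD TwM23D1.A3 cG2i := by decide +kernel

theorem tau_chk : selR TwM23D2.tau (actF TwM23D2.A3 idF) = selR TwM23D2.tau idF := by decide +kernel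

theorem cov2 : ∀ b, b < 44 → Nat.testBit TwM23D2.J b = true → ∃ k, k < 9 ∧ TwM23D2.pb k = b := by decide +kernel

theorem cov1 : ∀ b, b < 88 → Nat.testBit TwM23D1.J b = true → b = 1 ∨ ∃ k, k < 11 ∧ TwM23D1.pb k = b := by decide +kernel

theorem bit1 : Nat.testBit TwM23D1.J 1 = true := by decide +kernel

theorem piv_ne : ∀ k, k < 11 → TwM23D1.pb k ≠ 1 := by decide +kernel

theorem relB (q : ℕ) : TwM23D2.Rel q = TwM23D2.relR q ∨ TwM23D2.Rel q = TwM23D2.extF := by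
  unfold TwM23D2.Rel
  by_cases h : q = 5
  · right
    rw [TwSolve.beq_of_eq h]
    rfl
  · left
    rw [TwSolve.beq_false_of_ne h]
    rfl

/-- The action on coordinates. -/
structure ActsD {E : Type u} [Group E] (π : E →* ↥M23) (N : Subgroup E) (φ : E → V11) : Prop where
  a20 : Acts π φ N gS1 TwM23D2.A0
  a21 : Acts π φ N gS1⁻¹ TwM23D2.A1
  a22 : Acts π φ N gS2 TwM23D2.A2
  a23 : Acts π φ N gS2⁻¹ TwM23D2.A3
  aH : Acts π φ N gH TwM23D2.Mh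
  a10 : Acts π φ N gS1 TwM23D1.A0
  a11 : Acts π φ N gS1⁻¹ TwM23D1.A1
  a12 : Acts π φ N gG2 TwM23D1.A2
  a13 : Acts π φ N gG2⁻¹ TwM23D1.A3

/-- The normal form of a non-split extension. -/
theorem normal_form {E : Type u} [Group E] [Finite E] {π : E →* ↥M23} {N : Subgroup E} {φ : E → V11} (X : Ctx π N φ)
    (Z : ActsD π N φ) (hns : ∀ H : Subgroup E, H ⊓ N = ⊥ → H ⊔ N ≠ ⊤) :
    ∃ (z₀ z₁ : E) (x : ℕ → E), π z₀ = gS1 ∧ π z₁ = gS2 ∧
      (∀ a ∈ Subgroup.closure (pick z₀ z₁ '' Set.Iio 2), a ∈ N → a = 1) ∧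
      Nat.card ↥(Subgroup.closure (pick z₀ z₁ '' Set.Iio 2)) ≤ 20160 ∧
      (∀ i, π (x i) = pick gS1 gG2 i) ∧ x 0 = z₀ ∧
      Sys N φ (Subgroup.closure (pick z₀ z₁ '' Set.Iio 2)) TwM23D1.LL.n 2 TwM23D1.LL.T TwM23D1.LL.par x
        (fun c i => evW (pick z₀ z₁) (Wv1 (2 * c + i))) (fun l => mA (TwM23D1.LL.A l)) ∧
      (∀ j, j < TwM23D1.LL.R → evW x (TwM23D1.LL.rels j) ∈ N) ∧
      ∀ b, b < 88 → Nat.testBit TwM23D1.J b = true →
        Pv TwM23D1.LL.pr (Fv TwM23D1.LL.n 2 TwM23D1.LL.T TwM23D1.LL.par x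
          (fun c i => evW (pick z₀ z₁) (Wv1 (2 * c + i))) φ TwM23D1.LL.rels) b = if b = 1 then 1 else 0 := by
  classical
  have hL1 : TwM23D1.LL.Ok := TwM23D1.ok lvl1_rel.1
  obtain ⟨z₀, z₁, hz₀, hz₁, hSN, hScard⟩ := chain2 X (TwM23D2.ok lvl2_rel.1) rfl rfl rfl rfl rfl
    (τ := TwM23D2.tau) (Mh := TwM23D2.Mh) (rr := TwM23D2.rr)
    relB cov2 (acts_all Z.a20 Z.a21 Z.a22 Z.a23) Z.aH (mulR_inv_of_chk tau_chk)
  obtain ⟨x, hx, hx0, Y, hpiv⟩ := chain1 X hL1 rfl rfl rfl rfl rfl (acts_all Z.a10 Z.a11 Z.a12 Z.a13) hz₀ hz₁ hSN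
  have hfx : (fun i => π (x i)) = pick gS1 gG2 := funext hx
  have hNr : ∀ j, j < TwM23D1.LL.R → evW x (TwM23D1.LL.rels j) ∈ N := by
    intro j hj
    rw [X.hN, map_evW, hfx]
    exact lvl1_rel.2 j hj
  refine ⟨z₀, z₁, x, hz₀, hz₁, hSN, hScard, hx, hx0, Y, hNr, ?_⟩
  have hbit : Pv TwM23D1.LL.pr (Fv TwM23D1.LL.n 2 TwM23D1.LL.T TwM23D1.LL.par x
      (fun c i => evW (pick z₀ z₁) (Wv1 (2 * c + i))) φ TwM23D1.LL.rels) 1 = 1 := by
    rcases zmod2_cases (Pv TwM23D1.LL.pr (Fv TwM23D1.LL.n 2 TwM23D1.LL.T TwM23D1.LL.par x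
      (fun c i => evW (pick z₀ z₁) (Wv1 (2 * c + i))) φ TwM23D1.LL.rels) 1) with h | h
    · exfalso
      have h0 := level_zero hL1 Y X.hsurj hNr (by rw [hx0]; exact Subgroup.subset_closure ⟨0, by simp, rfl⟩)
        (fun hF q => relF_zero hL1.hAf hF hL1.hNV (fun j hj c hc hcl => hrow_Fv Y hL1.hlet hNr hj hc hcl) q)
        (by
          intro b hb hJ
          rcases cov1 b hb hJ with rfl | ⟨k, hk, rfl⟩
          · exact h
          · exact hpiv k hk)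
      obtain ⟨H, h1, h2⟩ := complement_of_edges X hx Y hScard h0
      exact hns H h1 h2
    · exact h
  intro b hb hJ
  rcases cov1 b hb hJ with rfl | ⟨k, hk, rfl⟩
  · rw [hbit, if_pos rfl]
  · rw [if_neg (piv_ne k hk)]
    exact hpiv k hk

/-- The isomorphism. -/
theorem iso_of_acts {E : Type u} [Group E] [Finite E] {π : E →* ↥M23} {N : Subgroup E} {φ : E → V11} (X : Ctx π N φ)
    (Z : ActsD π N φ) (hns : ∀ H : Subgroup E, H ⊓ N = ⊥ → H ⊔ N ≠ ⊤)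
    {E' : Type v} [Group E'] [Finite E'] {π' : E' →* ↥M23} {N' : Subgroup E'} {φ' : E' → V11} (X' : Ctx π' N' φ')
    (Z' : ActsD π' N' φ') (hns' : ∀ H : Subgroup E', H ⊓ N' = ⊥ → H ⊔ N' ≠ ⊤)
    (hEq : ∀ e e', π e = π' e' → ∀ a ∈ N, ∀ a' ∈ N', φ a = φ' a' → φ (e * a * e⁻¹) = φ' (e' * a' * e'⁻¹)) :
    Nonempty (E ≃* E') := by
  classical
  have hL1 : TwM23D1.LL.Ok := TwM23D1.ok lvl1_rel.1
  obtain ⟨z₀, z₁, x, hz₀, hz₁, hSN, hScard, hx, hx0, Y, hNr, hb⟩ := normal_form X Z hns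
  obtain ⟨z₀', z₁', x', hz₀', hz₁', hSN', hScard', hx', hx0', Y', hNr', hb'⟩ := normal_form X' Z' hns'
  have hPhi := edges_eq (rr := TwM23D1.rr) Y Y' X.hsurj hL1.hAf (by norm_num) hL1.hNV hL1.hall hL1.hbit hL1.hlet hNr hNr'
    (by rw [hx0]; exact Subgroup.subset_closure ⟨0, by simp, rfl⟩)
    (by rw [hx0']; exact Subgroup.subset_closure ⟨0, by simp, rfl⟩)
    hL1.hT00 (fun q => rfl)
    (by
      intro b hb1 hJ
      rw [hb b hb1 hJ, hb' b hb1 hJ])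
  exact iso_of_edges X X' hx hx' (hz₀.trans hz₀'.symm) (hz₁.trans hz₁'.symm) hSN' hScard Y Y' hPhi hEq

end Cfsg.Agent.Lib.TwM23IsoD
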