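import Mathlib
import Cfsg.Agent.Lib.TwM23Mode
import Cfsg.Agent.Lib.TwM23V1
import Cfsg.Agent.Lib.TwM23V2

/-!
# Extensions of `M₂₃` by the code module split
-/

set_option autoImplicit false
set_option maxRecDepth 100000

namespace Cfsg.Agent.Lib.TwM23SplitV

open Cfsg Cfsg.Spor Cfsg.Agent.Lib.Golay Cfsg.Agent.Lib.GolaySift Cfsg.Agent.Lib.M23Cocode
  Cfsg.Agent.Lib.SchurCoset46 Cfsg.Agent.Lib.SchurCosetGolay46 Cfsg.Agent.Lib.TwCoset Cfsg.Agent.Lib.TwSolve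
  Cfsg.Agent.Lib.TwLevel Cfsg.Agent.Lib.TwChain Cfsg.Agent.Lib.TwM23G Cfsg.Agent.Lib.TwM23Run
  Cfsg.Agent.Lib.TwM23Step Cfsg.Agent.Lib.TwM23Mode

universe u

/-- The test of a matrix. -/
abbrev MV (M : TwSolve.M11) (ci : ℕ) : Prop := ∀ t j : Fin 11, (M.get t).get j = Nat.testBit (wm (2 ^ j.1)) (ap ci t.1)

theorem m20 : MV TwM23V2.A0 cS1i := by decide +kernel
theorem m21 : MV TwM23V2.A1 cS1 := by decide +kernel
theorem m22 : MV TwM23V2.A2 cS2i := by decide +kernel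
theorem m23 : MV TwM23V2.A3 cS2 := by decide +kernel
theorem mH : MV TwM23V2.Mh cHi := by decide +kernel
theorem m10 : MV TwM23V1.A0 cS1i := by decide +kernel
theorem m11 : MV TwM23V1.A1 cS1 := by decide +kernel
theorem m12 : MV TwM23V1.A2 cG2i := by decide +kernel
theorem m13 : MV TwM23V1.A3 cG2 := by decide +kernel

theorem tau_chk : selR TwM23V2.tau (actF TwM23V2.A3 idF) = selR TwM23V2.tau idF := by decide +kernel

theorem cov2 : ∀ b, b < 44 → Nat.testBit TwM23V2.J b = true → ∃ k, k < 10 ∧ TwM23V2.pb k = b := by decide +kernel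

theorem cov1 : ∀ b, b < 88 → Nat.testBit TwM23V1.J b = true → ∃ k, k < 10 ∧ TwM23V1.pb k = b := by decide +kernel

theorem relB (q : ℕ) : TwM23V2.Rel q = TwM23V2.relR q ∨ TwM23V2.Rel q = TwM23V2.extF := by
  unfold TwM23V2.Rel
  by_cases h : q = 6
  · right
    rw [TwSolve.beq_of_eq h]
    rfl
  · left
    rw [TwSolve.beq_false_of_ne h]
    rfl

variable {E : Type u} [Group E] {π : E →* ↥M23} {N : Subgroup E} {φ : E → V11}

/-- The splitting, given the action on coordinates. -/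
theorem split_of_acts [Finite E] (X : Ctx π N φ)
    (a20 : Acts π φ N gS1 TwM23V2.A0) (a21 : Acts π φ N gS1⁻¹ TwM23V2.A1)
    (a22 : Acts π φ N gS2 TwM23V2.A2) (a23 : Acts π φ N gS2⁻¹ TwM23V2.A3) (aH : Acts π φ N gH TwM23V2.Mh)
    (a10 : Acts π φ N gS1 TwM23V1.A0) (a11 : Acts π φ N gS1⁻¹ TwM23V1.A1)
    (a12 : Acts π φ N gG2 TwM23V1.A2) (a13 : Acts π φ N gG2⁻¹ TwM23V1.A3) :
    ∃ H : Subgroup E, H ⊓ N = ⊥ ∧ H ⊔ N = ⊤ := by
  classical
  have hL1 : TwM23V1.LL.Ok := TwM23V1.ok lvl1_rel.1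
  obtain ⟨z₀, z₁, hz₀, hz₁, hSN, hScard⟩ := chain2 X (TwM23V2.ok lvl2_rel.1) rfl rfl rfl rfl rfl
    (τ := TwM23V2.tau) (Mh := TwM23V2.Mh) (rr := TwM23V2.rr)
    relB cov2 (acts_all a20 a21 a22 a23) aH (mulR_inv_of_chk tau_chk)
  obtain ⟨x, hx, hx0, Y, hpiv⟩ := chain1 X hL1 rfl rfl rfl rfl rfl (acts_all a10 a11 a12 a13) hz₀ hz₁ hSN
  have hfx : (fun i => π (x i)) = pick gS1 gG2 := funext hx
  have hNr : ∀ j, j < TwM23V1.LL.R → evW x (TwM23V1.LL.rels j) ∈ N := by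
    intro j hj
    rw [X.hN, map_evW, hfx]
    exact lvl1_rel.2 j hj
  have h0 := level_zero hL1 Y X.hsurj hNr (by rw [hx0]; exact Subgroup.subset_closure ⟨0, by simp, rfl⟩)
    (fun hF q => relF_zero hL1.hAf hF hL1.hNV (fun j hj c hc hcl => hrow_Fv Y hL1.hlet hNr hj hc hcl) q)
    (by
      intro b hb hJ
      obtain ⟨k, hk, rfl⟩ := cov1 b hb hJ
      exact hpiv k hk)
  exact complement_of_edges X hx Y hScard h0

end Cfsg.Agent.Lib.TwM23SplitV
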