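import Mathlib
import Cfsg.Agent.Lib.TitsLift
import Cfsg.Agent.Lib.UMSect
import Cfsg.Agent.Lib.ChevLift
import Cfsg.Agent.Lib.Chev.GroupLem

/-!
# Sections over groups with a (B,N)-pair from rank one sections

`G` has a (B,N)-pair with `B = U H`, `U` a `p`-group, and homomorphisms `φ i : SL₂(F i) → G` attached to the distinguished
generators.  A central extension with kernel an `r`-group, `r ≠ p`, over which every `φ i` lifts, splits.
-/

set_option autoImplicit false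
set_option linter.unusedSectionVars false
set_option linter.unusedVariables false

namespace Cfsg.Agent.Lib.TwRk1

open Cfsg Cfsg.Agent.Lib.UMSect Cfsg.Agent.Lib.SL2Core Cfsg.Agent.Lib.SL2Bor Cfsg.Agent.Lib.StK
open Cfsg.Agent.Lib.ChevLift.RD (wd)

section SL2facts

variable {F : Type*} [Field F]

/-- The torus element `diag(c, c⁻¹)`. -/
def dd (c : Fˣ) : SL2 F := wd (c : F) * wd (-1 : F)

lemma dd_mul (a b : Fˣ) : dd (a * b) = dd a * dd b := by
  unfold dd
  have ha := a.ne_zero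
  have hb := b.ne_zero
  apply sl2_ext <;> simp [mul_apply2, wd] <;> field_simp <;> simp

lemma dd_one : dd (1 : Fˣ) = 1 := by
  have := dd_mul (1 : Fˣ) 1
  rw [mul_one] at this
  exact mul_eq_left.mp this.symm

/-- `dd` as a homomorphism. -/
def ddHom (F : Type*) [Field F] : Fˣ →* SL2 F where
  toFun := dd
  map_one' := dd_one
  map_mul' := dd_mul

lemma wd_one_inv : (wd (1 : F))⁻¹ = wd (-1 : F) := by
  apply inv_eq_of_mul_eq_one_right
  apply sl2_ext <;> simp [mul_apply2, wd]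

lemma wd_mul_inv (c : Fˣ) : wd (c : F) * (wd (1 : F))⁻¹ = dd c := by
  rw [wd_one_inv]
  rfl

lemma wd_eq_dd (c : Fˣ) : wd (c : F) = dd c * wd (1 : F) := by
  rw [← wd_mul_inv, inv_mul_cancel_right]

lemma dd_of_wd (c χ : Fˣ) : wd ((χ : F) * c) * wd (-(χ : F)) = dd c := by
  unfold dd
  have ha := c.ne_zero
  have hb := χ.ne_zero
  apply sl2_ext <;> simp [mul_apply2, wd] <;> field_simp <;> simp

lemma wd_neg_inv (c : F) (hc : c ≠ 0) : (wd c)⁻¹ = wd (-c) := by
  apply inv_eq_of_mul_eq_one_right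
  apply sl2_ext <;> simp [mul_apply2, wd] <;> field_simp <;> simp

lemma uu_add'' (s t : F) : uu (s + t) = uu s * uu t := by
  apply sl2_ext <;> simp [mul_apply2, add_comm]

lemma ll_add'' (s t : F) : ll (s + t) = ll s * ll t := by
  apply sl2_ext <;> simp [mul_apply2, add_comm]

lemma uu_zero'' : uu (0 : F) = 1 := by
  apply sl2_ext <;> simp

lemma ll_zero'' : ll (0 : F) = 1 := by
  apply sl2_ext <;> simp

lemma uu_natpow (t : F) (k : ℕ) : uu t ^ k = uu ((k : F) * t) := by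
  induction k with
  | zero => simp [uu_zero'']
  | succ k ih => rw [pow_succ, ih, ← uu_add'']; congr 1; push_cast; ring

lemma ll_natpow (t : F) (k : ℕ) : ll t ^ k = ll ((k : F) * t) := by
  induction k with
  | zero => simp [ll_zero'']
  | succ k ih => rw [pow_succ, ih, ← ll_add'']; congr 1; push_cast; ring

lemma uu_char_pow {p : ℕ} [CharP F p] (t : F) : uu t ^ p = 1 := by
  rw [uu_natpow, CharP.cast_eq_zero, zero_mul, uu_zero'']

lemma ll_char_pow {p : ℕ} [CharP F p] (t : F) : ll t ^ p = 1 := by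
  rw [ll_natpow, CharP.cast_eq_zero, zero_mul, ll_zero'']

/-- `ll` as a product with a Weyl element. -/
lemma wd_mul_uu_conj (t : F) : wd (1 : F) * uu t * (wd (1 : F))⁻¹ = ll (-t) := by
  rw [wd_one_inv]
  apply sl2_ext <;> simp [mul_apply2, wd]

lemma ll_neg_eq {t : F} (ht : t ≠ 0) :
    ll (-t) = uu (-t⁻¹) * wd (t⁻¹) * uu (-t⁻¹) := by
  apply sl2_ext <;> simp [mul_apply2, wd] <;> field_simp <;> simp

lemma wd_of_swap (c : Fˣ) : ll (c : F) * uu (-(c : F)⁻¹) * ll (c : F) = wd (-(c : F)⁻¹) := by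
  have hc := c.ne_zero
  apply sl2_ext <;> simp [mul_apply2, wd] <;> field_simp <;> simp

end SL2facts

section Lifts

variable {Γ G : Type*} [Group Γ] [Group G]

/-- Elements of `p`-power order. -/
def PEl (p : ℕ) (x : Γ) : Prop := ∃ a : ℕ, x ^ p ^ a = 1

lemma PEl.conj {p : ℕ} {x : Γ} (h : PEl p x) (g : Γ) : PEl p (g * x * g⁻¹) := by
  obtain ⟨a, ha⟩ := h
  refine ⟨a, ?_⟩
  rw [conj_pow, ha]
  simp

lemma PEl.of_pow {p : ℕ} {x : Γ} (h : x ^ p = 1) : PEl p x := ⟨1, by simpa using h⟩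

lemma PEl.map {H : Type*} [Group H] {p : ℕ} {x : Γ} (h : PEl p x) (f : Γ →* H) : PEl p (f x) := by
  obtain ⟨a, ha⟩ := h
  exact ⟨a, by rw [← map_pow, ha, map_one]⟩

/-- Two `p`-elements with the same image are equal. -/
lemma lift_eq [Finite Γ] {σ : Γ →* G} (hce : CE σ) {r p : ℕ} (hr : r.Prime) (hp : p.Prime) (hrp : r ≠ p) (hK : IsPGroup r σ.ker)
    {x y : Γ} (hx : PEl p x) (hy : PEl p y) (e : σ x = σ y) : x = y := by
  haveI : Fact r.Prime := ⟨hr⟩
  obtain ⟨a, ha⟩ := hx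
  obtain ⟨b, hb⟩ := hy
  set z := x⁻¹ * y with hz
  have hz1 : σ z = 1 := by rw [hz, map_mul, map_inv, e, inv_mul_cancel]
  have hyz : y = x * z := by rw [hz]; group
  have hc : Commute x z := central_comm hce hz1 x
  have h1 : z ^ p ^ (a + b) = 1 := by
    have h2 : y ^ p ^ (a + b) = 1 := by rw [pow_add, mul_comm, pow_mul, hb, one_pow]
    rw [hyz, hc.mul_pow, pow_add, pow_mul, ha, one_pow, one_mul] at h2
    rwa [pow_add]
  have h3 : z = 1 := eq_one_of_coprime_order hK hz1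
    (Nat.Coprime.pow_left _ ((Nat.coprime_primes hp hr).2 (Ne.symm hrp))) h1
  rw [hyz, h3, mul_one]

/-- The lift of a `p`-subgroup. -/
lemma exists_Ut [Finite Γ] {σ : Γ →* G} (hce : CE σ) {r p : ℕ} (hr : r.Prime) (hp : p.Prime) (hrp : r ≠ p)
    (hK : IsPGroup r σ.ker) (U : Subgroup G) (hU : IsPGroup p U) :
    ∃ Ut : Subgroup Γ, (∀ y, y ∈ Ut ↔ σ y ∈ U ∧ PEl p y) ∧ ∀ u ∈ U, ∃ y ∈ Ut, σ y = u := by
  classical
  haveI : Fact r.Prime := ⟨hr⟩
  haveI : Fact p.Prime := ⟨hp⟩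
  let Γ₁ : Subgroup Γ := U.comap σ
  let σ₁ : Γ₁ →* U := (σ.comp Γ₁.subtype).codRestrict U (fun x => x.2)
  have hce₁ : CE σ₁ := by
    refine ⟨?_, ?_⟩
    · rintro ⟨u, hu⟩
      obtain ⟨x, rfl⟩ := hce.surj u
      exact ⟨⟨x, hu⟩, rfl⟩
    · intro x hx
      rw [Subgroup.mem_center_iff]
      intro g
      apply Subtype.ext
      have h1 : σ x.1 = 1 := congrArg Subtype.val hx
      exact central_comm hce h1 g.1
  have hK₁ : IsPGroup r σ₁.ker := by
    intro z
    have h1 : σ z.1.1 = 1 := congrArg Subtype.val z.2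
    obtain ⟨k, hk⟩ := hK ⟨z.1.1, h1⟩
    refine ⟨k, ?_⟩
    apply Subtype.ext
    apply Subtype.ext
    simpa using congrArg Subtype.val hk
  haveI : Finite G := Finite.of_surjective σ hce.surj
  have hidx : Nat.Coprime ((⊥ : Subgroup Γ₁).map σ₁).index r := by
    rw [Subgroup.map_bot, Subgroup.index_bot]
    obtain ⟨n, hn⟩ := IsPGroup.iff_card.mp hU
    rw [hn]
    exact Nat.Coprime.pow_left _ ((Nat.coprime_primes hp hr).2 (Ne.symm hrp))
  obtain ⟨s, hs⟩ := exists_section_of_sub hce₁ hK₁ ⊥ (fun x hx _ => (Subgroup.mem_bot.1 hx)) hidx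
  let s' : U →* Γ := Γ₁.subtype.comp s
  have hs' : ∀ u : U, σ (s' u) = u := fun u => congrArg Subtype.val (hs u)
  obtain ⟨n, hn⟩ := IsPGroup.iff_card.mp hU
  have hpel : ∀ u : U, PEl p (s' u) := by
    intro u
    refine ⟨n, ?_⟩
    rw [← map_pow, ← hn, pow_card_eq_one', map_one]
  refine ⟨s'.range, fun y => ⟨?_, ?_⟩, fun u hu => ⟨s' ⟨u, hu⟩, ⟨_, rfl⟩, hs' _⟩⟩
  · rintro ⟨u, rfl⟩
    rw [hs']
    exact ⟨u.2, hpel u⟩
  · rintro ⟨h1, h2⟩
    refine ⟨⟨σ y, h1⟩, ?_⟩
    exact lift_eq hce hr hp hrp hK (hpel _) h2 (hs' _)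

end Lifts

section Cox

/-- Dihedral relations, from a computation with root reflections. -/
lemma dih2 {Q : Type*} [Group Q] {a b : Q} (ha : a * a = 1) (hb : b * b = 1) (h1 : a * b * a⁻¹ = b) : (a * b) ^ 2 = 1 := by
  have ea : a⁻¹ = a := inv_eq_of_mul_eq_one_left ha
  rw [ea] at h1
  calc (a * b) ^ 2 = (a * b * a) * b := by simp only [pow_succ, pow_zero, one_mul, mul_assoc]
    _ = 1 := by rw [h1, hb]

lemma dih3 {Q : Type*} [Group Q] {a b : Q} (ha : a * a = 1) (hb : b * b = 1) (h1 : (a * b) * a * (a * b)⁻¹ = b) :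
    (a * b) ^ 3 = 1 := by
  have ea : a⁻¹ = a := inv_eq_of_mul_eq_one_left ha
  have eb : b⁻¹ = b := inv_eq_of_mul_eq_one_left hb
  rw [_root_.mul_inv_rev, ea, eb] at h1
  calc (a * b) ^ 3 = (a * b * a * (b * a)) * b := by simp only [pow_succ, pow_zero, one_mul, mul_assoc]
    _ = 1 := by rw [h1, hb]

lemma dih4 {Q : Type*} [Group Q] {a b : Q} (ha : a * a = 1) (hb : b * b = 1)
    (h1 : (a * b * a) * b * (a * b * a)⁻¹ = b) : (a * b) ^ 4 = 1 := by
  have ea : a⁻¹ = a := inv_eq_of_mul_eq_one_left ha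
  have eb : b⁻¹ = b := inv_eq_of_mul_eq_one_left hb
  rw [_root_.mul_inv_rev, _root_.mul_inv_rev, ea, eb] at h1
  calc (a * b) ^ 4 = (a * b * a * b * (a * (b * a))) * b := by simp only [pow_succ, pow_zero, one_mul, mul_assoc]
    _ = 1 := by rw [h1, hb]

lemma dih6 {Q : Type*} [Group Q] {a b : Q} (ha : a * a = 1) (hb : b * b = 1)
    (h1 : (a * b * a * b * a) * b * (a * b * a * b * a)⁻¹ = b) : (a * b) ^ 6 = 1 := by
  have ea : a⁻¹ = a := inv_eq_of_mul_eq_one_left ha
  have eb : b⁻¹ = b := inv_eq_of_mul_eq_one_left hb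
  simp only [_root_.mul_inv_rev, ea, eb] at h1
  calc (a * b) ^ 6 = ((a * b * a * b * a) * b * (a * (b * (a * (b * a))))) * b := by
        simp only [pow_succ, pow_zero, one_mul, mul_assoc]
    _ = 1 := by rw [h1, hb]

variable {Q : Type*} [Group Q] {n : ℕ} (M : CoxeterMatrix (Fin n))

/-- The braid relation in the form of a conjugation, modulo `Ht`. -/
def BrRel {Ht Nt : Subgroup Q} (W : Fin n → Nt) (i j : Fin n) : Prop :=
  let Rel : Nt → Fin n → Fin n → Prop := fun g a b => ∃ d : Nt, d.1 ∈ Ht ∧ g * W a * g⁻¹ = d * W b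
  (M i j = 2 ∧ Rel (W i) j j) ∨ (M i j = 3 ∧ Rel (W i * W j) i j) ∨ (M i j = 4 ∧ Rel (W i * W j * W i) j j) ∨
    (M i j = 6 ∧ Rel (W i * W j * W i * W j * W i) j j)

/-- If `Nt` is generated by `Ht` and lifts `W i` of the simple generators satisfying the braid relations modulo `Ht`, then the
kernel of a map to the Coxeter group, compatible with the generators, is `Ht`. -/
theorem cox_lemma {Ht Nt : Subgroup Q} (W : Fin n → Nt)
    (hgen : ∀ x ∈ Nt, x ∈ Subgroup.closure ((Ht : Set Q) ∪ Set.range fun i => (W i).1))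
    (hnorm : ∀ g ∈ Nt, ∀ x ∈ Ht, g * x * g⁻¹ ∈ Ht)
    (κ : Nt →* M.Group) (hκH : ∀ x : Nt, x.1 ∈ Ht → κ x = 1) (hκw : ∀ i, κ (W i) = M.simple i)
    (hsq : ∀ i, (W i * W i).1 ∈ Ht)
    (hbr : ∀ i j, i < j → BrRel M W (Ht := Ht) i j) (hH : Ht ≤ Nt) : ∀ x : Nt, κ x = 1 → x.1 ∈ Ht := by
  classical
  let N₀ : Subgroup Nt := Ht.subgroupOf Nt
  haveI hN : N₀.Normal := ⟨fun x hx g => by
    rw [Subgroup.mem_subgroupOf] at hx ⊢
    exact hnorm g.1 g.2 x.1 hx⟩
  have hκH' : N₀ ≤ κ.ker := fun x hx => hκH x (Subgroup.mem_subgroupOf.1 hx)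
  let κb : (Nt ⧸ N₀) →* M.Group := QuotientGroup.lift N₀ κ hκH'
  let π : Nt →* Nt ⧸ N₀ := QuotientGroup.mk' N₀
  have hπ1 : ∀ d : Nt, d.1 ∈ Ht → π d = 1 := fun d hd =>
    (QuotientGroup.eq_one_iff _).2 (Subgroup.mem_subgroupOf.2 hd)
  let f : Fin n → (Nt ⧸ N₀) := fun i => π (W i)
  have hf2 : ∀ i, f i * f i = 1 := fun i => by
    rw [← map_mul]
    exact hπ1 _ (hsq i)
  have hrel : ∀ (g : Nt) (a b : Fin n), (∃ d : Nt, d.1 ∈ Ht ∧ g * W a * g⁻¹ = d * W b) → π g * f a * (π g)⁻¹ = f b := by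
    rintro g a b ⟨d, hd, e⟩
    have := congrArg π e
    rw [map_mul, map_mul, map_inv, map_mul, hπ1 d hd, one_mul] at this
    exact this
  have hbr1 : ∀ i j : Fin n, i < j → (f i * f j) ^ M i j = 1 := by
    intro i j hij
    rcases hbr i j hij with ⟨h, e⟩ | ⟨h, e⟩ | ⟨h, e⟩ | ⟨h, e⟩
    · rw [h]
      refine dih2 (hf2 i) (hf2 j) ?_
      exact hrel _ _ _ e
    · rw [h]
      refine dih3 (hf2 i) (hf2 j) ?_
      have := hrel _ _ _ e
      rwa [map_mul] at this
    · rw [h]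
      refine dih4 (hf2 i) (hf2 j) ?_
      have := hrel _ _ _ e
      rwa [map_mul, map_mul] at this
    · rw [h]
      refine dih6 (hf2 i) (hf2 j) ?_
      have := hrel _ _ _ e
      rwa [map_mul, map_mul, map_mul, map_mul] at this
  have hinvf : ∀ i, (f i)⁻¹ = f i := fun i => inv_eq_of_mul_eq_one_left (hf2 _)
  have hswap : ∀ i j : Fin n, (f i * f j)⁻¹ = f j * f i := by
    intro i j
    rw [_root_.mul_inv_rev, hinvf, hinvf]
  have hlift : M.IsLiftable f := by
    intro i j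
    rcases lt_trichotomy i j with h1 | h1 | h1
    · exact hbr1 i j h1
    · subst h1
      rw [M.diagonal, pow_one]
      exact hf2 _
    · have h3 := hbr1 j i h1
      rw [M.symmetric j i] at h3
      rw [← hswap, inv_pow, inv_eq_one] at h3
      exact h3
  let cs := M.toCoxeterSystem
  let Φ : M.Group →* (Nt ⧸ N₀) := cs.lift ⟨f, hlift⟩
  have hΦ : ∀ i, Φ (M.simple i) = f i := fun i => cs.lift_apply_simple hlift i
  have hκf : ∀ i, κb (f i) = M.simple i := by
    intro i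
    show κ (W i) = _
    exact hκw i
  have hid : ∀ w, κb (Φ w) = w := by
    intro w
    have h1 : κb.comp Φ = MonoidHom.id _ := by
      apply cs.ext_simple
      intro i
      show κb (Φ (M.simple i)) = M.simple i
      rw [hΦ, hκf]
    exact congrArg (fun g : M.Group →* M.Group => g w) h1
  have hrange : ∀ x (hx : x ∈ Subgroup.closure ((Ht : Set Q) ∪ Set.range fun i => (W i).1)) (hxN : x ∈ Nt),
      ∃ w, Φ w = π ⟨x, hxN⟩ := by
    intro x hx
    induction hx using Subgroup.closure_induction with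
    | mem x hx =>
      intro hxN
      rcases hx with hx | ⟨i, rfl⟩
      · exact ⟨1, by rw [map_one, hπ1 ⟨x, hxN⟩ hx]⟩
      · exact ⟨M.simple i, hΦ i⟩
    | one => exact fun hxN => ⟨1, by rw [map_one]; exact (map_one π).symm⟩
    | mul x z hx hz ihx ihz =>
      intro hxN
      have hN1 : x ∈ Nt := by
        have h0 : Subgroup.closure ((Ht : Set Q) ∪ Set.range fun i => (W i).1) ≤ Nt := by
          rw [Subgroup.closure_le]
          rintro g (hg | ⟨i, rfl⟩)
          · exact hH hg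
          · exact (W i).2
        exact h0 hx
      have hN2 : z ∈ Nt := by
        have h0 : Subgroup.closure ((Ht : Set Q) ∪ Set.range fun i => (W i).1) ≤ Nt := by
          rw [Subgroup.closure_le]
          rintro g (hg | ⟨i, rfl⟩)
          · exact hH hg
          · exact (W i).2
        exact h0 hz
      obtain ⟨w, e⟩ := ihx hN1
      obtain ⟨w', e'⟩ := ihz hN2
      refine ⟨w * w', ?_⟩
      rw [map_mul, e, e', ← map_mul]
      rfl
    | inv x hx ih =>
      intro hxN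
      obtain ⟨w, e⟩ := ih (by simpa using hxN)
      refine ⟨w⁻¹, ?_⟩
      rw [map_inv, e, ← map_inv]
      rfl
  intro x hx
  obtain ⟨w, hw⟩ := hrange x.1 (hgen x.1 x.2) x.2
  have hw1 : w = 1 := by
    rw [← hid w, hw]
    exact hx
  rw [hw1, map_one] at hw
  have h9 := (QuotientGroup.eq_one_iff _).1 hw.symm
  exact Subgroup.mem_subgroupOf.1 h9

end Cox

end Cfsg.Agent.Lib.TwRk1
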