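import Mathlib
import Cfsg.Agent.Lib.TwRk1

/-!
# Sections over groups with a (B,N)-pair from rank one sections: the main theorem
-/

set_option autoImplicit false
set_option linter.unusedSectionVars false
set_option linter.unusedVariables false

namespace Cfsg.Agent.Lib.TwRk1

open Cfsg Cfsg.Agent.Lib.UMSect Cfsg.Agent.Lib.SL2Core Cfsg.Agent.Lib.SL2Bor Cfsg.Agent.Lib.StK Cfsg.Agent.Lib.TitsLift
open Cfsg.Agent.Lib.ChevLift.RD (wd)

variable {Γ G : Type*} [Group Γ] [Group G] {n : ℕ} {Fd : Fin n → Type*} [∀ i, Field (Fd i)]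

/-- A monomial element carrying one rank one subgroup onto another. -/
def Mono (φ : ∀ i, SL2 (Fd i) →* G) (g : G) (i j : Fin n) : Prop :=
  (∃ u : (Fd j)ˣ, g * φ i (uu 1) * g⁻¹ = φ j (uu (u : Fd j)) ∧ g * φ i (ll (-1)) * g⁻¹ = φ j (ll (-(u : Fd j)⁻¹))) ∨
  (∃ u : (Fd j)ˣ, g * φ i (uu 1) * g⁻¹ = φ j (ll (u : Fd j)) ∧ g * φ i (ll (-1)) * g⁻¹ = φ j (uu (-(u : Fd j)⁻¹)))

/-- The dihedral relations, through `Mono`. -/
def DihOK (φ : ∀ i, SL2 (Fd i) →* G) (M : CoxeterMatrix (Fin n)) (i j : Fin n) : Prop :=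
  let w : Fin n → G := fun a => φ a (wd 1)
  (M i j = 2 ∧ Mono φ (w i) j j) ∨ (M i j = 3 ∧ Mono φ (w i * w j) i j) ∨ (M i j = 4 ∧ Mono φ (w i * w j * w i) j j) ∨
    (M i j = 6 ∧ Mono φ (w i * w j * w i * w j * w i) j j)

/-- The data on `G`. -/
structure Sys (P : BNPair G) (p : ℕ) (M : CoxeterMatrix (Fin n)) (φ : ∀ i, SL2 (Fd i) →* G) (U : Subgroup G)
    (Ψ₀ : (∀ i, (Fd i)ˣ) →* G) (κ : P.N →* M.Group) : Prop where
  Up : IsPGroup p U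
  char : ∀ i, CharP (Fd i) p
  U_le : U ≤ P.B
  conjU : ∀ h ∈ P.B ⊓ P.N, ∀ u ∈ U, h * u * h⁻¹ ∈ U
  split : ∀ b ∈ P.B, ∃ u ∈ U, ∃ h ∈ P.B ⊓ P.N, b = u * h
  U_H : ∀ x ∈ U, x ∈ P.B ⊓ P.N → x = 1
  Ψ_mem : ∀ c, Ψ₀ c ∈ P.B ⊓ P.N
  Ψ_surj : ∀ h ∈ P.B ⊓ P.N, ∃ c, Ψ₀ c = h
  Ψ_inj : ∀ c, Ψ₀ c = 1 → c = 1
  Ψ_single : ∀ i (c : (Fd i)ˣ), Ψ₀ (Pi.mulSingle i c) = φ i (dd c)
  φU : ∀ i t, φ i (uu t) ∈ U
  wN : ∀ i, φ i (wd 1) ∈ P.N
  S_eq : ∀ s ∈ P.S, ∃ i, s = φ i (wd 1)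
  κ_w : ∀ i, κ ⟨φ i (wd 1), wN i⟩ = M.simple i
  κ_ker : ∀ x : P.N, κ x = 1 ↔ x.1 ∈ P.B
  act : ∀ h ∈ P.B ⊓ P.N, ∀ i, ∃ χ : (Fd i)ˣ, ∀ t,
    h * φ i (uu t) * h⁻¹ = φ i (uu ((χ : Fd i) * t)) ∧ h * φ i (ll t) * h⁻¹ = φ i (ll (((χ⁻¹ : (Fd i)ˣ) : Fd i) * t))
  factor : ∀ i, ∀ u ∈ U, ∃ t, ∃ y ∈ U, u = φ i (uu t) * y ∧ φ i (wd 1) * y * (φ i (wd 1))⁻¹ ∈ U
  ll_B : ∀ i t, φ i (ll t) ∈ P.B → t = 0
  dih : ∀ i j, i < j → DihOK φ M i j

/-- The data on `Γ`. -/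
structure Cx {P : BNPair G} {p : ℕ} {M : CoxeterMatrix (Fin n)} {φ : ∀ i, SL2 (Fd i) →* G} {U : Subgroup G}
    {Ψ₀ : (∀ i, (Fd i)ˣ) →* G} {κ : P.N →* M.Group} (S : Sys P p M φ U Ψ₀ κ) (σ : Γ →* G)
    (φt : ∀ i, SL2 (Fd i) →* Γ) (r : ℕ) : Prop where
  hce : CE σ
  hr : r.Prime
  hp : p.Prime
  hrp : r ≠ p
  hK : IsPGroup r σ.ker
  hφt : ∀ i m, σ (φt i m) = φ i m

variable {P : BNPair G} {p : ℕ} {M : CoxeterMatrix (Fin n)} {φ : ∀ i, SL2 (Fd i) →* G} {U : Subgroup G}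
    {Ψ₀ : (∀ i, (Fd i)ˣ) →* G} {κ : P.N →* M.Group} {S : Sys P p M φ U Ψ₀ κ} {σ : Γ →* G}
    {φt : ∀ i, SL2 (Fd i) →* Γ} {r : ℕ}

namespace Cx

variable [Finite Γ] (c : Cx S σ φt r)

include c

lemma pu (i : Fin n) (t : Fd i) : PEl p (φt i (uu t)) := by
  haveI := S.char i
  exact PEl.of_pow (by rw [← map_pow, uu_char_pow, map_one])

lemma pl (i : Fin n) (t : Fd i) : PEl p (φt i (ll t)) := by
  haveI := S.char i
  exact PEl.of_pow (by rw [← map_pow, ll_char_pow, map_one])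

lemma lift (x y : Γ) (hx : PEl p x) (hy : PEl p y) (e : σ x = σ y) : x = y :=
  lift_eq c.hce c.hr c.hp c.hrp c.hK hx hy e

/-- Lifts of torus elements act on the lifted rank one subgroups. -/
lemma tor {g : Γ} (hg : σ g ∈ P.B ⊓ P.N) (j : Fin n) : ∃ χ : (Fd j)ˣ,
    (∀ t, g * φt j (uu t) * g⁻¹ = φt j (uu ((χ : Fd j) * t))) ∧
    (∀ t, g * φt j (ll t) * g⁻¹ = φt j (ll (((χ⁻¹ : (Fd j)ˣ) : Fd j) * t))) := by
  obtain ⟨χ, hχ⟩ := S.act _ hg j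
  refine ⟨χ, fun t => ?_, fun t => ?_⟩
  · apply c.lift _ _ ((c.pu j t).conj g) (c.pu j _)
    rw [map_mul, map_mul, map_inv, c.hφt, c.hφt]
    exact (hχ t).1
  · apply c.lift _ _ ((c.pl j t).conj g) (c.pl j _)
    rw [map_mul, map_mul, map_inv, c.hφt, c.hφt]
    exact (hχ t).2

lemma tor_wd {g : Γ} {j : Fin n} {χ : (Fd j)ˣ} (h1 : ∀ t, g * φt j (uu t) * g⁻¹ = φt j (uu ((χ : Fd j) * t)))
    (h2 : ∀ t, g * φt j (ll t) * g⁻¹ = φt j (ll (((χ⁻¹ : (Fd j)ˣ) : Fd j) * t))) (a : (Fd j)ˣ) :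
    g * φt j (wd (a : Fd j)) * g⁻¹ = φt j (wd ((χ : Fd j) * a)) := by
  have e : g * φt j (wd (a : Fd j)) * g⁻¹ = (g * φt j (uu a) * g⁻¹) * (g * φt j (ll (-(a : Fd j)⁻¹)) * g⁻¹) * (g * φt j (uu a) * g⁻¹) := by
    simp only [wd, map_mul]
    group
  rw [e, h1, h2, ← map_mul, ← map_mul]
  congr 1
  unfold wd
  congr 2
  rw [Units.val_inv_eq_inv_val, mul_inv]
  ring

lemma tor_comm {g : Γ} (hg : σ g ∈ P.B ⊓ P.N) (j : Fin n) (a : (Fd j)ˣ) : g * φt j (dd a) * g⁻¹ = φt j (dd a) := by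
  obtain ⟨χ, h1, h2⟩ := c.tor hg j
  have e : g * φt j (dd a) * g⁻¹ = (g * φt j (wd (a : Fd j)) * g⁻¹) * (g * φt j (wd ((-1 : (Fd j)ˣ) : Fd j)) * g⁻¹) := by
    simp only [dd, map_mul, Units.val_neg, Units.val_one]
    group
  rw [e, c.tor_wd h1 h2, c.tor_wd h1 h2, ← map_mul]
  congr 1
  have := dd_of_wd a χ
  simpa using this

lemma dd_mem (i : Fin n) (a : (Fd i)ˣ) : σ (φt i (dd a)) ∈ P.B ⊓ P.N := by
  rw [c.hφt, ← S.Ψ_single]
  exact S.Ψ_mem _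

/-- The lifted torus as a homomorphism. -/
noncomputable def PsiT (c : Cx S σ φt r) : (∀ i, (Fd i)ˣ) →* Γ :=
  MonoidHom.noncommPiCoprod (fun i => (φt i).comp (ddHom (Fd i))) (by
    intro i j _ a b
    have := c.tor_comm (c.dd_mem i a) j b
    exact (eq_mul_inv_iff_mul_eq.1 this.symm).symm)

lemma PsiT_single (i : Fin n) (a : (Fd i)ˣ) : c.PsiT (Pi.mulSingle i a) = φt i (dd a) :=
  MonoidHom.noncommPiCoprod_mulSingle (N := fun i => (Fd i)ˣ) _ i a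

omit c in
lemma hom_ext_pi' {A : Type*} [Group A] (g g' : (∀ i, (Fd i)ˣ) →* A)
    (hg : ∀ i (x : (Fd i)ˣ), g (Pi.mulSingle i x) = g' (Pi.mulSingle i x)) (a : ∀ i, (Fd i)ˣ) : g a = g' a := by
  rw [← Finset.univ_prod_mulSingle a]
  generalize (Finset.univ : Finset (Fin n)) = t
  induction t using Finset.induction_on with
  | empty => simp
  | insert b t ha ih => rw [Finset.prod_insert ha, map_mul, map_mul, ih, hg]

lemma σ_PsiT (a : ∀ i, (Fd i)ˣ) : σ (c.PsiT a) = Ψ₀ a := by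
  have := hom_ext_pi' (σ.comp c.PsiT) Ψ₀ (fun i x => ?_) a
  · exact this
  · show σ (c.PsiT (Pi.mulSingle i x)) = _
    rw [c.PsiT_single, c.hφt, S.Ψ_single]

/-- The lifted torus. -/
noncomputable abbrev Ht (c : Cx S σ φt r) : Subgroup Γ := c.PsiT.range

lemma Ht_dd (i : Fin n) (a : (Fd i)ˣ) : φt i (dd a) ∈ c.Ht := ⟨_, c.PsiT_single i a⟩

lemma Ht_σ {x : Γ} (hx : x ∈ c.Ht) : σ x ∈ P.B ⊓ P.N := by
  obtain ⟨a, rfl⟩ := hx
  rw [c.σ_PsiT]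
  exact S.Ψ_mem a

lemma Ht_surj {h : G} (hh : h ∈ P.B ⊓ P.N) : ∃ x ∈ c.Ht, σ x = h := by
  obtain ⟨a, rfl⟩ := S.Ψ_surj h hh
  exact ⟨_, ⟨a, rfl⟩, c.σ_PsiT a⟩

lemma Ht_inj {x : Γ} (hx : x ∈ c.Ht) (e : σ x = 1) : x = 1 := by
  obtain ⟨a, rfl⟩ := hx
  rw [c.σ_PsiT] at e
  rw [S.Ψ_inj a e, map_one]

lemma Ht_comm {x y : Γ} (hx : x ∈ c.Ht) (hy : y ∈ c.Ht) : x * y = y * x := by
  obtain ⟨a, rfl⟩ := hx
  obtain ⟨b, rfl⟩ := hy
  rw [← map_mul, ← map_mul, mul_comm]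

/-- The lift of the Weyl element. -/
abbrev wt (φt : ∀ i, SL2 (Fd i) →* Γ) (i : Fin n) : Γ := φt i (wd 1)

lemma Ht_w {x : Γ} (hx : x ∈ c.Ht) (j : Fin n) : wt φt j * x * (wt φt j)⁻¹ ∈ c.Ht := by
  have hxi : x⁻¹ ∈ c.Ht := c.Ht.inv_mem hx
  obtain ⟨χ, h1, h2⟩ := c.tor (c.Ht_σ hxi) j
  have e1 := c.tor_wd h1 h2 1
  simp only [Units.val_one, mul_one] at e1
  have e2 : wt φt j * x * (wt φt j)⁻¹ = x * (x⁻¹ * wt φt j * x⁻¹⁻¹ * (wt φt j)⁻¹) := by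
    group
  rw [e2, e1, ← map_inv, ← map_mul, wd_mul_inv]
  exact c.Ht.mul_mem hx (c.Ht_dd j χ)

lemma Ht_w_inv {x : Γ} (hx : x ∈ c.Ht) (j : Fin n) : (wt φt j)⁻¹ * x * wt φt j ∈ c.Ht := by
  have hx' := hx
  have hd : φt j (dd (-1 : (Fd j)ˣ)) ∈ c.Ht := c.Ht_dd j _
  have e0 : (wt φt j)⁻¹ = φt j (dd (-1 : (Fd j)ˣ)) * wt φt j := by
    rw [← map_inv, ← map_mul]
    congr 1
    have := wd_eq_dd (-1 : (Fd j)ˣ)
    rw [← this, wd_one_inv]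
    simp
  have e3 : (wt φt j)⁻¹ * x * wt φt j =
      (φt j (dd (-1 : (Fd j)ˣ)) * wt φt j) * x * (φt j (dd (-1 : (Fd j)ˣ)) * wt φt j)⁻¹ := by
    rw [← e0, inv_inv]
  have e4 : (φt j (dd (-1 : (Fd j)ˣ)) * wt φt j) * x * (φt j (dd (-1 : (Fd j)ˣ)) * wt φt j)⁻¹ =
      φt j (dd (-1 : (Fd j)ˣ)) * (wt φt j * x * (wt φt j)⁻¹) * (φt j (dd (-1 : (Fd j)ˣ)))⁻¹ := by
    group
  rw [e3, e4]
  exact c.Ht.mul_mem (c.Ht.mul_mem hd (c.Ht_w hx j)) (c.Ht.inv_mem hd)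

/-- The lifted monomial group. -/
noncomputable def Nt (c : Cx S σ φt r) : Subgroup Γ :=
  Subgroup.closure ((c.Ht : Set Γ) ∪ Set.range (wt φt))

lemma Ht_le_Nt : c.Ht ≤ c.Nt := fun x hx => Subgroup.subset_closure (Or.inl hx)

lemma wt_mem (i : Fin n) : wt φt i ∈ c.Nt := Subgroup.subset_closure (Or.inr ⟨i, rfl⟩)

lemma Nt_norm {g : Γ} (hg : g ∈ c.Nt) : (∀ x ∈ c.Ht, g * x * g⁻¹ ∈ c.Ht) ∧ (∀ x ∈ c.Ht, g⁻¹ * x * g ∈ c.Ht) := by
  unfold Nt at hg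
  induction hg using Subgroup.closure_induction with
  | mem g hg =>
    rcases hg with hg | ⟨j, rfl⟩
    · refine ⟨fun x hx => ?_, fun x hx => ?_⟩
      · have : g * x * g⁻¹ = x := by rw [c.Ht_comm hg hx]; group
        rwa [this]
      · have : g⁻¹ * x * g = x := by rw [mul_assoc, c.Ht_comm hx hg]; group
        rwa [this]
    · exact ⟨fun x hx => c.Ht_w hx j, fun x hx => c.Ht_w_inv hx j⟩
  | one => simp
  | mul a b _ _ ha hb =>
    refine ⟨fun x hx => ?_, fun x hx => ?_⟩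
    · have : a * b * x * (a * b)⁻¹ = a * (b * x * b⁻¹) * a⁻¹ := by group
      rw [this]
      exact ha.1 _ (hb.1 x hx)
    · have : (a * b)⁻¹ * x * (a * b) = b⁻¹ * (a⁻¹ * x * a) * b := by group
      rw [this]
      exact hb.2 _ (ha.2 x hx)
  | inv a _ ha =>
    refine ⟨fun x hx => ?_, fun x hx => ?_⟩
    · rw [inv_inv]
      exact ha.2 x hx
    · rw [inv_inv]
      exact ha.1 x hx

lemma Nt_σ {g : Γ} (hg : g ∈ c.Nt) : σ g ∈ P.N := by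
  have h0 : c.Nt ≤ P.N.comap σ := by
    unfold Nt
    rw [Subgroup.closure_le]
    rintro x (hx | ⟨j, rfl⟩)
    · exact (c.Ht_σ hx).2
    · show σ (φt j (wd 1)) ∈ P.N
      rw [c.hφt]
      exact S.wN j
  exact h0 hg

/-- Monomial elements with the relation `Mono` conjugate the Weyl elements into each other modulo the lifted torus. -/
lemma mono_rel {g : Γ} {i j : Fin n} (h : Mono φ (σ g) i j) : ∃ d ∈ c.Ht, g * wt φt i * g⁻¹ = d * wt φt j := by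
  have hlift : ∀ t : Fd i, g * φt i (wd (1 : Fd i)) * g⁻¹ = (g * φt i (uu 1) * g⁻¹) * (g * φt i (ll (-1)) * g⁻¹) * (g * φt i (uu 1) * g⁻¹) := by
    intro _
    simp only [wd, map_mul, inv_one]
    group
  rcases h with ⟨u, h1, h2⟩ | ⟨u, h1, h2⟩
  · have e1 : g * φt i (uu 1) * g⁻¹ = φt j (uu (u : Fd j)) := by
      apply c.lift _ _ ((c.pu i 1).conj g) (c.pu j _)
      rw [map_mul, map_mul, map_inv, c.hφt, c.hφt]
      exact h1
    have e2 : g * φt i (ll (-1)) * g⁻¹ = φt j (ll (-(u : Fd j)⁻¹)) := by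
      apply c.lift _ _ ((c.pl i _).conj g) (c.pl j _)
      rw [map_mul, map_mul, map_inv, c.hφt, c.hφt]
      exact h2
    refine ⟨φt j (dd u), c.Ht_dd j u, ?_⟩
    rw [wt, hlift 1, e1, e2, ← map_mul, ← map_mul, ← map_mul]
    congr 1
    exact wd_eq_dd u
  · have e1 : g * φt i (uu 1) * g⁻¹ = φt j (ll (u : Fd j)) := by
      apply c.lift _ _ ((c.pu i 1).conj g) (c.pl j _)
      rw [map_mul, map_mul, map_inv, c.hφt, c.hφt]
      exact h1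
    have e2 : g * φt i (ll (-1)) * g⁻¹ = φt j (uu (-(u : Fd j)⁻¹)) := by
      apply c.lift _ _ ((c.pl i _).conj g) (c.pu j _)
      rw [map_mul, map_mul, map_inv, c.hφt, c.hφt]
      exact h2
    refine ⟨φt j (dd (-u⁻¹)), c.Ht_dd j _, ?_⟩
    rw [wt, hlift 1, e1, e2, ← map_mul, ← map_mul, ← map_mul]
    congr 1
    rw [wd_of_swap]
    have := wd_eq_dd (-u⁻¹)
    simpa using this

/-- Elements of the lifted monomial group over the torus are in the lifted torus. -/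
lemma mem_Ht_of {x : Γ} (hx : x ∈ c.Nt) (hb : σ x ∈ P.B) : x ∈ c.Ht := by
  classical
  let σN : c.Nt →* P.N := (σ.comp c.Nt.subtype).codRestrict P.N (fun y => c.Nt_σ y.2)
  let κ' : c.Nt →* M.Group := κ.comp σN
  let W : Fin n → c.Nt := fun i => ⟨wt φt i, c.wt_mem i⟩
  have hW : ∀ i, σN (W i) = ⟨φ i (wd 1), S.wN i⟩ := fun i => Subtype.ext (c.hφt i _)
  have h := cox_lemma M (Ht := c.Ht) (Nt := c.Nt) W ?_ ?_ κ' ?_ ?_ ?_ ?_ (c.Ht_le_Nt) ⟨x, hx⟩ ?_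
  · exact h
  · intro y hy
    exact hy
  · intro g hg y hy
    exact (c.Nt_norm hg).1 y hy
  · intro y hy
    exact (S.κ_ker _).2 (c.Ht_σ hy).1
  · intro i
    show κ (σN (W i)) = _
    rw [hW, S.κ_w]
  · intro i
    show φt i (wd 1) * φt i (wd 1) ∈ c.Ht
    rw [← map_mul]
    have e : wd (1 : Fd i) * wd (1 : Fd i) = dd (-1 : (Fd i)ˣ) := by
      have h1 := wd_eq_dd (-1 : (Fd i)ˣ)
      have h2 := wd_one_inv (F := Fd i)
      have h3 : ((-1 : (Fd i)ˣ) : Fd i) = -1 := by simp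
      rw [h3, ← h2] at h1
      have h4 : dd (-1 : (Fd i)ˣ) * wd (1 : Fd i) * wd (1 : Fd i) = 1 := by
        rw [← h1, inv_mul_cancel]
      have h5 : (dd (-1 : (Fd i)ˣ))⁻¹ = wd (1 : Fd i) * wd (1 : Fd i) := by
        rw [mul_assoc] at h4
        exact inv_eq_of_mul_eq_one_right h4
      rw [← h5]
      have h6 : dd (-1 : (Fd i)ˣ) * dd (-1 : (Fd i)ˣ) = 1 := by
        rw [← dd_mul]
        simp [dd_one]
      exact inv_eq_of_mul_eq_one_right h6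
    rw [e]
    exact c.Ht_dd i _
  · intro i j hij
    have hrelG : ∀ (g : c.Nt) (a b : Fin n), Mono φ (σ g.1) a b → ∃ d : c.Nt, d.1 ∈ c.Ht ∧ g * W a * g⁻¹ = d * W b := by
      intro g a b hm
      obtain ⟨d, hd, e⟩ := c.mono_rel hm
      exact ⟨⟨d, c.Ht_le_Nt hd⟩, hd, Subtype.ext e⟩
    have hσW : ∀ a, σ (W a).1 = φ a (wd 1) := fun a => c.hφt a _
    rcases S.dih i j hij with ⟨h, e⟩ | ⟨h, e⟩ | ⟨h, e⟩ | ⟨h, e⟩
    · refine Or.inl ⟨h, hrelG _ _ _ ?_⟩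
      rw [hσW]
      exact e
    · refine Or.inr (Or.inl ⟨h, hrelG _ _ _ ?_⟩)
      have : σ (W i * W j).1 = φ i (wd 1) * φ j (wd 1) := by
        show σ ((W i).1 * (W j).1) = _
        rw [map_mul, hσW, hσW]
      rw [this]
      exact e
    · refine Or.inr (Or.inr (Or.inl ⟨h, hrelG _ _ _ ?_⟩))
      have : σ (W i * W j * W i).1 = φ i (wd 1) * φ j (wd 1) * φ i (wd 1) := by
        show σ ((W i).1 * (W j).1 * (W i).1) = _
        rw [map_mul, map_mul, hσW, hσW]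
      rw [this]
      exact e
    · refine Or.inr (Or.inr (Or.inr ⟨h, hrelG _ _ _ ?_⟩))
      have : σ (W i * W j * W i * W j * W i).1 = φ i (wd 1) * φ j (wd 1) * φ i (wd 1) * φ j (wd 1) * φ i (wd 1) := by
        show σ ((W i).1 * (W j).1 * (W i).1 * (W j).1 * (W i).1) = _
        rw [map_mul, map_mul, map_mul, map_mul, hσW, hσW]
      rw [this]
      exact e
  · show κ (σN ⟨x, hx⟩) = 1
    exact (S.κ_ker _).2 hb

/-- The theorem: the central extension splits. -/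
theorem exists_section : ∃ s : G →* Γ, ∀ g, σ (s g) = g := by
  classical
  obtain ⟨Ut, hUt, hUs⟩ := exists_Ut c.hce c.hr c.hp c.hrp c.hK U S.Up
  have hconj : ∀ (g y : Γ), y ∈ Ut → σ g * σ y * (σ g)⁻¹ ∈ U → g * y * g⁻¹ ∈ Ut := by
    intro g y hy h
    rw [hUt]
    refine ⟨?_, ((hUt y).1 hy).2.conj g⟩
    rwa [map_mul, map_mul, map_inv]
  have hnorm : c.Ht ≤ Subgroup.normalizer (Ut : Set Γ) := by
    intro x hx
    have hx' := c.Ht_σ hx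
    rw [Subgroup.mem_normalizer_iff]
    intro y
    constructor
    · intro hy
      apply hconj _ _ hy
      exact S.conjU _ hx' _ ((hUt y).1 hy).1
    · intro hy
      have h1 := hconj x⁻¹ _ hy (by
        have h2 := S.conjU _ (Subgroup.inv_mem _ hx') _ ((hUt _).1 hy).1
        rwa [map_inv])
      have e : x⁻¹ * (x * y * x⁻¹) * x⁻¹⁻¹ = y := by group
      rwa [e] at h1
  have hBt : ∀ g, g ∈ Ut ⊔ c.Ht ↔ ∃ u ∈ Ut, ∃ k ∈ c.Ht, g = u * k := fun g =>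
    Cfsg.Agent.Lib.Chev.GroupLem.mem_sup_iff_of_le_normalizer hnorm
  have hφU : ∀ i t, φt i (uu t) ∈ Ut := by
    intro i t
    rw [hUt, c.hφt]
    exact ⟨S.φU i t, c.pu i t⟩
  have hBσ : ∀ x ∈ Ut ⊔ c.Ht, σ x ∈ P.B := by
    intro x hx
    obtain ⟨u, hu, k, hk, rfl⟩ := (hBt x).1 hx
    rw [map_mul]
    exact P.B.mul_mem (S.U_le ((hUt u).1 hu).1) (c.Ht_σ hk).1
  -- factorisation
  have hfac : ∀ (i : Fin n), ∀ u ∈ Ut, ∃ t : Fd i, ∃ y ∈ Ut, u = φt i (uu t) * y ∧ wt φt i * y * (wt φt i)⁻¹ ∈ Ut := by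
    intro i u hu
    obtain ⟨t, y, hy, e, hs⟩ := S.factor i (σ u) ((hUt u).1 hu).1
    have hy1 : (φt i (uu t))⁻¹ * u ∈ Ut := Ut.mul_mem (Ut.inv_mem (hφU i t)) hu
    have hy2 : σ ((φt i (uu t))⁻¹ * u) = y := by
      rw [map_mul, map_inv, e, c.hφt]
      group
    refine ⟨t, _, hy1, by group, hconj _ _ hy1 ?_⟩
    rw [hy2]
    have : σ (wt φt i) = φ i (wd 1) := c.hφt _ _
    rwa [this]
  have hconjb : ∀ (i : Fin n) (t : Fd i) (y k : Γ), wt φt i * (φt i (uu t) * y * k) * (wt φt i)⁻¹ =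
      φt i (ll (-t)) * (wt φt i * y * (wt φt i)⁻¹) * (wt φt i * k * (wt φt i)⁻¹) := by
    intro i t y k
    rw [← wd_mul_uu_conj, map_mul, map_mul, map_inv]
    group
  have L : Lift P σ (Ut ⊔ c.Ht) c.Nt := by
    refine ⟨hBσ, ?_, ?_, fun x hx => c.Nt_σ hx, ?_, ?_, ?_⟩
    · intro b hb
      obtain ⟨u, hu, h, hh, rfl⟩ := S.split b hb
      obtain ⟨x, hx, rfl⟩ := hUs u hu
      obtain ⟨y, hy, rfl⟩ := c.Ht_surj hh
      exact ⟨x * y, (Ut ⊔ c.Ht).mul_mem (Subgroup.mem_sup_left hx) (Subgroup.mem_sup_right hy), map_mul _ _ _⟩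
    · intro x hx h1
      obtain ⟨u, hu, k, hk, rfl⟩ := (hBt x).1 hx
      rw [map_mul] at h1
      have h2 : σ u = (σ k)⁻¹ := eq_inv_of_mul_eq_one_left h1
      have h3 : σ u ∈ P.B ⊓ P.N := by
        rw [h2]
        exact Subgroup.inv_mem _ (c.Ht_σ hk)
      have h4 := S.U_H _ ((hUt u).1 hu).1 h3
      have h5 : u = 1 := by
        apply c.lift _ _ ((hUt u).1 hu).2 ⟨0, by simp⟩
        rw [h4, map_one]
      have h6 : σ k = 1 := by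
        rw [h5, map_one, one_mul] at h1
        exact h1
      rw [h5, c.Ht_inj hk h6, one_mul]
    · intro m hm
      have hle : P.N ≤ c.Nt.map σ := by
        rw [← P.closure_sup]
        refine sup_le ?_ ?_
        · rw [Subgroup.closure_le]
          intro s hs
          obtain ⟨i, rfl⟩ := S.S_eq s hs
          exact ⟨_, c.wt_mem i, c.hφt _ _⟩
        · intro h hh
          obtain ⟨x, hx, rfl⟩ := c.Ht_surj hh
          exact ⟨x, c.Ht_le_Nt hx, rfl⟩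
      obtain ⟨x, hx, rfl⟩ := hle hm
      exact ⟨x, hx, rfl⟩
    · intro x hx hb
      exact Subgroup.mem_sup_right (c.mem_Ht_of hx hb)
    · intro s hs
      obtain ⟨i, rfl⟩ := S.S_eq s hs
      have hσw : σ (wt φt i) = φ i (wd 1) := c.hφt _ _
      refine ⟨wt φt i, c.wt_mem i, hσw, ?_, ?_⟩
      · intro b hb hb'
        obtain ⟨u, hu, k, hk, rfl⟩ := (hBt b).1 hb
        obtain ⟨t, y, hy, e, hs'⟩ := hfac i u hu
        have hk' := c.Ht_w hk i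
        have e1 := hconjb i t y k
        rw [e] at hb' ⊢
        rw [e1]
        have h1 : σ (wt φt i * (φt i (uu t) * y * k) * (wt φt i)⁻¹) ∈ P.B := by
          rw [map_mul, map_mul, map_inv, hσw]
          exact hb'
        rw [e1, map_mul, map_mul, c.hφt] at h1
        have h2 := hBσ _ (Subgroup.mem_sup_left hs' : _ ∈ Ut ⊔ c.Ht)
        have h3 := (c.Ht_σ hk').1
        have h4 : φ i (ll (-t)) ∈ P.B := by
          have := P.B.mul_mem (P.B.mul_mem h1 (P.B.inv_mem h3)) (P.B.inv_mem h2)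
          simpa [mul_assoc] using this
        have h5 := S.ll_B i _ h4
        have e2 : φt i (ll (-t)) = 1 := by rw [h5, ll_zero'', map_one]
        rw [e2, one_mul]
        exact (Ut ⊔ c.Ht).mul_mem (Subgroup.mem_sup_left hs') (Subgroup.mem_sup_right hk')
      · intro b hb
        obtain ⟨u, hu, k, hk, rfl⟩ := (hBt b).1 hb
        obtain ⟨t, y, hy, e, hs'⟩ := hfac i u hu
        have hk' := c.Ht_w hk i
        have e1 := hconjb i t y k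
        rw [e, e1]
        by_cases ht : t = 0
        · left
          have e2 : φt i (ll (-t)) = 1 := by rw [ht, neg_zero, ll_zero'', map_one]
          rw [e2, one_mul]
          exact (Ut ⊔ c.Ht).mul_mem (Subgroup.mem_sup_left hs') (Subgroup.mem_sup_right hk')
        · right
          have e2 := ll_neg_eq ht
          have e3 := wd_eq_dd (Units.mk0 t⁻¹ (inv_ne_zero ht))
          simp only [Units.val_mk0] at e3
          refine ⟨φt i (uu (-t⁻¹)) * φt i (dd (Units.mk0 t⁻¹ (inv_ne_zero ht))),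
            (Ut ⊔ c.Ht).mul_mem (Subgroup.mem_sup_left (hφU i _)) (Subgroup.mem_sup_right (c.Ht_dd i _)),
            φt i (uu (-t⁻¹)) * (wt φt i * y * (wt φt i)⁻¹) * (wt φt i * k * (wt φt i)⁻¹),
            (Ut ⊔ c.Ht).mul_mem ((Ut ⊔ c.Ht).mul_mem (Subgroup.mem_sup_left (hφU i _)) (Subgroup.mem_sup_left hs'))
              (Subgroup.mem_sup_right hk'), ?_⟩
          rw [e2, e3]
          simp only [map_mul, wt]
          group
  exact L.exists_section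

end Cx

end Cfsg.Agent.Lib.TwRk1
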