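import Cfsg.Agent.Lib.ChevReg250
import Cfsg.Agent.Lib.ChevFix

/-!
# Twisted tori of Chevalley groups without the theorem of Lang

Elements of the torus conjugate in the group are conjugate under `N`; a fixed element of the Frobenius map
which is conjugate to an element of the torus yields a twisted torus of the group over the small field.
-/

set_option autoImplicit false
set_option linter.unusedSectionVars false
set_option linter.unusedVariables false

namespace Cfsg.Agent.Lib.TwTor32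

open Cfsg Cfsg.Lie Cfsg.Agent.Lib.Chev Matrix Cfsg.Agent.Lib.ChevFix

variable {F : Type*} [Field F] {T : Tabs} {X : Extra} {R : RootTab} {D : ChevalleyDatum}

/-- Elements of the torus conjugate in the group are conjugate in `N`. -/
theorem exists_N_conj [Fintype F] (hF : Full T X R D) {t₁ t₂ : GL D.Idx F}
    (ht₁ : t₁ ∈ D.diagonalSubgroup F) (ht₂ : t₂ ∈ D.diagonalSubgroup F)
    {z : GL D.Idx F} (hz : z ∈ D.group F) (hc : z * t₁ * z⁻¹ = t₂) :
    ∃ n : ↥(D.monomialSubgroup F), n.1 * t₁ * n.1⁻¹ = t₂ := by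
  classical
  have hnormU : ∀ h ∈ D.diagonalSubgroup F, ∀ u ∈ D.posUnipotent F, h * u * h⁻¹ ∈ D.posUnipotent F := by
    intro h hh u hu
    exact (Subgroup.mem_normalizer_iff.1 (hF.diagonal_le_normalizer_U hh) u).1 hu
  have hnormN : ∀ n ∈ D.monomialSubgroup F, ∀ h ∈ D.diagonalSubgroup F, n * h * n⁻¹ ∈ D.diagonalSubgroup F := by
    intro n hn h hh
    have := hF.diagonal_normal (F := F)
    have h3 := this.conj_mem ⟨h, hF.c.diagonal_le_monomial hh⟩ (Subgroup.mem_subgroupOf.2 hh) ⟨n, hn⟩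
    exact Subgroup.mem_subgroupOf.1 h3
  obtain ⟨n, hn, hgn⟩ := Cfsg.Agent.Lib.BNPair.exists_mem_dc (P := hF.bnPair F)
    (⟨z, hz⟩ : ↥(D.group F))
  obtain ⟨b, hb, b', hb', e⟩ := Cfsg.Agent.Lib.BNPair.mem_dc.1 hgn
  have hb1 : b.1 ∈ D.borelSubgroup F := Subgroup.mem_subgroupOf.1 hb
  have hb2 : b'.1 ∈ D.borelSubgroup F := Subgroup.mem_subgroupOf.1 hb'
  have hn1 : n.1 ∈ D.monomialSubgroup F := Subgroup.mem_subgroupOf.1 hn
  have he : z = b.1 * n.1 * b'.1 := congrArg Subtype.val e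
  obtain ⟨u₁, hu₁, h₁, hh₁, eb⟩ := (hF.mem_borel_iff).1 hb1
  obtain ⟨v, hv, h₂, hh₂, eb'⟩ := (hF.mem_borel_iff).1 hb2
  set u₂ := h₂⁻¹ * v * h₂ with hu₂
  have hu₂U : u₂ ∈ D.posUnipotent F := by
    have := hnormU _ (inv_mem hh₂) v hv
    rwa [inv_inv] at this
  set n' := h₁ * n.1 * h₂ with hn'
  have hn'N : n' ∈ D.monomialSubgroup F :=
    mul_mem (mul_mem (hF.c.diagonal_le_monomial hh₁) hn1) (hF.c.diagonal_le_monomial hh₂)
  have hz' : z = u₁ * n' * u₂ := by
    rw [he, eb, eb', hn', hu₂]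
    group
  set a := u₁⁻¹ * (t₂ * u₁ * t₂⁻¹) with ha
  have haU : a ∈ D.posUnipotent F := mul_mem (inv_mem hu₁) (hnormU _ ht₂ _ hu₁)
  set a' := (t₁ * u₂ * t₁⁻¹) * u₂⁻¹ with ha'
  have ha'U : a' ∈ D.posUnipotent F := mul_mem (hnormU _ ht₁ _ hu₂U) (inv_mem hu₂U)
  set e₀ := n'⁻¹ * t₂ * n' * t₁⁻¹ with he₀
  have he₀H : e₀ ∈ D.diagonalSubgroup F := by
    have h3 := hnormN _ (inv_mem hn'N) _ ht₂
    rw [inv_inv] at h3
    exact mul_mem h3 (inv_mem ht₁)
  have hcz : t₂ * z * t₁⁻¹ = z := by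
    rw [← hc]
    group
  have hrel : n'⁻¹ * a * n' * (e₀ * a') = 1 := by
    have h3 : a * n' * (e₀ * a') = n' := by
      have h4 : a * n' * (e₀ * a') = u₁⁻¹ * (t₂ * (u₁ * n' * u₂) * t₁⁻¹) * u₂⁻¹ := by
        rw [ha, ha', he₀]
        group
      rw [h4, ← hz', hcz, hz']
      group
    calc n'⁻¹ * a * n' * (e₀ * a') = n'⁻¹ * (a * n' * (e₀ * a')) := by group
      _ = 1 := by rw [h3, inv_mul_cancel]
  -- orders
  set q := Fintype.card F with hq
  set m := q ^ R.N with hm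
  have hcard : Nat.card ↥(D.posUnipotent F) = m := hF.card_U_fintype
  have hfinU : Finite ↥(D.posUnipotent F) := by
    apply Nat.finite_of_card_ne_zero
    rw [hcard]
    exact pow_ne_zero _ Fintype.card_ne_zero
  have hapow : a ^ m = 1 := by
    have h3 : (⟨a, haU⟩ : ↥(D.posUnipotent F)) ^ Nat.card ↥(D.posUnipotent F) = 1 := pow_card_eq_one'
    rw [hcard] at h3
    exact congrArg Subtype.val h3
  have hpow2 : (n'⁻¹ * a * n') ^ m = 1 := by
    have h3 : (n'⁻¹ * a * n') ^ m = n'⁻¹ * a ^ m * n' := by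
      have := conj_pow (a := n'⁻¹) (b := a) (i := m)
      rwa [inv_inv] at this
    rw [h3, hapow]
    group
  have hinv : n'⁻¹ * a * n' = (e₀ * a')⁻¹ := eq_inv_of_mul_eq_one_left hrel
  have hpow3 : (e₀ * a') ^ m = 1 := by
    rw [hinv, inv_pow] at hpow2
    exact inv_eq_one.1 hpow2
  have hform : ∀ k : ℕ, ∃ w ∈ D.posUnipotent F, (e₀ * a') ^ k = e₀ ^ k * w := by
    intro k
    induction k with
    | zero => exact ⟨1, one_mem _, by simp⟩
    | succ k ih =>
      obtain ⟨w, hw, e3⟩ := ih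
      refine ⟨e₀⁻¹ * w * e₀ * a', mul_mem ?_ ha'U, ?_⟩
      · have := hnormU _ (inv_mem he₀H) w hw
        rwa [inv_inv] at this
      · rw [pow_succ, e3, pow_succ]
        group
  obtain ⟨w, hw, e3⟩ := hform m
  rw [hpow3] at e3
  have he₀m : e₀ ^ m = 1 := by
    have h3 : e₀ ^ m ∈ D.posUnipotent F ⊓ D.diagonalSubgroup F := by
      refine Subgroup.mem_inf.2 ⟨?_, pow_mem he₀H m⟩
      have : e₀ ^ m = w⁻¹ := eq_inv_of_mul_eq_one_left e3.symm
      rw [this]
      exact inv_mem hw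
    rw [hF.U_inf_H, Subgroup.mem_bot] at h3
    exact h3
  obtain ⟨c₀, hc₀⟩ := (hF.mem_diagonal_iff).1 he₀H
  have he₀1 : e₀ = 1 := by
    have h3 : c₀ ^ m = c₀ := by
      funext i
      apply Units.ext
      rw [Pi.pow_apply, Units.val_pow_eq_pow_val, hm, hq]
      exact FiniteField.pow_card_pow _ _
    rw [hc₀] at he₀m ⊢
    have h4 : tor R D c₀ ^ m = tor R D (c₀ ^ m) := (map_pow (torHom R D) c₀ m).symm
    rw [h4, h3] at he₀m
    exact he₀m
  refine ⟨⟨n', hn'N⟩, ?_⟩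
  show n' * t₁ * n'⁻¹ = t₂
  have h3 : n'⁻¹ * t₂ * n' = t₁ := by
    rw [he₀, mul_inv_eq_one] at he₀1
    exact he₀1
  rw [← h3]
  group

/-- An element of `N` carries the values on the roots along its permutation. -/
theorem chi_conj_N (hF : Full T X R D) (c c' : Fin D.rank → Fˣ) (n : ↥(D.monomialSubgroup F))
    (h : n.1 * tor R D c * n.1⁻¹ = tor R D c') (s : Fin D.nroots) :
    chiT D c' (hF.rhoN F n s) = chiT D c s := by
  obtain ⟨u, hu⟩ := hF.rhoN_spec_apply n s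
  have e1 : tor R D c' * (n.1 * hF.c.xG s (1 : F) * n.1⁻¹) * (tor R D c')⁻¹ =
      n.1 * (tor R D c * hF.c.xG s (1 : F) * (tor R D c)⁻¹) * n.1⁻¹ := by
    rw [← h]
    group
  rw [hu, hF.tor_conj_xG c' (hF.rhoN F n s).2, hF.tor_conj_xG c s.2, hu] at e1
  have h2 := hF.xG_param_inj (hF.rhoN F n s).2 e1
  apply Units.ext
  have hu0 : (u : F) ≠ 0 := u.ne_zero
  have h3 : (u : F) * (((chiT D c' (hF.rhoN F n s) : Fˣ) : F) - ((chiT D c s : Fˣ) : F)) = 0 := by
    linear_combination h2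
  rcases mul_eq_zero.1 h3 with h4 | h4
  · exact absurd h4 hu0
  · exact sub_eq_zero.1 h4

theorem chiT_pow (c : Fin D.rank → Fˣ) (k : ℕ) (s : ℕ) : chiT D (c ^ k) s = chiT D c s ^ k := by
  unfold chiT
  rw [← Finset.prod_pow]
  apply Finset.prod_congr rfl
  intro i _
  rw [Pi.pow_apply, ← zpow_natCast, ← zpow_natCast, ← _root_.zpow_mul, ← _root_.zpow_mul, mul_comm]

/-- Torus elements with the same values on the roots are equal. -/
theorem tor_eq_of_chi (hF : Full T X R D) {c c' : Fin D.rank → Fˣ}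
    (h : ∀ s : Fin D.nroots, chiT D c s = chiT D c' s) : tor R D c = (tor R D c' : GL D.Idx F) := by
  rw [hF.tor_eq, hF.tor_eq]
  exact diagG_congr D (fun s hs => h ⟨s, hs⟩)

theorem chi_eq_of_tor (hF : Full T X R D) {c c' : Fin D.rank → Fˣ}
    (h : tor R D c = (tor R D c' : GL D.Idx F)) (s : Fin D.nroots) : chiT D c s = chiT D c' s := by
  have h1 := congrArg (fun g : GL D.Idx F => (g : Matrix D.Idx D.Idx F) (Sum.inr s) (Sum.inr s)) h
  simp only [hF.tor_eq, coe_diagG, Matrix.diagonal_apply_eq, Sum.elim_inr] at h1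
  exact Units.ext h1

/-- An element of prime order is conjugate into the torus if the prime does not divide the index. -/
theorem exists_conj_torus [Finite F] (hF : Full T X R D) {r : ℕ} [Fact r.Prime]
    (hidx : ¬ r ∣ ((D.diagonalSubgroup F).subgroupOf (D.group F)).index)
    {x : GL D.Idx F} (hx : x ∈ D.group F) (hxr : x ^ r = 1) :
    ∃ Y ∈ D.group F, Y⁻¹ * x * Y ∈ D.diagonalSubgroup F := by
  classical
  haveI : Finite (GL D.Idx F) := inferInstance
  haveI : Finite ↥(D.group F) := inferInstance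
  set H := (D.diagonalSubgroup F).subgroupOf (D.group F) with hH
  let g : ↥(D.group F) := ⟨x, hx⟩
  have hgr : g ^ r = 1 := Subtype.ext hxr
  let P : Subgroup ↥(D.group F) := Subgroup.zpowers g
  have hP : IsPGroup r P := by
    apply IsPGroup.of_card (n := (Nat.factorization (orderOf g)) r)
    rw [Nat.card_zpowers]
    have h1 : orderOf g ∣ r := orderOf_dvd_of_pow_eq_one hgr
    rcases (Nat.dvd_prime (Fact.out : r.Prime)).1 h1 with h2 | h2
    · rw [h2]; simp
    · rw [h2]; simp [Nat.Prime.factorization_self (Fact.out : r.Prime)]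
  have hc := IsPGroup.card_modEq_card_fixedPoints (p := r) hP (↥(D.group F) ⧸ H)
  have hne : (MulAction.fixedPoints P (↥(D.group F) ⧸ H)).Nonempty := by
    by_contra h0
    rw [Set.not_nonempty_iff_eq_empty] at h0
    have h1 : Nat.card (MulAction.fixedPoints P (↥(D.group F) ⧸ H)) = 0 := by
      rw [h0]
      simp
    rw [h1] at hc
    apply hidx
    have := (Nat.modEq_zero_iff_dvd).1 hc
    rw [Subgroup.index]
    exact this
  obtain ⟨a, ha⟩ := hne
  obtain ⟨y, rfl⟩ := QuotientGroup.mk_surjective a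
  have h1 := ha ⟨g, Subgroup.mem_zpowers g⟩
  have h2 : ((g * y : ↥(D.group F)) : ↥(D.group F) ⧸ H) = (y : ↥(D.group F) ⧸ H) := h1
  have h3 := QuotientGroup.eq.1 h2
  refine ⟨y.1, y.2, ?_⟩
  have h4 := H.inv_mem h3
  have e : ((g * y)⁻¹ * y)⁻¹ = y⁻¹ * g * y := by group
  rw [e] at h4
  exact Subgroup.mem_subgroupOf.1 h4

section Assembly

variable {K : Type*} [Field K] [Fintype F] [Fintype K]
variable (f : F →+* K) (σ : K ≃+* K) (q : ℕ)

local notation "sg" => glM D (σ : K →+* K)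

/-- The Frobenius map on the torus. -/
theorem sg_tor (hF : Full T X R D) (hq : ∀ x : K, σ x = x ^ q) (c : Fin D.rank → Kˣ) :
    sg (tor R D c) = tor R D (c ^ q) := by
  rw [Fix.glM_tor hF]
  congr 1
  funext i
  apply Units.ext
  rw [Pi.pow_apply, Units.val_pow_eq_pow_val, ← hq]
  rfl

/-- The condition cutting out the twisted torus. -/
def Tw (hF : Full T X R D) (n : ↥(D.monomialSubgroup K)) (q : ℕ) (c : Fin D.rank → Kˣ) : Prop :=
  ∀ s : Fin D.nroots, chiT D c (hF.rhoN K n s) = chiT D c s ^ q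

theorem tw_iff (hF : Full T X R D) (n : ↥(D.monomialSubgroup K)) (c : Fin D.rank → Kˣ) :
    Tw hF n q c ↔ n.1 * tor R D (c ^ q) * n.1⁻¹ = tor R D c := by
  have hH : n.1 * tor R D (c ^ q) * n.1⁻¹ ∈ D.diagonalSubgroup K := by
    have := hF.diagonal_normal (F := K)
    have h3 := this.conj_mem ⟨tor R D (c ^ q), hF.c.diagonal_le_monomial ((hF.mem_diagonal_iff).2 ⟨_, rfl⟩)⟩
      (Subgroup.mem_subgroupOf.2 ((hF.mem_diagonal_iff).2 ⟨_, rfl⟩)) n
    exact Subgroup.mem_subgroupOf.1 h3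
  obtain ⟨c', hc'⟩ := (hF.mem_diagonal_iff).1 hH
  have hchi := chi_conj_N hF (c ^ q) c' n hc'
  constructor
  · intro h
    rw [hc']
    apply tor_eq_of_chi hF
    intro s
    obtain ⟨s', rfl⟩ := (hF.rhoN K n).surjective s
    rw [hchi, h s', chiT_pow]
  · intro h s
    rw [hc'] at h
    have h1 := chi_eq_of_tor hF h
    rw [← h1, hchi, chiT_pow]

/-- Conjugating a twisted torus with `Y`. -/
theorem fix_iff (hF : Full T X R D) (hq : ∀ x : K, σ x = x ^ q) {Y : GL D.Idx K}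
    (n : ↥(D.monomialSubgroup K)) {τ : GL D.Idx K} (hτ : τ ∈ D.diagonalSubgroup K)
    (hY : sg Y = Y * (n.1 * τ)) (c : Fin D.rank → Kˣ) :
    sg (Y * tor R D c * Y⁻¹) = Y * tor R D c * Y⁻¹ ↔ Tw hF n q c := by
  rw [tw_iff]
  obtain ⟨d, rfl⟩ := (hF.mem_diagonal_iff).1 hτ
  have hcomm : tor R D d * tor R D (c ^ q) * (tor R D d)⁻¹ = (tor R D (c ^ q) : GL D.Idx K) := by
    rw [tor_mul, mul_comm, ← tor_mul, mul_inv_cancel_right]
  have e : sg (Y * tor R D c * Y⁻¹) = Y * (n.1 * tor R D (c ^ q) * n.1⁻¹) * Y⁻¹ := by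
    rw [map_mul, map_mul, map_inv, sg_tor σ q hF hq, hY]
    calc Y * (n.1 * tor R D d) * tor R D (c ^ q) * (Y * (n.1 * tor R D d))⁻¹
        = Y * (n.1 * (tor R D d * tor R D (c ^ q) * (tor R D d)⁻¹) * n.1⁻¹) * Y⁻¹ := by group
      _ = _ := by rw [hcomm]
  rw [e]
  constructor
  · intro h
    exact mul_left_cancel (mul_right_cancel h)
  · intro h
    rw [h]

/-- **The twisted torus of the small group**, from the data over the big field. -/
theorem assembly (hF : Full T X R D) (hfσ : ∀ b, σ (f b) = f b) (hf : ∀ a : K, σ a = a → ∃ b, f b = a)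
    (hq : ∀ x : K, σ x = x ^ q)
    (hU : ∀ c : Fin D.rank → Kˣ, (∀ j < D.rank, cartanMap D c j = 1) → c = 1)
    {Y : GL D.Idx K} (hYG : Y ∈ D.group K) (n : ↥(D.monomialSubgroup K)) {τ : GL D.Idx K}
    (hτ : τ ∈ D.diagonalSubgroup K) (hY : sg Y = Y * (n.1 * τ))
    (c₀ : Fin D.rank → Kˣ) (m : ℕ) (hTw : Tw hF n q c₀)
    (h1 : ∀ r, r < D.nroots → chiT D c₀ r ≠ 1)
    (h2 : ∀ n : ↥(D.monomialSubgroup K), (∀ s : Fin D.nroots, chiT D c₀ (hF.rhoN K n s) = chiT D c₀ s) →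
      n.1 ∈ D.diagonalSubgroup K)
    (hall : ∀ c, Tw hF n q c → ∃ k : ℤ, tor R D c = (tor R D c₀ : GL D.Idx K) ^ k)
    (hord : orderOf (tor R D c₀ : GL D.Idx K) = m) :
    ∃ H : Subgroup ↥(D.group F), IsCyclic ↥H ∧ Nat.card ↥H = m ∧
      Subgroup.centralizer (H : Set ↥(D.group F)) = H := by
  classical
  set t₀ : GL D.Idx K := tor R D c₀ with ht₀
  have ht₀T : t₀ ∈ D.diagonalSubgroup K := (hF.mem_diagonal_iff).2 ⟨c₀, rfl⟩
  have ht₀G : t₀ ∈ D.group K := hF.c.monomial_le_group (hF.c.diagonal_le_monomial ht₀T)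
  set A := Y * t₀ * Y⁻¹ with hA
  have hAG : A ∈ D.group K := mul_mem (mul_mem hYG ht₀G) (inv_mem hYG)
  have hAfix : sg A = A := (fix_iff σ q hF hq n hτ hY c₀).2 hTw
  obtain ⟨s₀, hs₀, hιs₀⟩ := Fix.mem_of_fixed hF σ f hf hU ⟨A, hAG⟩ hAfix
  have hι : glM D f s₀ = A := hιs₀
  have hinj := glM_injective D f
  have hordA : orderOf A = m := by
    rw [hA, ← hord]
    exact orderOf_eq_orderOf_iff.2 (fun k => by
      rw [conj_pow]
      constructor
      · intro h
        have e : t₀ ^ k = Y⁻¹ * (Y * t₀ ^ k * Y⁻¹) * Y := by group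
        rw [e, h]
        group
      · intro h
        rw [h]
        group)
  have hords : orderOf s₀ = m := by
    rw [← hordA, ← hι]
    exact (orderOf_injective (glM D f) hinj s₀).symm
  refine ⟨Subgroup.zpowers ⟨s₀, hs₀⟩, inferInstance, ?_, ?_⟩
  · rw [Nat.card_zpowers, Subgroup.orderOf_mk, hords]
  · ext g
    constructor
    · intro hg
      have hcomm : g.1 * s₀ = s₀ * g.1 := by
        have h3 := Subgroup.mem_centralizer_iff.1 hg ⟨s₀, hs₀⟩ (Subgroup.mem_zpowers _)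
        exact (congrArg Subtype.val h3).symm
      set ι := glM D f with hιdef
      have hιg : ι g.1 ∈ D.group K := map_group_le D f ⟨g.1, g.2, rfl⟩
      set g' := Y⁻¹ * ι g.1 * Y with hg'
      have hg'G : g' ∈ D.group K := mul_mem (mul_mem (inv_mem hYG) hιg) hYG
      have hcomm2 : ι g.1 * A = A * ι g.1 := by
        rw [← hι, ← map_mul, ← map_mul, hcomm]
      have hg'c : g' * t₀ = t₀ * g' := by
        have e1 : g' * t₀ = Y⁻¹ * (ι g.1 * A) * Y := by
          rw [hg', hA]; group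
        have e2 : t₀ * g' = Y⁻¹ * (A * ι g.1) * Y := by
          rw [hg', hA]; group
        rw [e1, e2, hcomm2]
      have hdiag := Cfsg.Agent.Lib.ChevReg250.mem_diagonal_of_comm2 hF c₀ h1 h2 hg'G hg'c
      obtain ⟨c₁, hc₁⟩ := (hF.mem_diagonal_iff).1 hdiag
      have hι1 : ι g.1 = Y * tor R D c₁ * Y⁻¹ := by
        rw [← hc₁, hg']
        group
      have hfix1 : sg (Y * tor R D c₁ * Y⁻¹) = Y * tor R D c₁ * Y⁻¹ := by
        rw [← hι1]
        exact Fix.fixed_of_mem σ f hfσ ⟨g.1, g.2, rfl⟩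
      obtain ⟨k, hk⟩ := hall c₁ ((fix_iff σ q hF hq n hτ hY c₁).1 hfix1)
      refine Subgroup.mem_zpowers_iff.2 ⟨k, ?_⟩
      apply Subtype.ext
      apply hinj
      show ι ((⟨s₀, hs₀⟩ ^ k : ↥(D.group F)) : GL D.Idx F) = ι g.1
      rw [Subgroup.coe_zpow, map_zpow]
      show (ι s₀) ^ k = ι g.1
      rw [hι, hι1, hk, hA, conj_zpow]
    · intro hg
      obtain ⟨k, rfl⟩ := Subgroup.mem_zpowers_iff.1 hg
      refine Subgroup.mem_centralizer_iff.2 ?_
      intro h hh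
      obtain ⟨l, rfl⟩ := Subgroup.mem_zpowers_iff.1 hh
      exact zpow_mul_comm _ _ _

end Assembly

end Cfsg.Agent.Lib.TwTor32
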