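import Cfsg.Agent.Lib.TwTor32A

/-!
# The action of the Weyl group on the root lattice, and characters of the lattice
-/

set_option autoImplicit false
set_option linter.unusedSectionVars false
set_option linter.unusedVariables false
set_option linter.unusedSimpArgs false

namespace Cfsg.Agent.Lib.TwTor32

open Cfsg Cfsg.Lie Cfsg.Agent.Lib.Chev Matrix Cfsg.Agent.Lib.ChevFix

variable {K : Type*} [Field K] {T : Tabs} {X : Extra} {R : RootTab} {D : ChevalleyDatum}

/-- The coordinates of a root. -/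
noncomputable def rcV (R : RootTab) (D : ChevalleyDatum) (s : ℕ) : Fin D.rank → ℤ := fun j => R.rcAt s j

/-- The character of the root lattice defined by an element of the torus. -/
noncomputable def Xc (c : Fin D.rank → Kˣ) (v : Fin D.rank → ℤ) : Kˣ := ∏ j : Fin D.rank, cartanMap D c j ^ v j

theorem Xc_rc (hF : Full T X R D) (c : Fin D.rank → Kˣ) {s : ℕ} (hs : s < D.nroots) :
    Xc c (rcV R D s) = chiT D c s := by
  rw [hF.chiT_eq_chr c hs]
  unfold chr Xc rcV
  rw [Finset.prod_range]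

theorem Xc_zero (c : Fin D.rank → Kˣ) : Xc c 0 = 1 := by
  unfold Xc
  simp

theorem Xc_add (c : Fin D.rank → Kˣ) (v w : Fin D.rank → ℤ) : Xc c (v + w) = Xc c v * Xc c w := by
  unfold Xc
  rw [← Finset.prod_mul_distrib]
  apply Finset.prod_congr rfl
  intro j _
  rw [Pi.add_apply, _root_.zpow_add]

theorem Xc_smul (c : Fin D.rank → Kˣ) (k : ℤ) (v : Fin D.rank → ℤ) : Xc c (k • v) = Xc c v ^ k := by
  unfold Xc
  rw [← Finset.prod_zpow]
  apply Finset.prod_congr rfl
  intro j _
  rw [Pi.smul_apply, smul_eq_mul, ← _root_.zpow_mul, mul_comm]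

theorem Xc_sum {ι : Type*} (c : Fin D.rank → Kˣ) (s : Finset ι) (g : ι → Fin D.rank → ℤ) :
    Xc c (∑ i ∈ s, g i) = ∏ i ∈ s, Xc c (g i) := by
  classical
  induction s using Finset.induction_on with
  | empty => simp [Xc_zero]
  | insert a s ha ih => rw [Finset.sum_insert ha, Finset.prod_insert ha, Xc_add, ih]

theorem Xc_single (c : Fin D.rank → Kˣ) (j : Fin D.rank) :
    Xc c (Pi.single j 1) = cartanMap D c j := by
  classical
  unfold Xc
  rw [Finset.prod_eq_single j]
  · simp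
  · intro i _ hi
    simp [Pi.single_eq_of_ne hi]
  · simp

theorem Xc_mulVec (c : Fin D.rank → Kˣ) (B : Matrix (Fin D.rank) (Fin D.rank) ℤ) (v : Fin D.rank → ℤ) :
    Xc c (B *ᵥ v) = ∏ j : Fin D.rank, Xc c (fun i => B i j) ^ v j := by
  have e : B *ᵥ v = ∑ j : Fin D.rank, v j • (fun i => B i j) := by
    funext i
    simp [Matrix.mulVec, dotProduct, Finset.sum_apply, mul_comm]
  rw [e, Xc_sum]
  apply Finset.prod_congr rfl
  intro j _
  rw [Xc_smul]

theorem rcV_pF (hF : Full T X R D) (j : Fin D.rank) : rcV R D (hF.pF j) = Pi.single j 1 := by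
  classical
  funext i
  show R.rcAt (D.simple j) i = _
  rw [hF.simple_rc j.2 i.2]
  by_cases h : i = j
  · subst h
    simp
  · have h2 : (j : ℕ) ≠ i := fun e => h (Fin.ext e.symm)
    rw [if_neg h2, Pi.single_eq_of_ne h]

/-- A root is determined by its coordinates. -/
theorem rcV_inj (hF : Full T X R D) {s t : ℕ} (hs : s < D.nroots) (ht : t < D.nroots)
    (h : rcV R D s = rcV R D t) : s = t := by
  have hlin : R.lin D.rank hF.phiW s = R.lin D.rank hF.phiW t := by
    unfold RootTab.lin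
    apply Finset.sum_congr rfl
    intro j hj
    have := congrFun h ⟨j, Finset.mem_range.1 hj⟩
    simp only [rcV] at this
    rw [this]
  by_contra hne
  rcases Nat.lt_or_gt_of_ne hne with h1 | h1
  · exact absurd hlin (ne_of_lt (hF.phi_strict h1 ht))
  · exact absurd hlin.symm (ne_of_lt (hF.phi_strict h1 hs))

/-- The matrix of a permutation of the roots. -/
noncomputable def mat (hF : Full T X R D) (σ : Equiv.Perm (Fin D.nroots)) : Matrix (Fin D.rank) (Fin D.rank) ℤ :=
  fun i j => R.rcAt (σ (hF.pF j)) i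

theorem exists_lin (hF : Full T X R D) {σ : Equiv.Perm (Fin D.nroots)} (hσ : σ ∈ hF.Wk Set.univ) :
    ∃ B : Matrix (Fin D.rank) (Fin D.rank) ℤ, ∀ s : Fin D.nroots, rcV R D (σ s) = B *ᵥ rcV R D s := by
  classical
  refine hF.Wk_induction (J := Set.univ)
    (p := fun σ => ∃ B : Matrix (Fin D.rank) (Fin D.rank) ℤ, ∀ s : Fin D.nroots, rcV R D (σ s) = B *ᵥ rcV R D s)
    ⟨1, fun s => by simp⟩ ?_ σ hσ
  rintro σ j hj - ⟨B, hB⟩
  let S : Matrix (Fin D.rank) (Fin D.rank) ℤ := fun m k =>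
    (if m = k then 1 else 0) - (if (m : ℕ) = j then D.cartan j (D.simple k) else 0)
  refine ⟨B * S, fun s => ?_⟩
  rw [Equiv.Perm.mul_apply, hB, ← Matrix.mulVec_mulVec]
  congr 1
  funext m
  show R.rcAt (X.wf j s) m = _
  rw [hF.r.wf_rc j hj s s.2 m m.2]
  have h1 : (S *ᵥ rcV R D s) m = rcV R D s m -
      (if (m : ℕ) = j then ∑ k : Fin D.rank, D.cartan j (D.simple k) * rcV R D s k else 0) := by
    simp only [Matrix.mulVec, dotProduct, S, sub_mul, Finset.sum_sub_distrib]
    congr 1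
    · simp
    · by_cases hm : (m : ℕ) = j
      · simp [hm]
      · simp [hm]
  rw [h1]
  show _ = R.rcAt s m - _
  congr 1
  by_cases hm : (m : ℕ) = j
  · rw [if_pos hm, if_pos hm, hF.r.cartan_lin j hj s s.2, sumZ_eq, Finset.sum_range]
    apply Finset.sum_congr rfl
    intro k _
    rw [mul_comm]
    rfl
  · rw [if_neg hm, if_neg hm]

theorem mat_rc (hF : Full T X R D) {σ : Equiv.Perm (Fin D.nroots)} (hσ : σ ∈ hF.Wk Set.univ) (s : Fin D.nroots) :
    rcV R D (σ s) = mat hF σ *ᵥ rcV R D s := by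
  classical
  obtain ⟨B, hB⟩ := exists_lin hF hσ
  have e : mat hF σ = B := by
    ext i j
    show rcV R D (σ (hF.pF j)) i = _
    rw [hB, rcV_pF, Matrix.mulVec_single_one]
    rfl
  rw [e]
  exact hB s

theorem mat_one (hF : Full T X R D) : mat hF 1 = 1 := by
  classical
  ext i j
  show rcV R D (hF.pF j) i = _
  rw [rcV_pF, Matrix.one_apply]
  by_cases h : i = j
  · subst h
    simp
  · rw [if_neg h, Pi.single_eq_of_ne h]

theorem mat_mul (hF : Full T X R D) {σ τ : Equiv.Perm (Fin D.nroots)} (hσ : σ ∈ hF.Wk Set.univ)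
    (hτ : τ ∈ hF.Wk Set.univ) : mat hF (σ * τ) = mat hF σ * mat hF τ := by
  classical
  ext i j
  show rcV R D ((σ * τ) (hF.pF j)) i = _
  rw [Equiv.Perm.mul_apply, mat_rc hF hσ, mat_rc hF hτ, rcV_pF, Matrix.mulVec_single_one]
  rfl

theorem mat_pow (hF : Full T X R D) {σ : Equiv.Perm (Fin D.nroots)} (hσ : σ ∈ hF.Wk Set.univ) (k : ℕ) :
    mat hF (σ ^ k) = mat hF σ ^ k := by
  induction k with
  | zero => simp [mat_one]
  | succ k ih =>
    rw [pow_succ, pow_succ, mat_mul hF (pow_mem hσ k) hσ, ih]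

/-- A twist on roots gives a twist on the lattice. -/
theorem Xc_twist (hF : Full T X R D) {σ : Equiv.Perm (Fin D.nroots)} (hσ : σ ∈ hF.Wk Set.univ)
    (c : Fin D.rank → Kˣ) (q : ℕ) (h : ∀ s : Fin D.nroots, chiT D c (σ s) = chiT D c s ^ q)
    (v : Fin D.rank → ℤ) : Xc c (mat hF σ *ᵥ v) = Xc c v ^ q := by
  classical
  rw [Xc_mulVec]
  have h1 : ∀ j : Fin D.rank, Xc c (fun i => mat hF σ i j) = cartanMap D c j ^ q := by
    intro j
    have e : (fun i => mat hF σ i j) = rcV R D (σ (hF.pF j)) := rfl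
    rw [e, Xc_rc hF c (σ (hF.pF j)).2, h]
    rw [← Xc_rc hF c (hF.pF j).2, rcV_pF, Xc_single]
  simp only [h1]
  unfold Xc
  rw [← Finset.prod_pow]
  apply Finset.prod_congr rfl
  intro j _
  rw [← zpow_natCast, ← zpow_natCast, ← _root_.zpow_mul, ← _root_.zpow_mul, mul_comm]

/-- Polynomials in the matrix of a twist act through their values at `q`. -/
theorem Xc_aeval {A : Matrix (Fin D.rank) (Fin D.rank) ℤ} (c : Fin D.rank → Kˣ) (q : ℕ)
    (h : ∀ v, Xc c (A *ᵥ v) = Xc c v ^ q) (p : Polynomial ℤ) (v : Fin D.rank → ℤ) :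
    Xc c (Polynomial.aeval A p *ᵥ v) = Xc c v ^ (p.eval (q : ℤ)) := by
  have hpow : ∀ (n : ℕ) (v : Fin D.rank → ℤ), Xc c ((A ^ n) *ᵥ v) = Xc c v ^ (q ^ n) := by
    intro n
    induction n with
    | zero => intro v; simp
    | succ n ih =>
      intro v
      rw [pow_succ, ← Matrix.mulVec_mulVec, ih, h, ← pow_mul, pow_succ' q n]
  induction p using Polynomial.induction_on' with
  | add p₁ p₂ h₁ h₂ =>
    rw [map_add, Matrix.add_mulVec, Xc_add, h₁, h₂, Polynomial.eval_add, _root_.zpow_add]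
  | monomial n a =>
    rw [Polynomial.aeval_monomial, Polynomial.eval_monomial]
    have e : (algebraMap ℤ (Matrix (Fin D.rank) (Fin D.rank) ℤ) a * A ^ n) *ᵥ v = a • ((A ^ n) *ᵥ v) := by
      rw [Algebra.algebraMap_eq_smul_one, smul_mul_assoc, one_mul, Matrix.smul_mulVec]
    rw [e, Xc_smul, hpow, ← zpow_natCast, ← _root_.zpow_mul]
    congr 1
    push_cast
    ring

end Cfsg.Agent.Lib.TwTor32
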