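import Cfsg.Agent.Lib.TwTor32B

/-!
# Irreducible Weyl group elements: stabilisers of twisted torus elements are trivial
-/

set_option autoImplicit false
set_option linter.unusedSectionVars false
set_option linter.unusedVariables false
set_option linter.unusedSimpArgs false

namespace Cfsg.Agent.Lib.TwTor32

open Cfsg Cfsg.Lie Cfsg.Agent.Lib.Chev Matrix Cfsg.Agent.Lib.ChevFix

/-- Every vector is a polynomial in `A` applied to `u`, if an irreducible polynomial of full degree kills `u`. -/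
theorem exists_poly_eq {l : ℕ} (A : Matrix (Fin l) (Fin l) ℚ) (P : Polynomial ℚ) (hP : Irreducible P)
    (hdeg : P.natDegree = l) (u : Fin l → ℚ) (hu : u ≠ 0) (hPu : Polynomial.aeval A P *ᵥ u = 0) (v : Fin l → ℚ) :
    ∃ f : Polynomial ℚ, v = Polynomial.aeval A f *ᵥ u := by
  classical
  let L₀ : Polynomial ℚ →ₗ[ℚ] (Fin l → ℚ) :=
    { toFun := fun f => Polynomial.aeval A f *ᵥ u
      map_add' := by
        intro f g
        simp [Matrix.add_mulVec]
      map_smul' := by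
        intro a f
        simp [Matrix.smul_mulVec] }
  let L : Polynomial.degreeLT ℚ l →ₗ[ℚ] (Fin l → ℚ) := L₀.comp (Polynomial.degreeLT ℚ l).subtype
  have hinj : Function.Injective L := by
    rw [injective_iff_map_eq_zero]
    rintro ⟨f, hf⟩ h0
    apply Subtype.ext
    show f = 0
    by_contra hne
    have h1 : Polynomial.aeval A f *ᵥ u = 0 := h0
    have hdegf : f.degree < l := Polynomial.mem_degreeLT.1 hf
    have hnd : ¬ P ∣ f := by
      intro hd
      have h2 := Polynomial.degree_le_of_dvd hd hne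
      have h3 : P.degree = l := by
        rw [Polynomial.degree_eq_natDegree hP.ne_zero, hdeg]
      rw [h3] at h2
      exact absurd h2 (not_le.2 hdegf)
    obtain ⟨a, b, hab⟩ := (hP.coprime_iff_not_dvd).2 hnd
    apply hu
    have h4 := congrArg (fun p => Polynomial.aeval A p *ᵥ u) hab
    simp only [map_add, map_mul, map_one, Matrix.add_mulVec, Matrix.one_mulVec] at h4
    rw [← h4, ← Matrix.mulVec_mulVec, ← Matrix.mulVec_mulVec, hPu, h1]
    simp
  have hfr : Module.finrank ℚ (Polynomial.degreeLT ℚ l) = Module.finrank ℚ (Fin l → ℚ) := by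
    exact (Polynomial.degreeLTEquiv ℚ l).finrank_eq
  have hsurj := (LinearMap.injective_iff_surjective_of_finrank_eq_finrank hfr).1 hinj
  obtain ⟨⟨f, hf⟩, rfl⟩ := hsurj v
  exact ⟨f, rfl⟩

theorem aeval_eq_zero_of {l : ℕ} (A : Matrix (Fin l) (Fin l) ℚ) (P : Polynomial ℚ) (hP : Irreducible P)
    (hdeg : P.natDegree = l) (u : Fin l → ℚ) (hu : u ≠ 0) (hPu : Polynomial.aeval A P *ᵥ u = 0) :
    Polynomial.aeval A P = 0 := by
  classical
  have h : ∀ v : Fin l → ℚ, Polynomial.aeval A P *ᵥ v = 0 := by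
    intro v
    obtain ⟨f, rfl⟩ := exists_poly_eq A P hP hdeg u hu hPu v
    rw [Matrix.mulVec_mulVec, ← map_mul, mul_comm, map_mul, ← Matrix.mulVec_mulVec, hPu, Matrix.mulVec_zero]
  ext i j
  have h1 := congrFun (h (Pi.single j 1)) i
  rw [Matrix.mulVec_single_one] at h1
  exact h1

/-- The matrix acts irreducibly. -/
def IrrM {l : ℕ} (A : Matrix (Fin l) (Fin l) ℚ) : Prop :=
  ∀ W : Submodule ℚ (Fin l → ℚ), (∀ x ∈ W, A *ᵥ x ∈ W) → W ≠ ⊥ → W = ⊤

theorem irr_of_poly {l : ℕ} (A : Matrix (Fin l) (Fin l) ℚ) (P : Polynomial ℚ) (hP : Irreducible P)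
    (hdeg : P.natDegree = l) (h0 : Polynomial.aeval A P = 0) : IrrM A := by
  classical
  intro W hW hne
  obtain ⟨u, huW, hu⟩ := Submodule.exists_mem_ne_zero_of_ne_bot hne
  rw [eq_top_iff]
  intro v hv
  clear hv
  obtain ⟨f, rfl⟩ := exists_poly_eq A P hP hdeg u hu (by rw [h0, Matrix.zero_mulVec]) v
  induction f using Polynomial.induction_on' with
  | add p q hp hq =>
    rw [map_add, Matrix.add_mulVec]
    exact W.add_mem hp hq
  | monomial n a =>
    rw [Polynomial.aeval_monomial, Algebra.algebraMap_eq_smul_one, smul_mul_assoc, one_mul, Matrix.smul_mulVec]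
    apply W.smul_mem
    induction n with
    | zero => simpa using huW
    | succ n ih =>
      rw [pow_succ', ← Matrix.mulVec_mulVec]
      exact hW _ ih

variable {K : Type*} [Field K] {T : Tabs} {X : Extra} {R : RootTab} {D : ChevalleyDatum}

/-- **The stabiliser of a twisted element of the torus is trivial**. -/
theorem stab_trivial (hF : Full T X R D) {ρ : Equiv.Perm (Fin D.nroots)} (hρ : ρ ∈ hF.Wk Set.univ)
    (hirr : IrrM ((mat hF ρ).map (Int.castRingHom ℚ))) (c : Fin D.rank → Kˣ) (q' : ℕ)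
    (htw : ∀ s : Fin D.nroots, chiT D c (ρ s) = chiT D c s ^ q') {ℓ : ℕ} (hℓp : ℓ.Prime)
    (hℓ : ∀ s : Fin D.nroots, chiT D c s ^ ℓ = 1) (hc : ∃ s : Fin D.nroots, chiT D c s ≠ 1)
    (hW : ¬ ℓ ∣ Nat.card ↥(hF.Wk Set.univ)) {h : Equiv.Perm (Fin D.nroots)} (hh : h ∈ hF.Wk Set.univ)
    (hfix : ∀ s : Fin D.nroots, chiT D c (h s) = chiT D c s) : h = 1 := by
  classical
  let H : Subgroup (Equiv.Perm (Fin D.nroots)) :=
    { carrier := {g | g ∈ hF.Wk Set.univ ∧ ∀ s : Fin D.nroots, chiT D c (g s) = chiT D c s}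
      mul_mem' := by
        rintro a b ⟨ha, ha'⟩ ⟨hb, hb'⟩
        refine ⟨mul_mem ha hb, fun s => ?_⟩
        rw [Equiv.Perm.mul_apply, ha', hb']
      one_mem' := ⟨one_mem _, fun s => rfl⟩
      inv_mem' := by
        rintro a ⟨ha, ha'⟩
        refine ⟨inv_mem ha, fun s => ?_⟩
        have := ha' (a⁻¹ s)
        have e : a (a⁻¹ s) = s := by simp
        rw [e] at this
        exact this.symm }
  have hHle : H ≤ hF.Wk Set.univ := fun g hg => hg.1
  have hcard : ¬ ℓ ∣ Nat.card ↥H := fun hd => hW (hd.trans (Subgroup.card_dvd_of_le hHle))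
  obtain ⟨s₀, hs₀⟩ := hc
  haveI : Fintype ↥H := Fintype.ofFinite _
  let u : Fin D.rank → ℤ := ∑ g : ↥H, rcV R D ((g : Equiv.Perm (Fin D.nroots)) s₀)
  have hXu : Xc c u = chiT D c s₀ ^ Nat.card ↥H := by
    show Xc c (∑ g : ↥H, rcV R D ((g : Equiv.Perm (Fin D.nroots)) s₀)) = _
    rw [Xc_sum]
    have : ∀ g : ↥H, Xc c (rcV R D ((g : Equiv.Perm (Fin D.nroots)) s₀)) = chiT D c s₀ := by
      intro g
      rw [Xc_rc hF c ((g : Equiv.Perm (Fin D.nroots)) s₀).2]
      exact g.2.2 s₀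
    simp only [this, Finset.prod_const, Finset.card_univ, Nat.card_eq_fintype_card]
  haveI : Fact ℓ.Prime := ⟨hℓp⟩
  have hord : orderOf (chiT D c s₀) = ℓ := orderOf_eq_prime (hℓ s₀) hs₀
  have hune : u ≠ 0 := by
    intro h0
    rw [h0, Xc_zero] at hXu
    have h1 := orderOf_dvd_of_pow_eq_one hXu.symm
    rw [hord] at h1
    exact hcard h1
  -- the fixed space
  have hcast : ∀ (M : Matrix (Fin D.rank) (Fin D.rank) ℤ) (v : Fin D.rank → ℤ),
      (M.map (Int.castRingHom ℚ)) *ᵥ (fun i => (v i : ℚ)) = fun i => (((M *ᵥ v) i : ℤ) : ℚ) := by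
    intro M v
    funext i
    have := RingHom.map_mulVec (Int.castRingHom ℚ) M v i
    exact this.symm
  let W₀ : Submodule ℚ (Fin D.rank → ℚ) :=
    { carrier := {x | ∀ g ∈ H, ((mat hF g).map (Int.castRingHom ℚ)) *ᵥ x = x}
      add_mem' := by
        intro a b ha hb g hg
        rw [Matrix.mulVec_add, ha g hg, hb g hg]
      zero_mem' := by
        intro g _
        exact Matrix.mulVec_zero _
      smul_mem' := by
        intro r a ha g hg
        rw [Matrix.mulVec_smul, ha g hg] }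
  let u' : Fin D.rank → ℚ := fun i => (u i : ℚ)
  have hu'ne : u' ≠ 0 := by
    intro h0
    apply hune
    funext i
    have := congrFun h0 i
    simpa [u'] using this
  have hufix : ∀ g ∈ H, mat hF g *ᵥ u = u := by
    intro g hg
    show mat hF g *ᵥ (∑ g' : ↥H, rcV R D ((g' : Equiv.Perm (Fin D.nroots)) s₀)) =
      ∑ g' : ↥H, rcV R D ((g' : Equiv.Perm (Fin D.nroots)) s₀)
    rw [Matrix.mulVec_sum]
    have e1 : ∀ g' : ↥H, mat hF g *ᵥ rcV R D ((g' : Equiv.Perm (Fin D.nroots)) s₀) =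
        rcV R D ((((⟨g, hg⟩ : ↥H) * g' : ↥H) : Equiv.Perm (Fin D.nroots)) s₀) := by
      intro g'
      rw [← mat_rc hF hg.1]
      rfl
    simp only [e1]
    exact Fintype.sum_equiv (Equiv.mulLeft (⟨g, hg⟩ : ↥H)) _ _ (fun _ => rfl)
  have hu'W : u' ∈ W₀ := by
    intro g hg
    rw [hcast, hufix g hg]
  have hW0 : W₀ ≠ ⊥ := by
    intro h0
    have : u' ∈ (⊥ : Submodule ℚ (Fin D.rank → ℚ)) := h0 ▸ hu'W
    exact hu'ne ((Submodule.mem_bot ℚ).1 this)
  -- conjugation by `ρ`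
  have hconj1 : ∀ g ∈ H, ρ * g * ρ⁻¹ ∈ H := by
    rintro g ⟨hg, hg'⟩
    refine ⟨mul_mem (mul_mem hρ hg) (inv_mem hρ), fun s => ?_⟩
    have e : ρ (ρ⁻¹ s) = s := by simp
    rw [Equiv.Perm.mul_apply, Equiv.Perm.mul_apply, htw, hg', ← htw, e]
  have hconj : ∀ (k : ℕ), ∀ g ∈ H, ρ ^ k * g * (ρ ^ k)⁻¹ ∈ H := by
    intro k
    induction k with
    | zero =>
      intro g hg
      simpa using hg
    | succ k ih =>
      intro g hg
      have := hconj1 _ (ih g hg)
      have e : ρ ^ (k + 1) * g * (ρ ^ (k + 1))⁻¹ = ρ * (ρ ^ k * g * (ρ ^ k)⁻¹) * ρ⁻¹ := by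
        rw [pow_succ']
        group
      rw [e]
      exact this
  have hinv : ∀ g ∈ H, ρ⁻¹ * g * ρ ∈ H := by
    intro g hg
    have h1 := hconj (orderOf ρ - 1) g hg
    have h2 : ρ ^ (orderOf ρ - 1) = ρ⁻¹ := by
      apply eq_inv_of_mul_eq_one_left
      rw [← pow_succ, Nat.sub_add_cancel (orderOf_pos ρ), pow_orderOf_eq_one]
    rw [h2, inv_inv] at h1
    exact h1
  have hstable : ∀ x ∈ W₀, ((mat hF ρ).map (Int.castRingHom ℚ)) *ᵥ x ∈ W₀ := by
    intro x hx g hg
    have hg2 := hinv g hg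
    have e : mat hF g * mat hF ρ = mat hF ρ * mat hF (ρ⁻¹ * g * ρ) := by
      rw [← mat_mul hF hg.1 hρ, ← mat_mul hF hρ hg2.1]
      congr 1
      group
    have e2 : ((mat hF g).map (Int.castRingHom ℚ)) * ((mat hF ρ).map (Int.castRingHom ℚ)) =
        ((mat hF ρ).map (Int.castRingHom ℚ)) * ((mat hF (ρ⁻¹ * g * ρ)).map (Int.castRingHom ℚ)) := by
      rw [← Matrix.map_mul, ← Matrix.map_mul, e]
    rw [Matrix.mulVec_mulVec, e2, ← Matrix.mulVec_mulVec, hx _ hg2]
  have htop := hirr W₀ hstable hW0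
  have hhH : h ∈ H := ⟨hh, hfix⟩
  have hmat : ∀ x : Fin D.rank → ℚ, ((mat hF h).map (Int.castRingHom ℚ)) *ᵥ x = x := by
    intro x
    have : x ∈ W₀ := by
      rw [htop]
      trivial
    exact this h hhH
  ext s
  have hs : rcV R D (h s) = rcV R D s := by
    rw [mat_rc hF hh]
    funext i
    have h1 := congrFun (hmat (fun i => (rcV R D s i : ℚ))) i
    rw [hcast] at h1
    have h1' : (((mat hF h *ᵥ rcV R D s) i : ℤ) : ℚ) = (rcV R D s i : ℚ) := h1
    exact_mod_cast h1'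
  have := rcV_inj hF (h s).2 s.2 hs
  simpa using this

/-- The consequences of a trivial stabiliser. -/
theorem reg_of_stab [Fintype K] (hF : Full T X R D) (c : Fin D.rank → Kˣ)
    (hstab : ∀ g ∈ hF.Wk Set.univ, (∀ s : Fin D.nroots, chiT D c (g s) = chiT D c s) → g = 1) :
    (∀ x, x < D.nroots → chiT D c x ≠ 1) ∧
    (∀ n : ↥(D.monomialSubgroup K), (∀ s : Fin D.nroots, chiT D c (hF.rhoN K n s) = chiT D c s) →
      n.1 ∈ D.diagonalSubgroup K) := by
  have h2 : ∀ n : ↥(D.monomialSubgroup K), (∀ s : Fin D.nroots, chiT D c (hF.rhoN K n s) = chiT D c s) →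
      n.1 ∈ D.diagonalSubgroup K := by
    intro n hn
    have h1 := hstab _ (hF.rhoN_mem_Wk n) hn
    apply hF.mem_diagonal_of_pos'
    intro x hx
    rw [h1]
    exact hx
  refine ⟨?_, h2⟩
  -- a positive root with trivial value
  have key : ∀ y, y < D.nroots → R.N ≤ y → chiT D c y ≠ 1 := by
    intro y hy hyN h1
    have hneg : chiT D c (D.neg y) = 1 := by
      rw [hF.chiT_neg c hy, h1, inv_one]
    have hnegN : D.neg y < R.N := hF.neg_lt_N hy hyN
    have hnM : hF.c.nG y (1 : K) ∈ D.monomialSubgroup K := by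
      rw [hF.monomial_eq]
      exact hF.nG_mem_sup hy
    have hcomm : tor R D c * hF.c.nG y (1 : K) = hF.c.nG y (1 : K) * tor R D c := by
      unfold Checks.nG
      have a1 : ∀ t : K, tor R D c * hF.c.xG y t = hF.c.xG y t * tor R D c := by
        intro t
        rw [hF.tor_mul_xG c hy, h1]
        simp
      have a2 : ∀ t : K, tor R D c * hF.c.xG (D.neg y) t = hF.c.xG (D.neg y) t * tor R D c := by
        intro t
        rw [hF.tor_mul_xG c (hF.neg_lt hy), hneg]
        simp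
      calc tor R D c * (hF.c.xG y 1 * hF.c.xG (D.neg y) (-1⁻¹) * hF.c.xG y 1)
          = (tor R D c * hF.c.xG y 1) * hF.c.xG (D.neg y) (-1⁻¹) * hF.c.xG y 1 := by group
        _ = hF.c.xG y 1 * (tor R D c * hF.c.xG (D.neg y) (-1⁻¹)) * hF.c.xG y 1 := by rw [a1]; group
        _ = hF.c.xG y 1 * hF.c.xG (D.neg y) (-1⁻¹) * (tor R D c * hF.c.xG y 1) := by rw [a2]; group
        _ = _ := by rw [a1]; group
    have hT := h2 ⟨_, hnM⟩ (fun s => Cfsg.Agent.Lib.ChevReg250.chi_rho_eq hF c ⟨_, hnM⟩ hcomm s)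
    have hU : hF.c.xG y (1 : K) ∈ D.posUnipotent K := hF.xG_mem_U hy hyN 1
    have hB : hF.c.xG (D.neg y) ((-1⁻¹ : K)) ∈ D.borelSubgroup K := by
      have e : hF.c.xG (D.neg y) ((-1⁻¹ : K)) =
          (hF.c.xG y (1 : K))⁻¹ * hF.c.nG y (1 : K) * (hF.c.xG y (1 : K))⁻¹ := by
        unfold Checks.nG
        group
      rw [e]
      have hUB := hF.c.posUnipotent_le_borel hU
      exact mul_mem (mul_mem (inv_mem hUB) (hF.c.diagonal_le_borel hT)) (inv_mem hUB)
    have hV := hF.xG_mem_V hnegN (-1⁻¹ : K)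
    have h3 : hF.c.xG (D.neg y) ((-1⁻¹ : K)) ∈ D.borelSubgroup K ⊓ D.negUnipotent K := ⟨hB, hV⟩
    rw [hF.B_inf_V, Subgroup.mem_bot] at h3
    have h4 := congrArg (fun g : GL D.Idx K => (g : Matrix D.Idx D.Idx K)) h3
    simp only [Checks.coe_xG, Units.val_one] at h4
    have h5 := (hF.c.x_eq_one_iff (hF.neg_lt hy) _).1 h4
    simp at h5
  intro x hx h1
  by_cases hN : R.N ≤ x
  · exact key x hx hN h1
  · have hnegge : R.N ≤ D.neg x := hF.neg_ge_N (not_le.1 hN)
    apply key (D.neg x) (hF.neg_lt hx) hnegge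
    rw [hF.chiT_neg c hx, h1, inv_one]

end Cfsg.Agent.Lib.TwTor32
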