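import Cfsg.Agent.Lib.TwTor32C

/-!
# Polynomials in the matrix of a twisted Weyl element
-/

set_option autoImplicit false
set_option linter.unusedSectionVars false
set_option linter.unusedVariables false
set_option linter.unusedSimpArgs false

namespace Cfsg.Agent.Lib.TwTor32

open Cfsg Cfsg.Lie Cfsg.Agent.Lib.Chev Matrix Cfsg.Agent.Lib.ChevFix
open Polynomial

theorem deriv_aux (P k : ℤ[X]) (N : ℕ) (h : P * k = X ^ N - 1) (q ℓ : ℤ) (hℓ : Prime ℓ) (hd : ℓ ∣ P.eval q)
    (hN : ¬ ℓ ∣ (N : ℤ)) (hq : ¬ ℓ ∣ q) : ¬ ℓ ∣ k.eval q ∧ ¬ ℓ ∣ (derivative P).eval q := by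
  have h1 : (derivative (P * k)).eval q = (derivative (X ^ N - 1 : ℤ[X])).eval q := by rw [h]
  rw [derivative_mul] at h1
  simp only [eval_add, eval_mul, derivative_sub, derivative_one, sub_zero, derivative_X_pow, eval_C, eval_pow,
    eval_X, map_natCast, eval_natCast] at h1
  have hne : ¬ ℓ ∣ (N : ℤ) * q ^ (N - 1) := by
    intro hd2
    rcases hℓ.dvd_or_dvd hd2 with h2 | h2
    · exact hN h2
    · exact hq (hℓ.dvd_of_dvd_pow h2)
  constructor
  · intro h2
    apply hne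
    rw [← h1]
    exact dvd_add (h2.mul_left _) (hd.mul_right _)
  · intro h2
    apply hne
    rw [← h1]
    exact dvd_add (h2.mul_right _) (hd.mul_right _)

theorem exists_g (P : ℤ[X]) (q : ℤ) :
    ∃ g : ℤ[X], P = (X - C q) * g + C (P.eval q) ∧ g.eval q = (derivative P).eval q := by
  obtain ⟨g, hg⟩ := X_sub_C_dvd_sub_C_eval (a := q) (p := P)
  have e : P = (X - C q) * g + C (P.eval q) := by
    rw [← hg]
    ring
  refine ⟨g, e, ?_⟩
  have e2 : derivative P = derivative ((X - C q) * g + C (P.eval q)) := congrArg derivative e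
  rw [e2]
  simp [derivative_mul]

/-- The rational form of an integer matrix. -/
abbrev mq {l : ℕ} (A : Matrix (Fin l) (Fin l) ℤ) : Matrix (Fin l) (Fin l) ℚ := A.map (Int.castRingHom ℚ)

theorem mq_aeval {l : ℕ} (A : Matrix (Fin l) (Fin l) ℤ) (p : ℤ[X]) :
    aeval (mq A) (p.map (Int.castRingHom ℚ)) = mq (aeval A p) := by
  have h := map_aeval_eq_aeval_map (R := ℤ) (S := Matrix (Fin l) (Fin l) ℤ) (T := ℚ)
    (U := Matrix (Fin l) (Fin l) ℚ) (φ := Int.castRingHom ℚ)
    (ψ := (Int.castRingHom ℚ).mapMatrix) (RingHom.ext_int _ _) p A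
  exact h.symm

theorem mq_inj {l : ℕ} {A B : Matrix (Fin l) (Fin l) ℤ} (h : mq A = mq B) : A = B := by
  ext i j
  have := congrFun (congrFun h i) j
  simpa using this

theorem mq_mulVec {l : ℕ} (M : Matrix (Fin l) (Fin l) ℤ) (v : Fin l → ℤ) :
    (mq M) *ᵥ (fun i => (v i : ℚ)) = fun i => (((M *ᵥ v) i : ℤ) : ℚ) := by
  funext i
  have := RingHom.map_mulVec (Int.castRingHom ℚ) M v i
  exact this.symm

theorem charpoly_eq {l : ℕ} (hl : 0 < l) (A : Matrix (Fin l) (Fin l) ℤ) (P : ℤ[X]) (hmon : P.Monic)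
    (hirr : Irreducible (P.map (Int.castRingHom ℚ))) (hdeg : P.natDegree = l) (h : aeval A P = 0) :
    A.charpoly = P := by
  classical
  haveI : Nonempty (Fin l) := ⟨⟨0, hl⟩⟩
  have h0 : aeval (mq A) (P.map (Int.castRingHom ℚ)) = 0 := by
    rw [mq_aeval, h]
    ext i j
    simp
  have hm' : (P.map (Int.castRingHom ℚ)).Monic := hmon.map _
  have h1 := minpoly.eq_of_irreducible_of_monic hirr h0 hm'
  have h2 : P.map (Int.castRingHom ℚ) ∣ (mq A).charpoly := by
    rw [h1]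
    exact Matrix.minpoly_dvd_charpoly _
  have h3 : (mq A).charpoly = A.charpoly.map (Int.castRingHom ℚ) := Matrix.charpoly_map _ _
  have h4 : (mq A).charpoly.Monic := Matrix.charpoly_monic _
  have h5 : (mq A).charpoly.natDegree = l := by
    rw [Matrix.charpoly_natDegree_eq_dim]
    simp
  have h6 : (mq A).charpoly = P.map (Int.castRingHom ℚ) := by
    apply Polynomial.eq_of_monic_of_dvd_of_natDegree_le hm' h4 h2
    rw [h5, Polynomial.natDegree_map_eq_of_injective (RingHom.injective_int _), hdeg]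
  rw [h3] at h6
  exact Polynomial.map_injective _ (RingHom.injective_int _) h6

variable {K : Type*} [Field K] {T : Tabs} {X' : Extra} {R : RootTab} {D : ChevalleyDatum}

/-- **A twisted element with a nontrivial value forces the polynomial identity.** -/
theorem poly_zero_of_twist (hF : Full T X' R D) {ρ : Equiv.Perm (Fin D.nroots)} (hρ : ρ ∈ hF.Wk Set.univ)
    (P k : ℤ[X]) (N : ℕ) (hN : P * k = X ^ N - 1) (hNρ : orderOf ρ ∣ N)
    (hirr : Irreducible (P.map (Int.castRingHom ℚ))) (hdeg : P.natDegree = D.rank)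
    (c : Fin D.rank → Kˣ) (q : ℕ) (htw : ∀ s : Fin D.nroots, chiT D c (ρ s) = chiT D c s ^ q)
    {r : ℕ} (hr : r.Prime) (hcr : ∀ s : Fin D.nroots, chiT D c s ^ r = 1)
    (hc : ∃ s : Fin D.nroots, chiT D c s ≠ 1) (hrd : (r : ℤ) ∣ P.eval (q : ℤ)) (hrN : ¬ r ∣ N) (hrq : ¬ r ∣ q) :
    aeval (mat hF ρ) P = 0 := by
  classical
  set A := mat hF ρ with hA
  have hAN : A ^ N = 1 := by
    obtain ⟨w, hw⟩ := hNρ
    rw [hA, ← mat_pow hF hρ, hw, pow_mul, pow_orderOf_eq_one, one_pow, mat_one]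
  have hprod : aeval A P * aeval A k = 0 := by
    rw [← map_mul, hN]
    simp [hAN]
  obtain ⟨s₀, hs₀⟩ := hc
  have htwX : ∀ v, Xc c (A *ᵥ v) = Xc c v ^ q := Xc_twist hF hρ c q htw
  set v := rcV R D s₀ with hv
  set u := aeval A k *ᵥ v with hu
  haveI : Fact r.Prime := ⟨hr⟩
  have hrZ : Prime (r : ℤ) := Nat.prime_iff_prime_int.1 hr
  have hrN' : ¬ (r : ℤ) ∣ (N : ℤ) := by
    intro h
    exact hrN (by exact_mod_cast h)
  have hrq' : ¬ (r : ℤ) ∣ (q : ℤ) := by
    intro h
    exact hrq (by exact_mod_cast h)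
  have hder := deriv_aux P k N hN (q : ℤ) (r : ℤ) hrZ hrd hrN' hrq'
  have hXv : Xc c v = chiT D c s₀ := Xc_rc hF c s₀.2
  have hord : orderOf (chiT D c s₀) = r := orderOf_eq_prime (hcr s₀) hs₀
  have hune : u ≠ 0 := by
    intro h0
    have h1 := Xc_aeval c q htwX k v
    rw [← hu, h0, Xc_zero, hXv] at h1
    have h2 := (orderOf_dvd_iff_zpow_eq_one).2 h1.symm
    rw [hord] at h2
    exact hder.1 h2
  have hPu : aeval A P *ᵥ u = 0 := by
    rw [hu, Matrix.mulVec_mulVec, hprod, Matrix.zero_mulVec]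
  -- to the rationals
  have hu' : (fun i => (u i : ℚ)) ≠ 0 := by
    intro h0
    apply hune
    funext i
    have := congrFun h0 i
    simpa using this
  have hPu' : aeval (mq A) (P.map (Int.castRingHom ℚ)) *ᵥ (fun i => (u i : ℚ)) = 0 := by
    rw [mq_aeval, mq_mulVec, hPu]
    funext i
    simp
  have hdeg' : (P.map (Int.castRingHom ℚ)).natDegree = D.rank := by
    rw [Polynomial.natDegree_map_eq_of_injective (RingHom.injective_int _), hdeg]
  have h0 := aeval_eq_zero_of (mq A) _ hirr hdeg' _ hu' hPu'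
  rw [mq_aeval] at h0
  apply mq_inj
  rw [h0]
  ext i j
  simp

theorem irr_of_zero {l : ℕ} (A : Matrix (Fin l) (Fin l) ℤ) (P : ℤ[X])
    (hirr : Irreducible (P.map (Int.castRingHom ℚ))) (hdeg : P.natDegree = l) (h : aeval A P = 0) :
    IrrM (mq A) := by
  have hdeg' : (P.map (Int.castRingHom ℚ)).natDegree = l := by
    rw [Polynomial.natDegree_map_eq_of_injective (RingHom.injective_int _), hdeg]
  apply irr_of_poly (mq A) _ hirr hdeg'
  rw [mq_aeval, h]
  ext i j
  simp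

/-- Characters of the lattice from the inverse Cartan matrix. -/
noncomputable def cOf {D : ChevalleyDatum} (B : Fin D.rank → Fin D.rank → ℤ) (y : Fin D.rank → Kˣ) : Fin D.rank → Kˣ :=
  fun i => ∏ k : Fin D.rank, y k ^ B i k

theorem cartanMap_cOf {D : ChevalleyDatum} (B : Fin D.rank → Fin D.rank → ℤ)
    (hB : ∀ k j : Fin D.rank, ∑ i : Fin D.rank, B i k * D.cartan i (D.simple j) = if j = k then 1 else 0)
    (y : Fin D.rank → Kˣ) (j : Fin D.rank) : cartanMap D (cOf B y) j = y j := by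
  classical
  have hz : ∀ (a : Kˣ) (s : Finset (Fin D.rank)) (g : Fin D.rank → ℤ), a ^ (∑ i ∈ s, g i) = ∏ i ∈ s, a ^ g i := by
    intro a s g
    induction s using Finset.induction_on with
    | empty => simp
    | insert b s hb ih => rw [Finset.sum_insert hb, Finset.prod_insert hb, _root_.zpow_add, ih]
  have h2 : cartanMap D (cOf B y) j = ∏ k : Fin D.rank, y k ^ (∑ i : Fin D.rank, B i k * D.cartan i (D.simple j)) := by
    simp only [cartanMap, cOf, ← Finset.prod_zpow, ← _root_.zpow_mul]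
    rw [Finset.prod_comm]
    apply Finset.prod_congr rfl
    intro k _
    rw [hz]
  rw [h2]
  simp only [hB]
  rw [Finset.prod_eq_single j]
  · simp
  · intro i _ hi
    rw [if_neg (Ne.symm hi), zpow_zero]
  · simp

theorem Xc_cOf {D : ChevalleyDatum} (B : Fin D.rank → Fin D.rank → ℤ)
    (hB : ∀ k j : Fin D.rank, ∑ i : Fin D.rank, B i k * D.cartan i (D.simple j) = if j = k then 1 else 0)
    (z : Kˣ) (b v : Fin D.rank → ℤ) : Xc (cOf B (fun j => z ^ b j)) v = z ^ (b ⬝ᵥ v) := by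
  classical
  have hz : ∀ (a : Kˣ) (s : Finset (Fin D.rank)) (g : Fin D.rank → ℤ), a ^ (∑ i ∈ s, g i) = ∏ i ∈ s, a ^ g i := by
    intro a s g
    induction s using Finset.induction_on with
    | empty => simp
    | insert b s hb ih => rw [Finset.sum_insert hb, Finset.prod_insert hb, _root_.zpow_add, ih]
  unfold Xc dotProduct
  rw [hz]
  apply Finset.prod_congr rfl
  intro j _
  rw [cartanMap_cOf B hB, ← _root_.zpow_mul]

theorem chiT_one'' (s : ℕ) : chiT D (1 : Fin D.rank → Kˣ) s = 1 := by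
  unfold chiT
  simp

theorem chiT_zpow' (c : Fin D.rank → Kˣ) (k : ℤ) (s : ℕ) : chiT D (c ^ k) s = chiT D c s ^ k := by
  unfold chiT
  rw [← Finset.prod_zpow]
  apply Finset.prod_congr rfl
  intro i _
  rw [Pi.pow_apply, ← _root_.zpow_mul, ← _root_.zpow_mul, mul_comm]

theorem chiT_mul' (c d : Fin D.rank → Kˣ) (s : ℕ) : chiT D (c * d) s = chiT D c s * chiT D d s := by
  unfold chiT
  rw [← Finset.prod_mul_distrib]
  apply Finset.prod_congr rfl
  intro i _
  rw [Pi.mul_apply, mul_zpow]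

/-- A fact about primes: an integer vector all of whose entries are not divisible by any prime dividing `m` together
has an integer combination congruent to one. -/
theorem exists_bezout {l : ℕ} (V : Fin l → ℤ) (m : ℤ) (hm : m ≠ 0)
    (h : ∀ ℓ : ℕ, ℓ.Prime → (ℓ : ℤ) ∣ m → ∃ j, ¬ (ℓ : ℤ) ∣ V j) :
    ∃ (w : Fin l → ℤ) (t : ℤ), w ⬝ᵥ V + t * m = 1 := by
  classical
  let I : Ideal ℤ :=
    { carrier := {x | ∃ (w : Fin l → ℤ) (t : ℤ), w ⬝ᵥ V + t * m = x}
      add_mem' := by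
        rintro _ _ ⟨w, t, rfl⟩ ⟨w', t', rfl⟩
        refine ⟨w + w', t + t', ?_⟩
        rw [add_dotProduct]
        ring
      zero_mem' := ⟨0, 0, by simp⟩
      smul_mem' := by
        rintro a _ ⟨w, t, rfl⟩
        refine ⟨a • w, a * t, ?_⟩
        rw [smul_dotProduct, smul_eq_mul, smul_eq_mul]
        ring }
  obtain ⟨d, hd⟩ := (inferInstance : IsPrincipalIdealRing ℤ).principal I
  have hmem : ∀ x, x ∈ I ↔ d ∣ x := by
    intro x
    rw [hd]
    exact Ideal.mem_span_singleton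
  have hdI : d ∈ I := (hmem d).2 dvd_rfl
  have hdm : d ∣ m := (hmem m).1 ⟨0, 1, by simp⟩
  have hdV : ∀ j, d ∣ V j := by
    intro j
    apply (hmem _).1
    refine ⟨Pi.single j 1, 0, ?_⟩
    simp
  have hdne : d.natAbs ≠ 0 := by
    intro h0
    have : d = 0 := Int.natAbs_eq_zero.1 h0
    rw [this] at hdm
    exact hm (zero_dvd_iff.1 hdm)
  have hone : d.natAbs = 1 := by
    by_contra hne
    obtain ⟨ℓ, hℓ, hℓd⟩ := Nat.exists_prime_and_dvd hne
    have hℓd' : (ℓ : ℤ) ∣ d := Int.natCast_dvd.2 hℓd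
    obtain ⟨j, hj⟩ := h ℓ hℓ (hℓd'.trans hdm)
    exact hj (hℓd'.trans (hdV j))
  obtain ⟨w, t, hwt⟩ := hdI
  rcases Int.natAbs_eq d with h1 | h1
  · rw [hone] at h1
    refine ⟨w, t, ?_⟩
    rw [hwt, h1]
    rfl
  · rw [hone] at h1
    refine ⟨-w, -t, ?_⟩
    have e : -w ⬝ᵥ V + -t * m = -(w ⬝ᵥ V + t * m) := by
      rw [neg_dotProduct]
      ring
    rw [e, hwt, h1]
    rfl

end Cfsg.Agent.Lib.TwTor32
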