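import Cfsg.Agent.Lib.TwTor32E

/-!
# Cyclic twisted tori from an irreducible polynomial: the main theorem
-/

set_option autoImplicit false
set_option linter.unusedSectionVars false
set_option linter.unusedVariables false
set_option linter.unusedSimpArgs false

namespace Cfsg.Agent.Lib.TwTor32

open Cfsg Cfsg.Lie Cfsg.Agent.Lib.Chev Matrix Cfsg.Agent.Lib.ChevFix
open Polynomial

variable {K : Type*} [Field K] {T : Tabs} {X' : Extra} {R : RootTab} {D : ChevalleyDatum}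

theorem Tw.mul_tw {hF : Full T X' R D} {n : ↥(D.monomialSubgroup K)} {q : ℕ} {c d : Fin D.rank → Kˣ}
    (hc : Tw hF n q c) (hd : Tw hF n q d) : Tw hF n q (c * d) := by
  intro s
  rw [chiT_mul', chiT_mul', hc s, hd s, mul_pow]

theorem Tw.zpow_tw {hF : Full T X' R D} {n : ↥(D.monomialSubgroup K)} {q : ℕ} {c : Fin D.rank → Kˣ}
    (hc : Tw hF n q c) (k : ℤ) : Tw hF n q (c ^ k) := by
  intro s
  rw [chiT_zpow', chiT_zpow', hc s, ← zpow_natCast, ← zpow_natCast, ← _root_.zpow_mul, ← _root_.zpow_mul, mul_comm]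

theorem Tw.pow_tw {hF : Full T X' R D} {n : ↥(D.monomialSubgroup K)} {q : ℕ} {c : Fin D.rank → Kˣ}
    (hc : Tw hF n q c) (k : ℕ) : Tw hF n q (c ^ k) := by
  intro s
  rw [chiT_pow, chiT_pow, hc s, ← pow_mul, ← pow_mul, mul_comm]

section Big

variable {F : Type*} [Field F] [Fintype F] [Fintype K]

/-- From an element of prime order of the small group to the twisting data. -/
theorem exists_data_gen (hF : Full T X' R D) (f : F →+* K) (σ : K ≃+* K) (q : ℕ) (hfσ : ∀ b, σ (f b) = f b)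
    (hq : ∀ x : K, σ x = x ^ q) (P k : ℤ[X]) (h : ℕ) (hPk : P * k = X ^ h - 1)
    (hirr : Irreducible (P.map (Int.castRingHom ℚ))) (hdeg : P.natDegree = D.rank)
    {r : ℕ} [Fact r.Prime] (hrP : (r : ℤ) ∣ P.eval (q : ℤ)) (hrh : ¬ r ∣ h)
    (hrW : ¬ r ∣ Nat.card ↥(hF.Wk Set.univ)) (hrq : ¬ r ∣ q)
    (hidx : ¬ r ∣ ((D.diagonalSubgroup K).subgroupOf (D.group K)).index)
    {s : GL D.Idx F} (hs : s ∈ D.group F) (hsr : orderOf s = r) :
    ∃ Y ∈ D.group K, ∃ n : ↥(D.monomialSubgroup K), ∃ τ ∈ D.diagonalSubgroup K,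
      glM D (σ : K →+* K) Y = Y * (n.1 * τ) ∧ aeval (mat hF (hF.rhoN K n)) P = 0 := by
  classical
  have hrp : r.Prime := Fact.out
  set sg := glM D (σ : K →+* K) with hsg
  set x := glM D f s with hx
  have hxG : x ∈ D.group K := map_group_le D f ⟨s, hs, rfl⟩
  have hxr : x ^ r = 1 := by rw [hx, ← map_pow, ← hsr, pow_orderOf_eq_one, map_one]
  have hxne : x ≠ 1 := by
    intro h
    have h1 : s = 1 := glM_injective D f (by rw [map_one]; exact h)
    rw [h1, orderOf_one] at hsr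
    exact hrp.one_lt.ne hsr
  have hxfix : sg x = x := Fix.fixed_of_mem σ f hfσ ⟨s, hs, rfl⟩
  obtain ⟨Y, hY, ht⟩ := exists_conj_torus hF hidx hxG hxr
  obtain ⟨c, hc⟩ := (hF.mem_diagonal_iff).1 ht
  set t : GL D.Idx K := tor R D c with htdef
  have htT : t ∈ D.diagonalSubgroup K := (hF.mem_diagonal_iff).2 ⟨c, rfl⟩
  have htx : Y * t * Y⁻¹ = x := by
    rw [← hc]
    group
  have hYs : sg Y ∈ D.group K := map_group_le D (σ : K →+* K) ⟨Y, hY, rfl⟩
  have hst : sg t = tor R D (c ^ q) := sg_tor σ q hF hq c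
  have hstT : sg t ∈ D.diagonalSubgroup K := by
    rw [hst]
    exact (hF.mem_diagonal_iff).2 ⟨_, rfl⟩
  have hz : Y⁻¹ * sg Y ∈ D.group K := mul_mem (inv_mem hY) hYs
  have hconj : sg Y * sg t * (sg Y)⁻¹ = x := by
    have h1 := congrArg sg htx
    rw [hxfix, map_mul, map_mul, map_inv] at h1
    exact h1
  have key : (Y⁻¹ * sg Y) * sg t * (Y⁻¹ * sg Y)⁻¹ = t := by
    calc (Y⁻¹ * sg Y) * sg t * (Y⁻¹ * sg Y)⁻¹ = Y⁻¹ * (sg Y * sg t * (sg Y)⁻¹) * Y := by group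
      _ = t := by rw [hconj, ← htx]; group
  obtain ⟨n₁, hn₁⟩ := exists_N_conj hF hstT htT hz key
  have htw : Tw hF n₁ q c := by
    rw [tw_iff q hF n₁ c, ← hst]
    exact hn₁
  have htr : t ^ r = 1 := by
    have e : t = Y⁻¹ * x * Y := hc.symm
    have e2 := conj_pow (a := Y⁻¹) (b := x) (i := r)
    rw [inv_inv] at e2
    rw [e, e2, hxr]
    group
  have htne : t ≠ 1 := by
    intro h
    apply hxne
    rw [← htx, h]
    group
  have htorpow : ∀ (d : Fin D.rank → Kˣ) (k : ℕ), tor R D (d ^ k) = (tor R D d : GL D.Idx K) ^ k :=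
    fun d k => map_pow (torHom R D) d k
  have hchir : ∀ s : Fin D.nroots, chiT D c s ^ r = 1 := by
    intro s
    have h1 : tor R D (c ^ r) = (tor R D (1 : Fin D.rank → Kˣ) : GL D.Idx K) := by
      rw [tor_one, htorpow]
      exact htr
    have h2 := chi_eq_of_tor hF h1 s
    rwa [chiT_pow, chiT_one''] at h2
  have hcne : ∃ s : Fin D.nroots, chiT D c s ≠ 1 := by
    by_contra h0
    push Not at h0
    apply htne
    rw [htdef, tor_eq_of_chi hF (c' := 1) (fun s => by rw [h0, chiT_one'']), tor_one]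
  -- the polynomial
  set ρ := hF.rhoN K n₁ with hρdef
  have hρ : ρ ∈ hF.Wk Set.univ := hF.rhoN_mem_Wk n₁
  obtain ⟨w, hw⟩ : (X ^ h - 1 : ℤ[X]) ∣ X ^ (h * orderOf ρ) - 1 := by
    rw [pow_mul]
    have := sub_dvd_pow_sub_pow (X ^ h : ℤ[X]) 1 (orderOf ρ)
    rwa [one_pow] at this
  have hPk' : P * (k * w) = X ^ (h * orderOf ρ) - 1 := by
    rw [hw, ← hPk]
    ring
  have hrord : ¬ r ∣ orderOf ρ := by
    intro h1
    apply hrW
    have h2 : orderOf (⟨ρ, hρ⟩ : ↥(hF.Wk Set.univ)) = orderOf ρ := Subgroup.orderOf_mk _ _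
    rw [← h2] at h1
    exact h1.trans (orderOf_dvd_natCard _)
  have hrN : ¬ r ∣ h * orderOf ρ := by
    intro h1
    rcases (Nat.Prime.dvd_mul hrp).1 h1 with h2 | h2
    · exact hrh h2
    · exact hrord h2
  have hzero := poly_zero_of_twist hF hρ P (k * w) _ hPk' (Dvd.intro_left _ rfl) hirr hdeg c q htw hrp hchir hcne hrP
    hrN hrq
  -- regularity
  have hirrM := irr_of_zero (mat hF ρ) P hirr hdeg hzero
  have htw' : Tw hF n₁ q (c ^ q) := Tw.pow_tw htw q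
  have hchir' : ∀ s : Fin D.nroots, chiT D (c ^ q) s ^ r = 1 := by
    intro s
    rw [chiT_pow, ← pow_mul, mul_comm, pow_mul, hchir, one_pow]
  have hcne' : ∃ s : Fin D.nroots, chiT D (c ^ q) s ≠ 1 := by
    obtain ⟨s₀, hs₀⟩ := hcne
    refine ⟨s₀, ?_⟩
    rw [chiT_pow]
    intro h1
    have h2 := orderOf_dvd_of_pow_eq_one h1
    rw [orderOf_eq_prime (hchir s₀) hs₀] at h2
    exact hrq h2
  have hstab := fun (g' : Equiv.Perm (Fin D.nroots)) (hg' : g' ∈ hF.Wk Set.univ) hfix =>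
    stab_trivial hF hρ hirrM (c ^ q) q htw' hrp hchir' hcne' hrW hg' hfix
  obtain ⟨hreg1, hreg2⟩ := reg_of_stab hF (c ^ q) hstab
  -- the element of the torus
  set u := n₁.1⁻¹ * (Y⁻¹ * sg Y) with hu
  have huG : u ∈ D.group K := mul_mem (inv_mem (hF.c.monomial_le_group n₁.2)) hz
  have hcomm : u * tor R D (c ^ q) = tor R D (c ^ q) * u := by
    have h3 : u * tor R D (c ^ q) * u⁻¹ = tor R D (c ^ q) := by
      rw [hu, ← hst]
      calc n₁.1⁻¹ * (Y⁻¹ * sg Y) * sg t * (n₁.1⁻¹ * (Y⁻¹ * sg Y))⁻¹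
          = n₁.1⁻¹ * ((Y⁻¹ * sg Y) * sg t * (Y⁻¹ * sg Y)⁻¹) * n₁.1 := by group
        _ = n₁.1⁻¹ * t * n₁.1 := by rw [key]
        _ = n₁.1⁻¹ * (n₁.1 * sg t * n₁.1⁻¹) * n₁.1 := by rw [hn₁]
        _ = sg t := by group
    calc u * tor R D (c ^ q) = (u * tor R D (c ^ q) * u⁻¹) * u := by group
      _ = _ := by rw [h3]
  have hτ := Cfsg.Agent.Lib.ChevReg250.mem_diagonal_of_comm2 hF (c ^ q) hreg1 hreg2 huG hcomm
  refine ⟨Y, hY, n₁, u, hτ, ?_, hzero⟩
  rw [hu]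
  group

/-- **A cyclic self-centralising twisted torus** of the group over the small field. -/
theorem main_generic (hF : Full T X' R D) (f : F →+* K) (σ : K ≃+* K) (q : ℕ) (hfσ : ∀ b, σ (f b) = f b)
    (hf : ∀ a : K, σ a = a → ∃ b, f b = a) (hσ : ∀ x : K, σ x = x ^ q)
    (B : Fin D.rank → Fin D.rank → ℤ)
    (hB1 : ∀ k i : Fin D.rank, ∑ j : Fin D.rank, B k j * D.cartan i (D.simple j) = if i = k then 1 else 0)
    (hB2 : ∀ k j : Fin D.rank, ∑ i : Fin D.rank, B i k * D.cartan i (D.simple j) = if j = k then 1 else 0)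
    (hl : 0 < D.rank) (e : Fin D.nroots)
    (P k : ℤ[X]) (hmon : P.Monic) (hirr : Irreducible (P.map (Int.castRingHom ℚ))) (hdeg : P.natDegree = D.rank)
    (h : ℕ) (hPk : P * k = X ^ h - 1)
    (m : ℕ) (hm : (m : ℤ) = P.eval (q : ℤ)) (hm1 : 1 < m) (hKm : m ∣ Fintype.card K - 1)
    (hprime : ∀ ℓ : ℕ, ℓ.Prime → ℓ ∣ m → ¬ ℓ ∣ h ∧ ¬ ℓ ∣ Nat.card ↥(hF.Wk Set.univ) ∧ ¬ ℓ ∣ q ∧
        ¬ ℓ ∣ ((D.diagonalSubgroup K).subgroupOf (D.group K)).index ∧ ℓ ∣ Nat.card ↥(D.group F)) :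
    ∃ H : Subgroup ↥(D.group F), IsCyclic ↥H ∧ Nat.card ↥H = m ∧
      Subgroup.centralizer (H : Set ↥(D.group F)) = H := by
  classical
  obtain ⟨r, hr, hrm⟩ := Nat.exists_prime_and_dvd (ne_of_gt hm1)
  haveI : Fact r.Prime := ⟨hr⟩
  obtain ⟨hrh, hrW, hrq, hridx, hrG⟩ := hprime r hr hrm
  obtain ⟨s, hs⟩ := exists_prime_orderOf_dvd_card' r hrG
  have hsr : orderOf s.1 = r := by
    rw [Subgroup.orderOf_coe]
    exact hs
  have hdvdP : ∀ {ℓ : ℕ}, ℓ ∣ m → (ℓ : ℤ) ∣ P.eval (q : ℤ) := by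
    intro ℓ hℓ
    rw [← hm]
    exact_mod_cast hℓ
  obtain ⟨Y, hY, n, τ, hτ, hYs, hzero⟩ := exists_data_gen hF f σ q hfσ hσ P k h hPk hirr hdeg (hdvdP hrm) hrh hrW hrq
    hridx s.2 hsr
  set ρ := hF.rhoN K n with hρdef
  have hρ : ρ ∈ hF.Wk Set.univ := hF.rhoN_mem_Wk n
  set A := mat hF ρ with hAdef
  have hirrM := irr_of_zero A P hirr hdeg hzero
  obtain ⟨g, hg1, hg2⟩ := exists_g P (q : ℤ)
  set e₁ := rcV R D e with he₁
  set V := aeval A g *ᵥ e₁ with hV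
  have hm0 : (m : ℤ) ≠ 0 := by
    have : m ≠ 0 := by omega
    exact_mod_cast this
  obtain ⟨w, t, hwt⟩ := exists_bezout V (m : ℤ) hm0 (by
    intro ℓ hℓ hd
    have hd' : ℓ ∣ m := by exact_mod_cast hd
    obtain ⟨a1, a2, a3, -, -⟩ := hprime ℓ hℓ hd'
    exact exists_V (K := K) hF B hB2 hl hρ P k g h hPk hmon hirr hdeg hzero q hg2 e hℓ (hdvdP hd')
      (hd'.trans hKm) a1 a3 a2)
  set b : Fin D.rank → ℤ := w ᵥ* aeval A g with hb
  -- the basic identity
  have hmat : A * aeval A g = (q : ℤ) • aeval A g - (m : ℤ) • 1 := by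
    have h1 := congrArg (aeval A) hg1
    rw [hzero, ← hm] at h1
    simp only [map_add, map_mul, map_sub, aeval_X, aeval_C] at h1
    have e1 : (algebraMap ℤ (Matrix (Fin D.rank) (Fin D.rank) ℤ)) (q : ℤ) = (q : ℤ) • 1 :=
      Algebra.algebraMap_eq_smul_one _
    have e2 : (algebraMap ℤ (Matrix (Fin D.rank) (Fin D.rank) ℤ)) (m : ℤ) = (m : ℤ) • 1 :=
      Algebra.algebraMap_eq_smul_one _
    rw [e1, e2, sub_mul, smul_mul_assoc, one_mul] at h1
    have h2 := h1.symm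
    rw [add_eq_zero_iff_eq_neg] at h2
    rw [sub_eq_iff_eq_add] at h2
    rw [h2]
    abel
  have hcomm : aeval A g * A = A * aeval A g := by
    have h1 : aeval A g * aeval A (X : ℤ[X]) = aeval A (X : ℤ[X]) * aeval A g := by
      rw [← map_mul, ← map_mul, mul_comm]
    rwa [aeval_X] at h1
  have hbA : ∀ v, b ⬝ᵥ (A *ᵥ v) = (q : ℤ) * (b ⬝ᵥ v) - (m : ℤ) * (w ⬝ᵥ v) := by
    intro v
    have e1 : b ⬝ᵥ (A *ᵥ v) = w ⬝ᵥ ((A * aeval A g) *ᵥ v) := by
      rw [hb, ← Matrix.dotProduct_mulVec, Matrix.mulVec_mulVec, hcomm]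
    have e2 : b ⬝ᵥ v = w ⬝ᵥ (aeval A g *ᵥ v) := by
      rw [hb, ← Matrix.dotProduct_mulVec]
    rw [e1, e2, hmat, Matrix.sub_mulVec, Matrix.smul_mulVec, Matrix.smul_mulVec, Matrix.one_mulVec, dotProduct_sub,
      dotProduct_smul, dotProduct_smul, smul_eq_mul, smul_eq_mul]
  have hbe : b ⬝ᵥ e₁ = 1 - t * m := by
    have e2 : b ⬝ᵥ e₁ = w ⬝ᵥ V := by
      rw [hb, hV, ← Matrix.dotProduct_mulVec]
    rw [e2, ← hwt]
    ring
  -- the generator
  have hQ : 2 ≤ Fintype.card K := Fintype.one_lt_card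
  obtain ⟨w', hw'⟩ := hKm
  have hw'0 : w' ≠ 0 := by
    intro h0
    rw [h0, mul_zero] at hw'
    omega
  obtain ⟨γ, hγ⟩ := IsCyclic.exists_generator (α := Kˣ)
  have hordγ : orderOf γ = m * w' := by
    rw [orderOf_eq_card_of_forall_mem_zpowers hγ, Nat.card_eq_fintype_card, Fintype.card_units, hw']
  set z₀ := γ ^ w' with hz₀
  have hordz : orderOf z₀ = m := by
    rw [hz₀, orderOf_pow' γ hw'0, hordγ, Nat.gcd_eq_right (Nat.dvd_mul_left _ _),
      Nat.mul_div_cancel _ (Nat.pos_of_ne_zero hw'0)]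
  have hzm : z₀ ^ m = 1 := by
    rw [← hordz]
    exact pow_orderOf_eq_one z₀
  have hzm' : z₀ ^ (m : ℤ) = 1 := by
    rw [zpow_natCast]
    exact hzm
  set c₀ := cOf B (fun j => z₀ ^ b j) with hc₀
  have hX₀ : ∀ v, Xc c₀ v = z₀ ^ (b ⬝ᵥ v) := Xc_cOf B hB2 z₀ b
  have hchi₀ : ∀ s : Fin D.nroots, chiT D c₀ s = z₀ ^ (b ⬝ᵥ rcV R D s) := by
    intro s
    rw [← Xc_rc hF c₀ s.2, hX₀]
  have htw₀ : Tw hF n q c₀ := by
    intro s
    have h1 : chiT D c₀ (ρ s) = z₀ ^ (b ⬝ᵥ rcV R D (ρ s)) := hchi₀ (ρ s)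
    show chiT D c₀ (ρ s) = _
    rw [h1, hchi₀, mat_rc hF hρ, hbA, sub_eq_add_neg, _root_.zpow_add, ← mul_neg, _root_.zpow_mul z₀ (m : ℤ), hzm',
      _root_.one_zpow, mul_one, mul_comm, _root_.zpow_mul, zpow_natCast]
  have he₀ : chiT D c₀ e = z₀ := by
    have e2 : (1 - t * (m : ℤ)) = 1 + (m : ℤ) * (-t) := by ring
    rw [hchi₀, hbe, e2, _root_.zpow_add, zpow_one, _root_.zpow_mul, hzm', _root_.one_zpow, mul_one]
  have htorpow : ∀ (d : Fin D.rank → Kˣ) (k : ℕ), tor R D (d ^ k) = (tor R D d : GL D.Idx K) ^ k :=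
    fun d k => map_pow (torHom R D) d k
  have htorzpow : ∀ (d : Fin D.rank → Kˣ) (k : ℤ), tor R D (d ^ k) = (tor R D d : GL D.Idx K) ^ k :=
    fun d k => map_zpow (torHom R D) d k
  -- regular elements of prime order
  have hstabP : ∀ (c : Fin D.rank → Kˣ) (ℓ : ℕ), ℓ.Prime → ℓ ∣ m → Tw hF n q c → (∀ s : Fin D.nroots, chiT D c s ^ ℓ = 1) →
      (∃ s : Fin D.nroots, chiT D c s ≠ 1) → ∀ g' ∈ hF.Wk Set.univ, (∀ s : Fin D.nroots, chiT D c (g' s) = chiT D c s) →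
      g' = 1 := by
    intro c ℓ hℓ hℓm htwc hpow hne g' hg' hfix
    obtain ⟨-, a2, -, -, -⟩ := hprime ℓ hℓ hℓm
    exact stab_trivial hF hρ hirrM c q htwc hℓ hpow hne a2 hg' hfix
  -- regularity of the generator
  have hstab₀ : ∀ g' ∈ hF.Wk Set.univ, (∀ s : Fin D.nroots, chiT D c₀ (g' s) = chiT D c₀ s) → g' = 1 := by
    intro g' hg' hfix
    obtain ⟨w₁, hw₁⟩ := hrm
    have hw₁0 : 0 < w₁ := by
      rcases Nat.eq_zero_or_pos w₁ with h0 | h0
      · rw [h0, mul_zero] at hw₁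
        omega
      · exact h0
    apply hstabP (c₀ ^ w₁) r hr ⟨w₁, hw₁⟩ (Tw.pow_tw htw₀ w₁)
    · intro s
      rw [chiT_pow, ← pow_mul, mul_comm, ← hw₁, hchi₀, ← zpow_natCast, ← _root_.zpow_mul, mul_comm, _root_.zpow_mul,
        hzm', _root_.one_zpow]
    · refine ⟨e, ?_⟩
      rw [chiT_pow, he₀]
      intro h1
      have h2 := orderOf_le_of_pow_eq_one hw₁0 h1
      rw [hordz, hw₁] at h2
      have h3 := hr.two_le
      nlinarith
    · exact hg'
    · intro s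
      rw [chiT_pow, chiT_pow, hfix]
  obtain ⟨hreg1, hreg2⟩ := reg_of_stab hF c₀ hstab₀
  have hU : ∀ c : Fin D.rank → Kˣ, (∀ j < D.rank, cartanMap D c j = 1) → c = 1 :=
    fun c hc => eq_one_of_cartanMap B hB1 hc
  refine assembly f σ q hF hfσ hf hσ hU hY n hτ hYs c₀ m htw₀ hreg1 hreg2 ?_ ?_
  · -- all twisted elements are powers
    intro c htwc
    have hXtw : ∀ v, Xc c (A *ᵥ v) = Xc c v ^ q := Xc_twist hF hρ c q htwc
    have hXm : ∀ v, Xc c v ^ m = 1 := by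
      intro v
      have h1 := Xc_aeval c q hXtw P v
      rw [hzero, Matrix.zero_mulVec, Xc_zero, ← hm, zpow_natCast] at h1
      exact h1.symm
    have hchim : ∀ s : Fin D.nroots, chiT D c s ^ m = 1 := by
      intro s
      rw [← Xc_rc hF c s.2]
      exact hXm _
    set z := chiT D c e with hz
    obtain ⟨k₁, hk₁⟩ := Subgroup.mem_zpowers_iff.1 (hγ z)
    have hdvd : ((orderOf γ : ℕ) : ℤ) ∣ k₁ * m := by
      rw [orderOf_dvd_iff_zpow_eq_one, _root_.zpow_mul, hk₁]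
      exact_mod_cast hchim e
    rw [hordγ] at hdvd
    have hdvd2 : (w' : ℤ) ∣ k₁ := by
      rw [Nat.cast_mul, mul_comm] at hdvd
      exact (mul_dvd_mul_iff_right hm0).1 hdvd
    obtain ⟨k', rfl⟩ := hdvd2
    have hzk : z = z₀ ^ k' := by
      rw [← hk₁, hz₀, ← zpow_natCast, ← _root_.zpow_mul]
    refine ⟨k', ?_⟩
    rw [← htorzpow]
    -- the quotient is trivial
    set c' := c * c₀ ^ (-k') with hc'
    have htw' : Tw hF n q c' := Tw.mul_tw htwc (Tw.zpow_tw htw₀ _)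
    have hc'e : chiT D c' e = 1 := by
      rw [hc', chiT_mul', chiT_zpow', he₀, ← hz, hzk, _root_.zpow_neg, mul_inv_cancel]
    have hc'm : ∀ s : Fin D.nroots, chiT D c' s ^ m = 1 := by
      intro s
      rw [hc', chiT_mul', chiT_zpow', mul_pow, hchim, one_mul, hchi₀, ← zpow_natCast, ← _root_.zpow_mul,
        ← _root_.zpow_mul]
      have e2 : (b ⬝ᵥ rcV R D s) * (-k' * (m : ℤ)) = (m : ℤ) * ((b ⬝ᵥ rcV R D s) * -k') := by ring
      rw [e2, _root_.zpow_mul, hzm', _root_.one_zpow]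
    have htor1 : tor R D c' = (1 : GL D.Idx K) := by
      by_contra hne
      set d := orderOf (tor R D c' : GL D.Idx K) with hd
      have hdm : d ∣ m := by
        apply orderOf_dvd_of_pow_eq_one
        rw [← htorpow, ← tor_one (R := R) (D := D)]
        apply tor_eq_of_chi hF
        intro s
        rw [chiT_pow, hc'm, chiT_one'']
      have hd1 : d ≠ 1 := by
        intro h1
        exact hne (orderOf_eq_one_iff.1 h1)
      obtain ⟨ℓ, hℓ, hℓd⟩ := Nat.exists_prime_and_dvd hd1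
      obtain ⟨d', hd'⟩ := hℓd
      have hdpos : 0 < d := Nat.pos_of_ne_zero (by
        intro h0
        rw [h0, zero_dvd_iff] at hdm
        omega)
      have hd'pos : 0 < d' := by
        rcases Nat.eq_zero_or_pos d' with h0 | h0
        · rw [h0, mul_zero] at hd'
          omega
        · exact h0
      have hpow : ∀ s : Fin D.nroots, chiT D (c' ^ d') s ^ ℓ = 1 := by
        intro s
        have h1 : tor R D (c' ^ d) = (tor R D (1 : Fin D.rank → Kˣ) : GL D.Idx K) := by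
          rw [tor_one, htorpow, hd]
          exact pow_orderOf_eq_one _
        have h2 := chi_eq_of_tor hF h1 s
        rw [chiT_pow, chiT_one'', hd', mul_comm, pow_mul] at h2
        rw [chiT_pow]
        exact h2
      have hnt : ∃ s : Fin D.nroots, chiT D (c' ^ d') s ≠ 1 := by
        by_contra h0
        push Not at h0
        have h1 : tor R D (c' ^ d') = (tor R D (1 : Fin D.rank → Kˣ) : GL D.Idx K) :=
          tor_eq_of_chi hF (fun s => by rw [h0, chiT_one''])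
        rw [tor_one, htorpow] at h1
        have h2 := orderOf_le_of_pow_eq_one hd'pos h1
        rw [← hd, hd'] at h2
        have h3 := hℓ.two_le
        nlinarith
      have hstab' := hstabP (c' ^ d') ℓ hℓ (Dvd.dvd.trans ⟨d', hd'⟩ hdm) (Tw.pow_tw htw' d') hpow hnt
      obtain ⟨hreg', -⟩ := reg_of_stab hF (c' ^ d') hstab'
      apply hreg' e e.2
      rw [chiT_pow, hc'e, one_pow]
    have hc'eq : tor R D c = (tor R D (c₀ ^ k') : GL D.Idx K) := by
      have h1 : tor R D c' = (tor R D c : GL D.Idx K) * (tor R D (c₀ ^ k'))⁻¹ := by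
        rw [hc', ← tor_mul, htorzpow c₀ (-k'), htorzpow c₀ k', _root_.zpow_neg]
      rw [htor1] at h1
      exact mul_inv_eq_one.1 h1.symm
    exact hc'eq
  · rw [← hordz]
    apply orderOf_eq_orderOf_iff.2
    intro k₂
    constructor
    · intro h1
      rw [← htorpow] at h1
      have h2 : tor R D (c₀ ^ k₂) = (tor R D (1 : Fin D.rank → Kˣ) : GL D.Idx K) := by
        rw [tor_one, h1]
      have h3 := chi_eq_of_tor hF h2 e
      rw [chiT_pow, chiT_one'', he₀] at h3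
      exact h3
    · intro h1
      rw [← htorpow, ← tor_one (R := R) (D := D)]
      apply tor_eq_of_chi hF
      intro s
      rw [chiT_pow, chiT_one'', hchi₀, ← zpow_natCast, ← _root_.zpow_mul, mul_comm, _root_.zpow_mul, zpow_natCast, h1,
        _root_.one_zpow]

end Big

end Cfsg.Agent.Lib.TwTor32
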