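import Mathlib
import Cfsg.Prelude.Def_Characters
import Cfsg.Agent.Lib.CharBasic
import Cfsg.Agent.Lib.CharInd
import Cfsg.Agent.Lib.PermChar

/-!
# Doubly transitive actions and irreducible characters
-/

set_option autoImplicit false

namespace Cfsg.Agent.Lib.TwoTrans

open Cfsg Cfsg.Agent.Lib.CharBasic Cfsg.Agent.Lib.PermChar
open scoped ComplexConjugate

universe u v

variable {G : Type u} [Group G] (X : Type v) [MulAction G X]

/-- The fixed point count. -/
noncomputable def fix (g : G) : ℕ := Nat.card (MulAction.fixedBy X g)

variable [Finite X]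

theorem isCharacter_fix : IsCharacter G (fun g => (fix X g : ℂ)) := by
  have h := isCharacter_of_rep' (Representation.ofMulAction ℂ G X)
  have h2 : (Representation.ofMulAction ℂ G X).character = fun g => (fix X g : ℂ) := by
    funext g
    exact character_ofMulAction X g
  rwa [h2] at h

/-- Burnside's lemma in `Nat.card` form. -/
theorem sum_card_fixedBy {Y : Type*} [MulAction G Y] [Finite Y] [Fintype G] :
    ∑ g : G, Nat.card (MulAction.fixedBy Y g) =
      Nat.card (MulAction.orbitRel.Quotient G Y) * Nat.card G := by
  classical
  haveI := Fintype.ofFinite Y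
  haveI : Fintype (MulAction.orbitRel.Quotient G Y) := Fintype.ofFinite _
  have := MulAction.sum_card_fixedBy_eq_card_orbits_mul_card_group G Y
  simpa [Nat.card_eq_fintype_card] using this

/-- The fixed points on ordered pairs of distinct points. -/
theorem card_fixedBy_embedding (g : G) :
    Nat.card (MulAction.fixedBy (Fin 2 ↪ X) g) = fix X g * (fix X g - 1) := by
  classical
  haveI := Fintype.ofFinite X
  have e : MulAction.fixedBy (Fin 2 ↪ X) g ≃ (Fin 2 ↪ MulAction.fixedBy X g) :=
    { toFun := fun f => ⟨fun i => ⟨f.1 i, by
          have h : g • f.1 = f.1 := f.2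
          have h2 := DFunLike.congr_fun h i
          exact h2⟩, fun i j hij => f.1.injective (Subtype.ext_iff.mp hij)⟩
      invFun := fun f => ⟨⟨fun i => (f i : X), fun i j hij => f.injective (Subtype.ext hij)⟩, by
          show g • _ = _
          ext i
          exact (f i).2⟩
      left_inv := fun f => by
        apply Subtype.ext
        ext i
        rfl
      right_inv := fun f => by
        ext i
        rfl }
  rw [Nat.card_congr e, Nat.card_eq_fintype_card, Fintype.card_embedding_eq]
  simp only [Fintype.card_fin]
  unfold fix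
  rw [← Nat.card_eq_fintype_card]
  rw [show (2:ℕ) = 1 + 1 by rfl, Nat.descFactorial_succ, Nat.descFactorial_one]
  ring

/-- **A transitive action on at least two points is doubly transitive iff the permutation
character minus the principal character is irreducible.** -/
theorem isIrrCharacter_fix_sub_one_iff [Finite G] [MulAction.IsPretransitive G X]
    (hX : 2 ≤ Nat.card X) :
    IsIrrCharacter G (fun g => (fix X g : ℂ) - 1) ↔ MulAction.IsMultiplyPretransitive G X 2 := by
  classical
  haveI : Fintype G := Fintype.ofFinite G
  haveI : Fintype X := Fintype.ofFinite X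
  have hGne : (Nat.card G : ℂ) ≠ 0 := natCard_ne_zero'
  have hXne : Nonempty X := by
    have : 0 < Nat.card X := by omega
    exact (Nat.card_pos_iff.mp this).1
  have hEne : Nonempty (Fin 2 ↪ X) := by
    apply Function.Embedding.nonempty_of_card_le
    rw [Fintype.card_fin, ← Nat.card_eq_fintype_card]
    exact hX
  have hone : Nat.card (MulAction.orbitRel.Quotient G X) = 1 := by
    obtain ⟨u⟩ := (MulAction.pretransitive_iff_unique_quotient_of_nonempty G X).mp inferInstance
    exact Nat.card_unique
  -- Burnside for `X`
  have h1 : ∑ g : G, (fix X g : ℂ) = (Nat.card G : ℂ) := by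
    have := sum_card_fixedBy (G := G) (Y := X)
    rw [hone, one_mul] at this
    unfold fix
    exact_mod_cast this
  -- Burnside for ordered pairs
  set r := Nat.card (MulAction.orbitRel.Quotient G (Fin 2 ↪ X)) with hr
  have h2 : ∑ g : G, ((fix X g : ℂ) * ((fix X g : ℂ) - 1)) = (r : ℂ) * (Nat.card G : ℂ) := by
    have := sum_card_fixedBy (G := G) (Y := (Fin 2 ↪ X))
    have h3 : ∑ g : G, ((fix X g : ℂ) * ((fix X g : ℂ) - 1)) =
        ((∑ g : G, Nat.card (MulAction.fixedBy (Fin 2 ↪ X) g) : ℕ) : ℂ) := by
      push_cast
      refine Finset.sum_congr rfl fun g _ => ?_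
      rw [card_fixedBy_embedding]
      rcases Nat.eq_zero_or_pos (fix X g) with h0 | h0
      · simp [h0]
      · push_cast [Nat.cast_sub h0]
        ring
    rw [h3, this]
    push_cast
    ring
  -- the norm of `π - 1`
  have hnorm : classInner (fun g : G => (fix X g : ℂ) - 1) (fun g : G => (fix X g : ℂ) - 1) =
      (r : ℂ) := by
    unfold classInner
    have h3 : ∀ g : G, ((fix X g : ℂ) - 1) * conj ((fix X g : ℂ) - 1) =
        (fix X g : ℂ) * ((fix X g : ℂ) - 1) - (fix X g : ℂ) + 1 := by
      intro g
      simp only [map_sub, map_one, map_natCast]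
      ring
    simp_rw [h3]
    rw [Finset.sum_add_distrib, Finset.sum_sub_distrib, h1, h2]
    simp only [Finset.sum_const, Finset.card_univ, nsmul_eq_mul, mul_one, Fintype.card_eq_nat_card]
    field_simp
    ring
  -- `π - 1` is a character
  have hchar : IsCharacter G (fun g : G => (fix X g : ℂ) - 1) := by
    apply isCharacter_of_classInner_nat
    · intro g h
      have := isClassFunction_of_isCharacter (isCharacter_fix X (G := G)) g h
      simp only at this ⊢
      rw [this]
    · intro χ
      have hdecomp : (fun g : G => (fix X g : ℂ) - 1) = (fun g : G => (fix X g : ℂ)) -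
          (fun _ => (1 : ℂ)) := rfl
      rw [hdecomp, classInner_sub_left]
      obtain ⟨m, hm⟩ := classInner_char_irr (isCharacter_fix X (G := G)) χ.2
      by_cases hχ : (χ : G → ℂ) = fun _ => 1
      · refine ⟨0, ?_⟩
        rw [hχ, classInner_irr_self isIrrCharacter_one]
        have : classInner (fun g : G => (fix X g : ℂ)) (fun _ => (1 : ℂ)) = 1 := by
          unfold classInner
          simp only [map_one, mul_one]
          rw [h1]
          exact inv_mul_cancel₀ hGne
        rw [this]
        simp
      · refine ⟨m, ?_⟩
        rw [hm, classInner_irr_ne isIrrCharacter_one χ.2 (fun h => hχ h.symm), sub_zero]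
  -- conclude
  have hiff : IsIrrCharacter G (fun g => (fix X g : ℂ) - 1) ↔ r = 1 := by
    rw [isIrrCharacter_iff_norm_one, hnorm]
    constructor
    · rintro ⟨-, h⟩
      exact_mod_cast h
    · intro h
      exact ⟨hchar, by rw [h]; simp⟩
  rw [hiff, hr, Nat.card_eq_one_iff_unique]
  constructor
  · rintro ⟨hs, -⟩
    exact (MulAction.pretransitive_iff_subsingleton_quotient G (Fin 2 ↪ X)).mpr hs
  · intro h
    obtain ⟨u⟩ := (MulAction.pretransitive_iff_unique_quotient_of_nonempty G (Fin 2 ↪ X)).mp h
    exact ⟨inferInstance, inferInstance⟩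

end Cfsg.Agent.Lib.TwoTrans
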