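-- Data for SU3(2) on two generators: a coset enumeration over the cyclic subgroup of the first generator.
import Mathlib
import Cfsg.Agent.Lib.SchurTc

set_option autoImplicit false
set_option Elab.async false
set_option maxRecDepth 100000
set_option linter.all false

namespace Cfsg.Agent.Lib.U32Tc

open Subgroup Cfsg.Agent.Lib.TcFacts Cfsg.Agent.Lib.TcPres Cfsg.Agent.Lib.SchurCoset46 Cfsg.Agent.Lib.SchurTc

/-- The relators. -/
def relsL : List (List ℕ) := [[0,0,0,0,0,0,0,0,0,0,0,0],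
  [2,2,2,2],
  [0,0,2,2,1,2,0,2],
  [0,0,3,3,1,2,0,2],
  [0,2,0,2,0,2,0,2],
  [0,0,0,0,2,1,1,1,1,3],
  [0,0,0,2,0,2,1,1,2,2],
  [0,0,0,2,0,2,1,1,3,3],
  [0,0,0,2,0,3,1,2,0,3],
  [0,0,0,2,1,2,1,2,1,2],
  [0,0,0,2,1,3,0,3,1,3]]

/-- The relators, inverses and trivial relators, as words in letters. -/
def Rels : List (List ℕ) := [
  [0, 0, 0, 0, 0, 0, 0, 0, 0, 0, 0, 0],
  [2, 2, 2, 2],
  [0, 0, 2, 2, 1, 2, 0, 2],
  [0, 0, 3, 3, 1, 2, 0, 2],
  [0, 2, 0, 2, 0, 2, 0, 2],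
  [0, 0, 0, 0, 2, 1, 1, 1, 1, 3],
  [0, 0, 0, 2, 0, 2, 1, 1, 2, 2],
  [0, 0, 0, 2, 0, 2, 1, 1, 3, 3],
  [0, 0, 0, 2, 0, 3, 1, 2, 0, 3],
  [0, 0, 0, 2, 1, 2, 1, 2, 1, 2],
  [0, 0, 0, 2, 1, 3, 0, 3, 1, 3],
  [1, 1, 1, 1, 1, 1, 1, 1, 1, 1, 1, 1],
  [3, 3, 3, 3],
  [3, 1, 3, 0, 3, 3, 1, 1],
  [3, 1, 3, 0, 2, 2, 1, 1],
  [3, 1, 3, 1, 3, 1, 3, 1],
  [2, 0, 0, 0, 0, 3, 1, 1, 1, 1],
  [3, 3, 0, 0, 3, 1, 3, 1, 1, 1],
  [2, 2, 0, 0, 3, 1, 3, 1, 1, 1],
  [2, 1, 3, 0, 2, 1, 3, 1, 1, 1],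
  [3, 0, 3, 0, 3, 0, 3, 1, 1, 1],
  [2, 0, 2, 1, 2, 0, 3, 1, 1, 1],
  [0, 1],
  [1, 0],
  [2, 3],
  [3, 2]]

/-- The table. -/
noncomputable def T : Tr := (.node (.node (.node (.leaf (nat_lit 0x310008238d92aed9229c8b4c008400207e3442a3e28990270001d80081e492dc87751838830007400206633b47a608a4ecb1001c0008218e4c1ce5a23ae6a0006200206237aa62142d49ca600158008258e6788548a31f42c005400203832c604dc8a312b20011a14a80000688440268000000440020303223c11161aa4ae001000081a8e0f4912822153940032002056373e049789e48a3000c00081b022c8102021ac03c0024002018310d30d301c94ad000880080e81a6c0c2c248a2880020002032059702840844c0900058008070cc188122040f01c0014002008308b018480a1c0400000008028060c020420810840000000000000000000000000)) (.leaf (nat_lit 0x0))) (.node (.leaf (nat_lit 0x0)) (.leaf (nat_lit 0x0)))) (.node (.node (.leaf (nat_lit 0x0)) (.leaf (nat_lit 0x0))) (.node (.leaf (nat_lit 0x0)) (.leaf (nat_lit 0x0)))))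

/-- The words. -/
noncomputable def WT : Tr := (.node (.node (.node (.node (.node (.leaf (nat_lit 0xa)) (.leaf (nat_lit 0x224cb24c))) (.node (.leaf (nat_lit 0x5218a2)) (.leaf (nat_lit 0x0)))) (.node (.node (.leaf (nat_lit 0x6db)) (.leaf (nat_lit 0x1a859261))) (.node (.leaf (nat_lit 0x92d34d3)) (.leaf (nat_lit 0x0))))) (.node (.node (.node (.leaf (nat_lit 0x23)) (.leaf (nat_lit 0x5212cb))) (.node (.leaf (nat_lit 0x132d250b)) (.leaf (nat_lit 0x0)))) (.node (.node (.leaf (nat_lit 0x22692899)) (.leaf (nat_lit 0x0))) (.node (.leaf (nat_lit 0x224a1861)) (.leaf (nat_lit 0x0)))))) (.node (.node (.node (.node (.leaf (nat_lit 0x1c)) (.leaf (nat_lit 0x1b494509))) (.node (.leaf (nat_lit 0x13249892)) (.leaf (nat_lit 0x0)))) (.node (.node (.leaf (nat_lit 0x9692509)) (.leaf (nat_lit 0x1265925b))) (.node (.leaf (nat_lit 0x1a4cb24b)) (.leaf (nat_lit 0x0))))) (.node (.node (.node (.leaf (nat_lit 0x11)) (.leaf (nat_lit 0x659659)))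 (.node (.leaf (nat_lit 0x98924c9)) (.leaf (nat_lit 0x0)))) (.node (.node (.leaf (nat_lit 0x626498a5)) (.leaf (nat_lit 0x0))) (.node (.leaf (nat_lit 0x2164985a)) (.leaf (nat_lit 0x0)))))))

/-- Side data. -/
noncomputable def ST : Tr := (.leaf (nat_lit 0xb))

/-- Hints for the words. -/
noncomputable def HT : Tr := (.node (.node (.node (.node (.node (.leaf (nat_lit 0x1016)) (.leaf (nat_lit 0x9007))) (.node (.leaf (nat_lit 0x700d)) (.leaf (nat_lit 0x0)))) (.node (.node (.leaf (nat_lit 0x1)) (.leaf (nat_lit 0x8008))) (.node (.leaf (nat_lit 0x3009)) (.leaf (nat_lit 0x0))))) (.node (.node (.node (.leaf (nat_lit 0x18)) (.leaf (nat_lit 0x5003))) (.node (.leaf (nat_lit 0x4015)) (.leaf (nat_lit 0x0)))) (.node (.node (.leaf (nat_lit 0x3013)) (.leaf (nat_lit 0x0))) (.node (.leaf (nat_lit 0x1014)) (.leaf (nat_lit 0x0)))))) (.node (.node (.node (.node (.leaf (nat_lit 0x1018)) (.leaf (nat_lit 0x2012))) (.node (.leaf (nat_lit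 0x6005)) (.leaf (nat_lit 0x0)))) (.node (.node (.leaf (nat_lit 0x3010)) (.leaf (nat_lit 0x8006))) (.node (.leaf (nat_lit 0x9006)) (.leaf (nat_lit 0x0))))) (.node (.node (.node (.leaf (nat_lit 0x16)) (.leaf (nat_lit 0x4))) (.node (.leaf (nat_lit 0x2005)) (.leaf (nat_lit 0x0)))) (.node (.node (.leaf (nat_lit 0x100700a)) (.leaf (nat_lit 0x0))) (.node (.leaf (nat_lit 0x6008)) (.leaf (nat_lit 0x0)))))))

/-- An entry of the table. -/
noncomputable def ent (u a : ℕ) : ℕ :=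
  Nat.land
    (Nat.shiftRight
      (Nat.rec (motive := fun _ => ℕ) (Tr.get T 0) (fun m _ => Tr.get T (Nat.succ m))
        (Nat.shiftRight u 5))
      (Nat.add (Nat.mul (Nat.land u 31) 102) (Nat.mul a 17)))
    131071

/-- The parent of a label. -/
noncomputable def pa (v : ℕ) : ℕ := ent v 5

/-- A word. -/
noncomputable def wd (k : ℕ) : ℕ := Tr.get WT k

/-- Side data. -/
noncomputable def side (k : ℕ) : ℕ :=
  Nat.land
    (Nat.shiftRight
      (Nat.rec (motive := fun _ => ℕ) (Tr.get ST 0) (fun m _ => Tr.get ST (Nat.succ m))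
        (Nat.shiftRight k 5))
      (Nat.mul (Nat.land k 31) 14))
    16383

/-- A hint. -/
noncomputable def hint (k : ℕ) : ℕ := Tr.get HT k

/-- The letters of the subgroup. -/
def baseL : List ℕ := [0]

/-- Is a letter in the subgroup. -/
noncomputable def base (a : ℕ) : Bool := baseL.contains a

/-- The check of a row. -/
noncomputable def F : ℕ → Bool :=
  rowF ent pa wd side base 4 31 5 10 255 3 7 8 11 31 22 32 128

/-- Being alive. -/
noncomputable def al : ℕ → Bool := aliveB ent 4 32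

end Cfsg.Agent.Lib.U32Tc
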