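import Mathlib
import Cfsg.Agent.Lib.U33Data
import Cfsg.Agent.Lib.UnitarySU
import Cfsg.Prelude.Def_Classical
import Cfsg.Prelude.Def_Characters

/-!
# The group `SU₃(3)` over the concrete field `K9`: enumeration and classes
-/

set_option autoImplicit false
set_option maxRecDepth 100000

namespace Cfsg.Agent.Lib.U33Group

open Cfsg Cfsg.Agent.Lib.F9K Cfsg.Agent.Lib.U33Data
open scoped Matrix

attribute [local irreducible] data squaresC clSize clRoot clP28 clA28 clP63 repC

/-- The group. -/
abbrev L : Type := ↥(SU 3 K9 3)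

theorem add_eq (a b : K9) : K9.add a b = a + b := rfl
theorem mul_eq (a b : K9) : K9.mul a b = a * b := rfl
theorem neg_eq (a : K9) : K9.neg a = -a := rfl
theorem frob_eq (a : K9) : K9.frob a = a ^ 3 := (K9.pow_three_eq a).symm

/-- The matrix of an element. -/
def toM (g : L) : Matrix (Fin 3) (Fin 3) K9 := g.1.1

/-- The entries of an element. -/
def ent (g : L) : Mt :=
  ⟨toM g 0 0, toM g 0 1, toM g 0 2, toM g 1 0, toM g 1 1, toM g 1 2, toM g 2 0, toM g 2 1, toM g 2 2⟩

/-- The matrix with given entries. -/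
def ofMt (m : Mt) : Matrix (Fin 3) (Fin 3) K9 :=
  !![m.a00, m.a01, m.a02; m.a10, m.a11, m.a12; m.a20, m.a21, m.a22]

theorem ofMt_ent (g : L) : ofMt (ent g) = toM g := by
  exact (Matrix.eta_fin_three (toM g)).symm

theorem ent_inj {g h : L} (e : ent g = ent h) : g = h := by
  apply Subtype.ext
  apply Subtype.ext
  have := congrArg ofMt e
  rw [ofMt_ent, ofMt_ent] at this
  exact this

theorem toM_mul (g h : L) : toM (g * h) = toM g * toM h := rfl

theorem toM_one : toM (1 : L) = 1 := rfl

theorem ent_mul (g h : L) : ent (g * h) = mmul (ent g) (ent h) := by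
  unfold ent
  simp only [toM_mul, Matrix.mul_apply, Fin.sum_univ_three, mmul, add_eq, mul_eq]

theorem inv_mul_toM (g : L) : toM g⁻¹ * toM g = 1 := by
  rw [← toM_mul, inv_mul_cancel, toM_one]

theorem mul_left_cancel_ent (h : L) {a b : Mt} (e : mmul (ent h) a = mmul (ent h) b) : a = b := by
  have hof : ∀ m n : Mt, ofMt (mmul m n) = ofMt m * ofMt n := by
    intro m n
    ext i j
    fin_cases i <;> fin_cases j <;>
      simp [ofMt, mmul, Matrix.mul_apply, Fin.sum_univ_three, add_eq, mul_eq]
  have hof_inj : ∀ m n : Mt, ofMt m = ofMt n → m = n := by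
    intro m n e
    have e00 := congrFun (congrFun e 0) 0
    have e01 := congrFun (congrFun e 0) 1
    have e02 := congrFun (congrFun e 0) 2
    have e10 := congrFun (congrFun e 1) 0
    have e11 := congrFun (congrFun e 1) 1
    have e12 := congrFun (congrFun e 1) 2
    have e20 := congrFun (congrFun e 2) 0
    have e21 := congrFun (congrFun e 2) 1
    have e22 := congrFun (congrFun e 2) 2
    simp [ofMt] at e00 e01 e02 e10 e11 e12 e20 e21 e22
    exact Mt.ext e00 e01 e02 e10 e11 e12 e20 e21 e22
  apply hof_inj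
  have e1 := congrArg ofMt e
  rw [hof, hof, ofMt_ent] at e1
  have e2 := congrArg (fun X => toM h⁻¹ * X) e1
  simp only [← Matrix.mul_assoc, inv_mul_toM, Matrix.one_mul] at e2
  exact e2

/-- `good` gives membership. -/
theorem good_spec {m : Mt} (hm : good m = true) :
    (ofMt m).det = 1 ∧ ∀ u v, hermForm 3 K9 3 (ofMt m *ᵥ u) (ofMt m *ᵥ v) = hermForm 3 K9 3 u v := by
  simp only [good, Bool.and_eq_true, keq_iff, dot3, detM, add_eq, mul_eq, neg_eq, frob_eq] at hm
  obtain ⟨e00, e01, e02, e10, e11, e12, e20, e21, e22, ed⟩ := hm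
  constructor
  · rw [Matrix.det_fin_three]
    simp only [ofMt, Matrix.of_apply, Matrix.cons_val_zero, Matrix.cons_val_one, Matrix.cons_val]
    rw [← ed]
    ring
  · intro u v
    have hcube : ∀ x y z : K9, (x + y + z) ^ 3 = x ^ 3 + y ^ 3 + z ^ 3 := by decide +kernel
    simp only [hermForm, Fin.sum_univ_three, Matrix.mulVec, dotProduct, ofMt, Matrix.of_apply,
      Matrix.cons_val_zero, Matrix.cons_val_one, Matrix.cons_val, hcube, mul_pow]
    have e00' := e00
    linear_combination (u 0 * v 0 ^ 3) * e00 + (u 0 * v 1 ^ 3) * e01 + (u 0 * v 2 ^ 3) * e02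
      + (u 1 * v 0 ^ 3) * e10 + (u 1 * v 1 ^ 3) * e11 + (u 1 * v 2 ^ 3) * e12
      + (u 2 * v 0 ^ 3) * e20 + (u 2 * v 1 ^ 3) * e21 + (u 2 * v 2 ^ 3) * e22

/-- The element with given entries. -/
noncomputable def mkL (m : Mt) : L :=
  if h : good m = true then ⟨⟨ofMt m, (good_spec h).1⟩, fun u v => (good_spec h).2 u v⟩ else 1

theorem ent_of_ofMt (m : Mt) :
    (⟨ofMt m 0 0, ofMt m 0 1, ofMt m 0 2, ofMt m 1 0, ofMt m 1 1, ofMt m 1 2, ofMt m 2 0, ofMt m 2 1,
      ofMt m 2 2⟩ : Mt) = m := by
  obtain ⟨a1, a2, a3, a4, a5, a6, a7, a8, a9⟩ := m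
  simp [ofMt]

theorem ent_mkL {m : Mt} (hm : good m = true) : ent (mkL m) = m := by
  unfold mkL
  rw [dif_pos hm]
  exact ent_of_ofMt m

/-- Class representatives as group elements. -/
noncomputable def rp (j : ℕ) : L := mkL (repM j)

/-- An element of the table as a group element. -/
noncomputable def E (d : ℕ × ℕ × ℕ) : L :=
  (mkL (decM d.2.2))⁻¹ * rp d.2.1 * mkL (decM d.2.2)

theorem repM_good {j : ℕ} (hj : j < 14) : good (repM j) = true := by
  have := repC_good
  rw [List.all_eq_true] at this
  exact this j (List.mem_range.2 hj)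

theorem ent_rp {j : ℕ} (hj : j < 14) : ent (rp j) = repM j := ent_mkL (repM_good hj)

theorem chkLine_spec {d : ℕ × ℕ × ℕ} (hd : d ∈ data) :
    good (decM d.2.2) = true ∧ mmul (repM d.2.1) (decM d.2.2) = mmul (decM d.2.2) (decM d.1) ∧
      encM (decM d.1) = d.1 ∧ d.2.1 < 14 := by
  have := data_ok
  rw [List.all_eq_true] at this
  have h := this d hd
  simp only [chkLine, Bool.and_eq_true, meq_iff] at h
  obtain ⟨h1, h2, h3, h4⟩ := h
  exact ⟨h1, h2, Nat.eq_of_beq_eq_true h3, Nat.le_of_ble_eq_true h4⟩

theorem ent_E {d : ℕ × ℕ × ℕ} (hd : d ∈ data) : ent (E d) = decM d.1 := by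
  obtain ⟨h1, h2, _, h4⟩ := chkLine_spec hd
  apply mul_left_cancel_ent (mkL (decM d.2.2))
  rw [← ent_mul, E]
  have e : mkL (decM d.2.2) * ((mkL (decM d.2.2))⁻¹ * rp d.2.1 * mkL (decM d.2.2)) =
      rp d.2.1 * mkL (decM d.2.2) := by group
  rw [e, ent_mul, ent_rp h4, ent_mkL h1, h2]

theorem pairwise_of_chkSorted :
    ∀ l : List (ℕ × ℕ × ℕ), chkSorted l = true → l.Pairwise (fun a b => a.1 < b.1)
  | [], _ => List.Pairwise.nil
  | [_], _ => List.pairwise_singleton _ _
  | a :: b :: l, h => by
    simp only [chkSorted, Bool.and_eq_true] at h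
    obtain ⟨h1, h2⟩ := h
    have hab : a.1 < b.1 := Nat.le_of_ble_eq_true h1
    have ih := pairwise_of_chkSorted (b :: l) h2
    refine List.Pairwise.cons ?_ ih
    intro c hc
    rcases List.mem_cons.1 hc with rfl | hc'
    · exact hab
    · exact lt_trans hab ((List.pairwise_cons.1 ih).1 c hc')

theorem elts_nodup : (data.map E).Nodup := by
  rw [List.Nodup, List.pairwise_map]
  refine List.Pairwise.imp_of_mem ?_ (pairwise_of_chkSorted _ data_sorted)
  intro a b ha hb hab e
  have e1 : decM a.1 = decM b.1 := by rw [← ent_E ha, ← ent_E hb, e]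
  have e2 : a.1 = b.1 := by
    rw [← (chkLine_spec ha).2.2.1, ← (chkLine_spec hb).2.2.1, e1]
  omega

theorem natCard_L : Nat.card L = 6048 := by
  have h := Cfsg.Agent.Lib.UnitarySU.card_SU (F := K9) (q := 3) (by rw [K9.card_K9]; norm_num) 3 (by norm_num)
  norm_num [Finset.prod_range_succ, Nat.even_iff] at h
  change 4 * Nat.card L = 24192 at h
  omega

noncomputable instance : Fintype L := Fintype.ofFinite L

theorem elts_univ : (data.map E).toFinset = Finset.univ := by
  apply Finset.eq_univ_of_card
  rw [List.toFinset_card_of_nodup elts_nodup, List.length_map, data_length, ← Nat.card_eq_fintype_card,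
    natCard_L]

/-- Sum over the group as a sum over the table. -/
theorem sum_L {M : Type*} [AddCommMonoid M] (f : L → M) :
    ∑ g, f g = (data.map fun d => f (E d)).sum := by
  classical
  rw [← elts_univ, List.sum_toFinset _ elts_nodup, List.map_map]
  rfl

theorem beq_false {a b : ℕ} (h : a ≠ b) : Nat.beq a b = false := by
  cases e : Nat.beq a b with
  | false => rfl
  | true => exact absurd (Nat.eq_of_beq_eq_true e) h

/-- Grouping a sum over a list by a key. -/
theorem sum_group {M : Type*} [AddCommMonoid M] (φ : ℕ → M) (n : ℕ) :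
    ∀ l : List (ℕ × ℕ × ℕ), (∀ d ∈ l, d.2.1 < n) →
      (l.map fun d => φ d.2.1).sum =
        ∑ j ∈ Finset.range n, (l.map fun d => bif Nat.beq d.2.1 j then 1 else 0).sum • φ j
  | [], _ => by simp
  | d :: l, h => by
    have ih := sum_group φ n l (fun x hx => h x (List.mem_cons_of_mem _ hx))
    have hd : d.2.1 < n := h d List.mem_cons_self
    simp only [List.map_cons, List.sum_cons, add_smul, Finset.sum_add_distrib]
    rw [ih]
    congr 1
    rw [Finset.sum_eq_single d.2.1]
    · simp
    · intro b _ hb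
      have : Nat.beq d.2.1 b = false := beq_false (fun h => hb h.symm)
      simp [this]
    · intro h'
      exact absurd (Finset.mem_range.2 hd) h'

/-- The class sizes. -/
def nj (j : ℕ) : ℕ := clSize.getD j 0

theorem getD_of_map_range {α : Type*} {n : ℕ} {F : ℕ → α} {T : List α} (d : α)
    (hT : (List.range n).map F = T) {j : ℕ} (hj : j < n) : T.getD j d = F j := by
  subst hT
  simp [List.getD_eq_getElem?_getD, hj]

/-- Sum of a class function. -/
theorem sum_class {M : Type*} [AddCommMonoid M] (f : L → M)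
    (hf : ∀ g h : L, f (h * g * h⁻¹) = f g) :
    ∑ g, f g = ∑ j ∈ Finset.range 14, nj j • f (rp j) := by
  rw [sum_L]
  have e : (data.map fun d => f (E d)) = data.map fun d => (fun j => f (rp j)) d.2.1 := by
    apply List.map_congr_left
    intro d _
    show f ((mkL (decM d.2.2))⁻¹ * rp d.2.1 * mkL (decM d.2.2)) = f (rp d.2.1)
    have := hf (rp d.2.1) (mkL (decM d.2.2))⁻¹
    rwa [inv_inv] at this
  rw [e, sum_group (fun j => f (rp j)) 14 data (fun d hd => (chkLine_spec hd).2.2.2)]
  apply Finset.sum_congr rfl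
  intro j hj
  congr 1
  unfold nj
  rw [getD_of_map_range 0 clSize_ok (Finset.mem_range.1 hj)]

/-- The number of square roots of a class representative. -/
theorem card_roots {j : ℕ} (hj : j < 14) :
    Nat.card {x : L // x * x = rp j} = clRoot.getD j 0 := by
  classical
  rw [getD_of_map_range 0 clRoot_ok hj, ← squares_ok, List.map_map]
  rw [Nat.card_eq_fintype_card, Fintype.card_subtype]
  rw [Finset.card_filter, sum_L]
  have hre : repC.getD j 0 = encM (repM j) := by
    have := repC_enc
    rw [List.all_eq_true] at this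
    exact (Nat.eq_of_beq_eq_true (this j (List.mem_range.2 hj))).symm
  congr 1
  apply List.map_congr_left
  intro d hd
  have e : (E d * E d = rp j) ↔ encM (mmul (decM d.1) (decM d.1)) = repC.getD j 0 := by
    rw [hre]
    constructor
    · intro h
      have := congrArg ent h
      rw [ent_mul, ent_E hd, ent_rp hj] at this
      rw [this]
    · intro h
      apply ent_inj
      rw [ent_mul, ent_E hd, ent_rp hj]
      exact encM_inj h
  have hb : ∀ s r : ℕ, (bif Nat.beq s r then 1 else 0 : ℕ) = if s = r then 1 else 0 := by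
    intro s r
    by_cases h : s = r
    · subst h
      rw [Nat.beq_refl, if_pos rfl]
      rfl
    · rw [beq_false h, if_neg h]
      rfl
  simp only [Function.comp_apply, hb]
  exact if_congr e rfl rfl

end Cfsg.Agent.Lib.U33Group
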