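import Mathlib
import Cfsg.Agent.Lib.U33Group
import Cfsg.Agent.Lib.CharBasic
import Cfsg.Agent.Lib.TwoTrans
import Cfsg.Agent.Lib.MonoRep
import Cfsg.Agent.Lib.SqRootChar

/-!
# Characters of `SU₃(3)` from its actions on points
-/

set_option autoImplicit false
set_option maxRecDepth 100000

namespace Cfsg.Agent.Lib.U33Act

open Cfsg Cfsg.Agent.Lib.F9K Cfsg.Agent.Lib.U33Data Cfsg.Agent.Lib.U33Group
  Cfsg.Agent.Lib.CharBasic Cfsg.Agent.Lib.MonoRep Cfsg.Agent.Lib.SqRootChar
open scoped Matrix ComplexConjugate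

attribute [local irreducible] data squaresC clSize clRoot clP28 clA28 clP63 repC

theorem mvec_mul (m n : Mt) (v : V3) : mvec (mmul m n) v = mvec m (mvec n v) := by
  simp only [mvec, mmul, add_eq, mul_eq, Prod.mk.injEq]
  refine ⟨?_, ?_, ?_⟩ <;> ring

theorem mvec_ent_mul (g h : L) (v : V3) : mvec (ent (g * h)) v = mvec (ent g) (mvec (ent h) v) := by
  rw [ent_mul, mvec_mul]

theorem mvec_ent_one (v : V3) : mvec (ent 1) v = v := by
  obtain ⟨x, y, z⟩ := v
  simp only [mvec, ent, toM_one, add_eq, mul_eq, Matrix.one_apply, Prod.mk.injEq]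
  simp

theorem mvec_v0 (m : Mt) : mvec m v0 = v0 := by
  simp only [mvec, v0, add_eq, mul_eq, Prod.mk.injEq]
  simp

theorem mvec_smulV (m : Mt) (a : K9) (v : V3) : mvec m (smulV a v) = smulV a (mvec m v) := by
  simp only [mvec, smulV, add_eq, mul_eq, Prod.mk.injEq]
  refine ⟨?_, ?_, ?_⟩ <;> ring

theorem mvec_ne (g : L) {v : V3} (hv : v ≠ v0) : mvec (ent g) v ≠ v0 := by
  intro h
  apply hv
  have := mvec_ent_mul g⁻¹ g v
  rw [inv_mul_cancel, mvec_ent_one, h, mvec_v0] at this
  exact this

/-- Column vector of a triple. -/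
def toF (v : V3) : Fin 3 → K9 := ![v.1, v.2.1, v.2.2]

theorem hermB_eq (v : V3) : hermB v = hermForm 3 K9 3 (toF v) (toF v) := by
  simp [hermB, hermForm, Fin.sum_univ_three, toF, add_eq, mul_eq, frob_eq]

theorem toF_mvec (g : L) (v : V3) : toF (mvec (ent g) v) = ((g.1.1 : Matrix (Fin 3) (Fin 3) K9) *ᵥ toF v) := by
  funext i
  fin_cases i <;>
    simp [toF, mvec, ent, toM, Matrix.mulVec, dotProduct, Fin.sum_univ_three, add_eq, mul_eq]

theorem hermB_mvec (g : L) (v : V3) : hermB (mvec (ent g) v) = hermB v := by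
  rw [hermB_eq, hermB_eq, toF_mvec]
  exact g.2 (toF v) (toF v)

/-- The action on normalised vectors. -/
def actV (g : L) (v : V3) : V3 := nrmV (mvec (ent g) v)

theorem actV_ne (g : L) {v : V3} (hv : v ≠ v0) : actV g v ≠ v0 := nrmV_ne _ (mvec_ne g hv)

theorem actV_mul (g h : L) {v : V3} (hv : v ≠ v0) : actV (g * h) v = actV g (actV h v) := by
  unfold actV
  rw [mvec_ent_mul]
  have hw := mvec_ne h hv
  have e : nrmV (mvec (ent h) v) = smulV (K9.inv (fnz (mvec (ent h) v))) (mvec (ent h) v) := rfl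
  rw [e, mvec_smulV, nrmV_smulV _ _ _ (mvec_ne g hw)]
  have hc := fnz_ne_zero _ hw
  intro h0
  have := K9.mul_inv_cancel' _ hc
  rw [h0, mul_eq, mul_zero] at this
  exact zero_ne_one this

theorem actV_nrmV (g : L) {v : V3} (hv : v ≠ v0) : nrmV (actV g v) = actV g v :=
  nrmV_nrmV _ (mvec_ne g hv)

theorem hermB_actV (g : L) {v : V3} (hv : v ≠ v0) : hermB (actV g v) = 0 ↔ hermB v = 0 := by
  unfold actV
  rw [hermB_nrmV _ (mvec_ne g hv), hermB_mvec]

/-- Isotropic points. -/
abbrev X28 : Type := {v : V3 // v ∈ pts28}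

/-- Non-isotropic points. -/
abbrev X63 : Type := {v : V3 // v ∈ pts63}

theorem actV_one {v : V3} (h : nrmV v = v) : actV 1 v = v := by
  unfold actV
  rw [mvec_ent_one, h]

noncomputable instance : MulAction L X28 where
  smul g x := ⟨actV g x.1, by
    have hx := (mem_pts28 x.1).1 x.2
    exact (mem_pts28 _).2 ⟨actV_ne g hx.1, (hermB_actV g hx.1).2 hx.2.1, actV_nrmV g hx.1⟩⟩
  one_smul x := by
    apply Subtype.ext
    exact actV_one ((mem_pts28 x.1).1 x.2).2.2
  mul_smul g h x := by
    apply Subtype.ext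
    exact actV_mul g h ((mem_pts28 x.1).1 x.2).1

noncomputable instance : MulAction L X63 where
  smul g x := ⟨actV g x.1, by
    have hx := (mem_pts63 x.1).1 x.2
    exact (mem_pts63 _).2 ⟨actV_ne g hx.1, fun h => hx.2.1 ((hermB_actV g hx.1).1 h), actV_nrmV g hx.1⟩⟩
  one_smul x := by
    apply Subtype.ext
    exact actV_one ((mem_pts63 x.1).1 x.2).2.2
  mul_smul g h x := by
    apply Subtype.ext
    exact actV_mul g h ((mem_pts63 x.1).1 x.2).1

theorem smul28_val (g : L) (x : X28) : (g • x).1 = actV g x.1 := rfl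
theorem smul63_val (g : L) (x : X63) : (g • x).1 = actV g x.1 := rfl

/-- Sums over a list subtype. -/
theorem sum_subtype_list {M : Type*} [AddCommMonoid M] (l : List V3) (hl : l.Nodup)
    [Fintype {v : V3 // v ∈ l}] (f : V3 → M) :
    ∑ x : {v : V3 // v ∈ l}, f x.1 = (l.map f).sum := by
  classical
  rw [← List.sum_toFinset f hl]
  exact (Finset.sum_subtype l.toFinset (fun x => by simp) f).symm

theorem fixT_iff (g : L) (v : V3) : fixT (ent g) v = true ↔ actV g v = v := by
  exact veq_iff _ _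

/-! ### The three characters -/

/-- The number of fixed points as a sum. -/
theorem card_fixed_sum {X : Type} [Fintype X] [MulAction L X] (g : L) :
    (Nat.card (MulAction.fixedBy X g) : ℕ) = ∑ x : X, @ite ℕ (g • x = x) (Classical.dec _) 1 0 := by
  classical
  rw [Nat.card_eq_fintype_card, Finset.sum_boole, Nat.cast_id]
  rw [← Fintype.card_subtype]
  rfl

theorem fix28_eq (g : L) : (Cfsg.Agent.Lib.TwoTrans.fix X28 g : ℕ) = fp28 (ent g) := by
  classical
  unfold Cfsg.Agent.Lib.TwoTrans.fix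
  rw [card_fixed_sum]
  unfold fp28
  rw [← sum_subtype_list pts28 pts28_nodup]
  apply Finset.sum_congr rfl
  intro x _
  by_cases h : g • x = x
  · have h2 : fixT (ent g) x.1 = true := (fixT_iff g x.1).2 (congrArg Subtype.val h)
    rw [if_pos h, h2]
    rfl
  · have h2 : fixT (ent g) x.1 = false := by
      cases e : fixT (ent g) x.1 with
      | false => rfl
      | true => exact absurd (Subtype.ext ((fixT_iff g x.1).1 e)) h
    rw [if_neg h, h2]
    rfl

theorem fix63_eq (g : L) : (Cfsg.Agent.Lib.TwoTrans.fix X63 g : ℕ) = fp63 (ent g) := by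
  classical
  unfold Cfsg.Agent.Lib.TwoTrans.fix
  rw [card_fixed_sum]
  unfold fp63
  rw [← sum_subtype_list pts63 pts63_nodup]
  apply Finset.sum_congr rfl
  intro x _
  by_cases h : g • x = x
  · have h2 : fixT (ent g) x.1 = true := (fixT_iff g x.1).2 (congrArg Subtype.val h)
    rw [if_pos h, h2]
    rfl
  · have h2 : fixT (ent g) x.1 = false := by
      cases e : fixT (ent g) x.1 with
      | false => rfl
      | true => exact absurd (Subtype.ext ((fixT_iff g x.1).1 e)) h
    rw [if_neg h, h2]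
    rfl

/-- The permutation character on isotropic points. -/
noncomputable def p28 : L → ℂ := fun g => (fp28 (ent g) : ℂ)

/-- The permutation character on non-isotropic points. -/
noncomputable def p63 : L → ℂ := fun g => (fp63 (ent g) : ℂ)

/-- The monomial character on isotropic points. -/
noncomputable def a28 : L → ℂ := fun g => (fa28 (ent g) : ℂ)

theorem isCharacter_p28 : IsCharacter L p28 := by
  have := Cfsg.Agent.Lib.TwoTrans.isCharacter_fix (G := L) X28
  convert this using 2 with g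
  rw [fix28_eq]
  rfl

theorem isCharacter_p63 : IsCharacter L p63 := by
  have := Cfsg.Agent.Lib.TwoTrans.isCharacter_fix (G := L) X63
  convert this using 2 with g
  rw [fix63_eq]
  rfl

/-- The cocycle. -/
noncomputable def coc (g : L) (x : X28) : ℂ := (eps (fnz (mvec (ent g) x.1)) : ℂ)

theorem coc_one (x : X28) : coc 1 x = 1 := by
  unfold coc
  rw [mvec_ent_one]
  have hx := (mem_pts28 x.1).1 x.2
  rw [← hx.2.2, fnz_nrmV _ hx.1]
  have : eps 1 = 1 := by decide +kernel
  simp [this]

theorem coc_mul (g h : L) (x : X28) : coc (g * h) x = coc g (h • x) * coc h x := by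
  unfold coc
  have hx := (mem_pts28 x.1).1 x.2
  have hw := mvec_ne h hx.1
  rw [smul28_val, mvec_ent_mul]
  set w := mvec (ent h) x.1 with hw'
  have hc := fnz_ne_zero _ hw
  -- `w = c • nrmV w`
  have hcc : K9.mul (fnz w) (K9.inv (fnz w)) = 1 := K9.mul_inv_cancel' _ hc
  have e : w = smulV (fnz w) (actV h x.1) := by
    show w = smulV (fnz w) (nrmV w)
    obtain ⟨a, b, c⟩ := w
    simp only [smulV, nrmV, mul_eq] at hcc ⊢
    simp only [Prod.mk.injEq]
    refine ⟨?_, ?_, ?_⟩ <;> rw [← mul_assoc, hcc, one_mul]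
  nth_rewrite 1 [e]
  rw [mvec_smulV, fnz_smulV, eps_mul _ _ hc (fnz_ne_zero _ (mvec_ne g (actV_ne h hx.1)))]
  push_cast
  ring

theorem isCharacter_a28 : IsCharacter L a28 := by
  classical
  have := isCharacter_mono (G := L) (X := X28) coc coc_one coc_mul
  convert this using 2 with g
  unfold a28 fa28
  have h1 : (((pts28.map fun x => bif fixT (ent g) x then eps (fnz (mvec (ent g) x)) else 0).sum : ℤ) : ℂ) =
      ∑ x : X28, ((bif fixT (ent g) x.1 then eps (fnz (mvec (ent g) x.1)) else 0 : ℤ) : ℂ) := by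
    rw [sum_subtype_list pts28 pts28_nodup (fun y : V3 => ((bif fixT (ent g) y then eps (fnz (mvec (ent g) y)) else 0 : ℤ) : ℂ))]
    rw [Int.cast_list_sum, List.map_map]
    rfl
  rw [h1]
  apply Finset.sum_congr rfl
  intro x _
  by_cases h : g • x = x
  · have h2 : fixT (ent g) x.1 = true := (fixT_iff g x.1).2 (congrArg Subtype.val h)
    rw [if_pos h, h2]
    rfl
  · have h2 : fixT (ent g) x.1 = false := by
      cases e : fixT (ent g) x.1 with
      | false => rfl
      | true => exact absurd (Subtype.ext ((fixT_iff g x.1).1 e)) h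
    rw [if_neg h, h2]
    simp

/-! ### Values and inner products -/

/-- The table of values of the square root counting function. -/
noncomputable def rr : L → ℂ := rootFun L

theorem isGen_rr : IsGeneralizedCharacter L rr := isGen_rootFun

theorem rr_rp {j : ℕ} (hj : j < 14) : rr (rp j) = ((clRoot.getD j 0 : ℕ) : ℤ) := by
  unfold rr rootFun rootCount
  rw [card_roots hj]
  simp

theorem p28_rp {j : ℕ} (hj : j < 14) : p28 (rp j) = ((clP28.getD j 0 : ℕ) : ℤ) := by
  unfold p28
  rw [ent_rp hj, getD_of_map_range 0 clP28_ok hj]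
  exact (Int.cast_natCast _).symm

theorem p63_rp {j : ℕ} (hj : j < 14) : p63 (rp j) = ((clP63.getD j 0 : ℕ) : ℤ) := by
  unfold p63
  rw [ent_rp hj, getD_of_map_range 0 clP63_ok hj]
  exact (Int.cast_natCast _).symm

theorem a28_rp {j : ℕ} (hj : j < 14) : a28 (rp j) = ((clA28.getD j 0 : ℤ) : ℤ) := by
  unfold a28
  rw [ent_rp hj, getD_of_map_range 0 clA28_ok hj]

/-- Inner products from tables. -/
theorem classInner_tab {a b : L → ℂ} (ha : IsClassFunction L a) (hb : IsClassFunction L b)
    {ta tb : ℕ → ℤ} (hav : ∀ j, j < 14 → a (rp j) = ta j) (hbv : ∀ j, j < 14 → b (rp j) = tb j)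
    (k : ℤ) (h : ∑ j ∈ Finset.range 14, (nj j : ℤ) * (ta j * tb j) = 6048 * k) :
    classInner a b = k := by
  unfold classInner
  have hs := sum_class (fun g => a g * conj (b g)) (by
    intro g x
    show a (x * g * x⁻¹) * conj (b (x * g * x⁻¹)) = a g * conj (b g)
    rw [ha g x, hb g x])
  rw [hs, natCard_L]
  have e : ∑ j ∈ Finset.range 14, nj j • (a (rp j) * conj (b (rp j))) =
      ((∑ j ∈ Finset.range 14, (nj j : ℤ) * (ta j * tb j) : ℤ) : ℂ) := by
    push_cast
    apply Finset.sum_congr rfl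
    intro j hj
    have hj' := Finset.mem_range.1 hj
    rw [hav j hj', hbv j hj', nsmul_eq_mul]
    simp
  rw [e, h]
  push_cast
  have h6 : (6048 : ℂ) ≠ 0 := by norm_num
  field_simp

/-- The value tables. -/
def tR (j : ℕ) : ℤ := ((clRoot.getD j 0 : ℕ) : ℤ)
/-- The value tables. -/
def tP (j : ℕ) : ℤ := ((clP28.getD j 0 : ℕ) : ℤ)
/-- The value tables. -/
def tQ (j : ℕ) : ℤ := ((clP63.getD j 0 : ℕ) : ℤ)
/-- The value tables. -/
def tA (j : ℕ) : ℤ := clA28.getD j 0

/-- The virtual character `r - p63`. -/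
noncomputable def dD : L → ℂ := rr - p63

/-- The virtual character `p63 - p28`. -/
noncomputable def aA : L → ℂ := p63 - p28

theorem isGen_dD : IsGeneralizedCharacter L dD :=
  Cfsg.Agent.Lib.GenChar.isGen_sub isGen_rr (Cfsg.Agent.Lib.GenChar.isGen_of_isChar isCharacter_p63)

theorem isGen_aA : IsGeneralizedCharacter L aA :=
  Cfsg.Agent.Lib.GenChar.isGen_sub (Cfsg.Agent.Lib.GenChar.isGen_of_isChar isCharacter_p63)
    (Cfsg.Agent.Lib.GenChar.isGen_of_isChar isCharacter_p28)

theorem dD_rp (j : ℕ) (hj : j < 14) : dD (rp j) = ((tR j - tQ j : ℤ) : ℂ) := by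
  show rr (rp j) - p63 (rp j) = _
  rw [rr_rp hj, p63_rp hj]
  push_cast [tR, tQ]
  rfl

theorem aA_rp (j : ℕ) (hj : j < 14) : aA (rp j) = ((tQ j - tP j : ℤ) : ℂ) := by
  show p63 (rp j) - p28 (rp j) = _
  rw [p28_rp hj, p63_rp hj]
  push_cast [tP, tQ]
  rfl

theorem norm_dD : classInner dD dD = 2 := by
  have := classInner_tab (Cfsg.Agent.Lib.GenChar.isGen_isClassFunction isGen_dD)
    (Cfsg.Agent.Lib.GenChar.isGen_isClassFunction isGen_dD) dD_rp dD_rp 2 (by decide +kernel)
  simpa using this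

theorem norm_a28 : classInner a28 a28 = 2 := by
  have := classInner_tab (isClassFunction_of_isCharacter isCharacter_a28)
    (isClassFunction_of_isCharacter isCharacter_a28) (ta := tA) (tb := tA) (fun j hj => a28_rp hj)
    (fun j hj => a28_rp hj) 2 (by decide +kernel)
  simpa using this

theorem norm_aA : classInner aA aA = 2 := by
  have := classInner_tab (Cfsg.Agent.Lib.GenChar.isGen_isClassFunction isGen_aA)
    (Cfsg.Agent.Lib.GenChar.isGen_isClassFunction isGen_aA) aA_rp aA_rp 2 (by decide +kernel)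
  simpa using this

theorem inner_dD_a28 : classInner dD a28 = 1 := by
  have := classInner_tab (Cfsg.Agent.Lib.GenChar.isGen_isClassFunction isGen_dD)
    (isClassFunction_of_isCharacter isCharacter_a28) (tb := tA) dD_rp (fun j hj => a28_rp hj) 1
    (by decide +kernel)
  simpa using this

theorem inner_aA_a28 : classInner aA a28 = 1 := by
  have := classInner_tab (Cfsg.Agent.Lib.GenChar.isGen_isClassFunction isGen_aA)
    (isClassFunction_of_isCharacter isCharacter_a28) (tb := tA) aA_rp (fun j hj => a28_rp hj) 1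
    (by decide +kernel)
  simpa using this

theorem repM_nine : meq (repM 9) ⟨1, 0, 0, 0, 1, 0, 0, 0, 1⟩ = true := by decide +kernel

theorem ent_one : ent (1 : L) = ⟨1, 0, 0, 0, 1, 0, 0, 0, 1⟩ := by
  simp [ent, toM_one]

theorem rp_nine : rp 9 = 1 := by
  apply ent_inj
  rw [ent_rp (by norm_num), ent_one]
  exact (meq_iff _ _).1 repM_nine

theorem dD_one : dD 1 = 1 := by
  rw [← rp_nine, dD_rp 9 (by norm_num)]
  have : tR 9 - tQ 9 = 1 := by decide +kernel
  rw [this]
  simp

theorem aA_one : aA 1 = 35 := by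
  rw [← rp_nine, aA_rp 9 (by norm_num)]
  have : tQ 9 - tP 9 = 35 := by decide +kernel
  rw [this]
  simp

theorem a28_one : a28 1 = 28 := by
  rw [← rp_nine, a28_rp (by norm_num)]
  have : clA28.getD 9 0 = 28 := by decide +kernel
  rw [this]
  simp

end Cfsg.Agent.Lib.U33Act
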