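import Mathlib
import Cfsg.Agent.Lib.F9K

/-!
# Matrices and vectors over the concrete field `K9`
-/

set_option autoImplicit false
set_option maxRecDepth 100000

namespace Cfsg.Agent.Lib.U33Data

open Cfsg.Agent.Lib.F9K

/-- Vectors. -/
abbrev V3 := K9 × K9 × K9

/-- Matrices, as nine entries. -/
@[ext] structure Mt where
  (a00 a01 a02 a10 a11 a12 a20 a21 a22 : K9)

/-- A digit of a code. -/
def dg (c k : ℕ) : K9 :=
  ⟨Nat.mod (Nat.land (Nat.shiftRight c (Nat.mul 4 k)) 15) 9, Nat.mod_lt _ (by decide)⟩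

/-- Decoding a matrix. -/
def decM (c : ℕ) : Mt :=
  ⟨dg c 0, dg c 1, dg c 2, dg c 3, dg c 4, dg c 5, dg c 6, dg c 7, dg c 8⟩

/-- Encoding a matrix. -/
def encM (m : Mt) : ℕ :=
  m.a00.1 + 16 * (m.a01.1 + 16 * (m.a02.1 + 16 * (m.a10.1 + 16 * (m.a11.1 + 16 * (m.a12.1 +
    16 * (m.a20.1 + 16 * (m.a21.1 + 16 * m.a22.1)))))))

/-- Decoding a vector. -/
def vOf (c : ℕ) : V3 := (dg c 0, dg c 1, dg c 2)

/-- Matrix times vector. -/
def mvec (m : Mt) (v : V3) : V3 :=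
  (K9.add (K9.add (K9.mul m.a00 v.1) (K9.mul m.a01 v.2.1)) (K9.mul m.a02 v.2.2),
   K9.add (K9.add (K9.mul m.a10 v.1) (K9.mul m.a11 v.2.1)) (K9.mul m.a12 v.2.2),
   K9.add (K9.add (K9.mul m.a20 v.1) (K9.mul m.a21 v.2.1)) (K9.mul m.a22 v.2.2))

/-- Matrix product. -/
def mmul (m n : Mt) : Mt :=
  ⟨K9.add (K9.add (K9.mul m.a00 n.a00) (K9.mul m.a01 n.a10)) (K9.mul m.a02 n.a20),
   K9.add (K9.add (K9.mul m.a00 n.a01) (K9.mul m.a01 n.a11)) (K9.mul m.a02 n.a21),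
   K9.add (K9.add (K9.mul m.a00 n.a02) (K9.mul m.a01 n.a12)) (K9.mul m.a02 n.a22),
   K9.add (K9.add (K9.mul m.a10 n.a00) (K9.mul m.a11 n.a10)) (K9.mul m.a12 n.a20),
   K9.add (K9.add (K9.mul m.a10 n.a01) (K9.mul m.a11 n.a11)) (K9.mul m.a12 n.a21),
   K9.add (K9.add (K9.mul m.a10 n.a02) (K9.mul m.a11 n.a12)) (K9.mul m.a12 n.a22),
   K9.add (K9.add (K9.mul m.a20 n.a00) (K9.mul m.a21 n.a10)) (K9.mul m.a22 n.a20),
   K9.add (K9.add (K9.mul m.a20 n.a01) (K9.mul m.a21 n.a11)) (K9.mul m.a22 n.a21),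
   K9.add (K9.add (K9.mul m.a20 n.a02) (K9.mul m.a21 n.a12)) (K9.mul m.a22 n.a22)⟩

/-- Equality test of field elements. -/
def keq (a b : K9) : Bool := Nat.beq a.1 b.1

/-- Equality test of matrices. -/
def meq (m n : Mt) : Bool :=
  keq m.a00 n.a00 && (keq m.a01 n.a01 && (keq m.a02 n.a02 && (keq m.a10 n.a10 && (keq m.a11 n.a11 &&
    (keq m.a12 n.a12 && (keq m.a20 n.a20 && (keq m.a21 n.a21 && keq m.a22 n.a22)))))))

/-- Zero test. -/
def isZ (a : K9) : Bool := Nat.beq a.1 0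

/-- First non-zero coordinate. -/
def fnz (v : V3) : K9 := bif isZ v.1 then (bif isZ v.2.1 then v.2.2 else v.2.1) else v.1

/-- Scalar multiple. -/
def smulV (c : K9) (v : V3) : V3 := (K9.mul c v.1, K9.mul c v.2.1, K9.mul c v.2.2)

/-- Normalising a vector. -/
def nrmV (v : V3) : V3 := smulV (K9.inv (fnz v)) v

/-- Equality test. -/
def veq (u v : V3) : Bool := keq u.1 v.1 && (keq u.2.1 v.2.1 && keq u.2.2 v.2.2)

/-- Squares of `K9` (the non-zero ones). -/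
def isSq (c : K9) : Bool := Nat.testBit 78 c.1

/-- The sign character of `K9ˣ`. -/
def eps (c : K9) : ℤ := bif isSq c then 1 else -1

/-- The Hermitian form on the diagonal. -/
def hermB (v : V3) : K9 :=
  K9.add (K9.add (K9.mul v.1 (K9.frob v.1)) (K9.mul v.2.1 (K9.frob v.2.1)))
    (K9.mul v.2.2 (K9.frob v.2.2))

/-- The zero vector. -/
def v0 : V3 := (0, 0, 0)

/-- Is the vector the zero vector. -/
def isV0 (v : V3) : Bool := isZ v.1 && (isZ v.2.1 && isZ v.2.2)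

/-- Does a matrix fix the projective point. -/
def fixT (m : Mt) (x : V3) : Bool := veq (nrmV (mvec m x)) x

/-- The Hermitian product of two columns. -/
def dot3 (a b c x y z : K9) : K9 :=
  K9.add (K9.add (K9.mul a (K9.frob x)) (K9.mul b (K9.frob y))) (K9.mul c (K9.frob z))

/-- The determinant. -/
def detM (m : Mt) : K9 :=
  K9.add (K9.add (K9.mul m.a00 (K9.add (K9.mul m.a11 m.a22) (K9.neg (K9.mul m.a12 m.a21))))
    (K9.neg (K9.mul m.a01 (K9.add (K9.mul m.a10 m.a22) (K9.neg (K9.mul m.a12 m.a20))))))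
    (K9.mul m.a02 (K9.add (K9.mul m.a10 m.a21) (K9.neg (K9.mul m.a11 m.a20))))

/-- Membership in the special unitary group. -/
def good (m : Mt) : Bool :=
  keq (dot3 m.a00 m.a10 m.a20 m.a00 m.a10 m.a20) 1 && (keq (dot3 m.a00 m.a10 m.a20 m.a01 m.a11 m.a21) 0 &&
  (keq (dot3 m.a00 m.a10 m.a20 m.a02 m.a12 m.a22) 0 && (keq (dot3 m.a01 m.a11 m.a21 m.a00 m.a10 m.a20) 0 &&
  (keq (dot3 m.a01 m.a11 m.a21 m.a01 m.a11 m.a21) 1 && (keq (dot3 m.a01 m.a11 m.a21 m.a02 m.a12 m.a22) 0 &&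
  (keq (dot3 m.a02 m.a12 m.a22 m.a00 m.a10 m.a20) 0 && (keq (dot3 m.a02 m.a12 m.a22 m.a01 m.a11 m.a21) 0 &&
  (keq (dot3 m.a02 m.a12 m.a22 m.a02 m.a12 m.a22) 1 && keq (detM m) 1))))))))

theorem keq_iff (a b : K9) : keq a b = true ↔ a = b := by
  constructor
  · intro h
    exact Fin.ext (Nat.eq_of_beq_eq_true h)
  · rintro rfl
    exact Nat.beq_refl _

theorem veq_iff (u v : V3) : veq u v = true ↔ u = v := by
  obtain ⟨a, b, c⟩ := u
  obtain ⟨d, e, f⟩ := v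
  simp only [veq, Bool.and_eq_true, keq_iff, Prod.mk.injEq]

theorem meq_iff (m n : Mt) : meq m n = true ↔ m = n := by
  obtain ⟨a1, a2, a3, a4, a5, a6, a7, a8, a9⟩ := m
  obtain ⟨b1, b2, b3, b4, b5, b6, b7, b8, b9⟩ := n
  simp only [meq, Bool.and_eq_true, keq_iff, Mt.mk.injEq]

theorem digits_inj (x y t u : ℕ) (hx : x < 9) (hy : y < 9)
    (h : x + 16 * t = y + 16 * u) : x = y ∧ t = u := by
  omega

theorem encM_inj {m n : Mt} (h : encM m = encM n) : m = n := by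
  obtain ⟨a1, a2, a3, a4, a5, a6, a7, a8, a9⟩ := m
  obtain ⟨b1, b2, b3, b4, b5, b6, b7, b8, b9⟩ := n
  simp only [encM] at h
  obtain ⟨e1, h⟩ := digits_inj _ _ _ _ a1.2 b1.2 h
  obtain ⟨e2, h⟩ := digits_inj _ _ _ _ a2.2 b2.2 h
  obtain ⟨e3, h⟩ := digits_inj _ _ _ _ a3.2 b3.2 h
  obtain ⟨e4, h⟩ := digits_inj _ _ _ _ a4.2 b4.2 h
  obtain ⟨e5, h⟩ := digits_inj _ _ _ _ a5.2 b5.2 h
  obtain ⟨e6, h⟩ := digits_inj _ _ _ _ a6.2 b6.2 h
  obtain ⟨e7, h⟩ := digits_inj _ _ _ _ a7.2 b7.2 h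
  obtain ⟨e8, e9⟩ := digits_inj _ _ _ _ a8.2 b8.2 h
  have e9' : a9.1 = b9.1 := by omega
  have f1 : a1 = b1 := Fin.ext e1
  have f2 : a2 = b2 := Fin.ext e2
  have f3 : a3 = b3 := Fin.ext e3
  have f4 : a4 = b4 := Fin.ext e4
  have f5 : a5 = b5 := Fin.ext e5
  have f6 : a6 = b6 := Fin.ext e6
  have f7 : a7 = b7 := Fin.ext e7
  have f8 : a8 = b8 := Fin.ext e8
  have f9 : a9 = b9 := Fin.ext e9'
  subst f1 f2 f3 f4 f5 f6 f7 f8 f9
  rfl

end Cfsg.Agent.Lib.U33Data
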