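import Cfsg.Agent.Lib.U34Act

/-!
# `SU₃(4)`: explicit data
-/

set_option autoImplicit false
set_option linter.unusedSectionVars false

namespace Cfsg.Agent.Lib.U34Data

open Cfsg Matrix
open Cfsg.Agent.Lib.F16 Cfsg.Agent.Lib.U34Act

/-- Elements from their codes. -/
def c16 (n : ℕ) : K16 := ⟨Nat.mod n 16, Nat.mod_lt _ (by decide)⟩

/-- The sixty-five points, packed. -/
def ptTab : ℕ :=
  2262680540756290672293117501863489733550943989259280199101042209929070596950194862662707246029041100890220727587907967330381496083390986040129204010049490396655300377175145553997330156693536300955769085712911729464747107112654827032848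

/-- The coordinates of the points. -/
def pc (i k : ℕ) : K16 := c16 (Nat.shiftRight ptTab (Nat.add (Nat.mul 12 i) (Nat.mul 4 k)))

/-- The points. -/
def pt (i : Fin 65) : V := ![pc i 0, pc i 1, pc i 2]

theorem pt_iso : ∀ i : Fin 65, herm (pt i) (pt i) = 0 := by decide +kernel

theorem pt_ne_zero : ∀ i : Fin 65, pt i ≠ 0 := by decide +kernel

theorem pt_lead : ∀ i : Fin 65, lead (pt i) = 1 := by decide +kernel

theorem pt_inj : Function.Injective pt := by
  unfold Function.Injective
  decide +kernel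

theorem cover1 : ∀ b c : K16, herm ![1, b, c] ![1, b, c] = 0 → ∃ i, pt i = ![1, b, c] := by
  decide +kernel

theorem cover2 : ∀ c : K16, herm ![0, 1, c] ![0, 1, c] = 0 → ∃ i, pt i = ![0, 1, c] := by
  decide +kernel

theorem not_iso3 : herm ![0, 0, 1] ![0, 0, 1] ≠ 0 := by decide +kernel

/-- The table of a nonconstant function. -/
def f0Tab : ℕ := 7883971670622919802691915695827358731796608548296544223296

/-- A nonconstant element of `W`, on the indices. -/
def f0 (i : Fin 65) : ZMod 5 := ((Nat.mod (Nat.shiftRight f0Tab (Nat.mul 3 i)) 8 : ℕ) : ZMod 5)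

theorem f0_block1 : ∀ b c : K16, herm ![1, b, c] ![1, b, c] ≠ 0 →
    (∑ i : Fin 65, if herm (pt i) ![1, b, c] = 0 then f0 i else 0) = 0 := by
  decide +kernel

theorem f0_block2 : ∀ c : K16, herm ![0, 1, c] ![0, 1, c] ≠ 0 →
    (∑ i : Fin 65, if herm (pt i) ![0, 1, c] = 0 then f0 i else 0) = 0 := by
  decide +kernel

theorem f0_block3 : (∑ i : Fin 65, if herm (pt i) ![0, 0, 1] = 0 then f0 i else 0) = 0 := by
  decide +kernel

theorem f0_ne : f0 0 ≠ f0 2 := by decide +kernel

/-! ### Explicit elements -/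

/-- An element of order `13`. -/
def A13 : Matrix (Fin 3) (Fin 3) K16 :=
  !![c16 4, c16 10, c16 14; c16 8, c16 5, c16 14; c16 4, c16 5, c16 15]

/-- An element of order `15`. -/
def A15 : Matrix (Fin 3) (Fin 3) K16 :=
  !![c16 12, c16 9, c16 4; c16 3, c16 11, c16 1; c16 2, c16 0, c16 4]

/-- An element of order `10`. -/
def A10 : Matrix (Fin 3) (Fin 3) K16 :=
  !![c16 14, c16 15, c16 5; c16 15, c16 1, c16 8; c16 5, c16 8, c16 5]

theorem A13_u : A13.transpose * A13.map (fun x => x ^ 4) = 1 := by decide +kernel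
theorem A15_u : A15.transpose * A15.map (fun x => x ^ 4) = 1 := by decide +kernel
theorem A10_u : A10.transpose * A10.map (fun x => x ^ 4) = 1 := by decide +kernel

theorem A13_det : A13.det = 1 := by rw [Matrix.det_fin_three]; decide +kernel
theorem A15_det : A15.det = 1 := by rw [Matrix.det_fin_three]; decide +kernel
theorem A10_det : A10.det = 1 := by rw [Matrix.det_fin_three]; decide +kernel

theorem A13_pow : A13 ^ 13 = 1 := by decide +kernel
theorem A13_ne : A13 ≠ 1 := by decide +kernel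
theorem A15_pow : A15 ^ 15 = 1 := by decide +kernel
theorem A15_ne3 : A15 ^ 3 ≠ 1 := by decide +kernel
theorem A15_ne5 : A15 ^ 5 ≠ 1 := by decide +kernel
theorem A10_pow : A10 ^ 10 = 1 := by decide +kernel
theorem A10_ne2 : A10 ^ 2 ≠ 1 := by decide +kernel
theorem A10_ne5 : A10 ^ 5 ≠ 1 := by decide +kernel

/-- The action of the order `13` element on the indices. -/
def s13 (i : Fin 65) : Fin 65 :=
  ⟨Nat.mod (Nat.add (Nat.mul (Nat.div i.1 13) 13) (Nat.mod (Nat.add (Nat.mod i.1 13) 1) 13)) 65,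
    Nat.mod_lt _ (by decide)⟩

theorem A13_act : ∀ i : Fin 65, nf (A13 *ᵥ pt i) = pt (s13 i) := by decide +kernel

/-- The representative of the orbit. -/
def rep13 (i : Fin 65) : Fin 65 :=
  ⟨Nat.mod (Nat.mul (Nat.div i.1 13) 13) 65, Nat.mod_lt _ (by decide)⟩

theorem s13_rep : ∀ i : Fin 65, s13^[i.1 % 13] (rep13 i) = i := by decide +kernel

theorem rep13_cases : ∀ i : Fin 65, rep13 i = 0 ∨ rep13 i = 13 ∨ rep13 i = 26 ∨ rep13 i = 39 ∨
    rep13 i = 52 := by decide +kernel

theorem block1 : (Finset.univ.filter fun i : Fin 65 => herm (pt i) ![c16 0, c16 0, c16 1] = 0) =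
    {10, 32, 33, 43, 48} := by decide +kernel
theorem block2 : (Finset.univ.filter fun i : Fin 65 => herm (pt i) ![c16 0, c16 1, c16 0] = 0) =
    {8, 12, 19, 22, 39} := by decide +kernel
theorem block3 : (Finset.univ.filter fun i : Fin 65 => herm (pt i) ![c16 0, c16 1, c16 3] = 0) =
    {4, 41, 51, 54, 62} := by decide +kernel
theorem block4 : (Finset.univ.filter fun i : Fin 65 => herm (pt i) ![c16 0, c16 1, c16 4] = 0) =
    {20, 25, 28, 56, 63} := by decide +kernel

theorem w1_non : herm ![c16 0, c16 0, c16 1] ![c16 0, c16 0, c16 1] ≠ 0 := by decide +kernel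
theorem w2_non : herm ![c16 0, c16 1, c16 0] ![c16 0, c16 1, c16 0] ≠ 0 := by decide +kernel
theorem w3_non : herm ![c16 0, c16 1, c16 3] ![c16 0, c16 1, c16 3] ≠ 0 := by decide +kernel
theorem w4_non : herm ![c16 0, c16 1, c16 4] ![c16 0, c16 1, c16 4] ≠ 0 := by decide +kernel

theorem lin_alg : ∀ a0 a1 a2 a3 a4 : ZMod 5,
    a0 + 2 * a2 + 2 * a3 = 0 → 2 * a0 + 2 * a1 + a3 = 0 → a0 + 2 * a3 + 2 * a4 = 0 →
    2 * a1 + a2 + 2 * a4 = 0 → a0 = a1 ∧ a0 = a2 ∧ a0 = a3 ∧ a0 = a4 := by decide +kernel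

end Cfsg.Agent.Lib.U34Data
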