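import Mathlib

set_option autoImplicit false
set_option linter.unusedVariables false
set_option linter.style.longLine false
set_option maxRecDepth 100000

/-!
# A permutation group on 252 points

Two explicit permutations of 252 points generate a group of order at least 126000, as the orbit of a point, the orbit of a
second point under two elements of the stabiliser of the first one and an element of order four fixing both show.
-/

namespace Cfsg.Agent.Lib.U35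

open MulAction

/-- A bounded check. -/
def chkAll : ℕ → (ℕ → Bool) → Bool
  | 0, _ => true
  | n + 1, p => p n && chkAll n p

theorem chkAll_spec {n : ℕ} {p : ℕ → Bool} (h : chkAll n p = true) : ∀ j < n, p j = true := by
  induction n with
  | zero => intro j hj; omega
  | succ n ih =>
    simp only [chkAll, Bool.and_eq_true] at h
    intro j hj
    rcases Nat.lt_succ_iff_lt_or_eq.1 hj with h1 | h1
    · exact ih h.2 j h1
    · rw [h1]
      exact h.1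

def t1 : ℕ := 3867293735335232806572307653433171083535188266179537405855445786258545855172679242305316745088004469912471251472641070591348768426022814669929468087286298933128985843835346727075962688111014439215708996664202585238420141247662039184804891084951242302630890578452666585339039127464726205322376654556925250322913130788286230725422478284978627965401774391648901995529328587553612156738840686817352111902549348293129871364623204333105733229769018021348376148607838037544262859829336789470041221574407911259937738163956875914605692284668465465679579683144066597278947105521915931876458623139852456992501550049626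
def t2 : ℕ := 2948984191681970382133539866682944604234060516833086747258335719437843761951013035547766046621869631355174459743064276944376171821740910882071026512107396778862885591601709205249648683132628440810490892281366771669933165318579547104185793519112623723500036223723605569218606363933065141522226552706595977265289912042081752790685438500199521533125078288341279841072254038731078470946346691284191465416911364949655410280494260442106908716089852752043051964449357853877862558604930649183956718442611498977836286511464996293370561938151890142671433599308692549904929903601124853417203194737173573495575218942731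
def i1 : ℕ := 4719642526735659384351128822859325839831763009081414289457057660587487601680611637901163675570397083907541396554571355241964400378373860390747295731763808621449826519009787120126394053548556917397893121120457560434899263953850942667530649460203400639529023690055631026324700207431108976003899965839810708371113143667055035658672836320549310227639705250061138945036372717139395208147989721239496636360653917329759365471834875267643302648625452240080658737298570174278977537728582470372581361857264285935760684708337274401591547748402955598167878069170342610156829835146330161967357002357701263902619172785801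
def i2 : ℕ := 6271352326226643590861325345515739730763773404250993535868215445309672767727826060491959880345503297802111187430834982416161678610871036553934599462503464673306148692957630986962516889676038991433485656648028613246475149939494506633444778194708694869199941754063692229762647463486647874029323041378242321264525609087905641528880289750272859120527202188755992891428501911694770413659654245366496784572855500546549759025690263566843370040401545160249683376823997876513516920558735874085031108442854996550125048762898429126900175167790581492689411253814838319324180862204309050989081590004333539533167107435456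

/-- The tables. -/
def tab (g j : ℕ) : ℕ := (Nat.shiftRight (if g = 0 then t1 else t2) (8 * j)) % 256
/-- The inverse tables. -/
def tabi (g j : ℕ) : ℕ := (Nat.shiftRight (if g = 0 then i1 else i2) (8 * j)) % 256

theorem chk0 : chkAll 252 (fun j => Nat.blt (tab 0 j) 252 && Nat.blt (tabi 0 j) 252 && Nat.beq (tabi 0 (tab 0 j)) j && Nat.beq (tab 0 (tabi 0 j)) j) = true := by
  decide +kernel
theorem chk1 : chkAll 252 (fun j => Nat.blt (tab 1 j) 252 && Nat.blt (tabi 1 j) 252 && Nat.beq (tabi 1 (tab 1 j)) j && Nat.beq (tab 1 (tabi 1 j)) j) = true := by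
  decide +kernel

theorem tab_eq (g : ℕ) : tab g = tab (if g = 0 then 0 else 1) := by
  funext j
  by_cases h : g = 0 <;> simp [tab, h]

theorem tabi_eq (g : ℕ) : tabi g = tabi (if g = 0 then 0 else 1) := by
  funext j
  by_cases h : g = 0 <;> simp [tabi, h]

theorem chk_g (g j : ℕ) (hj : j < 252) : tab g j < 252 ∧ tabi g j < 252 ∧ tabi g (tab g j) = j ∧ tab g (tabi g j) = j := by
  rw [tab_eq g, tabi_eq g]
  by_cases h : g = 0
  · rw [if_pos h]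
    have h1 := chkAll_spec chk0 j hj
    simp only [Bool.and_eq_true] at h1
    obtain ⟨⟨⟨a, b⟩, c⟩, d⟩ := h1
    exact ⟨Nat.le_of_ble_eq_true a, Nat.le_of_ble_eq_true b, Nat.eq_of_beq_eq_true c, Nat.eq_of_beq_eq_true d⟩
  · rw [if_neg h]
    have h1 := chkAll_spec chk1 j hj
    simp only [Bool.and_eq_true] at h1
    obtain ⟨⟨⟨a, b⟩, c⟩, d⟩ := h1
    exact ⟨Nat.le_of_ble_eq_true a, Nat.le_of_ble_eq_true b, Nat.eq_of_beq_eq_true c, Nat.eq_of_beq_eq_true d⟩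

/-- The generators. -/
def sg (g : ℕ) : Equiv.Perm (Fin 252) where
  toFun j := ⟨tab g j.1, (chk_g g j.1 j.2).1⟩
  invFun j := ⟨tabi g j.1, (chk_g g j.1 j.2).2.1⟩
  left_inv j := Fin.ext (chk_g g j.1 j.2).2.2.1
  right_inv j := Fin.ext (chk_g g j.1 j.2).2.2.2

theorem sg_apply (g : ℕ) (j : Fin 252) : (sg g j).1 = tab g j.1 := rfl

theorem sg_eq (g : ℕ) : sg g = sg (if g = 0 then 0 else 1) := by
  ext j
  rw [sg_apply, sg_apply, tab_eq g]

/-- The group. -/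
def R : Subgroup (Equiv.Perm (Fin 252)) := Subgroup.closure {sg 0, sg 1}

theorem sg_mem (g : ℕ) : sg g ∈ R := by
  rw [sg_eq g]
  by_cases h : g = 0
  · rw [if_pos h]
    exact Subgroup.subset_closure (by simp)
  · rw [if_neg h]
    exact Subgroup.subset_closure (by simp)

/-- The permutation of a word. -/
def wp : List ℕ → Equiv.Perm (Fin 252)
  | [] => 1
  | g :: w => sg g * wp w

/-- The value of a word. -/
def ev : List ℕ → ℕ → ℕ
  | [], x => x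
  | g :: w, x => tab g (ev w x)

theorem wp_apply (w : List ℕ) (j : Fin 252) : (wp w j).1 = ev w j.1 := by
  induction w with
  | nil => rfl
  | cons g w ih =>
    show (sg g (wp w j)).1 = tab g (ev w j.1)
    rw [sg_apply, ih]

theorem wp_mem (w : List ℕ) : wp w ∈ R := by
  induction w with
  | nil => exact R.one_mem
  | cons g w ih => exact R.mul_mem (sg_mem g) ih

theorem wp_append (u v : List ℕ) : wp (u ++ v) = wp u * wp v := by
  induction u with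
  | nil => exact (one_mul _).symm
  | cons g u ih =>
    show sg g * wp (u ++ v) = sg g * wp u * wp v
    rw [ih, mul_assoc]

theorem card_eq_orbit_mul_inf_aux {G X : Type*} [Group G] [MulAction G X] (K : Subgroup G) (x : X) :
    Nat.card K = (orbit K x).ncard * Nat.card ↥(K ⊓ stabilizer G x) := by
  have h := Subgroup.card_mul_index (stabilizer K x)
  rw [index_stabilizer] at h
  have e : Nat.card (stabilizer K x) = Nat.card ↥(K ⊓ stabilizer G x) := by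
    apply Nat.card_congr
    exact
      { toFun := fun a => ⟨a.1.1, a.1.2, a.2⟩
        invFun := fun a => ⟨⟨a.1, a.2.1⟩, a.2.2⟩
        left_inv := fun a => rfl
        right_inv := fun a => rfl }
  rw [← h, e, mul_comm]

theorem card_orbit_ge {K X : Type*} [Group K] [MulAction K X] [Finite X] (P : Subgroup K) (z : X) (S : Finset X)
    (h : ∀ x ∈ S, ∃ k ∈ P, k • z = x) : S.card ≤ (orbit P z).ncard := by
  have h1 : (S : Set X) ⊆ orbit P z := fun x hx => by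
    obtain ⟨k, hk, e⟩ := h x hx
    exact ⟨⟨k, hk⟩, e⟩
  calc S.card = (S : Set X).ncard := (Set.ncard_coe_finset S).symm
    _ ≤ _ := Set.ncard_le_ncard h1 (Set.toFinite _)

/-- Words from the first point. -/
def wordsA : List (List ℕ) := [[],[0,0,0,0,0,1,1,0,0],[1,1,0,1,0],[0,1],[1,1,1,0,1,1,1,1],[0,0,1,0,1,1,0,1],[1,0,0,0,1,0,0,0,1],[0,1,0,0,0,1],[0,0,1,1,0,0],[1,1,0,0,1,1],[0,1,0,1,0,0,1,1,1],[1],[0,0,1,1,0,0,0,0],[0,1,0,1,0,0],[0,0,0,1,1,0],[0,1,0,1,0,0,0,0],[1,0,1,0,1,1,0,0,0],[0,0,0,1,1,1],[0,1,1,1,0],[1,1,0,0,0,1,0],[1,1,0,0,0,1,0,0],[0,1,0,0,0,1,0,0],[1,0,0,0,1,1,0],[1,1,0,0],[1,0,0,1],[0,1,0,1,0,1],[0,1,0,1,1,0,1,1],[1,0,1,0,0],[1,1,0,1,1,1,0],[1,0,0,0,0,0],[0,1,1,1,1],[1,1,0,0,1],[0,0,1],[1,1,0,0,0,1,1,0],[1,1,0,1,0,1,1,0],[0,1,0,1,1,1],[0,0,0,1,0,1,1],[0,0,1,1,0,1],[1,0,1,1,0,0,0,1,0],[1,0,0,0,1,0],[1,0,0,1,1,0,0,0],[0,0,0,1,0,0,1,1],[1,0,0,1,1,1],[0,1,0,1,1,1,0],[1,0,1],[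1,0,1,1,1,1,1,0],[1,0,0,0,0,0,0,1],[0,0,1,0,1,0,0],[1,0,0,1,0,0,0],[0,0,1,0,1,0,1],[1,0,1,1,0,0,1,1],[0,0,1,0,1,1],[1,0,0,1,1],[1,1,1,0,0,1,1],[1,0,0,1,0,0,1,1],[1,0,1,1,1],[0,0,0,0,1,1,0],[1,1,1,1,1],[0,1,1,1,1,1],[1,0,1,1,0,1,1],[0,0,1,0,1],[1,0,1,0,0,1,1,1],[0,1,1,0,0,0,1],[1,1,0,1,0,1,1],[1,1,1,0,0,0,1],[1,0,0,0,1,1,0,1],[1,0,1,1,1,1],[1,1,0],[1,0,0,0,1,1,0,0],[0,1,1,1,0,1,0],[0,0,1,0,0,0],[0,1,1,0,1,1],[1,1,0,0,0,0,1,1,0,0],[0,0],[1,1,1,0,1,0,1,0],[0,1,1,0,0,0],[0,1,1,0,0,0,1,0],[1,1,0,0,1,0],[1,1,0,1,1,0,0],[1,1,0,1,1,1],[0,1,1,0,1,1,0],[1,1,0,0,0],[0,1,1,0,0,1,1,1],[1,1,1,0,1],[1,0,0,0,0,0,0],[0,1,1,1,1,1,1,0],[0,0,0,1],[1,0,1,1,0,0],[0,0,1,0,0,0,0],[1,1,0,0,0,0,0],[0],[0,1,0,0,1,1,1],[0,1,0,1,0,0,0],[1,1],[0,1,1,0,1,0,0,0,1],[1,1,0,0,0,1,0,0,0],[0,1,1,1],[0,0,1,0],[1,1,1,0,1,0],[0,1,0,0,1,1],[0,1,0,0],[0,1,1,0,1],[0,0,0,0,0,0,1],[0,0,0,1,0],[1,0,0,0,1,0,0,0],[1,1,0,1,1,1,1,1],[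1,1,0,1,0,0,0,1],[1,0],[1,0,1,0,1,1,1],[1,0,1,0,1,1,0],[1,1,0,0,0,0,0,0],[1,0,0,0,1,1],[0,0,0,0,0],[0,0,0,1,0,1,0,1],[1,0,1,1],[0,0,1,1,0,0,1],[0,0,1,1,0,0,0],[1,0,1,1,0,1],[1,0,0,1,1,1,1,1],[0,1,0,1,1,0,0,0],[1,0,0,1,0,1,1],[0,1,1,0,1,1,0,0,0],[0,1,1,1,0,1,1,1,0],[1,1,1,1],[0,0,0,0,1,1,0,1],[1,1,1,0,0,1],[1,0,1,0,1,0,1,1,1],[1,1,0,1,0,1],[1,0,0,0],[1,0,1,0,0,0,0],[1,1,0,1,1,1,1],[1,0,0,0,0],[1,1,1,1,0,1,0,1,0],[1,1,1,1,0,1,0],[1,0,0,1,0],[0,1,0,1,0,1,1,1],[0,0,0,1,1],[0,0,0,0,0,0,0],[1,0,0,0,1],[0,0,1,1,1,1,0],[0,1,1,1,0,0,0,1],[0,1,1,0,0],[1,0,1,0],[0,1,0,1,1,1,1],[0,0,0,0,1,0,0],[1,1,1,0,0],[1,1,1,0,1,1,1,0],[1,1,0,0,0,1,1],[1,0,0,1,1,0,0,1],[0,0,1,0,0,1,1],[0,0,0,1,1,0,0],[1,0,1,1,0,0,0],[0,1,1,0,1,0],[0,1,1,1,1,1,0],[0,0,0],[0,1,1],[0,0,0,1,0,1],[0,1,0,1,1],[1,0,1,1,1,0],[0,0,0,1,0,1,0,0],[0,0,1,1,0,0,0,1],[0,0,0,0,0,1],[0,1,0,0,0,1,1],[0,0,1,1,0],[1,1,0,1,1,0,0,0,1,0],[1,1,0,1,1]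,[0,0,0,0,0,0],[1,1,1,1,1,0,0,1],[0,1,1,0,0,1,1],[0,1,0,1],[1,0,0,1,1,0,0],[0,1,0,1,1,0],[0,0,0,0,1,0,0,0],[0,1,0,0,1,1,0,0],[0,0,1,0,0,0,1],[1,1,0,1,1,0],[0,1,0,0,0,0],[0,0,1,1,0,1,0],[1,1,1,1,0],[1,0,1,1,0,0,1],[1,1,1,1,1,0,1,0],[0,1,1,1,1,1,0,1,0],[0,1,1,0,0,0,0],[1,0,1,0,1,0],[0,0,1,1,1],[1,1,1,1,0,0,0,1],[1,1,1,1,0,0,1],[0,1,1,0],[0,1,0,1,1,0,1],[0,0,1,1,1,1,1,0],[1,0,1,1,0],[1,0,1,0,1,1,0,0],[1,1,1,1,1,1],[1,0,1,0,0,0,1],[0,0,0,1,1,0,0,0],[1,0,1,1,1,1,1,1,0],[0,0,0,1,1,0,0,1],[0,0,0,0,1],[1,1,0,1,1,0,0,0],[1,0,1,0,1],[1,0,0,1,1,0,1],[1,1,0,0,1,1,1],[1,0,1,0,0,0,1,1],[1,0,0,0,0,1,1,0,0],[0,0,0,1,0,0,0,0],[0,0,1,0,0],[0,0,0,0,1,1,0,0],[1,0,1,0,1,0,1],[0,0,0,1,0,0],[0,0,0,0],[1,1,0,1,0,1,0],[1,0,0,1,0,1,0,1],[1,0,0,0,1,0,0],[1,1,0,0,0,0],[1,1,1],[0,1,0,1,1,0,0],[0,1,1,0,0,1],[0,1,0,0,1,1,0,0,0],[1,1,1,0],[0,0,1,1],[1,0,1,0,1,1],[0,0,0,1,1,0,1],[0,1,1,1,1,0],[0,1,1,1,0,0,0,1,0],[0,1,1,0,1,1,0,0],[1,1,0,1,0,0,0,0],[1,1,0,0,0,1],[0,1,0],[1,1,1,0,0,0,1,0],[0,0,1,1,1,1,1],[0,0,1,0,1,1,0,0],[0,1,0,0,0,0,0,0,1],[0,0,0,1,1,1,1,1],[0,0,1,0,1,1,0,0,0],[1,1,0,1],[0,1,0,0,0,1,1,0,0],[1,1,0,1,0,0,0],[0,0,0,1,0,0,0],[1,0,1,1,0,1,1,0,0],[0,0,0,1,0,0,0,1],[0,1,0,0,0],[0,1,0,0,1],[1,1,0,1,0,1,1,1],[0,1,0,1,0],[0,1,1,1,0,0,1],[1,1,1,1,1,1,0],[1,0,1,0,0,0],[1,1,1,1,1,0],[1,0,1,1,1,1,1],[1,0,0],[0,1,1,0,0,0,1,1],[1,1,1,0,0,0,0]]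

theorem chkA : chkAll 252 (fun x => Nat.beq (ev (wordsA.getD x []) 0) x) = true := by decide +kernel

/-- The first point. -/
def a0 : Fin 252 := 0

theorem orbit1 : 252 ≤ (orbit R a0).ncard := by
  have h := card_orbit_ge R a0 Finset.univ (fun x _ => ⟨wp (wordsA.getD x.1 []), wp_mem _, by
    apply Fin.ext
    show (wp (wordsA.getD x.1 []) a0).1 = x.1
    rw [wp_apply]
    exact Nat.eq_of_beq_eq_true (chkAll_spec chkA x.1 x.2)⟩)
  simpa using h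

/-- The stabiliser of the first point. -/
def P2 : Subgroup (Equiv.Perm (Fin 252)) := R ⊓ stabilizer (Equiv.Perm (Fin 252)) a0

def tw (g : ℕ) : List ℕ := if g = 0 then [1,0,1,1,1,0,0,0,1,1,1] else [0,0,1,1,0,1,0,1,0,1,1,1]

theorem tw_fix : ev (tw 0) 0 = 0 ∧ ev (tw 1) 0 = 0 := by decide +kernel

theorem tw_mem (g : ℕ) : wp (tw g) ∈ P2 := by
  refine ⟨wp_mem _, ?_⟩
  apply Fin.ext
  show (wp (tw g) a0).1 = 0
  rw [wp_apply]
  by_cases h : g = 0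
  · rw [h]
    exact tw_fix.1
  · have e : tw g = tw 1 := by simp [tw, h]
    rw [e]
    exact tw_fix.2

theorem flat_mem (w : List ℕ) : wp (w.flatMap tw) ∈ P2 := by
  induction w with
  | nil => exact P2.one_mem
  | cons g w ih =>
    rw [List.flatMap_cons, wp_append]
    exact P2.mul_mem (tw_mem g) ih

def maskB : ℕ := 3497553342092312927572034081719986501285750795316803330166740397166453786374

/-- Words from the second point. -/
def wordsB : List (List ℕ) := [[],[1,1,1,1,0,0,0],[0,1,1,1,1,0,0],[],[],[],[],[],[1,1,1,0,1,0,0],[1,0,1,1,1,0,0],[1,1,0,1,1,0,0],[],[],[],[],[],[0,1,1,0,1,0,0,0,0],[1,1,0,1,1,1,0,0,0,0],[1,0,1,1,1,1,0,0,0],[],[],[],[1,1,1,1,0,1],[],[0,0,1],[],[],[1,0,1,1,1,1,0,0,0,0],[0,1,1,1],[1,1,1,0,0],[1,1,1,0,1,1],[],[1,0,1,0,0,0],[1,0,1,1],[],[1,1,0,1],[1,1,1,1,0,1,0,0,0,0],[1,1,0,1,1,1,0,0,0],[0,1,1,0,1,0,0,0],[],[],[],[],[],[1,1,1,0,1,1,0,0,0,0],[1,1,1,0],[1,1,0,1,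0],[],[],[],[0,1,1,1,0,0,0,0],[],[1,1,1,1],[0,1,0,0],[0,0,0,1,0,0,0],[1,1,1,1,0,0],[1,0,1,1,0,0],[1,0,1,1,0,0,0],[],[],[],[],[],[],[1,1,0,1,1,1],[0,1,0,1],[],[0,1,1,0],[1,0,0,0,0],[0,1,1,0,0,0],[0,1,1,1,0],[],[],[],[],[0,1,1,1,1],[1,1,0,1,1,1,0],[1,0,1,1,1,0,0,0],[],[1,0,1,0,0,0,0],[],[],[],[0,0,1,0],[1,1,0,1,1,0,0,0],[0,1,1,0,1,0],[],[1,1,1,0,1],[0,1,1,0,1],[1],[],[0,0,0,0,1,0],[1,1,0],[1,1,0,1,0,0,0,0],[1,1,0,0,0,0],[],[],[],[],[1,0],[1,1,1,1,0,1,0,0],[1,1,0,1,0,0,0],[],[0,1,0,1,0],[0,1],[1,0,1,1,1],[0,0,1,1,0],[0,1,1,1,0,0,0],[1,1,1,0,1,0,0,0],[1,1,0,1,1,1,0,0],[],[],[],[],[],[],[],[],[],[],[1,1,0,0],[0,0,1,0,0],[0,1,0,1,0,0],[],[],[],[0,0,0,0],[],[],[],[],[],[0,0,1,0,0,0],[0,1,1],[1,0,1,1,0,0,0,0],[],[],[],[1,0,0],[],[0,1,1,0,0],[0,1,0,1,0,0,0],[1,1,0,1,1,0,0,0,0],[1,0,1,1,1,1,0,0],[1,1,1,0,1,1,0],[0,1,1,1,1,0],[],[],[],[],[],[],[],[],[],[0,0,1,1,0,0,0],[0,1,1,1,0,0],[1,0,1,1,1,1,0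],[],[0,0,0,0,1,0,0,0,0],[0,0,0,1],[0,0,0,0,1,0,0],[1,1,0,1,1],[1,1,0,1,0,0],[0,1,1,0,1,0,0],[0,1,1,1,1,0,0,0],[],[],[],[],[],[],[],[],[],[],[1,0,1],[0,0,0,1,0,0],[0],[],[],[],[0,0,1,1,0,0],[],[],[],[],[],[0,1,0,0,0],[1,0,1,0],[0,0,0,0,1,0,0,0],[],[],[],[1,0,1,1,0],[],[1,1],[1,0,1,1,1,0,0,0,0],[1,0,0,0],[1,1,1,1,0,1,0],[1,1,1,0,1,0],[1,1,1,0,0,0],[],[],[],[],[],[],[1,1,1,1,0],[1,1,0,0,0],[0,1,1,0,0,0,0],[1,1,1,1,0,0,0,0],[0,0,0],[0,0],[],[],[],[],[],[],[1,1,1,0,1,1,0,0,0],[0,0,1,1,0,0,0,0],[],[0,1,0,1,0,0,0,0],[0,1,0,0,0,0],[1,0,1,1,1,1],[0,1,0],[],[],[],[],[1,0,1,0,0],[1,1,0,1,1,0],[1,1,1,0,1,1,0,0],[],[1,1,1,0,1,0,0,0,0],[],[],[],[0,1,1,1,1,0,0,0,0],[1,1,1,0,0,0,0],[1,0,1,1,1,0],[],[0,0,1,0,0,0,0],[1,1,1],[0,0,0,0,1],[],[0,0,0,1,0],[0,0,1,1],[0,0,0,1,0,0,0,0],[1,1,1,1,0,1,0,0,0],[]]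

theorem chkB : chkAll 252 (fun x => !(Nat.testBit maskB x) || Nat.beq (ev ((wordsB.getD x []).flatMap tw) 25) x) = true := by
  decide +kernel

/-- The second point. -/
def b0 : Fin 252 := 25

theorem card_nodes : (Finset.univ.filter (fun x : Fin 252 => Nat.testBit maskB x.1 = true)).card = 125 := by
  decide +kernel

theorem orbit2 : 125 ≤ (orbit P2 b0).ncard := by
  have h := card_orbit_ge P2 b0 (Finset.univ.filter (fun x : Fin 252 => Nat.testBit maskB x.1 = true))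
    (fun x hx => ⟨wp ((wordsB.getD x.1 []).flatMap tw), flat_mem _, by
      have hx' : Nat.testBit maskB x.1 = true := (Finset.mem_filter.1 hx).2
      apply Fin.ext
      show (wp ((wordsB.getD x.1 []).flatMap tw) b0).1 = x.1
      rw [wp_apply]
      have h1 := chkAll_spec chkB x.1 x.2
      simp only [hx', Bool.not_true, Bool.false_or] at h1
      exact Nat.eq_of_beq_eq_true h1⟩)
  rwa [card_nodes] at h

/-- The stabiliser of the two points. -/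
def P3 : Subgroup (Equiv.Perm (Fin 252)) := P2 ⊓ stabilizer (Equiv.Perm (Fin 252)) b0

def hw : List ℕ := [0,0,0,0,1,0,1,0,0,1]

theorem hw_chk : ev hw 0 = 0 ∧ ev hw 25 = 25 := by decide +kernel

theorem hw_mem : wp hw ∈ P3 := by
  refine ⟨⟨wp_mem _, ?_⟩, ?_⟩
  · apply Fin.ext
    show (wp hw a0).1 = 0
    rw [wp_apply]
    exact hw_chk.1
  · apply Fin.ext
    show (wp hw b0).1 = 25
    rw [wp_apply]
    exact hw_chk.2

theorem hw_pow4 : chkAll 252 (fun x => Nat.beq (ev (hw ++ hw ++ hw ++ hw) x) x) = true := by decide +kernel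

theorem hw_pow2 : Nat.beq (ev (hw ++ hw) 1) 1 = false := by decide +kernel

theorem order_hw : orderOf (wp hw) = 2 ^ 2 := by
  apply orderOf_eq_prime_pow (p := 2) (n := 1)
  · intro h
    have h1 : wp (hw ++ hw) = 1 := by
      rw [wp_append, ← pow_two, show (wp hw) ^ 2 = 1 from h]
    have h2 := wp_apply (hw ++ hw) (⟨1, by norm_num⟩ : Fin 252)
    rw [h1] at h2
    have h3 : ev (hw ++ hw) 1 = 1 := h2.symm
    have h4 := hw_pow2
    rw [h3] at h4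
    revert h4
    decide
  · have h1 : wp (hw ++ hw ++ hw ++ hw) = 1 := by
      ext x
      rw [wp_apply]
      exact Nat.eq_of_beq_eq_true (chkAll_spec hw_pow4 x.1 x.2)
    rw [wp_append, wp_append, wp_append] at h1
    show (wp hw) ^ 4 = 1
    rw [pow_succ, pow_succ, pow_two]
    rw [mul_assoc, mul_assoc] at h1
    rw [mul_assoc, mul_assoc]
    exact h1

theorem card_R : 126000 ≤ Nat.card R := by
  have h1 := Cfsg.Agent.Lib.U35.card_eq_orbit_mul_inf_aux R a0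
  have h2 := Cfsg.Agent.Lib.U35.card_eq_orbit_mul_inf_aux P2 b0
  have h3 : 4 ∣ Nat.card P3 := by
    have := Subgroup.orderOf_dvd_natCard P3 hw_mem
    rwa [order_hw] at this
  have h4 : 4 ≤ Nat.card P3 := Nat.le_of_dvd Nat.card_pos h3
  have o1 := orbit1
  have o2 := orbit2
  rw [h1]
  show 126000 ≤ (orbit R a0).ncard * Nat.card P2
  rw [show Nat.card P2 = (orbit P2 b0).ncard * Nat.card P3 from h2]
  calc 126000 = 252 * (125 * 4) := by norm_num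
    _ ≤ _ := Nat.mul_le_mul o1 (Nat.mul_le_mul o2 h4)

end Cfsg.Agent.Lib.U35
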