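import Mathlib
import Cfsg.Agent.Lib.U35TcTab

set_option autoImplicit false
set_option Elab.async false
set_option maxRecDepth 100000
set_option linter.all false

namespace Cfsg.Agent.Lib.U35Tc

open Subgroup Cfsg.Agent.Lib.TcFacts Cfsg.Agent.Lib.TcPres Cfsg.Agent.Lib.SchurCoset46 Cfsg.Agent.Lib.SchurTc

theorem b0 : Block F al 0 256 255 :=
  block_of_check (k := 8) rfl (by decide +kernel)

theorem b1 : Block F al 256 512 256 :=
  block_of_check (k := 8) rfl (by decide +kernel)

theorem b2 : Block F al 512 768 255 :=
  block_of_check (k := 8) rfl (by decide +kernel)

theorem b3 : Block F al 768 1024 252 :=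
  block_of_check (k := 8) rfl (by decide +kernel)

theorem b4 : Block F al 1024 1280 252 :=
  block_of_check (k := 8) rfl (by decide +kernel)

theorem b5 : Block F al 1280 1536 253 :=
  block_of_check (k := 8) rfl (by decide +kernel)

theorem b6 : Block F al 1536 1792 247 :=
  block_of_check (k := 8) rfl (by decide +kernel)

theorem b7 : Block F al 1792 2048 249 :=
  block_of_check (k := 8) rfl (by decide +kernel)

theorem b8 : Block F al 2048 2304 241 :=
  block_of_check (k := 8) rfl (by decide +kernel)

theorem b9 : Block F al 2304 2560 234 :=
  block_of_check (k := 8) rfl (by decide +kernel)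

theorem b10 : Block F al 2560 2816 233 :=
  block_of_check (k := 8) rfl (by decide +kernel)

theorem b11 : Block F al 2816 3072 239 :=
  block_of_check (k := 8) rfl (by decide +kernel)

theorem b12 : Block F al 3072 3328 232 :=
  block_of_check (k := 8) rfl (by decide +kernel)

theorem b13 : Block F al 3328 3584 230 :=
  block_of_check (k := 8) rfl (by decide +kernel)

theorem b14 : Block F al 3584 3840 231 :=
  block_of_check (k := 8) rfl (by decide +kernel)

theorem b15 : Block F al 3840 4096 221 :=
  block_of_check (k := 8) rfl (by decide +kernel)

theorem b16 : Block F al 4096 4352 218 :=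
  block_of_check (k := 8) rfl (by decide +kernel)

theorem b17 : Block F al 4352 4608 209 :=
  block_of_check (k := 8) rfl (by decide +kernel)

theorem b18 : Block F al 4608 4864 207 :=
  block_of_check (k := 8) rfl (by decide +kernel)

theorem b19 : Block F al 4864 5120 208 :=
  block_of_check (k := 8) rfl (by decide +kernel)

theorem b20 : Block F al 5120 5376 219 :=
  block_of_check (k := 8) rfl (by decide +kernel)

theorem b21 : Block F al 5376 5632 202 :=
  block_of_check (k := 8) rfl (by decide +kernel)

theorem b22 : Block F al 5632 5888 200 :=
  block_of_check (k := 8) rfl (by decide +kernel)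

theorem b23 : Block F al 5888 6144 187 :=
  block_of_check (k := 8) rfl (by decide +kernel)

theorem b24 : Block F al 6144 6400 192 :=
  block_of_check (k := 8) rfl (by decide +kernel)

theorem b25 : Block F al 6400 6656 183 :=
  block_of_check (k := 8) rfl (by decide +kernel)

theorem b26 : Block F al 6656 6912 160 :=
  block_of_check (k := 8) rfl (by decide +kernel)

theorem b27 : Block F al 6912 7168 179 :=
  block_of_check (k := 8) rfl (by decide +kernel)

theorem b28 : Block F al 7168 7424 184 :=
  block_of_check (k := 8) rfl (by decide +kernel)

theorem b29 : Block F al 7424 7680 167 :=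
  block_of_check (k := 8) rfl (by decide +kernel)

theorem b30 : Block F al 7680 7936 171 :=
  block_of_check (k := 8) rfl (by decide +kernel)

theorem b31 : Block F al 7936 8192 189 :=
  block_of_check (k := 8) rfl (by decide +kernel)

theorem b32 : Block F al 8192 8448 167 :=
  block_of_check (k := 8) rfl (by decide +kernel)

theorem b33 : Block F al 8448 8704 181 :=
  block_of_check (k := 8) rfl (by decide +kernel)

theorem b34 : Block F al 8704 8960 151 :=
  block_of_check (k := 8) rfl (by decide +kernel)

theorem b35 : Block F al 8960 9216 162 :=
  block_of_check (k := 8) rfl (by decide +kernel)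

theorem b36 : Block F al 9216 9472 164 :=
  block_of_check (k := 8) rfl (by decide +kernel)

theorem b37 : Block F al 9472 9728 157 :=
  block_of_check (k := 8) rfl (by decide +kernel)

theorem b38 : Block F al 9728 9984 155 :=
  block_of_check (k := 8) rfl (by decide +kernel)

theorem b39 : Block F al 9984 10240 172 :=
  block_of_check (k := 8) rfl (by decide +kernel)

theorem b40 : Block F al 10240 10496 160 :=
  block_of_check (k := 8) rfl (by decide +kernel)

theorem b41 : Block F al 10496 10752 165 :=
  block_of_check (k := 8) rfl (by decide +kernel)

theorem b42 : Block F al 10752 11008 217 :=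
  block_of_check (k := 8) rfl (by decide +kernel)

theorem b43 : Block F al 11008 11264 229 :=
  block_of_check (k := 8) rfl (by decide +kernel)

theorem b44 : Block F al 11264 11520 245 :=
  block_of_check (k := 8) rfl (by decide +kernel)

theorem b45 : Block F al 11520 11776 245 :=
  block_of_check (k := 8) rfl (by decide +kernel)

theorem b46 : Block F al 11776 12032 250 :=
  block_of_check (k := 8) rfl (by decide +kernel)

theorem b47 : Block F al 12032 12288 252 :=
  block_of_check (k := 8) rfl (by decide +kernel)

theorem b48 : Block F al 12288 12544 250 :=
  block_of_check (k := 8) rfl (by decide +kernel)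

theorem b49 : Block F al 12544 12800 256 :=
  block_of_check (k := 8) rfl (by decide +kernel)

theorem b50 : Block F al 12800 13056 254 :=
  block_of_check (k := 8) rfl (by decide +kernel)

theorem b51 : Block F al 13056 13312 254 :=
  block_of_check (k := 8) rfl (by decide +kernel)

theorem b52 : Block F al 13312 13568 255 :=
  block_of_check (k := 8) rfl (by decide +kernel)

theorem b53 : Block F al 13568 13824 255 :=
  block_of_check (k := 8) rfl (by decide +kernel)

theorem b54 : Block F al 13824 14080 256 :=
  block_of_check (k := 8) rfl (by decide +kernel)

theorem b55 : Block F al 14080 14336 255 :=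
  block_of_check (k := 8) rfl (by decide +kernel)

theorem b56 : Block F al 14336 14592 256 :=
  block_of_check (k := 8) rfl (by decide +kernel)

theorem b57 : Block F al 14592 14848 256 :=
  block_of_check (k := 8) rfl (by decide +kernel)

theorem b58 : Block F al 14848 15104 256 :=
  block_of_check (k := 8) rfl (by decide +kernel)

theorem b59 : Block F al 15104 15360 256 :=
  block_of_check (k := 8) rfl (by decide +kernel)

theorem b60 : Block F al 15360 15616 256 :=
  block_of_check (k := 8) rfl (by decide +kernel)

end Cfsg.Agent.Lib.U35Tc
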