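import Mathlib
import Cfsg.Agent.Lib.U35TcChk0
import Cfsg.Agent.Lib.U35TcChk1

set_option autoImplicit false
set_option Elab.async false
set_option maxRecDepth 100000
set_option linter.all false

namespace Cfsg.Agent.Lib.U35Tc

open Subgroup Cfsg.Agent.Lib.TcFacts Cfsg.Agent.Lib.TcPres Cfsg.Agent.Lib.SchurCoset46 Cfsg.Agent.Lib.SchurTc

theorem c0 : Block F al 0 256 255 := b0

theorem c1 : Block F al 0 512 511 :=
  block_comb c0 b1 (Nat.zero_le _) (Nat.le_of_ble_eq_true rfl) rfl

theorem c2 : Block F al 0 768 766 :=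
  block_comb c1 b2 (Nat.zero_le _) (Nat.le_of_ble_eq_true rfl) rfl

theorem c3 : Block F al 0 1024 1018 :=
  block_comb c2 b3 (Nat.zero_le _) (Nat.le_of_ble_eq_true rfl) rfl

theorem c4 : Block F al 0 1280 1270 :=
  block_comb c3 b4 (Nat.zero_le _) (Nat.le_of_ble_eq_true rfl) rfl

theorem c5 : Block F al 0 1536 1523 :=
  block_comb c4 b5 (Nat.zero_le _) (Nat.le_of_ble_eq_true rfl) rfl

theorem c6 : Block F al 0 1792 1770 :=
  block_comb c5 b6 (Nat.zero_le _) (Nat.le_of_ble_eq_true rfl) rfl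

theorem c7 : Block F al 0 2048 2019 :=
  block_comb c6 b7 (Nat.zero_le _) (Nat.le_of_ble_eq_true rfl) rfl

theorem c8 : Block F al 0 2304 2260 :=
  block_comb c7 b8 (Nat.zero_le _) (Nat.le_of_ble_eq_true rfl) rfl

theorem c9 : Block F al 0 2560 2494 :=
  block_comb c8 b9 (Nat.zero_le _) (Nat.le_of_ble_eq_true rfl) rfl

theorem c10 : Block F al 0 2816 2727 :=
  block_comb c9 b10 (Nat.zero_le _) (Nat.le_of_ble_eq_true rfl) rfl

theorem c11 : Block F al 0 3072 2966 :=
  block_comb c10 b11 (Nat.zero_le _) (Nat.le_of_ble_eq_true rfl) rfl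

theorem c12 : Block F al 0 3328 3198 :=
  block_comb c11 b12 (Nat.zero_le _) (Nat.le_of_ble_eq_true rfl) rfl

theorem c13 : Block F al 0 3584 3428 :=
  block_comb c12 b13 (Nat.zero_le _) (Nat.le_of_ble_eq_true rfl) rfl

theorem c14 : Block F al 0 3840 3659 :=
  block_comb c13 b14 (Nat.zero_le _) (Nat.le_of_ble_eq_true rfl) rfl

theorem c15 : Block F al 0 4096 3880 :=
  block_comb c14 b15 (Nat.zero_le _) (Nat.le_of_ble_eq_true rfl) rfl

theorem c16 : Block F al 0 4352 4098 :=
  block_comb c15 b16 (Nat.zero_le _) (Nat.le_of_ble_eq_true rfl) rfl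

theorem c17 : Block F al 0 4608 4307 :=
  block_comb c16 b17 (Nat.zero_le _) (Nat.le_of_ble_eq_true rfl) rfl

theorem c18 : Block F al 0 4864 4514 :=
  block_comb c17 b18 (Nat.zero_le _) (Nat.le_of_ble_eq_true rfl) rfl

theorem c19 : Block F al 0 5120 4722 :=
  block_comb c18 b19 (Nat.zero_le _) (Nat.le_of_ble_eq_true rfl) rfl

theorem c20 : Block F al 0 5376 4941 :=
  block_comb c19 b20 (Nat.zero_le _) (Nat.le_of_ble_eq_true rfl) rfl

theorem c21 : Block F al 0 5632 5143 :=
  block_comb c20 b21 (Nat.zero_le _) (Nat.le_of_ble_eq_true rfl) rfl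

theorem c22 : Block F al 0 5888 5343 :=
  block_comb c21 b22 (Nat.zero_le _) (Nat.le_of_ble_eq_true rfl) rfl

theorem c23 : Block F al 0 6144 5530 :=
  block_comb c22 b23 (Nat.zero_le _) (Nat.le_of_ble_eq_true rfl) rfl

theorem c24 : Block F al 0 6400 5722 :=
  block_comb c23 b24 (Nat.zero_le _) (Nat.le_of_ble_eq_true rfl) rfl

theorem c25 : Block F al 0 6656 5905 :=
  block_comb c24 b25 (Nat.zero_le _) (Nat.le_of_ble_eq_true rfl) rfl

theorem c26 : Block F al 0 6912 6065 :=
  block_comb c25 b26 (Nat.zero_le _) (Nat.le_of_ble_eq_true rfl) rfl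

theorem c27 : Block F al 0 7168 6244 :=
  block_comb c26 b27 (Nat.zero_le _) (Nat.le_of_ble_eq_true rfl) rfl

theorem c28 : Block F al 0 7424 6428 :=
  block_comb c27 b28 (Nat.zero_le _) (Nat.le_of_ble_eq_true rfl) rfl

theorem c29 : Block F al 0 7680 6595 :=
  block_comb c28 b29 (Nat.zero_le _) (Nat.le_of_ble_eq_true rfl) rfl

theorem c30 : Block F al 0 7936 6766 :=
  block_comb c29 b30 (Nat.zero_le _) (Nat.le_of_ble_eq_true rfl) rfl

theorem c31 : Block F al 0 8192 6955 :=
  block_comb c30 b31 (Nat.zero_le _) (Nat.le_of_ble_eq_true rfl) rfl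

theorem c32 : Block F al 0 8448 7122 :=
  block_comb c31 b32 (Nat.zero_le _) (Nat.le_of_ble_eq_true rfl) rfl

theorem c33 : Block F al 0 8704 7303 :=
  block_comb c32 b33 (Nat.zero_le _) (Nat.le_of_ble_eq_true rfl) rfl

theorem c34 : Block F al 0 8960 7454 :=
  block_comb c33 b34 (Nat.zero_le _) (Nat.le_of_ble_eq_true rfl) rfl

theorem c35 : Block F al 0 9216 7616 :=
  block_comb c34 b35 (Nat.zero_le _) (Nat.le_of_ble_eq_true rfl) rfl

theorem c36 : Block F al 0 9472 7780 :=
  block_comb c35 b36 (Nat.zero_le _) (Nat.le_of_ble_eq_true rfl) rfl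

theorem c37 : Block F al 0 9728 7937 :=
  block_comb c36 b37 (Nat.zero_le _) (Nat.le_of_ble_eq_true rfl) rfl

theorem c38 : Block F al 0 9984 8092 :=
  block_comb c37 b38 (Nat.zero_le _) (Nat.le_of_ble_eq_true rfl) rfl

theorem c39 : Block F al 0 10240 8264 :=
  block_comb c38 b39 (Nat.zero_le _) (Nat.le_of_ble_eq_true rfl) rfl

theorem c40 : Block F al 0 10496 8424 :=
  block_comb c39 b40 (Nat.zero_le _) (Nat.le_of_ble_eq_true rfl) rfl

theorem c41 : Block F al 0 10752 8589 :=
  block_comb c40 b41 (Nat.zero_le _) (Nat.le_of_ble_eq_true rfl) rfl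

theorem c42 : Block F al 0 11008 8806 :=
  block_comb c41 b42 (Nat.zero_le _) (Nat.le_of_ble_eq_true rfl) rfl

theorem c43 : Block F al 0 11264 9035 :=
  block_comb c42 b43 (Nat.zero_le _) (Nat.le_of_ble_eq_true rfl) rfl

theorem c44 : Block F al 0 11520 9280 :=
  block_comb c43 b44 (Nat.zero_le _) (Nat.le_of_ble_eq_true rfl) rfl

theorem c45 : Block F al 0 11776 9525 :=
  block_comb c44 b45 (Nat.zero_le _) (Nat.le_of_ble_eq_true rfl) rfl

theorem c46 : Block F al 0 12032 9775 :=
  block_comb c45 b46 (Nat.zero_le _) (Nat.le_of_ble_eq_true rfl) rfl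

theorem c47 : Block F al 0 12288 10027 :=
  block_comb c46 b47 (Nat.zero_le _) (Nat.le_of_ble_eq_true rfl) rfl

theorem c48 : Block F al 0 12544 10277 :=
  block_comb c47 b48 (Nat.zero_le _) (Nat.le_of_ble_eq_true rfl) rfl

theorem c49 : Block F al 0 12800 10533 :=
  block_comb c48 b49 (Nat.zero_le _) (Nat.le_of_ble_eq_true rfl) rfl

theorem c50 : Block F al 0 13056 10787 :=
  block_comb c49 b50 (Nat.zero_le _) (Nat.le_of_ble_eq_true rfl) rfl

theorem c51 : Block F al 0 13312 11041 :=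
  block_comb c50 b51 (Nat.zero_le _) (Nat.le_of_ble_eq_true rfl) rfl

theorem c52 : Block F al 0 13568 11296 :=
  block_comb c51 b52 (Nat.zero_le _) (Nat.le_of_ble_eq_true rfl) rfl

theorem c53 : Block F al 0 13824 11551 :=
  block_comb c52 b53 (Nat.zero_le _) (Nat.le_of_ble_eq_true rfl) rfl

theorem c54 : Block F al 0 14080 11807 :=
  block_comb c53 b54 (Nat.zero_le _) (Nat.le_of_ble_eq_true rfl) rfl

theorem c55 : Block F al 0 14336 12062 :=
  block_comb c54 b55 (Nat.zero_le _) (Nat.le_of_ble_eq_true rfl) rfl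

theorem c56 : Block F al 0 14592 12318 :=
  block_comb c55 b56 (Nat.zero_le _) (Nat.le_of_ble_eq_true rfl) rfl

theorem c57 : Block F al 0 14848 12574 :=
  block_comb c56 b57 (Nat.zero_le _) (Nat.le_of_ble_eq_true rfl) rfl

theorem c58 : Block F al 0 15104 12830 :=
  block_comb c57 b58 (Nat.zero_le _) (Nat.le_of_ble_eq_true rfl) rfl

theorem c59 : Block F al 0 15360 13086 :=
  block_comb c58 b59 (Nat.zero_le _) (Nat.le_of_ble_eq_true rfl) rfl

theorem c60 : Block F al 0 15616 13342 :=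
  block_comb c59 b60 (Nat.zero_le _) (Nat.le_of_ble_eq_true rfl) rfl

theorem c61 : Block F al 0 15872 13598 :=
  block_comb c60 b61 (Nat.zero_le _) (Nat.le_of_ble_eq_true rfl) rfl

theorem c62 : Block F al 0 16128 13854 :=
  block_comb c61 b62 (Nat.zero_le _) (Nat.le_of_ble_eq_true rfl) rfl

theorem c63 : Block F al 0 16384 14110 :=
  block_comb c62 b63 (Nat.zero_le _) (Nat.le_of_ble_eq_true rfl) rfl

theorem c64 : Block F al 0 16640 14366 :=
  block_comb c63 b64 (Nat.zero_le _) (Nat.le_of_ble_eq_true rfl) rfl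

theorem c65 : Block F al 0 16896 14622 :=
  block_comb c64 b65 (Nat.zero_le _) (Nat.le_of_ble_eq_true rfl) rfl

theorem c66 : Block F al 0 17152 14878 :=
  block_comb c65 b66 (Nat.zero_le _) (Nat.le_of_ble_eq_true rfl) rfl

theorem c67 : Block F al 0 17408 15134 :=
  block_comb c66 b67 (Nat.zero_le _) (Nat.le_of_ble_eq_true rfl) rfl

theorem c68 : Block F al 0 17664 15390 :=
  block_comb c67 b68 (Nat.zero_le _) (Nat.le_of_ble_eq_true rfl) rfl

theorem c69 : Block F al 0 17920 15646 :=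
  block_comb c68 b69 (Nat.zero_le _) (Nat.le_of_ble_eq_true rfl) rfl

theorem c70 : Block F al 0 18176 15750 :=
  block_comb c69 b70 (Nat.zero_le _) (Nat.le_of_ble_eq_true rfl) rfl


theorem hRels1 : ∀ B ∈ Rels, ∀ l ∈ B, l < 4 := by decide +kernel

theorem hRels2 : Rels = relsL ++ relsL.map invWd ++ (List.range 2).flatMap (fun i => [[2 * i, 2 * i + 1], [2 * i + 1, 2 * i]]) := by decide +kernel

theorem hwd : ∀ k, k < 674 →
    rotOK Rels 4 (decW 3 7 (18 + 1) (wd k)) (hint k) = true := by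
  decide +kernel

theorem h1alive : aliveB ent 4 32768 1 = true := by decide +kernel

theorem hbase : ∀ a, base a = true → a ∈ baseL := by
  intro a h
  simpa [base] using h

/-- The index of a subgroup containing the given letters. -/
theorem index_le {W : Type*} [Group W] (x : ℕ → W) (hgen : closure (x '' Set.Iio 2) = ⊤)
    (hrel : ∀ r ∈ relsL, evW x r = 1) (H : Subgroup W) (hH : ∀ a ∈ baseL, lett x a ∈ H) :
    H.index ≠ 0 ∧ H.index ≤ 15750 := by
  refine index_le_tc (m := 2) x hgen (by norm_num) Rels hRels1 ?_ H ent pa wd side base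
    32767 15 27 18175 3 7 8 18 4095 674 32768 131072 15750
    (by norm_num) ?_ hint hwd (by norm_num) c70 h1alive
  · intro B hB
    rw [hRels2] at hB
    rw [List.mem_append, List.mem_append, List.mem_map, List.mem_flatMap] at hB
    rcases hB with (hB | ⟨r, hr, rfl⟩) | ⟨i, hi, hB⟩
    · exact hrel B hB
    · rw [evW_invWd, hrel r hr, inv_one]
    · simp only [List.mem_cons, List.not_mem_nil, or_false] at hB
      rcases hB with rfl | rfl
      · simp [evW, lett_even, lett_odd]
      · simp [evW, lett_even, lett_odd]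
  · intro a _ ha
    have h2 := hbase a ha
    refine ⟨?_, hH a h2⟩
    revert a
    decide

end Cfsg.Agent.Lib.U35Tc
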