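import Mathlib

/-!
# Words in the generators of the unitary group
-/

set_option autoImplicit false

namespace Cfsg.Agent.Lib.U6Words46

noncomputable section

/-- The first words of the commutators of the generators. -/
def wAL : List (List ℕ) := [[2, 14, 4, 12, 14, 4, 0, 2, 6, 14, 2, 12, 14, 0, 4, 14, 12, 4, 14, 2], [14, 12, 0, 6, 14, 2, 0, 2, 6, 14, 2, 12, 14, 0, 2, 14, 6, 0, 12, 14], [14, 12, 6, 2, 14, 4, 2, 6, 14, 2, 12, 14, 4, 14, 2, 6, 12, 14], [14, 4, 12, 2, 14, 4, 2, 6, 14, 2, 12, 14, 4, 14, 2, 12, 4, 14], [0, 14, 4, 12, 10, 8, 0, 2, 6, 14, 2, 12, 14, 0, 8, 10, 12, 4, 14, 0], [2, 14, 12, 0, 10, 14, 0, 2, 6, 14, 2, 12, 14, 0, 14, 10, 0, 12, 14, 2], [14, 2, 0, 6, 14, 2, 0, 2, 6, 14, 2, 12, 14, 0, 2, 14, 6, 0, 2, 14], [4, 12, 6, 2, 14, 4, 2, 6, 14, 2, 12, 14, 4, 14, 2, 6, 12, 4]]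
/-- The second words of the commutators of the generators. -/
def wBL : List (List ℕ) := [[2, 14, 4, 12, 14, 4, 0, 2, 12, 14, 6, 12, 14, 0, 4, 14, 12, 4, 14, 2], [14, 12, 0, 6, 14, 2, 0, 2, 12, 14, 6, 12, 14, 0, 2, 14, 6, 0, 12, 14], [14, 12, 6, 2, 14, 4, 2, 12, 14, 6, 12, 14, 4, 14, 2, 6, 12, 14], [14, 4, 12, 2, 14, 4, 2, 12, 14, 6, 12, 14, 4, 14, 2, 12, 4, 14], [0, 14, 4, 12, 10, 8, 0, 2, 12, 14, 6, 12, 14, 0, 8, 10, 12, 4, 14, 0], [2, 14, 12, 0, 10, 14, 0, 2, 12, 14, 6, 12, 14, 0, 14, 10, 0, 12, 14, 2], [14, 2, 0, 6, 14, 2, 0, 2, 12, 14, 6, 12, 14, 0, 2, 14, 6, 0, 2, 14], [4, 12, 6, 2, 14, 4, 2, 12, 14, 6, 12, 14, 4, 14, 2, 6, 12, 4]]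
/-- The words of the element of order three. -/
def wU : List ℕ := [10, 6, 8, 12, 4, 12, 8, 6, 2, 4, 14, 0, 14, 4, 2, 12, 0, 6, 14, 2, 14, 6, 0, 12]
/-- The words of the second element of the third relator. -/
def wV : List ℕ := [12, 10, 14, 4, 14, 10, 12, 10, 12, 10, 6, 0, 6, 10, 12, 2, 4, 14, 0, 14, 4, 2]
/-- The first commutator of order two. -/
def g1L : List ℕ := [8, 2, 10, 4, 2]
/-- The first commutator of order two. -/
def h1L : List ℕ := [1, 3, 3, 15, 3, 8, 2, 10, 4, 2, 2, 14, 2, 2, 0, 3, 5, 11, 3, 9, 1, 3, 3, 15, 3, 8, 2, 10, 4, 2, 2, 14, 2, 2, 0, 3, 5, 11, 3, 9, 1, 3, 3, 15, 3, 8, 2, 10, 4, 2, 2, 14, 2, 2, 0, 3, 5, 11, 3, 9, 1, 3, 3, 15, 3]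
/-- The second commutator of order two. -/
def g2L : List ℕ := [8, 2, 10, 4, 2]
/-- The second commutator of order two. -/
def h2L : List ℕ := [1, 15, 7, 13, 8, 2, 10, 4, 2, 12, 6, 14, 0, 3, 5, 11, 3, 9, 1, 15, 7, 13, 8, 2, 10, 4, 2, 12, 6, 14, 0, 3, 5, 11, 3, 9, 1, 15, 7, 13]
/-- The word of the first generator of the subgroup. -/
def waL : List ℕ := [10, 4, 12, 6, 8, 0, 2, 10, 12, 10, 6, 4]
/-- The word of the second generator of the subgroup. -/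
def wbL : List ℕ := [12, 0, 10, 6, 0, 8, 2, 4, 12, 4]
/-- The word of an element of order eleven. -/
def w11L : List ℕ := [6, 14, 4, 0, 12, 6, 10, 2, 6, 12, 6, 14]
/-- The points of the vectors of the subgeometry. -/
def bpL : ℕ := 0x4cc7bd4d1d54d47b54f1d3332098bf81d32e0a8be81b50089d181a95088951a1a728e05c9280228a054918014d07d14e1da4c67ad4b9d13240a0bc02232208cbb8195048b1191ae4fa88d169a52800408f00027e03c8e800

end

end Cfsg.Agent.Lib.U6Words46
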