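import Mathlib
import Cfsg.Agent.Lib.UFour9B
import Cfsg.Agent.Lib.BlockOrth
import Cfsg.Agent.Lib.BlockNormal
import Cfsg.Agent.Lib.BlockVal
import Cfsg.Agent.S0942
import Cfsg.Agent.S3277
import Cfsg.Agent.S4337
import Cfsg.Agent.Lib.BenderPair

/-!
# The centralizer of `u` when the odd core is trivial
-/

set_option autoImplicit false
set_option linter.unusedSectionVars false
set_option linter.style.haveILetI false

namespace Cfsg.Agent.Lib.UFour9C

open Cfsg Cfsg.Agent.Lib.CharBasic Cfsg.Agent.Lib.UFour9 Cfsg.Agent.Lib.UFour9B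
open Cfsg.Agent.Lib.CharKernel
open Cfsg.Agent.S4757 (chi0)
open scoped ComplexConjugate Pointwise

universe v

section BlockDeg

variable {X : Type v} [Group X] [Finite X]

/-- A character of degree three with value `-1` in the principal 2-block. -/
theorem exists_deg_three_block {u : X} (h : Hyp u) (hu2 : u * u = 1) (hu1 : u ≠ 1)
    {M : Ideal AlgInt} (hM : IsPModular 2 M) :
    ∃ χ ∈ principalBlock M X, (χ : X → ℂ) 1 = 3 ∧ (χ : X → ℂ) u = -1 := by
  classical
  haveI := Fintype.ofFinite X
  haveI : Fact (Nat.Prime 2) := ⟨Nat.prime_two⟩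
  haveI : M.IsPrime := hM.2.1.isPrime
  have hou : orderOf u = 2 := orderOf_eq_prime (by rw [sq]; exact hu2) hu1
  have horth := Cfsg.Agent.Lib.BlockOrth.weak_block_orthogonality hM
    (Cfsg.Agent.Lib.BlockNormal.isPBlock_principalBlock M) (x := (1 : X)) (y := u)
    (by simp) (by rw [hou])
  have huinv : u⁻¹ = u := inv_eq_of_mul_eq_one_left hu2
  rw [Cfsg.Agent.Lib.BlkBasic.finsum_mem_eq_sum_ite] at horth
  let S : Finset (IrrCharacter X) := Finset.univ.filter (· ∈ principalBlock M X)
  have h0 : chi0 X ∈ S := by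
    simp only [S, Finset.mem_filter, Finset.mem_univ, true_and]
    exact Cfsg.Agent.Lib.BlockNormal.irrOne_mem_principalBlock M
  have hs : ∑ χ ∈ S, dg χ * tv u χ = 0 := by
    have h1 : ((∑ χ ∈ S, dg χ * tv u χ : ℤ) : ℂ) = 0 := by
      rw [← horth, Finset.sum_filter]
      push_cast
      refine Finset.sum_congr rfl fun χ _ => ?_
      by_cases hχ : χ ∈ principalBlock M X
      · rw [if_pos hχ, if_pos hχ, huinv, deg_val, tv_spec h]
      · rw [if_neg hχ, if_neg hχ]
    exact_mod_cast h1
  obtain ⟨χ, hχ, h3, hv⟩ := exists_deg_three h hu1 S h0 hs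
  exact ⟨χ, (Finset.mem_filter.mp hχ).2, h3, hv⟩

end BlockDeg

section Burnside

variable {C : Type*} [Group C] [Finite C]

/-- A 2-element normalizing a Sylow 2-subgroup lies in it. -/
theorem mem_of_two_elt_normalizer (P : Sylow 2 C) {h : C}
    (hn : h ∈ Subgroup.normalizer ((P : Subgroup C) : Set C))
    (h2 : IsPGroup 2 (Subgroup.zpowers h)) : h ∈ (P : Subgroup C) := by
  haveI : Fact (Nat.Prime 2) := ⟨Nat.prime_two⟩
  have h1 := h2.inf_normalizer_sylow P
  have hmem : h ∈ Subgroup.zpowers h ⊓ Subgroup.normalizer (P : Set C) :=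
    ⟨Subgroup.mem_zpowers h, hn⟩
  rw [h1] at hmem
  exact hmem.2

/-- With a central involution in a Sylow 2-subgroup of order four and exponent two, the normalizer
of the Sylow subgroup centralizes it. -/
theorem normalizer_le_centralizer_of_central (P : Sylow 2 C)
    (hP4 : Nat.card (P : Subgroup C) = 4) (hPe : ∀ x ∈ (P : Subgroup C), x * x = 1) {u : C}
    (huP : u ∈ (P : Subgroup C)) (hu1 : u ≠ 1) (huc : ∀ g : C, g * u = u * g) :
    Subgroup.normalizer ((P : Subgroup C) : Set C) ≤ Subgroup.centralizer ((P : Subgroup C) : Set C) := by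
  classical
  haveI : Fact (Nat.Prime 2) := ⟨Nat.prime_two⟩
  haveI := Fintype.ofFinite C
  have hPcomm : ∀ a ∈ (P : Subgroup C), ∀ b ∈ (P : Subgroup C), a * b = b * a := by
    intro a ha b hb
    have h1 := hPe _ ((P : Subgroup C).mul_mem ha hb)
    have h2 := hPe a ha
    have h3 := hPe b hb
    calc a * b = a * (a * b * (a * b)) * b := by rw [h1, mul_one]
      _ = (a * a) * b * a * (b * b) := by group
      _ = b * a := by rw [h2, h3]; group
  intro g hg
  rw [Subgroup.mem_centralizer_iff]
  intro x hx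
  by_contra hne
  -- `x` is moved
  have hmem := (Subgroup.mem_normalizer_iff.mp hg x).mp hx
  have hcong : ∀ a b : C, g * a * g⁻¹ = g * b * g⁻¹ → a = b := by
    intro a b hab
    exact mul_left_cancel (mul_right_cancel hab)
  have hgx : g * x * g⁻¹ ≠ x := by
    intro h
    apply hne
    show x * g = g * x
    calc x * g = (g * x * g⁻¹) * g := by rw [h]
      _ = g * x := by group
  have hx1 : x ≠ 1 := by
    rintro rfl
    exact hgx (by group)
  have hxu : x ≠ u := by
    rintro rfl
    apply hgx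
    rw [huc]
    group
  have hgu : g * u * g⁻¹ = u := by rw [huc]; group
  -- the elements of `P`
  let F : Finset C := {1, u, x, u * x}
  have huu := hPe u huP
  have hFcard : F.card = 4 := by
    have h1 : (1 : C) ≠ u := hu1.symm
    have h2 : (1 : C) ≠ x := hx1.symm
    have h3 : (1 : C) ≠ u * x := by
      intro h
      apply hxu
      have : x = u * (u * x) := by rw [← mul_assoc, huu, one_mul]
      rw [this, ← h, mul_one]
    have h4 : u ≠ x := hxu.symm
    have h5 : u ≠ u * x := by
      intro h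
      apply hx1
      exact mul_left_cancel (a := u) (by rw [mul_one]; exact h.symm)
    have h6 : x ≠ u * x := by
      intro h
      apply hu1
      exact mul_right_cancel (b := x) (by rw [one_mul]; exact h.symm)
    simp only [F]
    rw [Finset.card_insert_of_notMem, Finset.card_insert_of_notMem, Finset.card_insert_of_notMem,
      Finset.card_singleton]
    · simpa using h6
    · simp [h4, h5]
    · simp [h1, h2, h3]
  have hFsub : F ⊆ Finset.univ.filter (· ∈ (P : Subgroup C)) := by
    intro y hy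
    simp only [F, Finset.mem_insert, Finset.mem_singleton] at hy
    simp only [Finset.mem_filter, Finset.mem_univ, true_and]
    rcases hy with rfl | rfl | rfl | rfl
    · exact Subgroup.one_mem _
    · exact huP
    · exact hx
    · exact Subgroup.mul_mem _ huP hx
  have hPc : (Finset.univ.filter (· ∈ (P : Subgroup C))).card = 4 := by
    rw [← hP4, ← Fintype.card_subtype, ← Nat.card_eq_fintype_card]
  have hFeq : F = Finset.univ.filter (· ∈ (P : Subgroup C)) :=
    Finset.eq_of_subset_of_card_le hFsub (by rw [hPc, hFcard])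
  have hy : g * x * g⁻¹ ∈ F := by
    rw [hFeq]
    simp only [Finset.mem_filter, Finset.mem_univ, true_and]
    exact hmem
  simp only [F, Finset.mem_insert, Finset.mem_singleton] at hy
  have hyux : g * x * g⁻¹ = u * x := by
    rcases hy with h | h | h | h
    · exfalso
      apply hx1
      apply hcong
      rw [h]; group
    · exfalso
      apply hxu
      apply hcong
      rw [h, hgu]
    · exact absurd h hgx
    · exact h
  -- `g ^ 2` centralizes `x`
  have hg2 : g * g * x * (g * g)⁻¹ = x := by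
    calc g * g * x * (g * g)⁻¹ = g * (g * x * g⁻¹) * g⁻¹ := by group
      _ = g * (u * x) * g⁻¹ := by rw [hyux]
      _ = (g * u * g⁻¹) * (g * x * g⁻¹) := by group
      _ = u * (u * x) := by rw [hgu, hyux]
      _ = x := by rw [← mul_assoc, huu, one_mul]
  -- odd powers act like `g`
  have hodd : ∀ k : ℕ, g ^ (2 * k + 1) * x * (g ^ (2 * k + 1))⁻¹ = u * x := by
    intro k
    have h1 : ∀ j : ℕ, g ^ (2 * j) * x * (g ^ (2 * j))⁻¹ = x := by
      intro j
      induction j with
      | zero => simp
      | succ j ih =>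
        have h2 : g ^ (2 * (j + 1)) = g ^ (2 * j) * (g * g) := by
          rw [mul_add, pow_add]
          simp [pow_two]
        rw [h2]
        calc g ^ (2 * j) * (g * g) * x * (g ^ (2 * j) * (g * g))⁻¹
            = g ^ (2 * j) * (g * g * x * (g * g)⁻¹) * (g ^ (2 * j))⁻¹ := by group
          _ = x := by rw [hg2, ih]
    rw [pow_succ' g (2 * k)]
    calc g * g ^ (2 * k) * x * (g * g ^ (2 * k))⁻¹
        = g * (g ^ (2 * k) * x * (g ^ (2 * k))⁻¹) * g⁻¹ := by group
      _ = u * x := by rw [h1, hyux]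
  -- the 2-part
  obtain ⟨a, r, hr, hor⟩ := Nat.exists_eq_two_pow_mul_odd (n := orderOf g) (orderOf_pos g).ne'
  obtain ⟨k, rfl⟩ := hr
  set h' := g ^ (2 * k + 1) with hh'
  have h'2 : IsPGroup 2 (Subgroup.zpowers h') := by
    have h3 : h' ^ 2 ^ a = 1 := by
      rw [hh', ← pow_mul, mul_comm, ← hor]
      exact pow_orderOf_eq_one g
    have h4 : orderOf h' ∣ 2 ^ a := orderOf_dvd_of_pow_eq_one h3
    obtain ⟨b, -, hb⟩ := (Nat.dvd_prime_pow Nat.prime_two).mp h4
    exact IsPGroup.of_card (n := b) (by rw [Nat.card_zpowers, hb])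
  have h'n : h' ∈ Subgroup.normalizer ((P : Subgroup C) : Set C) :=
    Subgroup.pow_mem _ hg _
  have h'P := mem_of_two_elt_normalizer P h'n h'2
  have hfin := hodd k
  rw [← hh', hPcomm h' h'P x hx] at hfin
  rw [mul_assoc, mul_inv_cancel, mul_one] at hfin
  apply hu1
  exact mul_right_cancel (b := x) (by rw [one_mul]; exact hfin.symm)

end Burnside

section Linear

variable {X : Type*} [Group X] [Finite X]

/-- The `+1` part of a degree-three character with value `-1` at an involution is linear on the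
centralizer of the involution. -/
theorem exists_linear_part {χ : X → ℂ} (hχ : IsCharacter X χ) (h3 : χ 1 = 3) {u : X}
    (hu2 : u * u = 1) (hv : χ u = -1) :
    ∃ f : Subgroup.centralizer ({u} : Set X) →* ℂˣ,
      ∀ g : Subgroup.centralizer ({u} : Set X), χ g + χ (u * g) = 2 * ((f g : ℂˣ) : ℂ) := by
  classical
  set C := Subgroup.centralizer ({u} : Set X) with hC
  let ũ : C := ⟨u, by rw [Subgroup.mem_centralizer_singleton_iff]⟩
  have hũc : ∀ b : C, b * ũ * b⁻¹ = ũ := by
    intro b
    apply Subtype.ext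
    have hb := b.2
    rw [Subgroup.mem_centralizer_singleton_iff] at hb
    show (b : X) * u * (b : X)⁻¹ = u
    rw [hb]
    group
  have hũ2 : ũ * ũ = 1 := Subtype.ext hu2
  have hcomm : ∀ b : C, b * ũ = ũ * b := by
    intro b
    have := hũc b
    calc b * ũ = b * ũ * b⁻¹ * b := by group
      _ = ũ * b := by rw [this]
  have hΘ : IsCharacter C (fun g : C => χ g) := isCharacter_restrict C hχ
  obtain ⟨m, hm⟩ := exists_nat_decomp hΘ
  -- the sign of each constituent
  have hsign : ∀ (θ : IrrCharacter C) (g : C),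
      (θ : C → ℂ) 1 * (θ : C → ℂ) (g * ũ) = (θ : C → ℂ) g * (θ : C → ℂ) ũ := by
    intro θ g
    refine Cfsg.Agent.Lib.CharAvg.irr_mul_of_const θ.2 g ũ _ fun b => ?_
    rw [hũc]
  have hne : ∀ θ : IrrCharacter C, (θ : C → ℂ) 1 ≠ 0 :=
    fun θ => Cfsg.Agent.Lib.CharAvg.irr_one_ne_zero θ.2
  have hsq : ∀ θ : IrrCharacter C, (θ : C → ℂ) ũ = (θ : C → ℂ) 1 ∨
      (θ : C → ℂ) ũ = -(θ : C → ℂ) 1 := by
    intro θ
    have h1 := hsign θ ũ
    rw [hũ2] at h1
    have h2 : ((θ : C → ℂ) ũ - (θ : C → ℂ) 1) * ((θ : C → ℂ) ũ + (θ : C → ℂ) 1) = 0 := by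
      linear_combination -h1
    rcases mul_eq_zero.mp h2 with h | h
    · left; linear_combination h
    · right; linear_combination h
  let A : C → ℂ := ∑ θ : IrrCharacter C, (if (θ : C → ℂ) ũ = (θ : C → ℂ) 1 then m θ else 0) • (θ : C → ℂ)
  have hA : IsCharacter C A := isCharacter_of_nat_decomp _
  have hApply : ∀ g : C, χ g + χ (u * g) = 2 * A g := by
    intro g
    have h1 : χ g = ∑ θ : IrrCharacter C, (m θ : ℂ) * (θ : C → ℂ) g := by
      have := congrFun hm g
      simpa [Finset.sum_apply] using this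
    have h2 : χ (u * g) = ∑ θ : IrrCharacter C, (m θ : ℂ) * (θ : C → ℂ) (g * ũ) := by
      have := congrFun hm (g * ũ)
      simp only [Finset.sum_apply, Pi.smul_apply] at this
      simp only [nsmul_eq_mul] at this
      rw [← this]
      show χ (u * g) = χ ((g : X) * u)
      have hg := g.2
      rw [Subgroup.mem_centralizer_singleton_iff] at hg
      rw [hg]
    have h3 : A g = ∑ θ : IrrCharacter C,
        (if (θ : C → ℂ) ũ = (θ : C → ℂ) 1 then (m θ : ℂ) else 0) * (θ : C → ℂ) g := by
      simp only [A, Finset.sum_apply, Pi.smul_apply]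
      refine Finset.sum_congr rfl fun θ _ => ?_
      split_ifs <;> simp
    rw [h1, h2, h3, Finset.mul_sum, ← Finset.sum_add_distrib]
    refine Finset.sum_congr rfl fun θ _ => ?_
    have h4 := hsign θ g
    apply mul_left_cancel₀ (hne θ)
    by_cases hpos : (θ : C → ℂ) ũ = (θ : C → ℂ) 1
    · rw [if_pos hpos]
      rw [hpos] at h4
      linear_combination (m θ : ℂ) * h4
    · rw [if_neg hpos]
      have hneg := (hsq θ).resolve_left hpos
      rw [hneg] at h4
      linear_combination (m θ : ℂ) * h4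
  have hA1 : A 1 = 1 := by
    have h1 := hApply 1
    simp only [OneMemClass.coe_one, mul_one] at h1
    rw [h3, hv] at h1
    linear_combination (-1 / 2 : ℂ) * h1
  obtain ⟨f, hf⟩ := exists_hom_of_degree_one hA hA1
  exact ⟨f, fun g => by rw [hApply, hf]⟩

/-- The Newton computation: `c` is forced to be one. -/
theorem value_eq_three (hperf : commutator X = ⊤) {χ : X → ℂ} (hχ : IsCharacter X χ) (h3 : χ 1 = 3)
    {u : X} (f : Subgroup.centralizer ({u} : Set X) →* ℂˣ)
    (hf : ∀ g : Subgroup.centralizer ({u} : Set X), χ g + χ (u * g) = 2 * ((f g : ℂˣ) : ℂ))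
    (l : Subgroup.centralizer ({u} : Set X)) (hodd : Odd (orderOf l))
    (h1 : χ (u * l) = -1) (h2 : χ (u * ((l * l : Subgroup.centralizer ({u} : Set X)) : X)) = -1)
    (hinv : χ (u * ((l⁻¹ : Subgroup.centralizer ({u} : Set X)) : X)) = -1) : χ l = 3 := by
  set c : ℂˣ := f l with hc
  have hn : (c : ℂ) ≠ 0 := c.ne_zero
  have e1 : χ l = 2 * (c : ℂ) + 1 := by
    have := hf l
    rw [h1] at this
    linear_combination this
  have e2 : χ ((l * l : Subgroup.centralizer ({u} : Set X)) : X) = 2 * (c : ℂ) ^ 2 + 1 := by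
    have := hf (l * l)
    rw [h2, map_mul, ← hc] at this
    push_cast at this
    push_cast
    linear_combination this
  have e3 : χ ((l⁻¹ : Subgroup.centralizer ({u} : Set X)) : X) = 2 * (c : ℂ)⁻¹ + 1 := by
    have := hf l⁻¹
    rw [hinv, map_inv, ← hc] at this
    push_cast at this
    push_cast
    linear_combination this
  have hNewton := newton_three hperf hχ h3 (l : X)
  push_cast at e2 e3
  rw [e2, e1, e3] at hNewton
  have hpoly : ((c : ℂ) + 2) * ((c : ℂ) ^ 2 - 1) = 0 := by
    field_simp at hNewton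
    linear_combination (-1 / 2 : ℂ) * hNewton
  -- the order of `c`
  have hord : (c : ℂ) ^ orderOf l = 1 := by
    have h4 : c ^ orderOf l = 1 := by
      rw [hc, ← map_pow, pow_orderOf_eq_one, map_one]
    have := congrArg (Units.val) h4
    simpa using this
  have hpos : orderOf l ≠ 0 := (orderOf_pos l).ne'
  have hnorm : ‖(c : ℂ)‖ = 1 := Complex.norm_eq_one_of_pow_eq_one hord hpos
  have h5 : (c : ℂ) + 2 ≠ 0 := by
    intro h
    have h6 : (c : ℂ) = -2 := by linear_combination h
    rw [h6] at hnorm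
    norm_num at hnorm
  have h6 : (c : ℂ) ^ 2 = 1 := by
    have := (mul_eq_zero.mp hpoly).resolve_left h5
    linear_combination this
  have h7 : (c : ℂ) = 1 := by
    have h8 : ((c : ℂ) - 1) * ((c : ℂ) + 1) = 0 := by linear_combination h6
    rcases mul_eq_zero.mp h8 with h | h
    · linear_combination h
    · exfalso
      have h9 : (c : ℂ) = -1 := by linear_combination h
      rw [h9, hodd.neg_one_pow] at hord
      norm_num at hord
  rw [e1, h7]
  norm_num

end Linear

section Core

variable {X : Type v} [Group X] [Finite X]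

/-- Each involution has a conjugate in a given Sylow 2-subgroup. -/
theorem exists_conj_mem_sylow (T : Sylow 2 X) {a : X} (ha : a * a = 1) :
    ∃ g : X, g * a * g⁻¹ ∈ (T : Subgroup X) := by
  classical
  haveI : Fact (Nat.Prime 2) := ⟨Nat.prime_two⟩
  have hzp : IsPGroup 2 (Subgroup.zpowers a) := by
    have h4 : orderOf a ∣ 2 ^ 1 := orderOf_dvd_of_pow_eq_one (by rw [pow_one, sq]; exact ha)
    obtain ⟨b, -, hb⟩ := (Nat.dvd_prime_pow Nat.prime_two).mp h4
    exact IsPGroup.of_card (n := b) (by rw [Nat.card_zpowers, hb])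
  obtain ⟨S, hS⟩ := hzp.exists_le_sylow
  obtain ⟨g, hg⟩ := MulAction.exists_smul_eq X S T
  refine ⟨g, ?_⟩
  rw [← hg]
  have haS : a ∈ (S : Subgroup X) := hS (Subgroup.mem_zpowers a)
  have : MulAut.conj g • a ∈ MulAut.conj g • (S : Subgroup X) :=
    Subgroup.smul_mem_pointwise_smul a _ _ haS
  exact this

/-- **Core.**  With trivial odd core the centralizer of `u` is a Klein four Sylow subgroup. -/
theorem centralizer_eq_sylow {u : X} (h : Hyp u) (hu2 : u * u = 1) (hu1 : u ≠ 1)
    (hcore : oddCore X = ⊥) :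
    ∃ T : Sylow 2 X, Subgroup.centralizer ({u} : Set X) = (T : Subgroup X) ∧ u ∈ (T : Subgroup X) ∧
      Nat.card (T : Subgroup X) = 4 ∧ ∀ a ∈ (T : Subgroup X), a ≠ 1 → IsConj u a := by
  classical
  haveI : Fact (Nat.Prime 2) := ⟨Nat.prime_two⟩
  have hperf := h.perfect hu1
  obtain ⟨s, hs, hcs⟩ := card_centralizer_eq h hu1
  set C := Subgroup.centralizer ({u} : Set X) with hC
  have hCpos : 0 < Nat.card C := Nat.card_pos
  obtain ⟨m, hm, hCm⟩ : ∃ m : ℕ, Odd m ∧ Nat.card C = 4 * m := by
    refine ⟨(-s).toNat, ?_, ?_⟩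
    · have h1 : (0 : ℤ) < -s := by
        have : (0 : ℤ) < Nat.card C := by exact_mod_cast hCpos
        rw [hcs] at this
        linarith
      have h2 : (((-s).toNat : ℕ) : ℤ) = -s := Int.toNat_of_nonneg h1.le
      have h3 : Odd (((-s).toNat : ℕ) : ℤ) := by rw [h2]; exact hs.neg
      exact_mod_cast h3
    · have h1 : (0 : ℤ) < -s := by
        have : (0 : ℤ) < Nat.card C := by exact_mod_cast hCpos
        rw [hcs] at this
        linarith
      have h2 : (((-s).toNat : ℕ) : ℤ) = -s := Int.toNat_of_nonneg h1.le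
      have : ((Nat.card C : ℕ) : ℤ) = ((4 * (-s).toNat : ℕ) : ℤ) := by
        push_cast
        rw [h2, hcs]
        ring
      exact_mod_cast this
  obtain ⟨T, huT, hT4, hTconj⟩ := klein_sylow hperf hu2 hu1 hm hCm
  have hTe : ∀ a ∈ (T : Subgroup X), a * a = 1 := by
    intro a ha
    by_cases h1 : a = 1
    · rw [h1, one_mul]
    · obtain ⟨c, hc⟩ := isConj_iff.mp (hTconj a ha h1)
      rw [← hc]
      calc c * u * c⁻¹ * (c * u * c⁻¹) = c * (u * u) * c⁻¹ := by group
        _ = 1 := by rw [hu2]; group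
  have hTcomm : ∀ a ∈ (T : Subgroup X), ∀ b ∈ (T : Subgroup X), a * b = b * a := by
    intro a ha b hb
    have h1 := hTe _ ((T : Subgroup X).mul_mem ha hb)
    have h2 := hTe a ha
    have h3 := hTe b hb
    calc a * b = a * (a * b * (a * b)) * b := by rw [h1, mul_one]
      _ = (a * a) * b * a * (b * b) := by group
      _ = b * a := by rw [h2, h3]; group
  have hTC : (T : Subgroup X) ≤ C := by
    intro a ha
    rw [hC, Subgroup.mem_centralizer_singleton_iff]
    exact hTcomm a ha u huT
  have hallinv : ∀ a : X, a * a = 1 → a ≠ 1 → IsConj u a := by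
    intro a ha ha1
    obtain ⟨g, hg⟩ := exists_conj_mem_sylow T ha
    have h1 : g * a * g⁻¹ ≠ 1 := by
      intro h2
      apply ha1
      have : a = g⁻¹ * (g * a * g⁻¹) * g := by group
      rw [this, h2]
      group
    have h2 := hTconj _ hg h1
    exact h2.trans (isConj_iff.mpr ⟨g⁻¹, by group⟩)
  obtain ⟨M, hM⟩ := Cfsg.Agent.Lib.BlockVal.exists_isPModular Nat.prime_two
  obtain ⟨χ, hχB, h3, hv⟩ := exists_deg_three_block h hu2 hu1 hM
  have hχc := IsIrrCharacter.isCharacter χ.2
  -- faithfulness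
  have hfaith : ∀ g : X, (χ : X → ℂ) g = 3 → g = 1 := by
    intro g hg
    by_contra hg1
    let K := charKer hχc
    have hgK : g ∈ K := by rw [mem_charKer, hg, h3]
    by_cases h2K : 2 ∣ Nat.card K
    · obtain ⟨x, hx⟩ := exists_prime_orderOf_dvd_card' (G := K) 2 h2K
      have hxx : (x : X) * x = 1 := by
        have := pow_orderOf_eq_one x
        rw [hx, sq] at this
        exact congrArg Subtype.val this
      have hx1 : (x : X) ≠ 1 := by
        intro h4
        have h5 : x = 1 := Subtype.ext h4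
        rw [h5, orderOf_one] at hx
        norm_num at hx
      obtain ⟨c, hc⟩ := isConj_iff.mp (hallinv _ hxx hx1)
      have huK : u ∈ K := by
        have h6 : c⁻¹ * (x : X) * c⁻¹⁻¹ ∈ K := (charKer_normal hχc).conj_mem _ x.2 _
        have h7 : c⁻¹ * (x : X) * c⁻¹⁻¹ = u := by rw [← hc]; group
        rwa [h7] at h6
      rw [mem_charKer, hv, h3] at huK
      norm_num at huK
    · have hcop : (Nat.card K).Coprime 2 := by
        rw [Nat.coprime_comm]
        exact (Nat.Prime.coprime_iff_not_dvd Nat.prime_two).mpr h2K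
      have hle : K ≤ oddCore X := Cfsg.Agent.Lib.PCore.le_pPrimeCore (charKer_normal hχc) hcop
      rw [hcore] at hle
      exact hg1 (by simpa using hle hgK)
  -- the normal complement
  let P : Sylow 2 C := T.subtype hTC
  let ũ : C := ⟨u, by rw [hC, Subgroup.mem_centralizer_singleton_iff]⟩
  have hPmem : ∀ x : C, x ∈ (P : Subgroup C) ↔ (x : X) ∈ (T : Subgroup X) := by
    intro x
    rw [Sylow.coe_subtype, Subgroup.mem_subgroupOf]
  have hP4 : Nat.card (P : Subgroup C) = 4 := by
    rw [← hT4, Sylow.coe_subtype]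
    exact Nat.card_congr (Subgroup.subgroupOfEquivOfLe hTC).toEquiv
  have hNC := normalizer_le_centralizer_of_central P hP4
    (fun x hx => Subtype.ext (hTe _ ((hPmem x).mp hx))) (u := ũ) ((hPmem ũ).mpr huT)
    (fun h4 => hu1 (congrArg Subtype.val h4))
    (fun g => by
      apply Subtype.ext
      have hg : (g : X) * u = u * g := Subgroup.mem_centralizer_singleton_iff.mp g.2
      exact hg)
  let K := (MonoidHom.transferSylow P hNC).ker
  have hKc := MonoidHom.ker_transferSylow_isComplement' P hNC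
  have hKn : ¬ 2 ∣ Nat.card K := MonoidHom.not_dvd_card_ker_transferSylow P hNC
  have hKnormal : K.Normal := MonoidHom.normal_ker _
  have hKcop : (Nat.card K).Coprime 2 := by
    rw [Nat.coprime_comm]
    exact (Nat.Prime.coprime_iff_not_dvd Nat.prime_two).mpr hKn
  have hKcore : K ≤ pPrimeCore 2 C := Cfsg.Agent.Lib.PCore.le_pPrimeCore hKnormal hKcop
  have hS0942 : ∀ k ∈ K, (χ : X → ℂ) (u * (k : X)) = -1 := by
    intro k hk
    have := Cfsg.Agent.S0942.result 2 M hM u ⟨1, by
      rw [pow_one]; exact orderOf_eq_prime (by rw [sq]; exact hu2) hu1⟩ (k : X)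
      ⟨k, hKcore hk, rfl⟩ χ hχB
    rw [this, hv]
  obtain ⟨f, hf⟩ := exists_linear_part hχc h3 hu2 hv
  have hKbot : K = ⊥ := by
    rw [eq_bot_iff]
    intro k hk
    have hodd : Odd (orderOf k) := by
      have h1 : orderOf k ∣ Nat.card K := by
        have := orderOf_dvd_natCard (⟨k, hk⟩ : K)
        simpa using this
      have h2 : ¬ 2 ∣ orderOf k := fun h5 => hKn (h5.trans h1)
      exact Nat.not_even_iff_odd.mp (fun h5 => h2 h5.two_dvd)
    have := value_eq_three hperf hχc h3 f hf k hodd (hS0942 k hk) (hS0942 _ (K.mul_mem hk hk))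
      (hS0942 _ (K.inv_mem hk))
    have h5 := hfaith _ this
    rw [Subgroup.mem_bot]
    exact Subtype.ext h5
  have hC4 : Nat.card C = 4 := by
    have h1 : Nat.card K * Nat.card (P : Subgroup C) = Nat.card C := hKc.card_mul_card
    rw [hKbot, hP4] at h1
    simpa using h1.symm
  have hCT : C = (T : Subgroup X) :=
    (Subgroup.eq_of_le_of_card_ge hTC (by rw [hC4, hT4])).symm
  exact ⟨T, hCT, huT, hT4, hTconj⟩

/-- All involutions are conjugate when the centralizer of `u` is a Klein four Sylow subgroup. -/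
theorem isConj_of_invol {u : X} {T : Sylow 2 X}
    (hTconj : ∀ a ∈ (T : Subgroup X), a ≠ 1 → IsConj u a) {a : X} (ha : a * a = 1) (ha1 : a ≠ 1) :
    IsConj u a := by
  obtain ⟨g, hg⟩ := exists_conj_mem_sylow T ha
  have h1 : g * a * g⁻¹ ≠ 1 := by
    intro h2
    apply ha1
    have : a = g⁻¹ * (g * a * g⁻¹) * g := by group
    rw [this, h2]
    group
  have h2 := hTconj _ hg h1
  exact h2.trans (isConj_iff.mpr ⟨g⁻¹, by group⟩)

/-- **The group with trivial odd core is `A₅`.** -/
theorem iso_A5_of_core {u : X} (h : Hyp u) (hu2 : u * u = 1) (hu1 : u ≠ 1)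
    (hcore : oddCore X = ⊥) : Nonempty (X ≃* alternatingGroup (Fin 5)) := by
  classical
  haveI : Fact (Nat.Prime 2) := ⟨Nat.prime_two⟩
  have hperf := h.perfect hu1
  obtain ⟨T, hCT, huT, hT4, hTconj⟩ := centralizer_eq_sylow h hu2 hu1 hcore
  have hou : orderOf u = 2 := orderOf_eq_prime (by rw [sq]; exact hu2) hu1
  have hTe : ∀ a ∈ (T : Subgroup X), a * a = 1 := by
    intro a ha
    by_cases h1 : a = 1
    · rw [h1, one_mul]
    · obtain ⟨c, hc⟩ := isConj_iff.mp (hTconj a ha h1)
      rw [← hc]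
      calc c * u * c⁻¹ * (c * u * c⁻¹) = c * (u * u) * c⁻¹ := by group
        _ = 1 := by rw [hu2]; group
  have hnt : ¬ (Subgroup.centralizer ({u} : Set X) = ⊤) := by
    intro htop
    have h1 : Nat.card X = 4 := by
      rw [← hT4, ← hCT, htop]
      simp
    have hcomm : ∀ a b : X, a * b = b * a := by
      intro a b
      have ha : a ∈ (T : Subgroup X) := by rw [← hCT, htop]; trivial
      have hb : b ∈ (T : Subgroup X) := by rw [← hCT, htop]; trivial
      have h2 := hTe _ ((T : Subgroup X).mul_mem ha hb)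
      have h3 := hTe a ha
      have h4 := hTe b hb
      calc a * b = a * (a * b * (a * b)) * b := by rw [h2, mul_one]
        _ = (a * a) * b * a * (b * b) := by group
        _ = b * a := by rw [h3, h4]; group
    have hbot : commutator X = ⊥ := by
      rw [commutator_def, Subgroup.commutator_eq_bot_iff_le_centralizer]
      intro a _
      rw [Subgroup.mem_centralizer_iff]
      intro b _
      exact hcomm b a
    rw [hbot] at hperf
    have : u ∈ (⊥ : Subgroup X) := by rw [hperf]; trivial
    exact hu1 (by simpa using this)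
  refine Cfsg.Agent.S3277.result u hou ?_ ?_ ?_ ?_
  · rw [hCT, hT4]
  · intro c hc
    rw [hCT] at hc
    rw [sq]
    exact hTe c hc
  · -- no normal complement
    rintro ⟨P, N, hN, hc⟩
    haveI := hN
    have hcard : Nat.card N * Nat.card (P : Subgroup X) = Nat.card X := hc.card_mul_card
    have hP4 : Nat.card (P : Subgroup X) = 4 := by
      rw [← hT4]
      exact Nat.card_congr (P.equiv T).toEquiv
    have hQ : Nat.card (X ⧸ N) = 4 := by
      have h1 := Subgroup.card_eq_card_quotient_mul_card_subgroup N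
      have hpos : 0 < Nat.card N := Nat.card_pos
      rw [← hcard, hP4, mul_comm] at h1
      exact (Nat.eq_of_mul_eq_mul_right hpos h1).symm
    have hPg : IsPGroup 2 (X ⧸ N) := IsPGroup.of_card (n := 2) (by rw [hQ]; norm_num)
    haveI : Group.IsNilpotent (X ⧸ N) := hPg.isNilpotent
    have htop : N = ⊤ := by
      rw [eq_top_iff]
      intro g _
      have := Cfsg.Agent.Lib.BenderPair.hom_trivial_of_perfect hperf (QuotientGroup.mk' N) g
      exact (QuotientGroup.eq_one_iff g).mp this
    rw [htop] at hcard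
    have h2 : Nat.card (⊤ : Subgroup X) = Nat.card X := by simp
    rw [h2, hP4] at hcard
    have hXpos : 0 < Nat.card X := Nat.card_pos
    omega
  · intro E hE hEl
    haveI := hE
    have key : ∀ n : ℕ, 2 ≤ n → n ≤ 4 → Nat.card E ≠ n := by
      intro n hn2 hn4 hcE
      let f : X →* Equiv.Perm E := (MulAut.toPerm E).comp (MulAut.conjNormal (H := E))
      haveI : Group.IsSolvable (Equiv.Perm E) :=
        Cfsg.Agent.S4337.perm_solvable (by rw [hcE]; exact hn4)
      have hf : ∀ g : X, ∀ a : E, g * (a : X) * g⁻¹ = a := by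
        intro g a
        have h1 := Cfsg.Agent.Lib.BenderPair.hom_trivial_of_perfect hperf f g
        have h2 : f g a = a := by rw [h1]; rfl
        have h3 := congrArg Subtype.val h2
        exact h3
      haveI : Nontrivial E := Finite.one_lt_card_iff_nontrivial.mp (by omega)
      obtain ⟨a, ha⟩ := exists_ne (1 : E)
      have ha2 : (a : X) * a = 1 := by
        have := hEl.2 a a.2
        rwa [sq] at this
      have ha1 : (a : X) ≠ 1 := fun h5 => ha (Subtype.ext h5)
      obtain ⟨c, hc⟩ := isConj_iff.mp (isConj_of_invol hTconj ha2 ha1)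
      have huE : u ∈ E := by
        have h6 : c⁻¹ * (a : X) * c⁻¹⁻¹ ∈ E := hE.conj_mem _ a.2 _
        have h7 : c⁻¹ * (a : X) * c⁻¹⁻¹ = u := by rw [← hc]; group
        rwa [h7] at h6
      apply hnt
      rw [eq_top_iff]
      intro g _
      rw [Subgroup.mem_centralizer_singleton_iff]
      have h8 := hf g ⟨u, huE⟩
      have h9 : g * u * g⁻¹ = u := h8
      calc g * u = g * u * g⁻¹ * g := by group
        _ = u * g := by rw [h9]
    exact ⟨key 2 le_rfl (by norm_num), key 4 (by norm_num) le_rfl⟩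

/-- All Sylow 2-subgroups have exponent two. -/
theorem sylow_exp_two {T : Sylow 2 X} (hTe : ∀ a ∈ (T : Subgroup X), a * a = 1) (S : Sylow 2 X) :
    ∀ a ∈ (S : Subgroup X), a * a = 1 := by
  classical
  haveI : Fact (Nat.Prime 2) := ⟨Nat.prime_two⟩
  intro a ha
  obtain ⟨g, hg⟩ := MulAction.exists_smul_eq X S T
  have h1 : MulAut.conj g • a ∈ MulAut.conj g • (S : Subgroup X) :=
    Subgroup.smul_mem_pointwise_smul a _ _ ha
  have h2 : g * a * g⁻¹ ∈ (T : Subgroup X) := by
    rw [← hg]
    exact h1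
  have h3 := hTe _ h2
  have h4 : a * a = g⁻¹ * (g * a * g⁻¹ * (g * a * g⁻¹)) * g := by group
  rw [h4, h3]
  group

end Core

section Chain

variable {G : Type v} [Group G] [Finite G]

/-- **The chain**: `G` has a quotient `X ≅ A₅` in which `u` maps to an involution with centralizer
a Klein four Sylow subgroup. -/
theorem exists_A5_quotient {u : G} (h : Hyp u) (hu : u ≠ 1) :
    ∃ (X : Type v) (_ : Group X) (_ : Finite X) (π : G →* X), Function.Surjective π ∧
      Nonempty (X ≃* alternatingGroup (Fin 5)) ∧ π u ≠ 1 ∧ π u * π u = 1 ∧ u * u ∈ π.ker ∧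
      ∃ T : Sylow 2 X, Subgroup.centralizer ({π u} : Set X) = (T : Subgroup X) ∧
        π u ∈ (T : Subgroup X) ∧ Nat.card (T : Subgroup X) = 4 ∧
        ∀ a ∈ (T : Subgroup X), a ≠ 1 → IsConj (π u) a := by
  classical
  have hperf := h.perfect hu
  obtain ⟨χ, -, h3, hv⟩ := exists_deg_three h hu Finset.univ (Finset.mem_univ _) (sum_dg_tv h hu)
  have hχc := IsIrrCharacter.isCharacter χ.2
  have hsq := sq_val hperf h3 hv
  let N₁ := charKer hχc
  haveI : N₁.Normal := charKer_normal hχc
  let X₁ := G ⧸ N₁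
  let π₁ : G →* X₁ := QuotientGroup.mk' N₁
  have hπ₁ : Function.Surjective π₁ := QuotientGroup.mk'_surjective N₁
  have hu₁ : π₁ u ≠ 1 := by
    intro h1
    have h2 : u ∈ N₁ := (QuotientGroup.eq_one_iff u).mp h1
    rw [mem_charKer, hv, h3] at h2
    norm_num at h2
  have hu₁2 : π₁ u * π₁ u = 1 := by
    rw [← map_mul]
    refine (QuotientGroup.eq_one_iff _).mpr ?_
    rw [mem_charKer, hsq, h3]
  let O₁ := oddCore X₁
  have hO₁ : O₁.Normal := by
    show (pPrimeCore 2 X₁).Normal
    exact pPrimeCore_normal 2 X₁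
  haveI := hO₁
  let X₂ := X₁ ⧸ O₁
  let π₂ : X₁ →* X₂ := QuotientGroup.mk' O₁
  have hπ₂ : Function.Surjective π₂ := QuotientGroup.mk'_surjective O₁
  let π : G →* X₂ := π₂.comp π₁
  have hπ : Function.Surjective π := hπ₂.comp hπ₁
  have hnO : π₁ u ∉ O₁ := by
    intro hmem
    have h1 : orderOf (π₁ u) = 2 := orderOf_eq_prime (by rw [sq]; exact hu₁2) hu₁
    have h2 : orderOf (⟨π₁ u, hmem⟩ : O₁) ∣ Nat.card O₁ := orderOf_dvd_natCard _
    have h3' : orderOf (⟨π₁ u, hmem⟩ : O₁) = orderOf (π₁ u) := Subgroup.orderOf_mk _ _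
    rw [h3', h1] at h2
    have h4 := Cfsg.Agent.Lib.PCore.card_pPrimeCore_coprime (G := X₁) 2
    have h5 : (2 : ℕ) ∣ Nat.card (pPrimeCore 2 X₁) := h2
    have h6 := Nat.Coprime.eq_one_of_dvd (Nat.Coprime.symm h4) h5
    norm_num at h6
  have hu₂ : π u ≠ 1 := by
    intro h1
    exact hnO ((QuotientGroup.eq_one_iff _).mp h1)
  have hu₂2 : π u * π u = 1 := by
    show π₂ (π₁ u) * π₂ (π₁ u) = 1
    rw [← map_mul, hu₁2, map_one]
  have hcore : oddCore X₂ = ⊥ := Cfsg.Agent.Lib.PCore.pPrimeCore_quotient_pPrimeCore 2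
  have hH : Hyp (π u) := h.of_surj π hπ
  refine ⟨X₂, inferInstance, inferInstance, π, hπ, iso_A5_of_core hH hu₂2 hu₂ hcore, hu₂, hu₂2, ?_,
    centralizer_eq_sylow hH hu₂2 hu₂ hcore⟩
  rw [MonoidHom.mem_ker, map_mul]
  exact hu₂2

end Chain

end Cfsg.Agent.Lib.UFour9C
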