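import Mathlib
import Cfsg.Agent.Lib.UFour9C
import Cfsg.Agent.Lib.CharClifford
import Cfsg.Agent.Lib.Clifford
import Cfsg.Agent.Lib.CharNormal
import Cfsg.Agent.Lib.CITCount

/-!
# Excluding degree-three characters not trivial on the kernel

Transfer excludes a scalar action, Gallagher's product argument excludes an irreducible restriction.
-/

set_option autoImplicit false
set_option linter.unusedSectionVars false
set_option linter.style.haveILetI false

namespace Cfsg.Agent.Lib.UFour9D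

open Cfsg Cfsg.Agent.Lib.CharBasic Cfsg.Agent.Lib.UFour9
open Cfsg.Agent.Lib.CharKernel Cfsg.Agent.Lib.CharInduction
open Cfsg.Agent.S4757 (chi0 no_linear)
open scoped ComplexConjugate

section Transfer

variable {Y : Type*} [Group Y] [Finite Y]

/-- A central subgroup of exponent three and index sixty in a perfect group is trivial. -/
theorem central_cube_trivial (hperf : commutator Y = ⊤) (Z : Subgroup Y)
    (hZc : Z ≤ Subgroup.center Y) (hidx : Z.index = 60) (h3 : ∀ z ∈ Z, z ^ 3 = 1) : Z = ⊥ := by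
  classical
  haveI : Fact (Nat.Prime 3) := ⟨Nat.prime_three⟩
  have hZp : IsPGroup 3 Z := fun z => ⟨1, by
    apply Subtype.ext
    simpa using h3 z z.2⟩
  obtain ⟨P, hZP⟩ := hZp.exists_le_sylow
  obtain ⟨a, ha⟩ := IsPGroup.iff_card.mp hZp
  obtain ⟨k, hk⟩ := IsPGroup.iff_card.mp P.isPGroup'
  have hY : Nat.card Y = 3 ^ (a + 1) * 20 := by
    rw [← Z.card_mul_index, ha, hidx, pow_succ]
    ring
  have hYP : Nat.card Y = 3 ^ k * (P : Subgroup Y).index := by
    rw [← (P : Subgroup Y).card_mul_index, hk]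
  have hnd : ¬ 3 ∣ (P : Subgroup Y).index := P.not_dvd_index
  have hc20 : Nat.Coprime 3 20 := by norm_num
  have hci : Nat.Coprime 3 (P : Subgroup Y).index :=
    (Nat.Prime.coprime_iff_not_dvd Nat.prime_three).mpr hnd
  have hka : k = a + 1 := by
    apply le_antisymm
    · have h1 : 3 ^ k ∣ 3 ^ (a + 1) * 20 := by
        rw [← hY, hYP]
        exact dvd_mul_right _ _
      have h2 := (Nat.Coprime.pow_left k hc20).dvd_of_dvd_mul_right h1
      exact (Nat.pow_dvd_pow_iff_le_right (by norm_num)).mp h2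
    · have h1 : 3 ^ (a + 1) ∣ 3 ^ k * (P : Subgroup Y).index := by
        rw [← hYP, hY]
        exact dvd_mul_right _ _
      have h2 := (Nat.Coprime.pow_left (a + 1) hci).dvd_of_dvd_mul_right h1
      exact (Nat.pow_dvd_pow_iff_le_right (by norm_num)).mp h2
  have hPidx : (P : Subgroup Y).index = 20 := by
    have h1 : 3 ^ (a + 1) * (P : Subgroup Y).index = 3 ^ (a + 1) * 20 := by
      rw [← hY, hYP, hka]
    exact Nat.eq_of_mul_eq_mul_left (by positivity) h1
  -- the Sylow subgroup is abelian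
  let Z' : Subgroup (P : Subgroup Y) := Z.subgroupOf (P : Subgroup Y)
  have hZ'c : Nat.card Z' = 3 ^ a := by
    rw [← ha]
    exact Nat.card_congr (Subgroup.subgroupOfEquivOfLe hZP).toEquiv
  have hZ'n : Z'.Normal := by
    refine ⟨fun n hn g => ?_⟩
    have hn' : (n : Y) ∈ Z := hn
    have hcen := hZc hn'
    have : g * n * g⁻¹ = n := by
      apply Subtype.ext
      show (g : Y) * n * (g : Y)⁻¹ = n
      have := (Subgroup.mem_center_iff.mp hcen) (g : Y)
      rw [this]
      group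
    rw [this]
    exact hn
  haveI := hZ'n
  have hQ : Nat.card ((P : Subgroup Y) ⧸ Z') = 3 := by
    have h1 := Subgroup.card_eq_card_quotient_mul_card_subgroup Z'
    rw [hk, hZ'c, hka, pow_succ, mul_comm] at h1
    exact (Nat.eq_of_mul_eq_mul_right (by positivity) h1).symm
  haveI : Fact (Nat.card ((P : Subgroup Y) ⧸ Z')).Prime := ⟨by rw [hQ]; exact Nat.prime_three⟩
  haveI : IsCyclic ((P : Subgroup Y) ⧸ Z') := isCyclic_of_prime_card rfl
  have hmc := MonoidHom.isMulCommutative_of_isCyclic_of_ker_le_center (QuotientGroup.mk' Z') (by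
      intro x hx
      have h1 : x ∈ Z' := by simpa using hx
      have h2 : (x : Y) ∈ Z := h1
      have h3 := hZc h2
      rw [Subgroup.mem_center_iff]
      intro g
      apply Subtype.ext
      exact (Subgroup.mem_center_iff.mp h3) g)
  have hcomm : ∀ x y : (P : Subgroup Y), x * y = y * x := fun x y => hmc.is_comm.comm x y
  letI : CommGroup (P : Subgroup Y) := { (inferInstance : Group (P : Subgroup Y)) with
    mul_comm := hcomm }
  let f : Y →* (P : Subgroup Y) := MonoidHom.transfer (MonoidHom.id (P : Subgroup Y))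
  rw [eq_bot_iff]
  intro z hz
  have hzcen := hZc hz
  have h1 := Cfsg.Agent.Lib.ZPerfD.hom_trivial hperf f z
  have hkey : ∀ (k : ℕ) (g₀ : Y), g₀⁻¹ * z ^ k * g₀ ∈ (P : Subgroup Y) →
      g₀⁻¹ * z ^ k * g₀ = z ^ k := by
    intro k g₀ _
    have h2 : z ^ k * g₀ = g₀ * z ^ k :=
      (Commute.pow_left (show Commute z g₀ from (Subgroup.mem_center_iff.mp hzcen g₀).symm) k).eq
    rw [mul_assoc, h2]
    group
  have h2 := MonoidHom.transfer_eq_pow (MonoidHom.id (P : Subgroup Y)) z hkey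
  have h4 : z ^ (P : Subgroup Y).index = 1 := by
    have h5 : f z = _ := h2
    rw [h1] at h5
    have h6 := congrArg Subtype.val h5
    simpa using h6.symm
  rw [hPidx] at h4
  have h5 := h3 z hz
  rw [Subgroup.mem_bot]
  have h6 : z ^ 20 = z * (z ^ 3) ^ 6 * z := by group
  rw [h6, h5] at h4
  have h7 : z * z = 1 := by simpa using h4
  have h8 : z ^ 3 = z * z * z := by rw [pow_succ, sq]
  rw [h8, h7, one_mul] at h5
  exact h5

end Transfer

section Scalar

variable {G : Type*} [Group G] [Finite G]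

theorem perfect_of_surj {H K : Type*} [Group H] [Group K] (f : H →* K)
    (hf : Function.Surjective f) (h : commutator H = ⊤) : commutator K = ⊤ := by
  have h1 := Subgroup.map_commutator (⊤ : Subgroup H) (⊤ : Subgroup H) f
  rw [commutator_def] at h ⊢
  rw [h, Subgroup.map_top_of_surjective f hf] at h1
  exact h1.symm

/-- A normal subgroup of index sixty in a perfect group acting by scalars acts trivially. -/
theorem no_scalar (hperf : commutator G = ⊤) (N : Subgroup G) [hN : N.Normal] (hidx : N.index = 60)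
    {ψ : G → ℂ} (hψ : IsCharacter G ψ) (h3 : ψ 1 = 3) (f : N →* ℂˣ)
    (hf : ∀ n : N, ψ n = 3 * ((f n : ℂˣ) : ℂ)) : ∀ n ∈ N, ψ n = 3 := by
  classical
  let K₀ : Subgroup G := N ⊓ charKer hψ
  haveI hK₀n : K₀.Normal := by
    haveI := charKer_normal hψ
    exact Subgroup.normal_inf_normal _ _
  have hK₀N : K₀ ≤ N := inf_le_left
  have hmem : ∀ n : N, f n = 1 → (n : G) ∈ K₀ := by
    intro n hn
    refine ⟨n.2, ?_⟩
    show (n : G) ∈ charKer hψ
    rw [mem_charKer, hf, hn, h3]
    simp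
  have hmem' : ∀ n ∈ K₀, ψ n = 3 := by
    intro n hn
    have : n ∈ charKer hψ := hn.2
    rw [mem_charKer, h3] at this
    exact this
  have hcube : ∀ n : N, f n ^ 3 = 1 := by
    intro n
    have hN' := newton_three hperf hψ h3 (n : G)
    have e1 := hf n
    have e2 := hf (n * n)
    have e3 := hf n⁻¹
    rw [map_mul] at e2
    rw [map_inv] at e3
    push_cast at e2 e3
    rw [e1, e2, e3] at hN'
    have hc : ((f n : ℂˣ) : ℂ) ≠ 0 := (f n).ne_zero
    have hi : ((f n : ℂˣ) : ℂ) * ((f n : ℂˣ) : ℂ)⁻¹ = 1 := mul_inv_cancel₀ hc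
    have h5 : ((f n : ℂˣ) : ℂ) ^ 3 = 1 := by
      linear_combination (-1 / 6 : ℂ) * ((f n : ℂˣ) : ℂ) * hN' + hi
    apply Units.ext
    simpa using h5
  let π : G →* G ⧸ K₀ := QuotientGroup.mk' K₀
  have hπ : Function.Surjective π := QuotientGroup.mk'_surjective K₀
  have hperfY : commutator (G ⧸ K₀) = ⊤ := perfect_of_surj π hπ hperf
  let Z : Subgroup (G ⧸ K₀) := N.map π
  have hZc : Z ≤ Subgroup.center (G ⧸ K₀) := by
    rintro _ ⟨n, hn, rfl⟩
    rw [Subgroup.mem_center_iff]
    intro y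
    obtain ⟨g, rfl⟩ := hπ y
    let n₁ : N := ⟨g * n * g⁻¹, hN.conj_mem n hn g⟩
    have h1 : ψ n₁ = ψ n := isClassFunction_of_isCharacter hψ _ _
    have h2 : f n₁ = f ⟨n, hn⟩ := by
      have e1 := hf n₁
      have e2 := hf ⟨n, hn⟩
      apply Units.ext
      have e3 : (3 : ℂ) * ((f n₁ : ℂˣ) : ℂ) = 3 * ((f ⟨n, hn⟩ : ℂˣ) : ℂ) := by
        rw [← e1, ← e2]
        exact h1
      exact mul_left_cancel₀ (by norm_num) e3
    have h3' : f (n₁ * (⟨n, hn⟩ : N)⁻¹) = 1 := by
      rw [map_mul, map_inv, h2, mul_inv_cancel]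
    have h4 := hmem _ h3'
    have h5 : π (g * n * g⁻¹ * n⁻¹) = 1 := (QuotientGroup.eq_one_iff _).mpr h4
    rw [map_mul, map_mul, map_mul, map_inv, map_inv] at h5
    calc π g * π n = (π g * π n * (π g)⁻¹ * (π n)⁻¹) * (π n * π g) := by group
      _ = π n * π g := by rw [h5, one_mul]
  have hidx' : Z.index = 60 := by
    rw [Subgroup.index_map, QuotientGroup.ker_mk', sup_eq_left.mpr hK₀N, hidx,
      MonoidHom.range_eq_top.mpr hπ, Subgroup.index_top, mul_one]
  have hZ3 : ∀ z ∈ Z, z ^ 3 = 1 := by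
    rintro _ ⟨n, hn, rfl⟩
    rw [← map_pow]
    refine (QuotientGroup.eq_one_iff _).mpr ?_
    have h1 : f ((⟨n, hn⟩ : N) ^ 3) = 1 := by rw [map_pow, hcube]
    have h2 := hmem _ h1
    simpa using h2
  have hZbot := central_cube_trivial hperfY Z hZc hidx' hZ3
  intro n hn
  have h1 : π n ∈ Z := ⟨n, hn, rfl⟩
  rw [hZbot, Subgroup.mem_bot] at h1
  exact hmem' n ((QuotientGroup.eq_one_iff _).mp h1)

end Scalar

section Gallagher

variable {G : Type*} [Group G] [Finite G]

/-- Gallagher's product argument. -/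
theorem no_irr_restrict {u : G} (h : Hyp u) (N : Subgroup G) [hN : N.Normal] [Fintype G] [Fintype N]
    {ψ β : IrrCharacter G} (hψ3 : (ψ : G → ℂ) 1 = 3) (hψu : (ψ : G → ℂ) u = -1)
    (hβ3 : (β : G → ℂ) 1 = 3) (hβu : (β : G → ℂ) u = -1)
    (hβN : ∀ n ∈ N, (β : G → ℂ) n = (β : G → ℂ) 1)
    (hres : ∑ n : N, (ψ : G → ℂ) n * conj ((ψ : G → ℂ) n) = (Nat.card N : ℂ)) : False := by
  classical
  have hψc := IsIrrCharacter.isCharacter ψ.2
  have hβc := IsIrrCharacter.isCharacter β.2
  set ξ : G → ℂ := (ψ : G → ℂ) * fun g => conj ((ψ : G → ℂ) g) with hξ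
  have hξc : IsCharacter G ξ :=
    isCharacter_mul hψc (Cfsg.Agent.Lib.RealChars.isCharacter_conj hψc)
  have hξv : ∀ g, ξ g = (ψ : G → ℂ) g * conj ((ψ : G → ℂ) g) := fun g => rfl
  obtain ⟨m, hm⟩ := exists_nat_decomp hξc
  have hξval : ∀ g, ξ g = ∑ φ : IrrCharacter G, (m φ : ℂ) * (φ : G → ℂ) g := by
    intro g
    rw [hm]
    simp only [Finset.sum_apply, Pi.smul_apply]
    simp only [nsmul_eq_mul]
  have hNne : (Nat.card N : ℂ) ≠ 0 := natCard_ne_zero'
  have key1 : ∀ g, ∑ n : N, ξ (g * n) = (Nat.card N : ℂ) *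
      ∑ φ : IrrCharacter G, (if ∀ n ∈ N, (φ : G → ℂ) n = (φ : G → ℂ) 1 then
        (m φ : ℂ) * (φ : G → ℂ) g else 0) := by
    intro g
    simp only [hξval]
    rw [Finset.sum_comm, Finset.mul_sum]
    refine Finset.sum_congr rfl fun φ _ => ?_
    rw [← Finset.mul_sum]
    by_cases hφ : ∀ n ∈ N, (φ : G → ℂ) n = (φ : G → ℂ) 1
    · rw [if_pos hφ]
      have : ∀ n : N, (φ : G → ℂ) (g * n) = (φ : G → ℂ) g := fun n =>
        char_mul_of_mem_ker (IsIrrCharacter.isCharacter φ.2) (hφ n n.2)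
      simp only [this, Finset.sum_const, Finset.card_univ, nsmul_eq_mul]
      rw [← Nat.card_eq_fintype_card]
      ring
    · rw [if_neg hφ]
      push Not at hφ
      rw [Cfsg.Agent.Lib.CharNormal.sum_mul_normal_eq_zero φ.2 N hφ g]
      simp
  have key2 : ∑ φ : IrrCharacter G, (if ∀ n ∈ N, (φ : G → ℂ) n = (φ : G → ℂ) 1 then
        (m φ : ℂ) * (φ : G → ℂ) 1 else 0) = 1 := by
    have h1 := key1 1
    have h2 : ∑ n : N, ξ (1 * n) = (Nat.card N : ℂ) := by
      rw [← hres]
      refine Finset.sum_congr rfl fun n _ => ?_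
      rw [one_mul]
      exact hξv _
    rw [h2] at h1
    exact (mul_left_cancel₀ hNne (by rw [mul_one]; exact h1)).symm
  have key3 : m (chi0 G) = 1 := by
    have h1 := classInner_nat_decomp m ((chi0 G : IrrCharacter G) : G → ℂ) (chi0 G).2
    rw [← hm] at h1
    have h2 : classInner ξ ((chi0 G : IrrCharacter G) : G → ℂ) = 1 := by
      have h3 := classInner_irr_self ψ.2
      unfold classInner at h3 ⊢
      rw [← h3]
      congr 1
      refine Finset.sum_congr rfl fun g _ => ?_
      rw [hξv, chi0_val]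
      simp
    rw [h2] at h1
    have h4 : (m (chi0 G) : ℂ) = 1 := h1.symm
    exact_mod_cast h4
  -- the other constituents vanish
  have key4 : ∀ φ : IrrCharacter G, φ ≠ chi0 G → (∀ n ∈ N, (φ : G → ℂ) n = (φ : G → ℂ) 1) →
      m φ = 0 := by
    intro φ hφ hker
    have h1 : ((∑ φ : IrrCharacter G, (if ∀ n ∈ N, (φ : G → ℂ) n = (φ : G → ℂ) 1 then
        (m φ : ℤ) * dg φ else 0) : ℤ) : ℂ) = 1 := by
      rw [← key2]
      push_cast
      refine Finset.sum_congr rfl fun φ _ => ?_
      by_cases h : ∀ n ∈ N, (φ : G → ℂ) n = (φ : G → ℂ) 1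
      · rw [if_pos h, if_pos h, deg_val]
      · rw [if_neg h, if_neg h]
    have h2 : (∑ φ : IrrCharacter G, (if ∀ n ∈ N, (φ : G → ℂ) n = (φ : G → ℂ) 1 then
        (m φ : ℤ) * dg φ else 0) : ℤ) = 1 := by exact_mod_cast h1
    rw [← Finset.add_sum_erase _ _ (Finset.mem_univ (chi0 G))] at h2
    have hc0 : (∀ n ∈ N, ((chi0 G : IrrCharacter G) : G → ℂ) n = ((chi0 G : IrrCharacter G) : G → ℂ) 1) :=
      fun n _ => by rw [chi0_val, chi0_val]
    have hd0 : dg (chi0 G) = 1 := by
      have := deg_val (chi0 G)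
      rw [chi0_val] at this
      exact_mod_cast this.symm
    rw [if_pos hc0, key3, hd0] at h2
    have h3 : ∑ φ ∈ Finset.univ.erase (chi0 G), (if ∀ n ∈ N, (φ : G → ℂ) n = (φ : G → ℂ) 1 then
        (m φ : ℤ) * dg φ else 0) = 0 := by
      push_cast at h2
      linarith
    have hnn : ∀ φ ∈ Finset.univ.erase (chi0 G), 0 ≤ (if ∀ n ∈ N, (φ : G → ℂ) n = (φ : G → ℂ) 1 then
        (m φ : ℤ) * dg φ else 0) := by
      intro φ _
      split_ifs
      · exact mul_nonneg (by positivity) (dg_pos φ).le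
      · exact le_rfl
    have h4 := (Finset.sum_eq_zero_iff_of_nonneg hnn).mp h3 φ
      (Finset.mem_erase.mpr ⟨hφ, Finset.mem_univ _⟩)
    rw [if_pos hker] at h4
    have h5 : (m φ : ℤ) = 0 := (mul_eq_zero.mp h4).resolve_right (dg_pos φ).ne'
    exact_mod_cast h5
  have key5 : ∀ g, ∑ n : N, ξ (g * n) = (Nat.card N : ℂ) := by
    intro g
    rw [key1, Finset.sum_eq_single (chi0 G)]
    · rw [if_pos (fun n _ => by rw [chi0_val, chi0_val]), key3, chi0_val]
      simp
    · intro φ _ hφ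
      by_cases hk : ∀ n ∈ N, (φ : G → ℂ) n = (φ : G → ℂ) 1
      · rw [if_pos hk, key4 φ hφ hk]
        simp
      · rw [if_neg hk]
    · intro hc
      exact absurd (Finset.mem_univ _) hc
  -- the product
  let w : G → ℂ := fun g => (β : G → ℂ) g * conj ((β : G → ℂ) g)
  have hwN : ∀ (g : G) (n : N), w (g * n) = w g := by
    intro g n
    have : (β : G → ℂ) (g * n) = (β : G → ℂ) g := char_mul_of_mem_ker hβc (hβN n n.2)
    simp only [w, this]
  have hwsum : ∑ g : G, w g = (Nat.card G : ℂ) := by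
    have h3 := classInner_irr_self β.2
    unfold classInner at h3
    have h4 : (Nat.card G : ℂ) ≠ 0 := natCard_ne_zero'
    field_simp at h3
    exact h3
  have hmain : ∑ g : G, ξ g * w g = (Nat.card G : ℂ) := by
    have h2 : ∀ n : N, ∑ g : G, ξ (g * n) * w g = ∑ g : G, ξ g * w g := by
      intro n
      calc ∑ g : G, ξ (g * n) * w g = ∑ g : G, ξ (g * n) * w (g * n) :=
            Finset.sum_congr rfl fun g _ => by rw [hwN]
        _ = ∑ g : G, ξ g * w g := Equiv.sum_comp (Equiv.mulRight (n : G)) (fun g => ξ g * w g)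
    have h1 : (Nat.card N : ℂ) * ∑ g : G, ξ g * w g =
        ∑ n : N, ∑ g : G, ξ (g * n) * w g := by
      simp only [h2, Finset.sum_const, Finset.card_univ, nsmul_eq_mul]
      rw [Nat.card_eq_fintype_card]
    have h3 : ∑ n : N, ∑ g : G, ξ (g * n) * w g = ∑ g : G, (∑ n : N, ξ (g * n)) * w g := by
      rw [Finset.sum_comm]
      refine Finset.sum_congr rfl fun g _ => ?_
      rw [Finset.sum_mul]
    have h4 : ∑ g : G, (∑ n : N, ξ (g * n)) * w g = (Nat.card N : ℂ) * (Nat.card G : ℂ) := by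
      simp only [key5]
      rw [← Finset.mul_sum, hwsum]
    rw [h3, h4] at h1
    exact mul_left_cancel₀ hNne h1
  -- the product is irreducible
  let Pr : G → ℂ := (ψ : G → ℂ) * (β : G → ℂ)
  have hPrc : IsCharacter G Pr := isCharacter_mul hψc hβc
  have hPrn : classInner Pr Pr = 1 := by
    unfold classInner
    have h1 : ∑ g : G, Pr g * conj (Pr g) = ∑ g : G, ξ g * w g := by
      refine Finset.sum_congr rfl fun g _ => ?_
      simp only [Pr, Pi.mul_apply, map_mul, hξv, w]
      ring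
    rw [h1, hmain]
    exact inv_mul_cancel₀ natCard_ne_zero'
  have hPri : IsIrrCharacter G Pr := isIrrCharacter_of_norm_one hPrc hPrn
  have hPr1 : Pr 1 = 9 := by
    simp only [Pr, Pi.mul_apply, hψ3, hβ3]
    norm_num
  have hPru : Pr u = 1 := by
    simp only [Pr, Pi.mul_apply, hψu, hβu]
    norm_num
  have hne : Pr ≠ fun _ => (1 : ℂ) := by
    intro e
    have := congrFun e 1
    rw [hPr1] at this
    norm_num at this
  rcases h ⟨Pr, hPri⟩ hne with h1 | h1
  · have h2 : Pr 1 - Pr u = 4 := h1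
    rw [hPr1, hPru] at h2
    norm_num at h2
  · have h2 : Pr u = 0 := h1
    rw [hPru] at h2
    norm_num at h2

end Gallagher

section CliffordPerfect

variable {G : Type*} [Group G] [Finite G]

/-- In a perfect group the restriction of a character of degree three to a normal subgroup is
homogeneous. -/
theorem homogeneous_of_perfect (hperf : commutator G = ⊤) (N : Subgroup G) [hN : N.Normal]
    [Fintype G] [Fintype N] {ψ : G → ℂ} (hψ : IsIrrCharacter G ψ) (h3 : ψ 1 = 3) :
    ∃ (θ : N → ℂ) (e : ℕ), IsIrrCharacter N θ ∧ e ≠ 0 ∧ (fun n : N => ψ n) = (e : ℂ) • θ := by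
  classical
  have hψc := IsIrrCharacter.isCharacter hψ
  have hres := isCharacter_restrict N hψc
  obtain ⟨m, hm⟩ := exists_nat_decomp hres
  have hex : ∃ θ : IrrCharacter N, m θ ≠ 0 := by
    by_contra hno
    push Not at hno
    have h1 := congrFun hm 1
    simp only [Finset.sum_apply, Pi.smul_apply, hno, zero_smul, Finset.sum_const_zero] at h1
    simp only [OneMemClass.coe_one, h3] at h1
    norm_num at h1
  obtain ⟨θ, hθ⟩ := hex
  have hin : classInner (fun n : N => ψ n) (θ : N → ℂ) = (m θ : ℂ) := by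
    rw [hm, classInner_nat_decomp m (θ : N → ℂ) θ.2]
  have hover : classInner (fun n : N => ψ n) (θ : N → ℂ) ≠ 0 := by
    rw [hin]
    exact_mod_cast hθ
  have hcl := Cfsg.Agent.Lib.CharClifford.restrict_eq_smul_sum N hN hψ θ.2 hover
  set O := Finset.univ.image (fun g : G => conjBy N hN g (θ : N → ℂ)) with hO
  -- the orbit is small
  obtain ⟨d, hd0, hd⟩ := Cfsg.Agent.Lib.Clifford.irr_degree_pos θ.2
  have hval : ∀ ν ∈ O, ν 1 = (d : ℂ) := by
    intro ν hν
    obtain ⟨g, -, rfl⟩ := Finset.mem_image.mp hν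
    have h0 : (⟨g * ((1 : N) : G) * g⁻¹, hN.conj_mem _ (1 : N).2 g⟩ : N) = 1 :=
      Subtype.ext (by simp)
    rw [conjBy_apply, h0, hd]
  have hOcard : O.card ≤ 3 := by
    have h1 := congrFun hcl 1
    simp only [Pi.smul_apply, Finset.sum_apply, OneMemClass.coe_one, h3, smul_eq_mul] at h1
    rw [hin, Finset.sum_congr rfl hval] at h1
    simp only [Finset.sum_const, nsmul_eq_mul] at h1
    have h2 : m θ * (O.card * d) = 3 := by exact_mod_cast h1.symm
    have h3' : 0 < m θ := Nat.pos_of_ne_zero hθ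
    calc O.card = 1 * (O.card * 1) := by ring
      _ ≤ m θ * (O.card * d) := Nat.mul_le_mul h3' (Nat.mul_le_mul_left _ hd0)
      _ = 3 := h2
  -- the action on the orbit
  have hact : ∀ (g : G) (ν : N → ℂ), ν ∈ O → conjBy N hN g⁻¹ ν ∈ O := by
    intro g ν hν
    obtain ⟨a, -, rfl⟩ := Finset.mem_image.mp hν
    rw [conjBy_conjBy]
    exact Finset.mem_image_of_mem _ (Finset.mem_univ _)
  letI : MulAction G O :=
    { smul := fun g ν => ⟨conjBy N hN g⁻¹ ν, hact g ν ν.2⟩
      one_smul := fun ν => by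
        apply Subtype.ext
        show conjBy N hN (1 : G)⁻¹ ν = ν
        rw [inv_one, conjBy_one]
      mul_smul := fun g h ν => by
        apply Subtype.ext
        show conjBy N hN (g * h)⁻¹ ν = conjBy N hN g⁻¹ (conjBy N hN h⁻¹ ν)
        rw [conjBy_conjBy, mul_inv_rev] }
  haveI : Group.IsSolvable (Equiv.Perm O) := Cfsg.Agent.S4337.perm_solvable (by
    rw [Nat.card_eq_fintype_card, Fintype.card_coe]
    omega)
  have hθO : (θ : N → ℂ) ∈ O := by
    have : conjBy N hN (1 : G) (θ : N → ℂ) ∈ O := Finset.mem_image_of_mem _ (Finset.mem_univ _)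
    rwa [conjBy_one] at this
  have hfix : ∀ g : G, conjBy N hN g (θ : N → ℂ) = θ := by
    intro g
    have h1 := Cfsg.Agent.Lib.BenderPair.hom_trivial_of_perfect hperf
      (MulAction.toPermHom G O) g⁻¹
    have h2 : (MulAction.toPermHom G O g⁻¹) ⟨θ, hθO⟩ = ⟨θ, hθO⟩ := by rw [h1]; rfl
    have h3' := congrArg Subtype.val h2
    have h4 : conjBy N hN (g⁻¹)⁻¹ (θ : N → ℂ) = θ := h3'
    rwa [inv_inv] at h4
  have hinv : ∀ (g : G) (n : N), (θ : N → ℂ) ⟨g * n * g⁻¹, hN.conj_mem (n : G) n.2 g⟩ = (θ : N → ℂ) n := by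
    intro g n
    exact congrFun (hfix g) n
  obtain ⟨e, he, hres', -⟩ := Cfsg.Agent.Lib.Clifford.restrict_eq_smul_of_invariant N θ.2 hinv hψ hover
  exact ⟨θ, e, θ.2, he, hres'⟩

/-- **No bad characters**: a degree three character with value `-1` at `u` is trivial on a normal
subgroup of index sixty, in the presence of another one trivial there. -/
theorem no_bad_three {u : G} (h : Hyp u) (hu : u ≠ 1) (N : Subgroup G) [hN : N.Normal]
    (hidx : N.index = 60) (β : IrrCharacter G) (hβ3 : (β : G → ℂ) 1 = 3) (hβu : (β : G → ℂ) u = -1)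
    (hβN : ∀ n ∈ N, (β : G → ℂ) n = (β : G → ℂ) 1) {ψ : IrrCharacter G}
    (hψ3 : (ψ : G → ℂ) 1 = 3) (hψu : (ψ : G → ℂ) u = -1) :
    ∀ n ∈ N, (ψ : G → ℂ) n = (ψ : G → ℂ) 1 := by
  classical
  haveI := Fintype.ofFinite G
  haveI : Fintype N := Fintype.ofFinite _
  have hperf := h.perfect hu
  obtain ⟨θ, e, hθ, he, hres⟩ := homogeneous_of_perfect hperf N ψ.2 hψ3
  obtain ⟨d, hd0, hd⟩ := Cfsg.Agent.Lib.Clifford.irr_degree_pos hθ
  have h1 := congrFun hres 1
  simp only [Pi.smul_apply, OneMemClass.coe_one, hψ3, smul_eq_mul, hd] at h1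
  have h2 : e * d = 3 := by exact_mod_cast h1.symm
  have hcases : e = 1 ∨ e = 3 := by
    have : e ∣ 3 := ⟨d, h2.symm⟩
    exact (Nat.dvd_prime Nat.prime_three).mp this
  rcases hcases with rfl | rfl
  · exfalso
    have hres1 : (fun n : N => (ψ : G → ℂ) n) = θ := by
      rw [hres]
      simp
    refine no_irr_restrict h N hψ3 hψu hβ3 hβu hβN ?_
    have h3 := classInner_irr_self hθ
    unfold classInner at h3
    have h4 : (Nat.card N : ℂ) ≠ 0 := natCard_ne_zero'
    have h5 : ∑ n : N, (ψ : G → ℂ) n * conj ((ψ : G → ℂ) n) = ∑ n : N, θ n * conj (θ n) := by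
      refine Finset.sum_congr rfl fun n _ => ?_
      rw [← congrFun hres1 n]
    rw [h5]
    field_simp at h3
    exact h3
  · have hd1 : d = 1 := by omega
    subst hd1
    obtain ⟨f, hf⟩ := exists_hom_of_degree_one (IsIrrCharacter.isCharacter hθ) (by rw [hd]; simp)
    have hv := no_scalar hperf N hidx (IsIrrCharacter.isCharacter ψ.2) hψ3 f (fun n => by
      have := congrFun hres n
      simp only [Pi.smul_apply, smul_eq_mul] at this
      rw [this, hf]
      norm_num)
    intro n hn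
    rw [hv n hn, hψ3]

/-- **Vanishing** at `u` of the characters not trivial on `N`. -/
theorem value_zero_off {u : G} (h : Hyp u) (hu : u ≠ 1) (N : Subgroup G) [hN : N.Normal]
    (huN : u ∉ N) (hidx : N.index = 60) (β : IrrCharacter G) (hβ3 : (β : G → ℂ) 1 = 3)
    (hβu : (β : G → ℂ) u = -1) (hβN : ∀ n ∈ N, (β : G → ℂ) n = (β : G → ℂ) 1)
    (χ : IrrCharacter G) (hχ : ¬ ∀ n ∈ N, (χ : G → ℂ) n = (χ : G → ℂ) 1) : (χ : G → ℂ) u = 0 := by
  classical
  haveI := Fintype.ofFinite G
  have hperf := h.perfect hu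
  have h1 := sum_ker_deg_mul N u
  rw [if_neg huN] at h1
  have hNne : (Nat.card N : ℂ) ≠ 0 := natCard_ne_zero'
  have h2 := (mul_eq_zero.mp h1).resolve_left hNne
  have h3 : ∑ χ : IrrCharacter G, (if ∀ n ∈ N, (χ : G → ℂ) n = (χ : G → ℂ) 1 then
      dg χ * tv u χ else 0) = 0 := by
    have : ((∑ χ : IrrCharacter G, (if ∀ n ∈ N, (χ : G → ℂ) n = (χ : G → ℂ) 1 then
        dg χ * tv u χ else 0) : ℤ) : ℂ) = 0 := by
      rw [← h2]
      push_cast
      refine Finset.sum_congr rfl fun χ _ => ?_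
      by_cases hk : ∀ n ∈ N, (χ : G → ℂ) n = (χ : G → ℂ) 1
      · rw [if_pos hk, if_pos hk, deg_val, tv_spec h]
      · rw [if_neg hk, if_neg hk]
    exact_mod_cast this
  have h4 := sum_dg_tv h hu
  have h5 : ∑ χ : IrrCharacter G, (if ∀ n ∈ N, (χ : G → ℂ) n = (χ : G → ℂ) 1 then
      0 else dg χ * tv u χ) = 0 := by
    have h6 : ∀ χ : IrrCharacter G, (if ∀ n ∈ N, (χ : G → ℂ) n = (χ : G → ℂ) 1 then
        0 else dg χ * tv u χ) = dg χ * tv u χ - (if ∀ n ∈ N, (χ : G → ℂ) n = (χ : G → ℂ) 1 then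
        dg χ * tv u χ else 0) := by
      intro χ
      split_ifs <;> ring
    simp only [h6]
    rw [Finset.sum_sub_distrib, h3, h4, sub_zero]
  have hnn : ∀ χ ∈ (Finset.univ : Finset (IrrCharacter G)),
      0 ≤ (if ∀ n ∈ N, (χ : G → ℂ) n = (χ : G → ℂ) 1 then 0 else dg χ * tv u χ) := by
    intro χ _
    by_cases hk : ∀ n ∈ N, (χ : G → ℂ) n = (χ : G → ℂ) 1
    · rw [if_pos hk]
    · rw [if_neg hk]
      have hne : χ ≠ chi0 G := by
        rintro rfl
        exact hk fun n _ => by rw [chi0_val, chi0_val]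
      rcases tv_cases (u := u) χ hne with h7 | h7
      · rw [h7]; simp
      · rw [h7]
        by_contra hlt
        push Not at hlt
        have hdpos := dg_pos χ
        have hd4 : dg χ < 4 := by
          by_contra hge
          push Not at hge
          have : 0 ≤ dg χ * (dg χ - 4) := mul_nonneg hdpos.le (by linarith)
          linarith
        have hval := tv_spec h χ
        rw [h7] at hval
        have hcases : dg χ = 1 ∨ dg χ = 2 ∨ dg χ = 3 := by omega
        rcases hcases with h8 | h8 | h8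
        · apply hne
          exact no_linear hperf (by rw [deg_val, h8]; simp)
        · refine no_deg_two h (χ := χ) ?_ ?_
          · rw [deg_val, h8]; norm_num
          · rw [hval, h8]; norm_num
        · apply hk
          refine no_bad_three h hu N hidx β hβ3 hβu hβN ?_ ?_
          · rw [deg_val, h8]; norm_num
          · rw [hval, h8]; norm_num
  have h6 := (Finset.sum_eq_zero_iff_of_nonneg hnn).mp h5 χ (Finset.mem_univ _)
  rw [if_neg hχ] at h6
  have h7 : tv u χ = 0 := (mul_eq_zero.mp h6).resolve_left (dg_pos χ).ne'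
  rw [tv_spec h, h7]
  simp

end CliffordPerfect

section Classes

universe v

variable {G : Type*} [Group G] [Finite G]

/-- Second orthogonality: all elements of the coset `u N` are conjugate to `u`. -/
theorem conj_of_mem {u : G} (h : Hyp u) (N : Subgroup G) [hN : N.Normal]
    (hoff : ∀ χ : IrrCharacter G, (¬ ∀ n ∈ N, (χ : G → ℂ) n = (χ : G → ℂ) 1) → (χ : G → ℂ) u = 0)
    {n : G} (hn : n ∈ N) : IsConj (u * n) u := by
  classical
  haveI := Fintype.ofFinite G
  have h1 := Cfsg.Agent.Lib.CharInd.sum_irr_mul_conj (u * n) u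
  by_contra hnc
  rw [if_neg hnc] at h1
  have h2 : ((∑ χ : IrrCharacter G, (if ∀ n ∈ N, (χ : G → ℂ) n = (χ : G → ℂ) 1 then
      tv u χ ^ 2 else 0) : ℤ) : ℂ) = 0 := by
    rw [← h1]
    push_cast
    refine Finset.sum_congr rfl fun χ _ => ?_
    by_cases hk : ∀ n ∈ N, (χ : G → ℂ) n = (χ : G → ℂ) 1
    · rw [if_pos hk, char_mul_of_mem_ker (IsIrrCharacter.isCharacter χ.2) (hk n hn), tv_spec h]
      simp [sq]
    · rw [if_neg hk, hoff χ hk]
      simp
  have h3 : (∑ χ : IrrCharacter G, (if ∀ n ∈ N, (χ : G → ℂ) n = (χ : G → ℂ) 1 then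
      tv u χ ^ 2 else 0) : ℤ) = 0 := by exact_mod_cast h2
  have hnn : ∀ χ ∈ (Finset.univ : Finset (IrrCharacter G)),
      0 ≤ (if ∀ n ∈ N, (χ : G → ℂ) n = (χ : G → ℂ) 1 then tv u χ ^ 2 else 0) := by
    intro χ _
    split_ifs
    · positivity
    · exact le_rfl
  have h4 := (Finset.sum_eq_zero_iff_of_nonneg hnn).mp h3 (chi0 G) (Finset.mem_univ _)
  rw [if_pos (fun n _ => by rw [chi0_val, chi0_val]), tv_chi0] at h4
  norm_num at h4

/-- Fibers of a surjection have the size of the kernel. -/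
theorem card_preimage {X : Type*} [Group X] [Finite X] (π : G →* X) (hπ : Function.Surjective π)
    (P : X → Prop) : Nat.card {g : G // P (π g)} = Nat.card {x : X // P x} * Nat.card π.ker := by
  classical
  let s : X → G := Function.surjInv hπ
  have hs : ∀ x, π (s x) = x := Function.surjInv_eq hπ
  let e : {g : G // P (π g)} ≃ {x : X // P x} × π.ker :=
    { toFun := fun g => (⟨π g, g.2⟩, ⟨(s (π g))⁻¹ * g, by
        rw [MonoidHom.mem_ker, map_mul, map_inv, hs, inv_mul_cancel]⟩)
      invFun := fun p => ⟨s p.1 * p.2, by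
        have h1 : π p.2 = 1 := p.2.2
        rw [map_mul, h1, mul_one, hs]
        exact p.1.2⟩
      left_inv := fun g => by
        apply Subtype.ext
        simp
      right_inv := fun p => by
        have h1 : π p.2 = 1 := p.2.2
        have h2 : π (s p.1 * p.2) = p.1 := by rw [map_mul, h1, mul_one, hs]
        ext
        · exact h2
        · simp [h2] }
  rw [Nat.card_congr e, Nat.card_prod]

/-- The class of `u` is the preimage of the class of `π u`, hence the centralizers have the same size. -/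
theorem card_centralizer_of_class {X : Type*} [Group X] [Finite X] (π : G →* X)
    (hπ : Function.Surjective π) {u : G} (hconj : ∀ n ∈ π.ker, IsConj (u * n) u) :
    (∀ g : G, IsConj (π u) (π g) → IsConj u g) ∧
    Nat.card (Subgroup.centralizer ({u} : Set G)) =
      Nat.card (Subgroup.centralizer ({π u} : Set X)) := by
  classical
  have hiff : ∀ g : G, IsConj (π u) (π g) → IsConj u g := by
    intro g hg
    obtain ⟨x, hx⟩ := isConj_iff.mp hg
    obtain ⟨a, rfl⟩ := hπ x
    have hn : (a * u * a⁻¹)⁻¹ * g ∈ π.ker := by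
      rw [MonoidHom.mem_ker, map_mul, map_inv, ← hx]
      simp only [map_mul, map_inv]
      group
    set n := (a * u * a⁻¹)⁻¹ * g with hndef
    have hn' : a⁻¹ * n * a ∈ π.ker := by
      have := (MonoidHom.normal_ker π).conj_mem n hn a⁻¹
      simpa using this
    have h1 := hconj _ hn'
    have h2 : g = a * (u * (a⁻¹ * n * a)) * a⁻¹ := by
      rw [hndef]
      group
    rw [h2]
    exact h1.symm.trans (isConj_iff.mpr ⟨a, rfl⟩)
  refine ⟨hiff, ?_⟩
  have h1 := Cfsg.Agent.Lib.CITCount.card_isConj_mul_centralizer u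
  have h2 := Cfsg.Agent.Lib.CITCount.card_isConj_mul_centralizer (π u)
  have h3 : Nat.card {w : G // IsConj u w} = Nat.card {g : G // IsConj (π u) (π g)} := by
    refine Nat.card_congr (Equiv.subtypeEquivRight fun g => ⟨fun h => ?_, hiff g⟩)
    exact MonoidHom.map_isConj π h
  have h4 := card_preimage π hπ (fun x => IsConj (π u) x)
  have h5 : Nat.card G = Nat.card X * Nat.card π.ker := by
    have h6 := Subgroup.card_eq_card_quotient_mul_card_subgroup π.ker
    rw [h6]
    congr 1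
    exact Nat.card_congr (QuotientGroup.quotientKerEquivOfSurjective π hπ).toEquiv
  rw [h3, h4] at h1
  rw [h5, ← h2] at h1
  have hpos1 : 0 < Nat.card π.ker := Nat.card_pos
  haveI : Nonempty {w : X // IsConj (π u) w} := ⟨⟨π u, IsConj.refl _⟩⟩
  have hpos2 : 0 < Nat.card {w : X // IsConj (π u) w} := Nat.card_pos
  have h7 : Nat.card {w : X // IsConj (π u) w} * Nat.card π.ker *
      Nat.card (Subgroup.centralizer ({u} : Set G)) =
      Nat.card {w : X // IsConj (π u) w} * Nat.card π.ker *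
      Nat.card (Subgroup.centralizer ({π u} : Set X)) := by
    rw [h1]
    ring
  exact Nat.eq_of_mul_eq_mul_left (by positivity) h7

/-- **Main data.** -/
theorem main_data {G : Type v} [Group G] [Finite G] {u : G} (h : Hyp u) (hu : u ≠ 1) :
    ∃ (X : Type v) (_ : Group X) (_ : Finite X) (π : G →* X), Function.Surjective π ∧
      Nonempty (X ≃* alternatingGroup (Fin 5)) ∧ π u ≠ 1 ∧ π u * π u = 1 ∧
      Nat.card (Subgroup.centralizer ({u} : Set G)) = 4 ∧
      (∀ g : G, π g * π g = 1 → π g ≠ 1 → IsConj u g) ∧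
      (∀ S : Sylow 2 X, ∀ a ∈ (S : Subgroup X), a * a = 1) ∧
      (∀ S : Sylow 2 X, Nat.card (S : Subgroup X) = 4) := by
  classical
  obtain ⟨X, _, _, π, hπ, hA5, hu1, hu2, -, T, hCT, huT, hT4, hTconj⟩ :=
    Cfsg.Agent.Lib.UFour9C.exists_A5_quotient h hu
  have hHX := h.of_surj π hπ
  obtain ⟨e⟩ := hA5
  have hXcard : Nat.card X = 60 := by
    rw [Nat.card_congr e.toEquiv, Nat.card_eq_fintype_card]
    decide
  have hidx : π.ker.index = 60 := by
    rw [Subgroup.index_ker, MonoidHom.range_eq_top.mpr hπ]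
    simpa using hXcard
  obtain ⟨χ₂, -, h3, hv⟩ := exists_deg_three hHX hu1 Finset.univ (Finset.mem_univ _) (sum_dg_tv hHX hu1)
  let β : IrrCharacter G := ⟨(χ₂ : X → ℂ) ∘ π, isIrrCharacter_comp_of_surjective π hπ χ₂.2⟩
  have hβ3 : (β : G → ℂ) 1 = 3 := by
    show (χ₂ : X → ℂ) (π 1) = 3
    rw [map_one, h3]
  have hβu : (β : G → ℂ) u = -1 := hv
  have hβN : ∀ n ∈ π.ker, (β : G → ℂ) n = (β : G → ℂ) 1 := by
    intro n hn
    show (χ₂ : X → ℂ) (π n) = (χ₂ : X → ℂ) (π 1)
    rw [map_one, (MonoidHom.mem_ker.mp hn)]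
  have huN : u ∉ π.ker := fun h1 => hu1 (MonoidHom.mem_ker.mp h1)
  have hoff := value_zero_off h hu π.ker huN hidx β hβ3 hβu hβN
  have hconj : ∀ n ∈ π.ker, IsConj (u * n) u := fun n hn => conj_of_mem h π.ker hoff hn
  obtain ⟨hcls, hcard⟩ := card_centralizer_of_class π hπ hconj
  have hTe : ∀ a ∈ (T : Subgroup X), a * a = 1 := by
    intro a ha
    by_cases h1 : a = 1
    · rw [h1, one_mul]
    · obtain ⟨c, hc⟩ := isConj_iff.mp (hTconj a ha h1)
      rw [← hc]
      calc c * π u * c⁻¹ * (c * π u * c⁻¹) = c * (π u * π u) * c⁻¹ := by group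
        _ = 1 := by rw [hu2]; group
  haveI : Fact (Nat.Prime 2) := ⟨Nat.prime_two⟩
  refine ⟨X, inferInstance, inferInstance, π, hπ, ⟨e⟩, hu1, hu2, ?_, ?_,
    Cfsg.Agent.Lib.UFour9C.sylow_exp_two hTe, ?_⟩
  · rw [hcard, hCT, hT4]
  · intro g hg hg1
    exact hcls g (Cfsg.Agent.Lib.UFour9C.isConj_of_invol hTconj hg hg1)
  · intro S
    rw [← hT4]
    exact Nat.card_congr (S.equiv T).toEquiv

end Classes

end Cfsg.Agent.Lib.UFour9D
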