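import Mathlib
import Cfsg.Agent.Lib.UFour9D
import Cfsg.Agent.Lib.FpfCenter
import Cfsg.Agent.Lib.OddInvert
import Cfsg.Agent.Lib.Order8
import Cfsg.Agent.S0253
import Cfsg.Agent.S3378

/-!
# The final cases
-/

set_option autoImplicit false
set_option linter.unusedSectionVars false
set_option linter.style.haveILetI false

namespace Cfsg.Agent.Lib.UFour9E

open Cfsg

section Basics

variable {G : Type*} [Group G] [Finite G] {X : Type*} [Group X] [Finite X]

theorem map_sylow_sq (π : G →* X) (hS : ∀ S : Sylow 2 X, ∀ a ∈ (S : Subgroup X), a * a = 1)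
    (T : Sylow 2 G) {x : G} (hx : x ∈ (T : Subgroup G)) : π x * π x = 1 := by
  haveI : Fact (Nat.Prime 2) := ⟨Nat.prime_two⟩
  have hp : IsPGroup 2 ((T : Subgroup G).map π) := T.isPGroup'.map π
  obtain ⟨S, hS'⟩ := hp.exists_le_sylow
  exact hS S _ (hS' ⟨x, hx, rfl⟩)

theorem second_coset (π : G →* X) (hπ : Function.Surjective π)
    (hS4 : ∀ S : Sylow 2 X, Nat.card (S : Subgroup X) = 4)
    (hS : ∀ S : Sylow 2 X, ∀ a ∈ (S : Subgroup X), a * a = 1)
    (T : Sylow 2 G) {x : G} (hx : x ∈ (T : Subgroup G)) (hx1 : π x ≠ 1) :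
    ∃ y ∈ (T : Subgroup G), π y ≠ 1 ∧ π (x * y) ≠ 1 := by
  classical
  haveI : Fact (Nat.Prime 2) := ⟨Nat.prime_two⟩
  haveI := Fintype.ofFinite X
  let S : Sylow 2 X := T.mapSurjective hπ
  have hSc : (S : Subgroup X) = (T : Subgroup G).map π := Sylow.coe_mapSurjective hπ T
  have hcard := hS4 S
  have hex : ∃ w ∈ (S : Subgroup X), w ≠ 1 ∧ w ≠ π x := by
    by_contra hno
    push Not at hno
    have hsub : Finset.univ.filter (· ∈ (S : Subgroup X)) ⊆ {1, π x} := by
      intro w hw
      simp only [Finset.mem_filter, Finset.mem_univ, true_and] at hw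
      simp only [Finset.mem_insert, Finset.mem_singleton]
      by_cases h1 : w = 1
      · left; exact h1
      · right; exact hno w hw h1
    have h1 := Finset.card_le_card hsub
    have h2 : (Finset.univ.filter (· ∈ (S : Subgroup X))).card = 4 := by
      rw [← hcard, ← Fintype.card_subtype, ← Nat.card_eq_fintype_card]
    have h3 : ({1, π x} : Finset X).card ≤ 2 := Finset.card_le_two
    omega
  obtain ⟨w, hw, hw1, hwx⟩ := hex
  rw [hSc] at hw
  obtain ⟨y, hy, rfl⟩ := hw
  refine ⟨y, hy, hw1, ?_⟩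
  intro h1
  rw [map_mul] at h1
  apply hwx
  have h2 := map_sylow_sq π hS T hx
  calc π y = π x * π x * π y := by rw [h2, one_mul]
    _ = π x * (π x * π y) := by rw [mul_assoc]
    _ = π x := by rw [h1, mul_one]

theorem card_sylow_eq (π : G →* X) (hπ : Function.Surjective π)
    (hS4 : ∀ S : Sylow 2 X, Nat.card (S : Subgroup X) = 4) (T : Sylow 2 G) :
    Nat.card (T : Subgroup G) = Nat.card ↥((T : Subgroup G) ⊓ π.ker) * 4 := by
  classical
  haveI : Fact (Nat.Prime 2) := ⟨Nat.prime_two⟩
  let S : Sylow 2 X := T.mapSurjective hπ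
  have hSc : (S : Subgroup X) = (T : Subgroup G).map π := Sylow.coe_mapSurjective hπ T
  let f : (T : Subgroup G) →* X := π.domRestrict (T : Subgroup G)
  have h1 := f.ker.card_mul_index
  have h2 : f.ker.index = 4 := by
    rw [Subgroup.index_ker, MonoidHom.domRestrict_range, ← hSc, hS4]
  have h3 : Nat.card f.ker = Nat.card ↥((T : Subgroup G) ⊓ π.ker) := by
    refine Nat.card_congr ⟨fun a => ⟨a.1.1, a.1.2, ?_⟩, fun b => ⟨⟨b.1, b.2.1⟩, ?_⟩, ?_, ?_⟩
    · have := a.2
      exact this
    · exact b.2.2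
    · intro a; rfl
    · intro b; rfl
  rw [h2, h3] at h1
  exact h1.symm

/-- If all elements outside a subgroup `N` are involutions, they are central. -/
theorem central_of_invol (T N : Subgroup G) (h1 : ∀ x ∈ T, x ∉ N → x * x = 1)
    (h2 : ∀ x ∈ T, x ∉ N → ∃ y ∈ T, y ∉ N ∧ x * y ∉ N) :
    ∀ x ∈ T, x ∉ N → ∀ g ∈ T, g * x = x * g := by
  have hoff : ∀ x r : G, x ∉ N → r ∈ N → x * r ∉ N := by
    intro x r hx hr h
    apply hx
    have := N.mul_mem h (N.inv_mem hr)
    simpa using this
  have hxinv : ∀ x ∈ T, x ∉ N → x⁻¹ = x := fun x hT hx => inv_eq_of_mul_eq_one_left (h1 x hT hx)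
  have hinvert : ∀ x ∈ T, ∀ r ∈ T, x ∉ N → r ∈ N → x * r * x = r⁻¹ := by
    intro x hT r hrT hx hr
    have h3 := h1 (x * r) (T.mul_mem hT hrT) (hoff x r hx hr)
    have h4 : x * r * x * r = 1 := by rw [← h3]; group
    exact eq_inv_of_mul_eq_one_left h4
  have hsq : ∀ x ∈ T, x ∉ N → ∀ r ∈ T, r ∈ N → r⁻¹ = r := by
    intro x hT hx r hrT hr
    obtain ⟨y, hyT, hy, hxy⟩ := h2 x hT hx
    have h3 := hinvert (x * y) (T.mul_mem hT hyT) r hrT hxy hr
    have h4 : x * y = y * x := by
      have h5 := hxinv (x * y) (T.mul_mem hT hyT) hxy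
      rw [mul_inv_rev, hxinv x hT hx, hxinv y hyT hy] at h5
      exact h5.symm
    have h5 : x * y * r * (x * y) = x * (y * r * y) * x := by
      calc x * y * r * (x * y) = x * y * r * (y * x) := by rw [← h4]
        _ = x * (y * r * y) * x := by simp only [mul_assoc]
    rw [h5, hinvert y hyT r hrT hy hr, hinvert x hT r⁻¹ (T.inv_mem hrT) hx (N.inv_mem hr), inv_inv] at h3
    exact h3.symm
  have hcommN : ∀ x ∈ T, x ∉ N → ∀ r ∈ T, r ∈ N → x * r = r * x := by
    intro x hT hx r hrT hr
    have h3 := hinvert x hT r hrT hx hr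
    rw [hsq x hT hx r hrT hr] at h3
    calc x * r = x * r * x * x := by rw [mul_assoc (x * r), h1 x hT hx, mul_one]
      _ = r * x := by rw [h3]
  intro x hT hx g hg
  by_cases hgN : g ∈ N
  · exact (hcommN x hT hx g hg hgN).symm
  · by_cases hxg : x * g ∈ N
    · have h3 : g = x * (x * g) := by
        rw [← mul_assoc, h1 x hT hx, one_mul]
      have h4 := hcommN x hT hx (x * g) (T.mul_mem hT hg) hxg
      calc g * x = x * (x * g) * x := by rw [← h3]
        _ = (x * g) * x * x := by rw [h4]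
        _ = (x * g) * (x * x) := by rw [mul_assoc (x * g)]
        _ = x * g := by rw [h1 x hT hx, mul_one]
    · have h3 := hxinv (x * g) (T.mul_mem hT hg) hxg
      rw [mul_inv_rev, hxinv x hT hx, hxinv g hg hgN] at h3
      exact h3

theorem oddCore_le_ker (π : G →* X) (hπ : Function.Surjective π)
    (hA5 : Nonempty (X ≃* alternatingGroup (Fin 5))) : oddCore G ≤ π.ker := by
  classical
  obtain ⟨e⟩ := hA5
  haveI : IsSimpleGroup X := e.isSimpleGroup
  have hXc : Nat.card X = 60 := by
    rw [Nat.card_congr e.toEquiv, Nat.card_eq_fintype_card]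
    decide
  have hn : (oddCore G).Normal := pPrimeCore_normal 2 G
  have hKn : ((oddCore G).map π).Normal := hn.map π hπ
  rcases hKn.eq_bot_or_eq_top with h1 | h1
  · exact (Subgroup.map_eq_bot_iff _).mp h1
  · exfalso
    have h2 : Nat.card ((oddCore G).map π) ∣ Nat.card (oddCore G) :=
      Subgroup.card_map_dvd _ _
    rw [h1, Subgroup.card_top, hXc] at h2
    have h3 := Cfsg.Agent.Lib.PCore.card_pPrimeCore_coprime (G := G) 2
    have h4 : 2 ∣ Nat.card (pPrimeCore 2 G) := (by norm_num : (2 : ℕ) ∣ 60).trans h2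
    have h5 := Nat.Coprime.eq_one_of_dvd (Nat.Coprime.symm h3) h4
    norm_num at h5

end Basics

section CaseTwo

variable {G : Type*} [Group G] [Finite G] {X : Type*} [Group X] [Finite X]

/-- The case of an involution. -/
theorem case_two (π : G →* X) (hπ : Function.Surjective π)
    (hA5 : Nonempty (X ≃* alternatingGroup (Fin 5))) {u : G} (hu : u * u = 1) (hu1 : π u ≠ 1)
    (hC : Nat.card (Subgroup.centralizer ({u} : Set G)) = 4)
    (hconj : ∀ g : G, π g * π g = 1 → π g ≠ 1 → IsConj u g)
    (hS : ∀ S : Sylow 2 X, ∀ a ∈ (S : Subgroup X), a * a = 1)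
    (hS4 : ∀ S : Sylow 2 X, Nat.card (S : Subgroup X) = 4) :
    IsMulCommutative ↥(oddCore G) ∧
      Nonempty (G ⧸ oddCore G ≃* Matrix.ProjectiveSpecialLinearGroup (Fin 2) (ZMod 5)) := by
  classical
  haveI : Fact (Nat.Prime 2) := ⟨Nat.prime_two⟩
  have hCp : IsPGroup 2 (Subgroup.centralizer ({u} : Set G)) :=
    IsPGroup.of_card (n := 2) (by rw [hC]; norm_num)
  obtain ⟨T, hCT⟩ := hCp.exists_le_sylow
  have huC : u ∈ Subgroup.centralizer ({u} : Set G) := by
    rw [Subgroup.mem_centralizer_singleton_iff]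
  have huT : u ∈ (T : Subgroup G) := hCT huC
  set N := π.ker with hN
  have hnot : ∀ x : G, x ∉ N ↔ π x ≠ 1 := fun x => by rw [hN, MonoidHom.mem_ker]
  have huN : u ∉ N := (hnot u).mpr hu1
  have hinv : ∀ x ∈ (T : Subgroup G), x ∉ N → x * x = 1 := by
    intro x hx hxN
    obtain ⟨c, hc⟩ := isConj_iff.mp (hconj x (map_sylow_sq π hS T hx) ((hnot x).mp hxN))
    rw [← hc]
    calc c * u * c⁻¹ * (c * u * c⁻¹) = c * (u * u) * c⁻¹ := by group
      _ = 1 := by rw [hu]; group
  have hsec : ∀ x ∈ (T : Subgroup G), x ∉ N → ∃ y ∈ (T : Subgroup G), y ∉ N ∧ x * y ∉ N := by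
    intro x hx hxN
    obtain ⟨y, hy, h1, h2⟩ := second_coset π hπ hS4 hS T hx ((hnot x).mp hxN)
    exact ⟨y, hy, (hnot y).mpr h1, (hnot _).mpr h2⟩
  have hcent := central_of_invol (T : Subgroup G) N hinv hsec u huT huN
  have hTC : (T : Subgroup G) = Subgroup.centralizer ({u} : Set G) := by
    apply le_antisymm _ hCT
    intro g hg
    rw [Subgroup.mem_centralizer_singleton_iff]
    exact hcent g hg
  have hT4 : Nat.card (T : Subgroup G) = 4 := by rw [hTC, hC]
  have hTN : (T : Subgroup G) ⊓ N = ⊥ := by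
    have h1 := card_sylow_eq π hπ hS4 T
    rw [hT4] at h1
    have h2 : Nat.card ↥((T : Subgroup G) ⊓ π.ker) = 1 := by omega
    exact Subgroup.eq_bot_of_card_eq _ h2
  -- `N` has odd order
  have hNn : N.Normal := MonoidHom.normal_ker π
  have hNodd : ¬ 2 ∣ Nat.card N := by
    intro h2
    obtain ⟨x, hx⟩ := exists_prime_orderOf_dvd_card' (G := N) 2 h2
    have hxx : (x : G) * x = 1 := by
      have := pow_orderOf_eq_one x
      rw [hx, sq] at this
      exact congrArg Subtype.val this
    have hx1 : (x : G) ≠ 1 := by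
      intro h4
      have h5 : x = 1 := Subtype.ext h4
      rw [h5, orderOf_one] at hx
      norm_num at hx
    obtain ⟨g, hg⟩ := Cfsg.Agent.Lib.UFour9C.exists_conj_mem_sylow T hxx
    have h3 : g * (x : G) * g⁻¹ ∈ (T : Subgroup G) ⊓ N := ⟨hg, hNn.conj_mem _ x.2 _⟩
    rw [hTN, Subgroup.mem_bot] at h3
    apply hx1
    have h4 : (x : G) = g⁻¹ * (g * x * g⁻¹) * g := by group
    rw [h4, h3]
    group
  have hNcop : (Nat.card N).Coprime 2 := by
    rw [Nat.coprime_comm]
    exact (Nat.Prime.coprime_iff_not_dvd Nat.prime_two).mpr hNodd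
  have hcore : oddCore G = N :=
    le_antisymm (oddCore_le_ker π hπ hA5) (Cfsg.Agent.Lib.PCore.le_pPrimeCore hNn hNcop)
  constructor
  · rw [hcore]
    -- `u` inverts `N`
    have hfpf : N ⊓ Subgroup.centralizer ({u} : Set G) = ⊥ := by
      rw [← hTC, inf_comm, hTN]
    have hnorm : u ∈ Subgroup.normalizer (N : Set G) := by
      rw [Subgroup.mem_normalizer_iff]
      intro h
      constructor
      · intro hh; exact hNn.conj_mem h hh u
      · intro hh
        have := hNn.conj_mem _ hh u⁻¹
        simpa [mul_assoc] using this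
    have hinvN := Cfsg.Agent.Lib.FpfCenter.inv_of_involution N u hu hnorm hfpf
    refine ⟨⟨fun a b => Subtype.ext ?_⟩⟩
    show (a : G) * b = b * a
    have h1 := hinvN _ (N.mul_mem a.2 b.2)
    have h2 := hinvN a a.2
    have h3 := hinvN b b.2
    have h4 : u * ((a : G) * b) * u⁻¹ = (u * a * u⁻¹) * (u * b * u⁻¹) := by group
    rw [h4, h2, h3, mul_inv_rev] at h1
    -- `a⁻¹ b⁻¹ = b⁻¹ a⁻¹`
    have h5 : ((a : G) * b)⁻¹ = ((b : G) * a)⁻¹ := by
      rw [mul_inv_rev, mul_inv_rev, h1]
    exact inv_injective h5 |>.symm ▸ rfl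
  · obtain ⟨e⟩ := hA5
    obtain ⟨e'⟩ := Cfsg.Agent.S0253.result (F := ZMod 5) (ZMod.card 5)
    have e1 : G ⧸ oddCore G ≃* G ⧸ N := QuotientGroup.quotientMulEquivOfEq hcore
    exact ⟨e1.trans ((QuotientGroup.quotientKerEquivOfSurjective π hπ).trans (e.trans e'.symm))⟩

end CaseTwo

section CaseFour

variable {G : Type*} [Group G] [Finite G] {X : Type*} [Group X] [Finite X]

/-- Elements of a cyclic group of order four. -/
theorem zpowers_four {x w : G} (hx : orderOf x = 4) (hw : w ∈ Subgroup.zpowers x) :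
    w = 1 ∨ w = x ∨ w = x * x ∨ w = x * x * x := by
  classical
  rw [← mem_powers_iff_mem_zpowers, mem_powers_iff_mem_range_orderOf, hx] at hw
  obtain ⟨k, hk, rfl⟩ := Finset.mem_image.mp hw
  have hk4 : k < 4 := Finset.mem_range.mp hk
  interval_cases k
  · left; simp
  · right; left; simp
  · right; right; left; simp [sq]
  · right; right; right; simp [pow_succ]

theorem sq_eq_of_zpowers_four {x w : G} (hx : orderOf x = 4) (hw : w ∈ Subgroup.zpowers x)
    (hww : w * w = 1) : w = 1 ∨ w = x * x := by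
  have hx4 : x ^ 4 = 1 := by rw [← hx]; exact pow_orderOf_eq_one x
  have hxx : x * x ≠ 1 := by
    intro h
    have h2 : orderOf x ∣ 2 := orderOf_dvd_of_pow_eq_one (by rw [sq]; exact h)
    rw [hx] at h2
    norm_num at h2
  rcases zpowers_four hx hw with h | h | h | h
  · left; exact h
  · exfalso; rw [h] at hww; exact hxx hww
  · right; exact h
  · exfalso
    rw [h] at hww
    apply hxx
    have : x * x * x * (x * x * x) = x ^ 4 * (x * x) := by
      simp only [pow_succ, pow_zero, one_mul, mul_assoc]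
    rw [this, hx4, one_mul] at hww
    exact hww

/-- The centralizer of a conjugate of `u`. -/
theorem centralizer_conj_eq {u x : G} (hu4 : orderOf u = 4)
    (hC : Nat.card (Subgroup.centralizer ({u} : Set G)) = 4) (hx : IsConj u x) :
    orderOf x = 4 ∧ Subgroup.centralizer ({x} : Set G) = Subgroup.zpowers x := by
  obtain ⟨c, hc⟩ := isConj_iff.mp hx
  have ho : orderOf x = 4 := by
    rw [← hc, ← hu4]
    exact MulEquiv.orderOf_eq (MulAut.conj c) u
  refine ⟨ho, ?_⟩
  symm
  apply Subgroup.eq_of_le_of_card_ge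
  · intro w hw
    obtain ⟨k, rfl⟩ := Subgroup.mem_zpowers_iff.mp hw
    rw [Subgroup.mem_centralizer_singleton_iff]
    exact ((Commute.refl x).zpow_left k).eq
  · rw [Nat.card_zpowers, ho, ← hc, Cfsg.Agent.Lib.RealChars.card_centralizer_conj, hC]

/-- A fixed-point-free automorphism with square trivial inverts. -/
theorem inv_of_fpf (K : Subgroup G) (x : G) (hxK : ∀ k ∈ K, x * k * x⁻¹ ∈ K)
    (hsq : ∀ k ∈ K, (x * x) * k = k * (x * x))
    (hfpf : ∀ k ∈ K, x * k * x⁻¹ = k → k = 1) : ∀ k ∈ K, x * k * x⁻¹ = k⁻¹ := by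
  let σ : K → K := fun a => ⟨(a : G)⁻¹ * (x * a * x⁻¹), K.mul_mem (K.inv_mem a.2) (hxK a a.2)⟩
  have hinj : Function.Injective σ := by
    intro a b hab
    have h1 : (a : G)⁻¹ * (x * a * x⁻¹) = (b : G)⁻¹ * (x * b * x⁻¹) := congrArg Subtype.val hab
    have h2 : x * ((b : G) * (a : G)⁻¹) * x⁻¹ = (b : G) * (a : G)⁻¹ := by
      have h3 : (b : G) * (a : G)⁻¹ * (x * a * x⁻¹) = x * b * x⁻¹ := by
        calc (b : G) * (a : G)⁻¹ * (x * a * x⁻¹) = b * ((a : G)⁻¹ * (x * a * x⁻¹)) := by group
          _ = b * ((b : G)⁻¹ * (x * b * x⁻¹)) := by rw [h1]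
          _ = x * b * x⁻¹ := by group
      calc x * ((b : G) * (a : G)⁻¹) * x⁻¹ = x * b * x⁻¹ * (x * a * x⁻¹)⁻¹ := by group
        _ = (b : G) * (a : G)⁻¹ * (x * a * x⁻¹) * (x * a * x⁻¹)⁻¹ := by rw [h3]
        _ = (b : G) * (a : G)⁻¹ := by group
    have h3 := hfpf _ (K.mul_mem b.2 (K.inv_mem a.2)) h2
    have h4 : (b : G) = a := mul_inv_eq_one.mp h3
    exact Subtype.ext h4.symm
  have hsurj := Finite.injective_iff_surjective.mp hinj
  intro k hk
  obtain ⟨a, ha⟩ := hsurj ⟨k, hk⟩
  have hk' : k = (a : G)⁻¹ * (x * a * x⁻¹) := (congrArg Subtype.val ha).symm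
  have hsqa := hsq a a.2
  have h1 : x * (x * a * x⁻¹) * x⁻¹ = a := by
    calc x * (x * a * x⁻¹) * x⁻¹ = (x * x) * a * (x * x)⁻¹ := by group
      _ = a * (x * x) * (x * x)⁻¹ := by rw [hsqa]
      _ = a := by group
  rw [hk']
  calc x * ((a : G)⁻¹ * (x * a * x⁻¹)) * x⁻¹
      = (x * (a : G)⁻¹ * x⁻¹) * (x * (x * a * x⁻¹) * x⁻¹) := by group
    _ = (x * (a : G)⁻¹ * x⁻¹) * a := by rw [h1]
    _ = ((a : G)⁻¹ * (x * a * x⁻¹))⁻¹ := by group

/-- A subgroup inverted by an element is abelian. -/
theorem comm_of_inverted (K : Subgroup G) (t : G) (ht : ∀ k ∈ K, t * k * t⁻¹ = k⁻¹) :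
    IsMulCommutative K := by
  refine ⟨⟨fun a b => Subtype.ext ?_⟩⟩
  show (a : G) * b = b * a
  have h1 := ht _ (K.mul_mem a.2 b.2)
  have h2 := ht a a.2
  have h3 := ht b b.2
  have h4 : t * ((a : G) * b) * t⁻¹ = (t * a * t⁻¹) * (t * b * t⁻¹) := by group
  rw [h4, h2, h3] at h1
  have h5 : ((a : G) * b)⁻¹ = ((b : G) * a)⁻¹ := by
    rw [mul_inv_rev (b : G), h1]
  exact inv_injective h5 |>.symm ▸ rfl

/-- The 2-local analysis in the case of an element of order four. -/
theorem sylow_data (π : G →* X) (hπ : Function.Surjective π) {u : G} (hu4 : orderOf u = 4)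
    (hu1 : π u ≠ 1) (hC : Nat.card (Subgroup.centralizer ({u} : Set G)) = 4)
    (hconj : ∀ g : G, π g * π g = 1 → π g ≠ 1 → IsConj u g)
    (hS : ∀ S : Sylow 2 X, ∀ a ∈ (S : Subgroup X), a * a = 1)
    (hS4 : ∀ S : Sylow 2 X, Nat.card (S : Subgroup X) = 4) :
    ∃ T : Sylow 2 G, u ∈ (T : Subgroup G) ∧ Nat.card (T : Subgroup G) = 8 ∧
      (∀ x ∈ (T : Subgroup G), π x ≠ 1 → x * x = u * u) ∧
      (∀ x ∈ (T : Subgroup G), x * (u * u) = (u * u) * x) ∧
      (∀ x ∈ (T : Subgroup G), π x = 1 → x = 1 ∨ x = u * u) ∧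
      (∃ y ∈ (T : Subgroup G), π y ≠ 1 ∧ π (u * y) ≠ 1) := by
  classical
  haveI : Fact (Nat.Prime 2) := ⟨Nat.prime_two⟩
  have hCp : IsPGroup 2 (Subgroup.centralizer ({u} : Set G)) :=
    IsPGroup.of_card (n := 2) (by rw [hC]; norm_num)
  obtain ⟨T, hCT⟩ := hCp.exists_le_sylow
  have huC : u ∈ Subgroup.centralizer ({u} : Set G) := by
    rw [Subgroup.mem_centralizer_singleton_iff]
  have huT : u ∈ (T : Subgroup G) := hCT huC
  have hCu := (centralizer_conj_eq hu4 hC (IsConj.refl u)).2
  set z := u * u with hz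
  have hu4' : u ^ 4 = 1 := by rw [← hu4]; exact pow_orderOf_eq_one u
  have hzz : z * z = 1 := by
    have : z * z = u ^ 4 := by simp only [hz, pow_succ, pow_zero, one_mul, mul_assoc]
    rw [this, hu4']
  have hz1 : z ≠ 1 := by
    intro h
    have h2 : orderOf u ∣ 2 := orderOf_dvd_of_pow_eq_one (by rw [sq]; exact h)
    rw [hu4] at h2
    norm_num at h2
  have hzN : π z = 1 := by
    rw [hz, map_mul]
    exact map_sylow_sq π hS T huT
  -- `z` is central in `T`
  have hzc : ∀ t ∈ (T : Subgroup G), t * z = z * t := by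
    haveI : Nontrivial (T : Subgroup G) := by
      refine ⟨⟨⟨u, huT⟩, 1, fun h => ?_⟩⟩
      have h1 : u = 1 := congrArg Subtype.val h
      rw [h1, orderOf_one] at hu4
      norm_num at hu4
    haveI := T.isPGroup'.center_nontrivial
    obtain ⟨⟨c, hcz⟩, hc⟩ := exists_ne (1 : Subgroup.center (T : Subgroup G))
    have hc1 : (c : G) ≠ 1 := by
      intro h
      apply hc
      apply Subtype.ext
      exact Subtype.ext h
    have hcT : ∀ t ∈ (T : Subgroup G), t * (c : G) = (c : G) * t := by
      intro t ht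
      have := (Subgroup.mem_center_iff.mp hcz) ⟨t, ht⟩
      exact congrArg Subtype.val this
    have hcu : (c : G) ∈ Subgroup.zpowers u := by
      rw [← hCu, Subgroup.mem_centralizer_singleton_iff]
      exact (hcT u huT).symm
    have hzcc : z = (c : G) ∨ z = (c : G) * c := by
      rcases zpowers_four hu4 hcu with h | h | h | h
      · exact absurd h hc1
      · right; rw [h]
      · left; exact h.symm
      · right
        rw [h]
        have h6 : u * u * u * (u * u * u) = u ^ 4 * (u * u) := by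
          simp only [pow_succ, pow_zero, one_mul, mul_assoc]
        rw [h6, hu4', one_mul]
    intro t ht
    rcases hzcc with h | h
    · rw [h]; exact hcT t ht
    · rw [h]
      calc t * ((c : G) * c) = (t * c) * c := by rw [mul_assoc]
        _ = (c * t) * c := by rw [hcT t ht]
        _ = c * (t * c) := by rw [mul_assoc]
        _ = c * (c * t) := by rw [hcT t ht]
        _ = (c : G) * c * t := by rw [mul_assoc]
  have hxx : ∀ x ∈ (T : Subgroup G), π x ≠ 1 → x * x = z := by
    intro x hx hx1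
    obtain ⟨ho, hCx⟩ := centralizer_conj_eq hu4 hC (hconj x (map_sylow_sq π hS T hx) hx1)
    have hzC : z ∈ Subgroup.zpowers x := by
      rw [← hCx, Subgroup.mem_centralizer_singleton_iff]
      exact (hzc x hx).symm
    rcases sq_eq_of_zpowers_four ho hzC hzz with h | h
    · exact absurd h hz1
    · exact h.symm
  have hrxr : ∀ x ∈ (T : Subgroup G), π x ≠ 1 → ∀ r ∈ (T : Subgroup G), π r = 1 → r * x * r = x := by
    intro x hx hx1 r hr hr1
    have h1 : π (x * r) ≠ 1 := by rw [map_mul, hr1, mul_one]; exact hx1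
    have h2 := hxx (x * r) ((T : Subgroup G).mul_mem hx hr) h1
    rw [← hxx x hx hx1] at h2
    have h3 : x * (r * x * r) = x * x := by rw [← h2]; group
    exact mul_left_cancel h3
  obtain ⟨y, hyT, hy1, huy1⟩ := second_coset π hπ hS4 hS T huT hu1
  have hr2 : ∀ r ∈ (T : Subgroup G), π r = 1 → r * r = 1 := by
    intro r hr hr1
    have hA := hrxr u huT hu1 r hr hr1
    have hB := hrxr y hyT hy1 r hr hr1
    have hCc := hrxr (u * y) ((T : Subgroup G).mul_mem huT hyT) huy1 r hr hr1
    have h1 : r * (u * y) * r = r * u * (r * r) * y * r := by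
      rw [hCc]
      calc u * y = (r * u * r) * (r * y * r) := by rw [hA, hB]
        _ = r * u * (r * r) * y * r := by group
    have h2 : y = r * r * y := by
      have h3 : r * u * y * r = r * u * (r * r * y) * r := by
        calc r * u * y * r = r * (u * y) * r := by group
          _ = r * u * (r * r) * y * r := h1
          _ = r * u * (r * r * y) * r := by group
      exact mul_left_cancel (mul_right_cancel h3)
    exact mul_right_cancel (b := y) (by rw [one_mul]; exact h2.symm)
  have hDD : ∀ r ∈ (T : Subgroup G), π r = 1 → r = 1 ∨ r = z := by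
    intro r hr hr1
    have h1 := hrxr u huT hu1 r hr hr1
    have h2 := hr2 r hr hr1
    have h3 : r * u = u * r := by
      calc r * u = r * u * r * r := by rw [mul_assoc (r * u), h2, mul_one]
        _ = u * r := by rw [h1]
    have h4 : r ∈ Subgroup.zpowers u := by
      rw [← hCu, Subgroup.mem_centralizer_singleton_iff]
      exact h3
    exact sq_eq_of_zpowers_four hu4 h4 h2
  have hT8 : Nat.card (T : Subgroup G) = 8 := by
    have h1 := card_sylow_eq π hπ hS4 T
    have h2 : (T : Subgroup G) ⊓ π.ker = Subgroup.zpowers z := by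
      apply le_antisymm
      · rintro r ⟨hr, hr1⟩
        rcases hDD r hr hr1 with h | h
        · rw [h]; exact Subgroup.one_mem _
        · rw [h]; exact Subgroup.mem_zpowers z
      · intro r hr
        obtain ⟨k, rfl⟩ := Subgroup.mem_zpowers_iff.mp hr
        have hzT : z ∈ (T : Subgroup G) := (T : Subgroup G).mul_mem huT huT
        exact ⟨Subgroup.zpow_mem _ hzT k, Subgroup.zpow_mem _ hzN k⟩
    have h3 : orderOf z = 2 := orderOf_eq_prime (by rw [sq]; exact hzz) hz1
    rw [h2, Nat.card_zpowers, h3] at h1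
    rw [h1]
  exact ⟨T, huT, hT8, hxx, hzc, hDD, y, hyT, hy1, huy1⟩

/-- Sub-lemma: the order of the odd core when `N` has order twice an odd number. -/
theorem card_oddCore_eq {N : Subgroup G} [hN : N.Normal] (hle : oddCore G ≤ N) {m : ℕ} (hm : Odd m)
    (hNc : Nat.card N = 2 * m) : Nat.card (oddCore G) = m := by
  classical
  haveI : Fact (Nat.Prime 2) := ⟨Nat.prime_two⟩
  -- the odd-order normal subgroup of `N`
  let H := ↥N
  have hmpos : 0 < m := hm.pos
  obtain ⟨P⟩ : Nonempty (Sylow 2 H) := inferInstance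
  obtain ⟨k, hk⟩ := IsPGroup.iff_card.mp P.isPGroup'
  have hPi := (P : Subgroup H).card_mul_index
  rw [hk, hNc] at hPi
  have hnd : ¬ 2 ∣ (P : Subgroup H).index := P.not_dvd_index
  have hk1 : k = 1 := by
    have h1 : k ≠ 0 := by
      rintro rfl
      apply hnd
      rw [pow_zero, one_mul] at hPi
      rw [hPi]
      exact dvd_mul_right _ _
    have h2 : k < 2 := by
      by_contra h3
      push Not at h3
      have h4 : 4 ∣ 2 * m := by
        rw [← hPi]
        exact Dvd.dvd.mul_right ((pow_dvd_pow 2 h3 : (2 : ℕ) ^ 2 ∣ 2 ^ k)) _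
      obtain ⟨c, hc⟩ := h4
      have h5 : m = 2 * c := by omega
      rw [h5] at hm
      exact (Nat.not_odd_iff_even.mpr (even_two_mul c)) hm
    omega
  subst hk1
  have hP2 : Nat.card (P : Subgroup H) = 2 := by rw [hk, pow_one]
  haveI : Fact (Nat.card (P : Subgroup H)).Prime := ⟨by rw [hP2]; exact Nat.prime_two⟩
  have hcyc : IsCyclic (P : Subgroup H) := isCyclic_of_prime_card rfl
  have hmf : (Nat.card H).minFac = 2 := by
    rw [Nat.minFac_eq_two_iff]
    show 2 ∣ Nat.card N
    rw [hNc]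
    exact dvd_mul_right _ _
  have hcompl := IsCyclic.isComplement' hmf hcyc
  let K : Subgroup H := (MonoidHom.transferSylow P (hcyc.normalizer_le_centralizer hmf)).ker
  have hKn : K.Normal := MonoidHom.normal_ker _
  have hKc : Nat.card K = m := by
    have h1 : Nat.card K * Nat.card (P : Subgroup H) = Nat.card H := hcompl.card_mul_card
    rw [hP2] at h1
    have h2 : Nat.card H = 2 * m := hNc
    rw [h2] at h1
    omega
  have hKcop : (Nat.card K).Coprime 2 := by
    rw [hKc]
    exact Nat.coprime_two_right.mpr hm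
  have hKle : K ≤ pPrimeCore 2 H := Cfsg.Agent.Lib.PCore.le_pPrimeCore hKn hKcop
  have hO₀c : Nat.card (pPrimeCore 2 H) = m := by
    have h1 : Nat.card K ∣ Nat.card (pPrimeCore 2 H) := Subgroup.card_dvd_of_le hKle
    have h2 : Nat.card (pPrimeCore 2 H) ∣ Nat.card H := Subgroup.card_subgroup_dvd_card _
    have h3 : Nat.card H = 2 * m := hNc
    rw [h3] at h2
    have h4 := Cfsg.Agent.Lib.PCore.card_pPrimeCore_coprime (G := H) 2
    have h5 : Nat.card (pPrimeCore 2 H) ∣ m := h4.dvd_of_dvd_mul_left h2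
    rw [hKc] at h1
    exact Nat.dvd_antisymm h5 h1
  let O' : Subgroup G := (pPrimeCore 2 H).map N.subtype
  have hO'n : O'.Normal := Cfsg.Agent.Lib.OddInvert.map_char_normal hN _ inferInstance
  have hO'c : Nat.card O' = m := by
    have : Nat.card O' = Nat.card (pPrimeCore 2 H) :=
      Subgroup.card_map_of_injective N.subtype_injective
    rw [this, hO₀c]
  have hO'cop : (Nat.card O').Coprime 2 := by
    rw [hO'c]
    exact Nat.coprime_two_right.mpr hm
  have hO'le : O' ≤ oddCore G := Cfsg.Agent.Lib.PCore.le_pPrimeCore hO'n hO'cop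
  have h1 : Nat.card O' ∣ Nat.card (oddCore G) := Subgroup.card_dvd_of_le hO'le
  have h2 : Nat.card (oddCore G) ∣ Nat.card N := Subgroup.card_dvd_of_le hle
  rw [hNc] at h2
  have h4 := Cfsg.Agent.Lib.PCore.card_pPrimeCore_coprime (G := G) 2
  have h5 : Nat.card (oddCore G) ∣ m := h4.dvd_of_dvd_mul_left h2
  rw [hO'c] at h1
  exact Nat.dvd_antisymm h5 h1

/-- The case of an element of order four. -/
theorem case_four (hperf : commutator G = ⊤) (π : G →* X) (hπ : Function.Surjective π)
    (hA5 : Nonempty (X ≃* alternatingGroup (Fin 5))) {u : G} (hu4 : orderOf u = 4) (hu1 : π u ≠ 1)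
    (hC : Nat.card (Subgroup.centralizer ({u} : Set G)) = 4)
    (hconj : ∀ g : G, π g * π g = 1 → π g ≠ 1 → IsConj u g)
    (hS : ∀ S : Sylow 2 X, ∀ a ∈ (S : Subgroup X), a * a = 1)
    (hS4 : ∀ S : Sylow 2 X, Nat.card (S : Subgroup X) = 4) :
    IsMulCommutative ↥(oddCore G) ∧
      Nonempty (G ⧸ oddCore G ≃* Matrix.SpecialLinearGroup (Fin 2) (ZMod 5)) := by
  classical
  haveI : Fact (Nat.Prime 2) := ⟨Nat.prime_two⟩
  obtain ⟨T, huT, hT8, hxx, hzc, hDD, y, hyT, hy1, huy1⟩ :=
    sylow_data π hπ hu4 hu1 hC hconj hS hS4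
  set z := u * u with hz
  have hu4' : u ^ 4 = 1 := by rw [← hu4]; exact pow_orderOf_eq_one u
  have hzz : z * z = 1 := by
    have : z * z = u ^ 4 := by simp only [hz, pow_succ, pow_zero, one_mul, mul_assoc]
    rw [this, hu4']
  have hz1 : z ≠ 1 := by
    intro h
    have h2 : orderOf u ∣ 2 := orderOf_dvd_of_pow_eq_one (by rw [sq]; exact h)
    rw [hu4] at h2
    norm_num at h2
  have hzT : z ∈ (T : Subgroup G) := (T : Subgroup G).mul_mem huT huT
  have huyT : u * y ∈ (T : Subgroup G) := (T : Subgroup G).mul_mem huT hyT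
  -- the Sylow subgroup is quaternion
  have hna : ¬ ∀ a b : (T : Subgroup G), a * b = b * a := by
    intro h
    have h1 : u * y = y * u := congrArg Subtype.val (h ⟨u, huT⟩ ⟨y, hyT⟩)
    have h2 := hxx _ huyT huy1
    have h3 : u * y * (u * y) = u * u * (y * y) := by
      calc u * y * (u * y) = u * (y * u) * y := by group
        _ = u * (u * y) * y := by rw [← h1]
        _ = u * u * (y * y) := by group
    rw [h3, ← hz, hxx y hyT hy1, hzz] at h2
    exact hz1 h2.symm
  have hQ8 : Nonempty ((T : Subgroup G) ≃* QuaternionGroup 2) := by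
    rcases Cfsg.Agent.Lib.Order8.d8_or_q8 hT8 hna with ⟨⟨e⟩⟩ | h
    · exfalso
      have hinvol : ∀ t : (T : Subgroup G), t * t = 1 → t ≠ 1 → (t : G) = z := by
        intro t ht ht1
        have ht' : (t : G) * t = 1 := congrArg Subtype.val ht
        have ht1' : (t : G) ≠ 1 := fun h => ht1 (Subtype.ext h)
        by_cases hp : π t = 1
        · rcases hDD t t.2 hp with h | h
          · exact absurd h ht1'
          · exact h
        · exfalso
          have := hxx t t.2 hp
          rw [ht'] at this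
          exact hz1 this.symm
      have hD : ∀ i : ZMod 4, (DihedralGroup.sr i : DihedralGroup 4) * DihedralGroup.sr i = 1 := by
        intro i
        rw [DihedralGroup.sr_mul_sr, sub_self, DihedralGroup.r_zero]
      have hmk : ∀ i : ZMod 4, (e.symm (DihedralGroup.sr i) : G) = z := by
        intro i
        apply hinvol
        · rw [← map_mul, hD, map_one]
        · intro h
          have := e.symm.injective (h.trans (map_one e.symm).symm)
          rw [DihedralGroup.one_def] at this
          cases this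
      have h01 : e.symm (DihedralGroup.sr (0 : ZMod 4)) = e.symm (DihedralGroup.sr 1) :=
        Subtype.ext ((hmk 0).trans (hmk 1).symm)
      have := e.symm.injective h01
      exact absurd (DihedralGroup.sr.inj this) (by decide)
    · exact h
  obtain ⟨eQ⟩ := hQ8
  -- orders
  obtain ⟨e⟩ := id hA5
  have hXc : Nat.card X = 60 := by
    rw [Nat.card_congr e.toEquiv, Nat.card_eq_fintype_card]
    decide
  set N := π.ker with hN
  have hNn : N.Normal := MonoidHom.normal_ker π
  have hGN : Nat.card G = 60 * Nat.card N := by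
    have h6 := Subgroup.card_eq_card_quotient_mul_card_subgroup N
    rw [h6, ← hXc]
    congr 1
    exact Nat.card_congr (QuotientGroup.quotientKerEquivOfSurjective π hπ).toEquiv
  have hGT : Nat.card G = 8 * (T : Subgroup G).index := by
    rw [← (T : Subgroup G).card_mul_index, hT8]
  have hnd : ¬ 2 ∣ (T : Subgroup G).index := T.not_dvd_index
  obtain ⟨m, hNm⟩ : ∃ m : ℕ, Nat.card N = 2 * m := by
    have h1 : 15 * Nat.card N = 2 * (T : Subgroup G).index := by omega
    exact ⟨Nat.card N / 2, by omega⟩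
  have hmi : (T : Subgroup G).index = 15 * m := by omega
  have hm : Odd m := by
    by_contra hno
    rw [Nat.not_odd_iff_even] at hno
    apply hnd
    rw [hmi]
    exact Dvd.dvd.mul_left hno.two_dvd _
  have hcoreN : oddCore G ≤ N := oddCore_le_ker π hπ hA5
  have hOc := card_oddCore_eq hcoreN hm hNm
  have hmpos : 0 < m := hm.pos
  set O := oddCore G with hO
  have hOn : O.Normal := pPrimeCore_normal 2 G
  have hG' : Nat.card (G ⧸ O) = 120 := by
    have h1 := Subgroup.card_eq_card_quotient_mul_card_subgroup O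
    rw [hOc, hGN, hNm] at h1
    have h2 : Nat.card (G ⧸ O) * m = 120 * m := by rw [← h1]; ring
    exact Nat.eq_of_mul_eq_mul_right hmpos h2
  have hOodd : ∀ x ∈ O, x * x = 1 → x = 1 := by
    intro x hx hxx'
    have h1 : orderOf x ∣ 2 := orderOf_dvd_of_pow_eq_one (by rw [sq]; exact hxx')
    have h2 : orderOf x ∣ Nat.card O := Subgroup.orderOf_dvd_natCard _ hx
    have h3 : Nat.Coprime (Nat.card O) 2 := Cfsg.Agent.Lib.PCore.card_pPrimeCore_coprime (G := G) 2
    have h4 : orderOf x = 1 := Nat.Coprime.eq_one_of_dvd (Nat.Coprime.coprime_dvd_left h2 h3) h1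
    exact orderOf_eq_one_iff.mp h4
  have hTO : ∀ t ∈ (T : Subgroup G), t ∈ O → t = 1 := by
    intro t ht htO
    obtain ⟨k, hk⟩ := T.isPGroup' ⟨t, ht⟩
    have hk' : t ^ 2 ^ k = 1 := congrArg Subtype.val hk
    have h1 : orderOf t ∣ 2 ^ k := orderOf_dvd_of_pow_eq_one hk'
    have h2 : orderOf t ∣ Nat.card O := Subgroup.orderOf_dvd_natCard _ htO
    have h3 : Nat.Coprime (Nat.card O) 2 := Cfsg.Agent.Lib.PCore.card_pPrimeCore_coprime (G := G) 2
    have h4 : Nat.Coprime (orderOf t) (2 ^ k) :=
      Nat.Coprime.pow_right k (Nat.Coprime.coprime_dvd_left h2 h3)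
    exact orderOf_eq_one_iff.mp (Nat.Coprime.eq_one_of_dvd h4 h1)
  constructor
  · -- the odd core is abelian
    have hfixx : ∀ x ∈ (T : Subgroup G), π x ≠ 1 → ∀ k ∈ O, k * z = z * k →
        x * k * x⁻¹ = k⁻¹ := by
      intro x hx hx1 k hk hkz
      obtain ⟨ho, hCx⟩ := centralizer_conj_eq hu4 hC (hconj x (map_sylow_sq π hS T hx) hx1)
      have hxxz := hxx x hx hx1
      let K : Subgroup G := O ⊓ Subgroup.centralizer ({z} : Set G)
      have hK := inv_of_fpf K x
        (by
          rintro a ⟨ha, haz'⟩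
          refine ⟨hOn.conj_mem a ha x, ?_⟩
          have haz : a * z = z * a := Subgroup.mem_centralizer_singleton_iff.mp haz'
          show x * a * x⁻¹ ∈ Subgroup.centralizer ({z} : Set G)
          rw [Subgroup.mem_centralizer_singleton_iff]
          have h1 := hzc x hx
          calc x * a * x⁻¹ * z = x * a * (x⁻¹ * z) := by group
            _ = x * a * (z * x⁻¹) := by
              congr 1
              have : z * x⁻¹ = x⁻¹ * (x * z) * x⁻¹ := by group
              rw [this, h1]
              group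
            _ = x * (a * z) * x⁻¹ := by group
            _ = x * (z * a) * x⁻¹ := by rw [haz]
            _ = (x * z) * a * x⁻¹ := by group
            _ = z * (x * a * x⁻¹) := by rw [h1]; group)
        (by
          rintro a ⟨-, haz'⟩
          have haz : a * z = z * a := Subgroup.mem_centralizer_singleton_iff.mp haz'
          rw [hxxz]
          exact haz.symm)
        (by
          rintro a ⟨haO, -⟩ hfix
          have h1 : a ∈ Subgroup.zpowers x := by
            rw [← hCx, Subgroup.mem_centralizer_singleton_iff]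
            calc a * x = x * a * x⁻¹ * x := by rw [hfix]
              _ = x * a := by group
          -- elements of a cyclic 2-group in the odd core are trivial
          have h2 : a ∈ (T : Subgroup G) := by
            have hzpT : Subgroup.zpowers x ≤ (T : Subgroup G) := by
              rw [Subgroup.zpowers_le]
              exact hx
            exact hzpT h1
          exact hTO a h2 haO)
      exact hK k ⟨hk, Subgroup.mem_centralizer_singleton_iff.mpr hkz⟩
    have hfpf : O ⊓ Subgroup.centralizer ({z} : Set G) = ⊥ := by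
      rw [eq_bot_iff]
      rintro k ⟨hk, hkz'⟩
      have hkz : k * z = z * k := Subgroup.mem_centralizer_singleton_iff.mp hkz'
      have h1 := hfixx u huT hu1 k hk hkz
      have h2 := hfixx y hyT hy1 k hk hkz
      have h3 := hfixx (u * y) huyT huy1 k hk hkz
      have h4 : (u * y) * k * (u * y)⁻¹ = u * (y * k * y⁻¹) * u⁻¹ := by group
      rw [h4, h2] at h3
      have h5 : u * k⁻¹ * u⁻¹ = (u * k * u⁻¹)⁻¹ := by group
      rw [h5, h1, inv_inv] at h3
      rw [Subgroup.mem_bot]
      apply hOodd k hk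
      calc k * k = k * k⁻¹ := by rw [← h3]
        _ = 1 := by group
    have hnorm : z ∈ Subgroup.normalizer (O : Set G) := by
      rw [Subgroup.mem_normalizer_iff]
      intro h
      constructor
      · intro hh; exact hOn.conj_mem h hh z
      · intro hh
        have := hOn.conj_mem _ hh z⁻¹
        simpa [mul_assoc] using this
    exact comm_of_inverted O z (Cfsg.Agent.Lib.FpfCenter.inv_of_involution O z hzz hnorm hfpf)
  · -- the quotient is `SL₂(5)`
    let ρ : G →* G ⧸ O := QuotientGroup.mk' O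
    have hρ : Function.Surjective ρ := QuotientGroup.mk'_surjective O
    have hns : ¬ Group.IsSolvable (G ⧸ O) := by
      intro hsol
      haveI := hsol
      have h1 : ∀ a : G ⧸ O, a = 1 := by
        intro a
        obtain ⟨g, rfl⟩ := hρ a
        exact Cfsg.Agent.Lib.BenderPair.hom_trivial_of_perfect hperf ρ g
      have h2 : Nat.card (G ⧸ O) = 1 := Nat.card_eq_one_iff_unique.mpr ⟨⟨fun a b => by rw [h1 a, h1 b]⟩, ⟨1⟩⟩
      omega
    let T' : Sylow 2 (G ⧸ O) := T.mapSurjective hρ
    have hT' : (T' : Subgroup (G ⧸ O)) = (T : Subgroup G).map ρ := Sylow.coe_mapSurjective hρ T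
    let f : (T : Subgroup G) →* G ⧸ O := ρ.domRestrict (T : Subgroup G)
    have hf : Function.Injective f := by
      rw [injective_iff_map_eq_one]
      intro t ht
      have h1 : ρ (t : G) = 1 := ht
      have h2 : (t : G) ∈ O := (QuotientGroup.eq_one_iff _).mp h1
      exact Subtype.ext (hTO _ t.2 h2)
    have hfr : f.range = (T' : Subgroup (G ⧸ O)) := by
      rw [hT', MonoidHom.domRestrict_range]
    let eT : (T : Subgroup G) ≃* (T' : Subgroup (G ⧸ O)) :=
      (MonoidHom.ofInjective hf).trans (MulEquiv.subgroupCongr hfr)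
    exact Cfsg.Agent.S3378.result.1 (G ⧸ O) hG' hns fun P =>
      ⟨(P.equiv T').trans (eT.symm.trans eQ)⟩

end CaseFour

end Cfsg.Agent.Lib.UFour9E
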