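/-
UniqFix: a group acting on a finite set, D a set of involutions closed under conjugation by itself,
each having exactly one fixed point, and such that the product of two distinct commuting members of D
again has exactly one fixed point. If every point is fixed by a member of D and there are at least
two points, then the number of members of D fixing a given point is odd (Aschbacher-type lemma).
-/
import Mathlib
import Cfsg.Agent.Lib.InvolutionCount

set_option autoImplicit false
set_option linter.style.haveILetI false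
set_option linter.unusedSectionVars false

namespace Cfsg.Agent.Lib.UniqFix

universe u

/-! ### Parity -/
section Parity
variable {α β : Type*}

theorem even_ncard_of_fpf [Finite α] (S : Set α) (f : α → α) (hS : ∀ a ∈ S, f a ∈ S)
    (hf : ∀ a ∈ S, f (f a) = a) (hne : ∀ a ∈ S, f a ≠ a) : Even S.ncard := by
  classical
  have hfin : S.Finite := Set.toFinite _
  rw [Set.ncard_eq_toFinset_card S hfin]
  have h : ∑ a ∈ hfin.toFinset, (1 : ZMod 2) = 0 := by
    refine Finset.sum_involution (fun a _ => f a) (fun _ _ => by decide) ?_ ?_ ?_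
    · intro a ha _
      exact hne a (hfin.mem_toFinset.mp ha)
    · intro a ha
      exact hfin.mem_toFinset.mpr (hS a (hfin.mem_toFinset.mp ha))
    · intro a ha
      exact hf a (hfin.mem_toFinset.mp ha)
  rw [Finset.sum_const, nsmul_eq_mul, mul_one] at h
  exact (ZMod.natCast_eq_zero_iff_even).mp h

theorem ncard_parity [Finite α] (S : Set α) (f : α → α) (hS : ∀ a ∈ S, f a ∈ S)
    (hf : ∀ a ∈ S, f (f a) = a) : Even S.ncard ↔ Even {a ∈ S | f a = a}.ncard := by
  classical
  have hsplit : S = {a ∈ S | f a = a} ∪ {a ∈ S | f a ≠ a} := by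
    ext a
    by_cases h : f a = a <;> simp [h]
  have hdis : Disjoint {a ∈ S | f a = a} {a ∈ S | f a ≠ a} := by
    rw [Set.disjoint_left]
    rintro a ⟨_, h1⟩ ⟨_, h2⟩
    exact h2 h1
  have hcard : S.ncard = {a ∈ S | f a = a}.ncard + {a ∈ S | f a ≠ a}.ncard := by
    conv_lhs => rw [hsplit]
    exact Set.ncard_union_eq hdis (Set.toFinite _) (Set.toFinite _)
  have heven : Even {a ∈ S | f a ≠ a}.ncard := by
    refine even_ncard_of_fpf _ f ?_ ?_ ?_
    · rintro a ⟨ha, hne⟩
      refine ⟨hS a ha, ?_⟩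
      intro h
      apply hne
      have := hf a ha
      rw [h] at this
      exact this
    · rintro a ⟨ha, _⟩
      exact hf a ha
    · rintro a ⟨_, hne⟩
      exact hne
  rw [hcard, Nat.even_add]
  simp [heven]

theorem odd_ncard_fixed [Finite α] (S : Set α) (f : α → α) (hS : ∀ a ∈ S, f a ∈ S)
    (hf : ∀ a ∈ S, f (f a) = a) (hodd : Odd S.ncard) : Odd {a ∈ S | f a = a}.ncard := by
  rw [← Nat.not_even_iff_odd] at hodd ⊢
  rwa [← ncard_parity S f hS hf]

theorem odd_of_unique_fixed [Finite α] (S : Set α) (f : α → α) (hS : ∀ a ∈ S, f a ∈ S)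
    (hf : ∀ a ∈ S, f (f a) = a) (a₀ : α) (ha₀ : a₀ ∈ S) (h0 : f a₀ = a₀)
    (huniq : ∀ a ∈ S, f a = a → a = a₀) : Odd S.ncard := by
  have h1 : {a ∈ S | f a = a} = {a₀} := by
    ext a
    constructor
    · rintro ⟨ha, hfa⟩
      exact huniq a ha hfa
    · rintro rfl
      exact ⟨ha₀, h0⟩
  rw [← Nat.not_even_iff_odd, ncard_parity S f hS hf, h1, Set.ncard_singleton]
  decide

theorem exists_fixed_of_odd [Finite α] (S : Set α) (f : α → α) (hS : ∀ a ∈ S, f a ∈ S)
    (hf : ∀ a ∈ S, f (f a) = a) (hodd : Odd S.ncard) : ∃ a ∈ S, f a = a := by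
  by_contra hcon
  push Not at hcon
  rw [← Nat.not_even_iff_odd] at hodd
  exact hodd (even_ncard_of_fpf S f hS hf hcon)

theorem odd_ncard_of_partition [Finite α] [Finite β] (S : Set α) (E : Set β) (F : β → Set α)
    (hE : Odd E.ncard) (hF : ∀ e ∈ E, Odd (F e).ncard) (hcov : ∀ a ∈ S, ∃ e ∈ E, a ∈ F e)
    (hsub : ∀ e ∈ E, F e ⊆ S) (hdis : ∀ e ∈ E, ∀ e' ∈ E, ∀ a, a ∈ F e → a ∈ F e' → e = e') :
    Odd S.ncard := by
  classical
  have hfS : S.Finite := Set.toFinite _
  have hfE : E.Finite := Set.toFinite _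
  have hfF : ∀ e, (F e).Finite := fun e => Set.toFinite _
  rw [Set.ncard_eq_toFinset_card S hfS]
  rw [Set.ncard_eq_toFinset_card E hfE] at hE
  have hU : hfS.toFinset = hfE.toFinset.biUnion (fun e => (hfF e).toFinset) := by
    ext a
    simp only [Set.Finite.mem_toFinset, Finset.mem_biUnion]
    constructor
    · intro ha
      exact hcov a ha
    · rintro ⟨e, he, hae⟩
      exact hsub e he hae
  rw [hU, Finset.card_biUnion]
  · rw [Finset.odd_sum_iff_odd_card_odd]
    have : (hfE.toFinset.filter fun e => Odd ((hfF e).toFinset.card)) = hfE.toFinset := by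
      apply Finset.filter_true_of_mem
      intro e he
      have := hF e (hfE.mem_toFinset.mp he)
      rwa [Set.ncard_eq_toFinset_card _ (hfF e)] at this
    rw [this]
    exact hE
  · intro e he e' he' hne
    show Disjoint ((hfF e).toFinset) ((hfF e').toFinset)
    rw [Finset.disjoint_left]
    intro a ha ha'
    exact hne (hdis e (hfE.mem_toFinset.mp he) e' (hfE.mem_toFinset.mp he') a
      ((hfF e).mem_toFinset.mp ha) ((hfF e').mem_toFinset.mp ha'))

end Parity

/-! ### Dihedral relations -/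
section Dihedral
variable {G : Type*} [Group G]

theorem inv_eq_self {a : G} (ha : a * a = 1) : a⁻¹ = a := inv_eq_of_mul_eq_one_left ha

theorem invert_pow {a c : G} (ha : a * a = 1) (h : a * c * a = c⁻¹) (i : ℕ) :
    a * c ^ i * a = (c ^ i)⁻¹ := by
  have h1 : a * c * a⁻¹ = c⁻¹ := by rw [inv_eq_self ha]; exact h
  have h2 := conj_pow (a := a) (b := c) (i := i)
  rw [h1] at h2
  rw [← inv_pow, h2, inv_eq_self ha]

theorem left_invert {a b : G} (ha : a * a = 1) (hb : b * b = 1) : a * (a * b) * a = (a * b)⁻¹ := by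
  rw [mul_inv_rev, inv_eq_self ha, inv_eq_self hb, ← mul_assoc, ha, one_mul]

theorem right_invert {a b : G} (ha : a * a = 1) (hb : b * b = 1) : b * (a * b) * b = (a * b)⁻¹ := by
  rw [mul_inv_rev, inv_eq_self ha, inv_eq_self hb, mul_assoc, mul_assoc, hb, mul_one]

theorem comm_of_conj {a w : G} (ha : a * a = 1) (h : a * w * a = w) : a * w = w * a := by
  calc a * w = (a * w * a) * a := by rw [mul_assoc (a * w), ha, mul_one]
    _ = w * a := by rw [h]

theorem even_core [Finite G] {a b : G} (ha : a * a = 1) (hb : b * b = 1) {m : ℕ} (hm : 0 < m)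
    (hn : orderOf (a * b) = m + m) :
    (a * b) ^ m ≠ 1 ∧ (a * b) ^ m * (a * b) ^ m = 1 ∧ a * (a * b) ^ m = (a * b) ^ m * a ∧
      b * (a * b) ^ m = (a * b) ^ m * b := by
  have h1 : (a * b) ^ m ≠ 1 := pow_ne_one_of_lt_orderOf (Nat.pos_iff_ne_zero.mp hm) (by omega)
  have h2 : (a * b) ^ m * (a * b) ^ m = 1 := by
    rw [← pow_add, ← hn, pow_orderOf_eq_one]
  have h3 : ((a * b) ^ m)⁻¹ = (a * b) ^ m := inv_eq_of_mul_eq_one_left h2
  refine ⟨h1, h2, ?_, ?_⟩
  · apply comm_of_conj ha
    rw [invert_pow ha (left_invert ha hb), h3]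
  · apply comm_of_conj hb
    rw [invert_pow hb (right_invert ha hb), h3]

end Dihedral

/-! ### Configurations -/

/-- The axioms. -/
structure Conf (G : Type*) (Ω : Type*) [Group G] [MulAction G Ω] (D : Set G) : Prop where
  inv : ∀ d ∈ D, d * d = 1
  uf : ∀ d ∈ D, ∃! q : Ω, d • q = q
  conj : ∀ d ∈ D, ∀ e ∈ D, d * e * d ∈ D
  comm : ∀ d ∈ D, ∀ e ∈ D, d ≠ e → d * e = e * d → ∃! q : Ω, (d * e) • q = q

section Basic
variable {G : Type*} {Ω : Type*} [Group G] [MulAction G Ω] {D : Set G}

theorem fix_of_comm {g a : G} (h : a * g = g * a) {q : Ω} (huq : ∀ q', g • q' = q' → q' = q)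
    (hq : g • q = q) : a • q = q :=
  huq _ (by rw [smul_smul, ← h, mul_smul, hq])

theorem refl_mem (h : Conf G Ω D) {d e : G} (hd : d ∈ D) (he : e ∈ D) :
    ∀ i : ℕ, (d * e) ^ i * d ∈ D ∧ (d * e) ^ (i + 1) * d ∈ D := by
  intro i
  have hd2 := h.inv d hd
  have he2 := h.inv e he
  induction i with
  | zero => simpa using ⟨hd, h.conj d hd e he⟩
  | succ i ih =>
    refine ⟨ih.2, ?_⟩
    have h1 : (d * e) ^ (i + 1 + 1) * d = d * (e * ((d * e) ^ i * d) * e) * d := by
      rw [pow_succ, pow_succ']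
      simp only [mul_assoc]
    rw [h1]
    exact h.conj d hd _ (h.conj e he _ ih.1)

/-- Conjugation by the closure preserves `D`. -/
theorem conj_closure (h : Conf G Ω D) {g : G} (hg : g ∈ Subgroup.closure D) :
    ∀ y ∈ D, g * y * g⁻¹ ∈ D ∧ g⁻¹ * y * g ∈ D := by
  induction hg using Subgroup.closure_induction with
  | mem x hx =>
    intro y hy
    rw [inv_eq_self (h.inv x hx)]
    exact ⟨h.conj x hx y hy, h.conj x hx y hy⟩
  | one => intro y hy; simpa using hy
  | mul a b _ _ iha ihb =>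
    intro y hy
    constructor
    · have := (iha _ (ihb y hy).1).1
      simpa [mul_assoc] using this
    · have := (ihb _ (iha y hy).2).2
      simpa [mul_assoc] using this
  | inv a _ iha =>
    intro y hy
    rw [inv_inv]
    exact ⟨(iha y hy).2, (iha y hy).1⟩

variable [Finite G]

/-- The element `w` of an even dihedral group generated by two members of `D`: `w` has a
unique fixed point, which is the fixed point of both generators. -/
theorem even_mems (h : Conf G Ω D) {d e : G} (hd : d ∈ D) (he : e ∈ D) {m : ℕ} (hm : 0 < m)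
    (hn : orderOf (d * e) = m + m) :
    (d * e) ^ m * d ∈ D ∧ (d * e) ^ m * e ∈ D := by
  have hd2 := h.inv d hd
  have he2 := h.inv e he
  refine ⟨(refl_mem h hd he m).1, ?_⟩
  obtain ⟨k, rfl⟩ : ∃ k, m = k + 1 := ⟨m - 1, by omega⟩
  have : (d * e) ^ (k + 1) * e = (d * e) ^ k * d := by
    rw [pow_succ]
    simp only [mul_assoc, he2, mul_one]
  rw [this]
  exact (refl_mem h hd he k).1

/-- If `w` has `w*d ∈ D`, `w ≠ 1`, `w` commutes with `d`, then `w` has a unique fixed point. -/
theorem uf_of_mul_mem (h : Conf G Ω D) {d w : G} (hd : d ∈ D) (hw : w * d ∈ D) (hw1 : w ≠ 1)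
    (hc : d * w = w * d) : ∃! q : Ω, w • q = q := by
  have hd2 := h.inv d hd
  have hne : d ≠ w * d := by
    intro heq
    apply hw1
    have : 1 * d = w * d := by rw [one_mul]; exact heq
    exact (mul_right_cancel this).symm
  have hcomm : d * (w * d) = (w * d) * d := by
    rw [← mul_assoc, hc]
  have h1 := h.comm d hd (w * d) hw hne hcomm
  have h2 : d * (w * d) = w := by
    rw [← mul_assoc, hc, mul_assoc, hd2, mul_one]
  rwa [h2] at h1

theorem odd_of_ne (h : Conf G Ω D) {d e : G} (hd : d ∈ D) (he : e ∈ D) {q r : Ω} (hq : d • q = q)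
    (hr : e • r = r) (hne : q ≠ r) : Odd (orderOf (d * e)) := by
  by_contra hcon
  rw [Nat.not_odd_iff_even] at hcon
  obtain ⟨m, hm⟩ := hcon
  have hm0 : 0 < m := by
    have := orderOf_pos (d * e)
    omega
  have hd2 := h.inv d hd
  have he2 := h.inv e he
  obtain ⟨h1, _, h3, h4⟩ := even_core hd2 he2 hm0 hm
  obtain ⟨h5, h6⟩ := even_mems h hd he hm0 hm
  obtain ⟨p, hp, hpu⟩ := uf_of_mul_mem h hd h5 h1 h3
  obtain ⟨p', hp', hpu'⟩ := uf_of_mul_mem h he h6 h1 h4
  have hpp : p' = p := hpu p' hp'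
  subst hpp
  have h7 : d • p' = p' := fix_of_comm h3 hpu hp
  have h8 : e • p' = p' := fix_of_comm h4 hpu hp
  obtain ⟨_, _, hqu⟩ := h.uf d hd
  have := (h.uf d hd).unique hq h7
  have := (h.uf e he).unique hr h8
  exact hne (by simp_all)

/-- Any two distinct points are interchanged by a member of `D`. -/
theorem exists_move (h : Conf G Ω D) (hd : ∀ q : Ω, ∃ d ∈ D, d • q = q) {q r : Ω} (hne : q ≠ r) :
    ∃ d ∈ D, d • q = r := by
  obtain ⟨a, ha, haq⟩ := hd q
  obtain ⟨b, hb, hbr⟩ := hd r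
  have ha2 := h.inv a ha
  have hb2 := h.inv b hb
  have hodd := odd_of_ne h ha hb haq hbr hne
  obtain ⟨k, hk⟩ := hodd
  refine ⟨(a * b) ^ k * a, (refl_mem h ha hb k).1, ?_⟩
  have hc : (a * b) ^ (2 * k + 1) = 1 := by rw [← hk, pow_orderOf_eq_one]
  have h1 : ((a * b) ^ (k + 1))⁻¹ = (a * b) ^ k := by
    apply inv_eq_of_mul_eq_one_left
    rw [← pow_add, ← hc]
    congr 1
    omega
  have h2 : b * (a * b) ^ k = (a * b) ^ k * a := by
    have h3 : b = a * (a * b) := by rw [← mul_assoc, ha2, one_mul]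
    have h4 : a * (a * b) ^ (k + 1) * a = ((a * b) ^ (k + 1))⁻¹ :=
      invert_pow ha2 (left_invert ha2 hb2) (k + 1)
    rw [h1] at h4
    calc b * (a * b) ^ k = (a * (a * b)) * (a * b) ^ k := by rw [← h3]
      _ = a * (a * b) ^ (k + 1) := by rw [mul_assoc, pow_succ']
      _ = (a * (a * b) ^ (k + 1) * a) * a := by rw [mul_assoc _ a a, ha2, mul_one]
      _ = (a * b) ^ k * a := by rw [h4]
  have h5 : b • ((a * b) ^ k • q) = (a * b) ^ k • q := by
    rw [smul_smul, h2, mul_smul, haq]
  have h6 := (h.uf b hb).unique h5 hbr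
  rw [mul_smul, haq, h6]

end Basic

section Move
variable {G : Type*} {Ω : Type*} [Group G] [MulAction G Ω] [Finite G] {D : Set G}

theorem inv_move {d : G} (hd2 : d * d = 1) {q r : Ω} (h : d • q = r) : d • r = q := by
  rw [← h, smul_smul, hd2, one_smul]

/-- The members of `D` moving `q` to `r` are odd in number. -/
theorem odd_move (h : Conf G Ω D) (hd : ∀ q : Ω, ∃ d ∈ D, d • q = q) {q r : Ω} (hne : q ≠ r) :
    Odd {d ∈ D | d • q = r}.ncard := by
  obtain ⟨a, ha, haq⟩ := exists_move h hd hne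
  have ha2 := h.inv a ha
  refine odd_of_unique_fixed _ (fun y => a * y * a) ?_ ?_ a ⟨ha, haq⟩ ?_ ?_
  · rintro y ⟨hy, hyq⟩
    refine ⟨h.conj a ha y hy, ?_⟩
    rw [mul_smul, mul_smul, haq, inv_move (h.inv y hy) hyq, haq]
  · rintro y -
    show a * (a * y * a) * a = y
    simp only [mul_assoc, ha2, mul_one]
    rw [← mul_assoc, ha2, one_mul]
  · show a * a * a = a
    rw [ha2, one_mul]
  · rintro y ⟨hy, hyq⟩ hfix
    by_contra hnea
    have hfix' : a * y * a = y := hfix
    have hcomm : a * y = y * a := comm_of_conj ha2 hfix'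
    obtain ⟨p, hp, hpu⟩ := h.comm y hy a ha hnea hcomm.symm
    have h1 : (y * a) • r = r := by
      rw [mul_smul, inv_move ha2 haq, hyq]
    have h2 : (y * a) • q = q := by
      rw [mul_smul, haq, inv_move (h.inv y hy) hyq]
    exact hne ((hpu q h2).trans (hpu r h1).symm)

/-- If an involution `v` permutes `{d ∈ D | d • q = r}` by conjugation, the number of its members
commuting with `v` is odd. -/
theorem odd_commuting_move (h : Conf G Ω D) (hd : ∀ q : Ω, ∃ d ∈ D, d • q = q) {q r : Ω}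
    (hne : q ≠ r) {v : G} (hv2 : v * v = 1) (hvD : ∀ y ∈ D, v * y * v ∈ D)
    (hvP : ∀ y ∈ D, y • q = r → (v * y * v) • q = r) :
    Odd {y ∈ D | y • q = r ∧ v * y = y * v}.ncard := by
  have := odd_ncard_fixed {d ∈ D | d • q = r} (fun y => v * y * v)
    (fun y hy => ⟨hvD y hy.1, hvP y hy.1 hy.2⟩)
    (fun y _ => by
      show v * (v * y * v) * v = y
      simp only [mul_assoc, hv2, mul_one]
      rw [← mul_assoc, hv2, one_mul])
    (odd_move h hd hne)
  convert this using 2
  ext y
  constructor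
  · rintro ⟨h1, h2, h3⟩
    refine ⟨⟨h1, h2⟩, ?_⟩
    show v * y * v = y
    rw [h3, mul_assoc, hv2, mul_one]
  · rintro ⟨⟨h1, h2⟩, h3⟩
    exact ⟨h1, h2, comm_of_conj hv2 h3⟩

/-- An involution fixing two points commutes with a member of `D` moving one to the other. -/
theorem exists_commuting_move (h : Conf G Ω D) (hd : ∀ q : Ω, ∃ d ∈ D, d • q = q) {q r : Ω}
    (hne : q ≠ r) {v : G} (hv2 : v * v = 1) (hvD : ∀ y ∈ D, v * y * v ∈ D)
    (hq : v • q = q) (hr : v • r = r) : ∃ y ∈ D, y • q = r ∧ v * y = y * v := by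
  have := odd_commuting_move h hd hne hv2 hvD (fun y _ hy => by
    rw [mul_smul, mul_smul, hq, hy, hr])
  obtain ⟨n, hn⟩ := this
  have hpos : 0 < {y ∈ D | y • q = r ∧ v * y = y * v}.ncard := by omega
  obtain ⟨y, hy⟩ := (Set.ncard_pos (Set.toFinite _)).mp hpos
  exact ⟨y, hy.1, hy.2⟩

end Move

/-! ### The main parity theorem -/

/-- The statement for permutation groups. -/
def OddProp (Ω : Type u) : Prop :=
  2 ≤ Nat.card Ω → ∀ D : Set (Equiv.Perm Ω), Conf (Equiv.Perm Ω) Ω D →
    (∀ q : Ω, ∃ d ∈ D, d • q = q) → ∀ x : Ω, Odd {d ∈ D | d • x = x}.ncard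

section Restrict
variable {G : Type*} {Ω : Type u} [Group G] [MulAction G Ω] [Finite G] [Finite Ω] {D : Set G}

theorem pow_of_odd_invol {w : G} (hw : w * w = 1) {k : ℕ} (hk : Odd k) : w ^ k = w := by
  obtain ⟨j, rfl⟩ := hk
  rw [pow_succ, pow_mul, pow_two, hw, one_pow, one_mul]

theorem restrict_odd (h : Conf G Ω D) (Y : Set Ω) (hY : OddProp ↥Y) (hY2 : 2 ≤ Nat.card Y)
    (D' : Set G) (hD' : D' ⊆ D) (hcl : ∀ d ∈ D', ∀ e ∈ D', d * e * d ∈ D')
    (hpres : ∀ d ∈ D', ∀ y ∈ Y, d • y ∈ Y) (hfixY : ∀ d ∈ D', ∀ q : Ω, d • q = q → q ∈ Y)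
    (hex : ∀ y ∈ Y, ∃ d ∈ D', d • y = y) (r : Ω) (hr : r ∈ Y) :
    Odd {d ∈ D' | d • r = r}.ncard := by
  classical
  let rel : Equiv.Perm Y → G → Prop := fun π d => ∀ y : Y, ((π y : Y) : Ω) = d • (y : Ω)
  have hrelex : ∀ d ∈ D', ∃ π, rel π d := by
    intro d hd
    have hd2 := h.inv d (hD' hd)
    refine ⟨⟨fun y => ⟨d • y.1, hpres d hd y.1 y.2⟩, fun y => ⟨d • y.1, hpres d hd y.1 y.2⟩, ?_, ?_⟩,
      fun y => rfl⟩
    · intro y
      apply Subtype.ext
      show d • d • y.1 = y.1
      rw [smul_smul, hd2, one_smul]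
    · intro y
      apply Subtype.ext
      show d • d • y.1 = y.1
      rw [smul_smul, hd2, one_smul]
  have hrelmul : ∀ π₁ π₂ d₁ d₂, rel π₁ d₁ → rel π₂ d₂ → rel (π₁ * π₂) (d₁ * d₂) := by
    intro π₁ π₂ d₁ d₂ h₁ h₂ y
    show ((π₁ (π₂ y) : Y) : Ω) = _
    rw [h₁, h₂, mul_smul]
  have hrelext : ∀ π₁ π₂ d, rel π₁ d → rel π₂ d → π₁ = π₂ := by
    intro π₁ π₂ d h₁ h₂
    ext y
    rw [h₁, h₂]
  have hrel1 : ∀ π : Equiv.Perm Y, rel π 1 → π = 1 := by
    intro π hπ
    ext y
    rw [hπ, one_smul]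
    rfl
  have hsq : ∀ π d, d * d = 1 → rel π d → π * π = 1 := by
    intro π d hd hπ
    apply hrel1
    have := hrelmul π π d d hπ hπ
    rwa [hd] at this
  obtain ⟨y₁, y₂, hy12⟩ : ∃ y₁ y₂ : Y, y₁ ≠ y₂ := by
    have : Nontrivial Y := Finite.one_lt_card_iff_nontrivial.mp hY2
    exact exists_pair_ne Y
  have htwo : ∀ g : G, (∀ y : Y, g • (y : Ω) = y) → ¬ ∃! q : Ω, g • q = q := by
    rintro g hg ⟨p, _, hpu⟩
    apply hy12
    apply Subtype.ext
    rw [hpu _ (hg y₁), hpu _ (hg y₂)]
  set D'' : Set (Equiv.Perm Y) := {π | ∃ d ∈ D', rel π d} with hD''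
  have hconf : Conf (Equiv.Perm Y) Y D'' := by
    refine ⟨?_, ?_, ?_, ?_⟩
    · rintro π ⟨d, hd, hπ⟩
      exact hsq π d (h.inv d (hD' hd)) hπ
    · rintro π ⟨d, hd, hπ⟩
      obtain ⟨p, hp, hpu⟩ := h.uf d (hD' hd)
      have hpY := hfixY d hd p hp
      refine ⟨⟨p, hpY⟩, ?_, ?_⟩
      · apply Subtype.ext
        show ((π ⟨p, hpY⟩ : Y) : Ω) = p
        rw [hπ]
        exact hp
      · intro y hy
        apply Subtype.ext
        apply hpu
        have : ((π y : Y) : Ω) = y := congrArg Subtype.val hy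
        rwa [hπ] at this
    · rintro π₁ ⟨d₁, hd₁, hπ₁⟩ π₂ ⟨d₂, hd₂, hπ₂⟩
      exact ⟨d₁ * d₂ * d₁, hcl d₁ hd₁ d₂ hd₂, hrelmul _ _ _ _ (hrelmul _ _ _ _ hπ₁ hπ₂) hπ₁⟩
    · rintro π₁ ⟨d₁, hd₁, hπ₁⟩ π₂ ⟨d₂, hd₂, hπ₂⟩ hne hcomm
      have hd₁2 := h.inv d₁ (hD' hd₁)
      have hd₂2 := h.inv d₂ (hD' hd₂)
      have hπ₁2 := hsq π₁ d₁ hd₁2 hπ₁
      have hπ₂2 := hsq π₂ d₂ hd₂2 hπ₂
      have hcrel := hrelmul _ _ _ _ hπ₁ hπ₂
      have hcY : ∀ y : Y, (d₁ * d₂) • (y : Ω) ∈ Y := fun y => by
        rw [← hcrel y]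
        exact (( π₁ * π₂) y).2
      have hcc : ∀ y : Y, ((d₁ * d₂) * (d₁ * d₂)) • (y : Ω) = y := by
        intro y
        have h1 : (π₁ * π₂) * (π₁ * π₂) = 1 := by
          calc (π₁ * π₂) * (π₁ * π₂) = π₁ * (π₂ * π₁) * π₂ := by group
            _ = π₁ * (π₁ * π₂) * π₂ := by rw [hcomm]
            _ = (π₁ * π₁) * (π₂ * π₂) := by group
            _ = 1 := by rw [hπ₁2, hπ₂2, one_mul]
        have h2 := hrelmul _ _ _ _ hcrel hcrel y
        rw [h1] at h2
        exact h2.symm
      have hccpow : ∀ (i : ℕ) (y : Y), ((d₁ * d₂) * (d₁ * d₂)) ^ i • (y : Ω) = y := by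
        intro i y
        induction i with
        | zero => simp
        | succ i ih => rw [pow_succ, mul_smul, hcc y, ih]
      have hcnontriv : ¬ ∀ y : Y, (d₁ * d₂) • (y : Ω) = y := by
        intro hall
        apply hne
        have h1 : π₁ * π₂ = 1 := by
          apply hrel1
          intro y
          rw [hcrel y, hall y, one_smul]
        calc π₁ = π₁ * (π₂ * π₂) := by rw [hπ₂2, mul_one]
          _ = (π₁ * π₂) * π₂ := by group
          _ = π₂ := by rw [h1, one_mul]
      rcases Nat.even_or_odd (orderOf (d₁ * d₂)) with hev | hodd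
      · obtain ⟨m, hm⟩ := hev
        have hm0 : 0 < m := by
          have := orderOf_pos (d₁ * d₂)
          omega
        obtain ⟨h1, _, h3, _⟩ := even_core hd₁2 hd₂2 hm0 hm
        obtain ⟨h5, _⟩ := even_mems h (hD' hd₁) (hD' hd₂) hm0 hm
        have huf := uf_of_mul_mem h (hD' hd₁) h5 h1 h3
        rcases Nat.even_or_odd m with hme | hmo
        · exfalso
          obtain ⟨j, hj⟩ := hme
          apply htwo _ _ huf
          intro y
          rw [hj, ← two_mul, pow_mul, pow_two]
          exact hccpow j y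
        · obtain ⟨j, hj⟩ := hmo
          have hwact : ∀ y : Y, (d₁ * d₂) ^ m • (y : Ω) = (d₁ * d₂) • (y : Ω) := by
            intro y
            have h7 : (d₁ * d₂) ^ m = ((d₁ * d₂) * (d₁ * d₂)) ^ j * (d₁ * d₂) := by
              rw [hj, pow_succ, pow_mul, pow_two]
            have := hccpow j ⟨(d₁ * d₂) • (y : Ω), hcY y⟩
            rw [h7, mul_smul]
            exact this
          obtain ⟨p, hp, hpu⟩ := huf
          have hd₁p : d₁ • p = p := fix_of_comm h3 hpu hp
          have hpY := hfixY d₁ hd₁ p hd₁p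
          refine ⟨⟨p, hpY⟩, ?_, ?_⟩
          · apply Subtype.ext
            show (((π₁ * π₂) ⟨p, hpY⟩ : Y) : Ω) = p
            rw [hcrel ⟨p, hpY⟩, ← hwact ⟨p, hpY⟩]
            exact hp
          · intro y hy
            apply Subtype.ext
            apply hpu
            have h9 : (((π₁ * π₂) y : Y) : Ω) = y := congrArg Subtype.val hy
            rw [hcrel y] at h9
            rw [hwact y]
            exact h9
      · exfalso
        obtain ⟨k, hk⟩ := hodd
        apply hcnontriv
        intro y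
        have h1 : (d₁ * d₂) = ((d₁ * d₂) * (d₁ * d₂)) ^ (k + 1) := by
          have h2 : (d₁ * d₂) ^ (2 * k + 1) = 1 := by rw [← hk, pow_orderOf_eq_one]
          rw [← pow_two, ← pow_mul]
          have : 2 * (k + 1) = (2 * k + 1) + 1 := by ring
          rw [this, pow_succ, h2, one_mul]
        rw [h1]
        exact hccpow (k + 1) y
  have hex'' : ∀ q : Y, ∃ π ∈ D'', π • q = q := by
    intro q
    obtain ⟨d, hd, hdq⟩ := hex q.1 q.2
    obtain ⟨π, hπ⟩ := hrelex d hd
    refine ⟨π, ⟨d, hd, hπ⟩, ?_⟩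
    apply Subtype.ext
    show ((π q : Y) : Ω) = q
    rw [hπ]
    exact hdq
  have hodd := hY hY2 D'' hconf hex'' ⟨r, hr⟩
  refine odd_ncard_of_partition _ _ (fun π => {d ∈ D' | rel π d}) hodd ?_ ?_ ?_ ?_
  · rintro π ⟨⟨d₀, hd₀, hπ⟩, -⟩
    have hd₀2 := h.inv d₀ (hD' hd₀)
    have hπ2 := hsq π d₀ hd₀2 hπ
    refine odd_of_unique_fixed _ (fun d => d₀ * d * d₀) ?_ ?_ d₀ ⟨hd₀, hπ⟩ ?_ ?_
    · rintro d ⟨hd, hdπ⟩
      refine ⟨hcl d₀ hd₀ d hd, ?_⟩
      have h1 := hrelmul _ _ _ _ (hrelmul _ _ _ _ hπ hdπ) hπ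
      have h2 : π * π * π = π := by rw [hπ2, one_mul]
      rwa [h2] at h1
    · rintro d -
      show d₀ * (d₀ * d * d₀) * d₀ = d
      simp only [mul_assoc, hd₀2, mul_one]
      rw [← mul_assoc, hd₀2, one_mul]
    · show d₀ * d₀ * d₀ = d₀
      rw [hd₀2, one_mul]
    · rintro d ⟨hd, hdπ⟩ hfix
      by_contra hne
      have hfix' : d₀ * d * d₀ = d := hfix
      have hcomm : d₀ * d = d * d₀ := comm_of_conj hd₀2 hfix'
      refine htwo (d₀ * d) ?_ (h.comm d₀ (hD' hd₀) d (hD' hd) (Ne.symm hne) hcomm)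
      intro y
      have h1 := hrelmul _ _ _ _ hπ hdπ y
      rw [hπ2] at h1
      exact h1.symm
  · rintro d ⟨hd, hdr⟩
    obtain ⟨π, hπ⟩ := hrelex d hd
    refine ⟨π, ⟨⟨d, hd, hπ⟩, ?_⟩, hd, hπ⟩
    apply Subtype.ext
    show ((π ⟨r, hr⟩ : Y) : Ω) = r
    rw [hπ]
    exact hdr
  · rintro π ⟨_, hπr⟩ d ⟨hd, hdπ⟩
    refine ⟨hd, ?_⟩
    have : ((π ⟨r, hr⟩ : Y) : Ω) = r := congrArg Subtype.val hπr
    rwa [hdπ] at this
  · rintro π - π' - d ⟨_, h1⟩ ⟨_, h2⟩
    exact hrelext _ _ _ h1 h2

end Restrict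

section Main
variable {G : Type*} {Ω : Type*} [Group G] [MulAction G Ω] [Finite G] {D : Set G}

theorem ncard_fix_eq (h : Conf G Ω D) (hd : ∀ q : Ω, ∃ d ∈ D, d • q = q) (x r : Ω) :
    {d ∈ D | d • r = r}.ncard = {d ∈ D | d • x = x}.ncard := by
  by_cases hxr : r = x
  · subst hxr
    rfl
  obtain ⟨a, ha, har⟩ := exists_move h hd hxr
  have ha2 := h.inv a ha
  refine Set.ncard_congr (fun y _ => a * y * a) ?_ ?_ ?_
  · rintro y ⟨hy, hyr⟩
    refine ⟨h.conj a ha y hy, ?_⟩
    rw [mul_smul, mul_smul, inv_move ha2 har, hyr, har]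
  · intro y y' _ _ e
    exact mul_left_cancel (mul_right_cancel e)
  · rintro y ⟨hy, hyx⟩
    refine ⟨a * y * a, ⟨h.conj a ha y hy, ?_⟩, ?_⟩
    · rw [mul_smul, mul_smul, har, hyx, inv_move ha2 har]
    · show a * (a * y * a) * a = y
      simp only [mul_assoc, ha2, mul_one]
      rw [← mul_assoc, ha2, one_mul]

end Main

theorem odd_perm : ∀ (n : ℕ) (Ω : Type u) [Finite Ω], Nat.card Ω = n → OddProp Ω := by
  intro n
  induction n using Nat.strong_induction_on with
  | _ n IH =>
  intro Ω _ hn h2 D hconf hd x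
  classical
  by_cases hv : ∃ v ∈ Subgroup.closure D, v * v = 1 ∧ v ≠ 1 ∧ v ∉ D
  · obtain ⟨v, hvX, hv2, hv1, hvD⟩ := hv
    have hvinv := inv_eq_self hv2
    have hconjX : ∀ g ∈ Subgroup.closure D, g * g = 1 → ∀ y ∈ D, g * y * g ∈ D := by
      intro g hg hg2 y hy
      have := (conj_closure hconf hg y hy).1
      rwa [inv_eq_self hg2] at this
    have hvconj := hconjX v hvX hv2
    obtain ⟨r, hr⟩ : ∃ r, v • r ≠ r := by
      by_contra hcon
      push Not at hcon
      apply hv1
      ext q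
      exact hcon q
    rw [← ncard_fix_eq hconf hd x r]
    have hrne : r ≠ v • r := Ne.symm hr
    refine odd_ncard_of_partition _ {e ∈ D | e • r = v • r ∧ v * e = e * v}
      (fun e => {d ∈ D | d • r = r ∧ d * (v * e) = (v * e) * d}) ?_ ?_ ?_ ?_ ?_
    · refine odd_commuting_move hconf hd hrne hv2 hvconj ?_
      intro y hy hyr
      rw [mul_smul, mul_smul, inv_move (hconf.inv y hy) hyr]
    · rintro e ⟨he, her, hev⟩
      have he2 := hconf.inv e he
      have hw2 : (v * e) * (v * e) = 1 := by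
        calc (v * e) * (v * e) = v * (e * v) * e := by group
          _ = v * (v * e) * e := by rw [hev]
          _ = (v * v) * (e * e) := by group
          _ = 1 := by rw [hv2, he2, one_mul]
      have hw1 : v * e ≠ 1 := by
        intro h1
        apply hvD
        have : v = e := by
          calc v = v * (e * e) := by rw [he2, mul_one]
            _ = (v * e) * e := by group
            _ = e := by rw [h1, one_mul]
        rw [this]
        exact he
      have hwr : (v * e) • r = r := by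
        rw [mul_smul, her, smul_smul, hv2, one_smul]
      have hwX : v * e ∈ Subgroup.closure D :=
        Subgroup.mul_mem _ hvX (Subgroup.subset_closure he)
      have hwconj := hconjX _ hwX hw2
      have hwe : (v * e) * e = e * (v * e) := by
        calc (v * e) * e = (e * v) * e := by rw [hev]
          _ = e * (v * e) := mul_assoc _ _ _
      obtain ⟨p, hp, hpu⟩ := hconf.uf e he
      have hwp : (v * e) • p = p := fix_of_comm hwe hpu hp
      have hpr : p ≠ r := by
        rintro rfl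
        exact hrne ((hp.symm).trans her)
      set Y : Set Ω := {q | (v * e) • q = q} with hYdef
      have hYlt : Nat.card Y < n := by
        have hnf : ¬ ∀ q, (v * e) • q = q := fun hcon => hw1 (Equiv.ext hcon)
        obtain ⟨q, hq⟩ := not_forall.mp hnf
        rw [← hn]
        exact Finite.card_subtype_lt (x := q) hq
      have hY : OddProp ↥Y := IH _ hYlt ↥Y rfl
      have hY2 : 2 ≤ Nat.card Y := by
        have : Nontrivial Y := ⟨⟨⟨p, hwp⟩, ⟨r, hwr⟩, fun h => hpr (congrArg Subtype.val h)⟩⟩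
        exact Finite.one_lt_card_iff_nontrivial.mpr this
      have := restrict_odd hconf Y hY hY2 {d ∈ D | d * (v * e) = (v * e) * d} (fun d hd => hd.1)
        (by
          rintro d₁ ⟨hd₁, hc₁⟩ d₂ ⟨hd₂, hc₂⟩
          refine ⟨hconf.conj _ hd₁ _ hd₂, ?_⟩
          calc d₁ * d₂ * d₁ * (v * e) = d₁ * d₂ * (d₁ * (v * e)) := by group
            _ = d₁ * d₂ * ((v * e) * d₁) := by rw [hc₁]
            _ = d₁ * (d₂ * (v * e)) * d₁ := by group
            _ = d₁ * ((v * e) * d₂) * d₁ := by rw [hc₂]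
            _ = (d₁ * (v * e)) * d₂ * d₁ := by group
            _ = ((v * e) * d₁) * d₂ * d₁ := by rw [hc₁]
            _ = _ := by group)
        (by
          rintro d ⟨_, hc⟩ y hy
          show (v * e) • (d • y) = d • y
          rw [smul_smul, ← hc, mul_smul, show (v * e) • y = y from hy])
        (by
          rintro d ⟨hdD, hc⟩ q hq
          obtain ⟨p', _, hpu'⟩ := hconf.uf d hdD
          have h1 := hpu' q hq
          subst h1
          exact fix_of_comm hc.symm hpu' hq)
        (by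
          intro y hy
          by_cases hyp : p = y
          · subst hyp
            exact ⟨e, ⟨he, hwe.symm⟩, hp⟩
          · obtain ⟨y₀, hy₀, hy₀p, hy₀c⟩ := exists_commuting_move hconf hd hyp hw2 hwconj hwp hy
            have hy₀2 := hconf.inv y₀ hy₀
            refine ⟨y₀ * e * y₀, ⟨hconf.conj _ hy₀ _ he, ?_⟩, ?_⟩
            · calc y₀ * e * y₀ * (v * e) = y₀ * e * (y₀ * (v * e)) := by group
                _ = y₀ * e * ((v * e) * y₀) := by rw [hy₀c]
                _ = y₀ * (e * (v * e)) * y₀ := by group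
                _ = y₀ * ((v * e) * e) * y₀ := by rw [hwe]
                _ = (y₀ * (v * e)) * e * y₀ := by group
                _ = ((v * e) * y₀) * e * y₀ := by rw [hy₀c]
                _ = _ := by group
            · rw [mul_smul, mul_smul, inv_move hy₀2 hy₀p, hp, hy₀p])
        r hwr
      convert this using 2
      ext d
      constructor
      · rintro ⟨h1, h2', h3⟩
        exact ⟨⟨h1, h3⟩, h2'⟩
      · rintro ⟨⟨h1, h3⟩, h2'⟩
        exact ⟨h1, h2', h3⟩
    · rintro d ⟨hdD, hdr⟩
      have hd2 := hconf.inv d hdD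
      have hdX : d ∈ Subgroup.closure D := Subgroup.subset_closure hdD
      have hcX : v * d ∈ Subgroup.closure D := Subgroup.mul_mem _ hvX hdX
      have hdru : ∀ q, d • q = q → q = r := fun q hq => (hconf.uf d hdD).unique hq hdr
      rcases Nat.even_or_odd (orderOf (v * d)) with hev | hodd
      · obtain ⟨m, hm⟩ := hev
        have hm0 : 0 < m := by
          have := orderOf_pos (v * d)
          omega
        obtain ⟨h1, h2', h3, h4⟩ := even_core hv2 hd2 hm0 hm
        have hwr : (v * d) ^ m • r = r := fix_of_comm h4.symm hdru hdr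
        rcases Nat.even_or_odd m with hme | hmo
        · exfalso
          obtain ⟨j, hj⟩ := hme
          set x₀ := (v * d) ^ j with hx₀
          have hdx : d * x₀ * d = x₀⁻¹ := invert_pow hd2 (right_invert hv2 hd2) j
          have hwe : (v * d) ^ m = x₀ * x₀ := by rw [hj, pow_add]
          have hmem : (v * d) ^ m * d ∈ D := by
            have h5 := (conj_closure hconf (Subgroup.pow_mem _ hcX j) d hdD).1
            have h6 : x₀ * d * x₀⁻¹ = x₀ * x₀ * d := by
              rw [← hdx]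
              calc x₀ * d * (d * x₀ * d) = x₀ * (d * d) * x₀ * d := by group
                _ = x₀ * x₀ * d := by rw [hd2, mul_one]
            rw [hwe, ← h6]
            exact h5
          obtain ⟨p, hp, hpu⟩ := uf_of_mul_mem hconf hdD hmem h1 h4
          have h7 := hpu r hwr
          subst h7
          exact hr (fix_of_comm h3 hpu hp)
        · obtain ⟨j, hj⟩ := hmo
          set x₀ := (v * d) ^ j with hx₀
          have hdx : d * x₀ * d = x₀⁻¹ := invert_pow hd2 (right_invert hv2 hd2) j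
          have hvx : v * x₀ * v = x₀⁻¹ := invert_pow hv2 (left_invert hv2 hd2) j
          have hwe : (v * d) ^ m = x₀ * x₀ * (v * d) := by
            rw [hj, pow_succ, two_mul, pow_add]
          set w := (v * d) ^ m with hw
          have he : v * w = x₀⁻¹ * d * (x₀⁻¹)⁻¹ := by
            have e1 : v * x₀ = x₀⁻¹ * v := by
              rw [← hvx]
              calc v * x₀ = v * x₀ * (v * v) := by rw [hv2, mul_one]
                _ = _ := by group
            have e2 : d * x₀ = x₀⁻¹ * d := by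
              rw [← hdx]
              calc d * x₀ = d * x₀ * (d * d) := by rw [hd2, mul_one]
                _ = _ := by group
            rw [hwe, inv_inv, mul_assoc x₀⁻¹ d x₀, e2]
            calc v * (x₀ * x₀ * (v * d)) = ((v * x₀) * x₀) * (v * d) := by group
              _ = ((x₀⁻¹ * v) * x₀) * (v * d) := by rw [e1]
              _ = (x₀⁻¹ * (v * x₀)) * (v * d) := by rw [mul_assoc x₀⁻¹ v x₀]
              _ = (x₀⁻¹ * (x₀⁻¹ * v)) * (v * d) := by rw [e1]
              _ = x₀⁻¹ * x₀⁻¹ * (v * v) * d := by group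
              _ = x₀⁻¹ * (x₀⁻¹ * d) := by rw [hv2]; group
          have heD : v * w ∈ D := by
            rw [he]
            exact (conj_closure hconf (Subgroup.inv_mem _ (Subgroup.pow_mem _ hcX j)) d hdD).1
          have hvw : v * (v * w) = w := by rw [← mul_assoc, hv2, one_mul]
          refine ⟨v * w, ⟨heD, ?_, ?_⟩, hdD, hdr, ?_⟩
          · rw [mul_smul, hwr]
          · rw [hvw, mul_assoc, ← h3, ← mul_assoc, hv2, one_mul]
          · rw [hvw]
            exact h4
      · exfalso
        obtain ⟨k, hk⟩ := hodd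
        apply hvD
        set x₀ := (v * d) ^ (k + 1) with hx₀
        have hdx : d * x₀ * d = x₀⁻¹ := invert_pow hd2 (right_invert hv2 hd2) (k + 1)
        have h1 : x₀ * x₀ = v * d := by
          have h2' : (v * d) ^ (2 * k + 1) = 1 := by rw [← hk, pow_orderOf_eq_one]
          rw [hx₀, ← pow_add]
          have : k + 1 + (k + 1) = (2 * k + 1) + 1 := by ring
          rw [this, pow_succ, h2', one_mul]
        have h5 := (conj_closure hconf (Subgroup.pow_mem _ hcX (k + 1)) d hdD).1
        have h6 : x₀ * d * x₀⁻¹ = v := by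
          rw [← hdx]
          calc x₀ * d * (d * x₀ * d) = x₀ * (d * d) * x₀ * d := by group
            _ = x₀ * x₀ * d := by rw [hd2, mul_one]
            _ = v * (d * d) := by rw [h1]; group
            _ = v := by rw [hd2, mul_one]
        rw [h6] at h5
        exact h5
    · rintro e - d ⟨hd', hdr, -⟩
      exact ⟨hd', hdr⟩
    · rintro e ⟨he, her, hev⟩ e' ⟨he', her', hev'⟩ d ⟨hdD, hdr, hc⟩ ⟨_, _, hc'⟩
      have key : ∀ e₁ ∈ D, e₁ • r = v • r → v * e₁ = e₁ * v → d * (v * e₁) = (v * e₁) * d →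
          ∃ k, Odd k ∧ (v * d) ^ k = v * e₁ := by
        intro e₁ he₁ her₁ hev₁ hc₁
        have he₁2 := hconf.inv e₁ he₁
        obtain ⟨p, hp, -⟩ := hconf.uf e₁ he₁
        have hpr : p ≠ r := by
          rintro rfl
          exact hrne (hp.symm.trans her₁)
        have hodd := odd_of_ne hconf he₁ hdD hp hdr hpr
        refine ⟨_, hodd, ?_⟩
        have hw2 : (v * e₁) * (v * e₁) = 1 := by
          calc (v * e₁) * (v * e₁) = v * (e₁ * v) * e₁ := by group
            _ = v * (v * e₁) * e₁ := by rw [hev₁]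
            _ = (v * v) * (e₁ * e₁) := by group
            _ = 1 := by rw [hv2, he₁2, one_mul]
        have e1 : v * d = (v * e₁) * (e₁ * d) := by
          calc v * d = v * (e₁ * e₁) * d := by rw [he₁2, mul_one]
            _ = _ := by group
        have hwe : (v * e₁) * e₁ = e₁ * (v * e₁) := by
          calc (v * e₁) * e₁ = (e₁ * v) * e₁ := by rw [hev₁]
            _ = e₁ * (v * e₁) := mul_assoc _ _ _
        have hcm : Commute (v * e₁) (e₁ * d) := by
          show (v * e₁) * (e₁ * d) = (e₁ * d) * (v * e₁)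
          calc (v * e₁) * (e₁ * d) = ((v * e₁) * e₁) * d := by group
            _ = (e₁ * (v * e₁)) * d := by rw [hwe]
            _ = e₁ * ((v * e₁) * d) := by group
            _ = e₁ * (d * (v * e₁)) := by rw [hc₁]
            _ = _ := by group
        rw [e1, hcm.mul_pow, pow_orderOf_eq_one, mul_one]
        exact pow_of_odd_invol hw2 hodd
      obtain ⟨k, hk, h1⟩ := key e he her hev hc
      obtain ⟨k', hk', h2'⟩ := key e' he' her' hev' hc'
      have hw2 : (v * e) * (v * e) = 1 := by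
        calc (v * e) * (v * e) = v * (e * v) * e := by group
          _ = v * (v * e) * e := by rw [hev]
          _ = (v * v) * (e * e) := by group
          _ = 1 := by rw [hv2, hconf.inv e he, one_mul]
      have hw2' : (v * e') * (v * e') = 1 := by
        calc (v * e') * (v * e') = v * (e' * v) * e' := by group
          _ = v * (v * e') * e' := by rw [hev']
          _ = (v * v) * (e' * e') := by group
          _ = 1 := by rw [hv2, hconf.inv e' he', one_mul]
      have h3 : v * e = v * e' := by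
        calc v * e = (v * e) ^ k' := (pow_of_odd_invol hw2 hk').symm
          _ = ((v * d) ^ k) ^ k' := by rw [h1]
          _ = ((v * d) ^ k') ^ k := by rw [← pow_mul, ← pow_mul, mul_comm]
          _ = (v * e') ^ k := by rw [h2']
          _ = v * e' := pow_of_odd_invol hw2' hk
      exact mul_left_cancel h3
  · -- every involution of the closure lies in `D`
    push Not at hv
    obtain ⟨d₀, hd₀, hd₀x⟩ := hd x
    have hne1 : ∀ d ∈ D, d ≠ 1 := by
      intro d hdD hd1
      have : Nontrivial Ω := Finite.one_lt_card_iff_nontrivial.mp h2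
      obtain ⟨a, b, hab⟩ := exists_pair_ne Ω
      have := (hconf.uf d hdD).unique (y₁ := a) (y₂ := b) (by rw [hd1, one_smul])
        (by rw [hd1, one_smul])
      exact hab this
    let A : Subgroup (Equiv.Perm Ω) := Subgroup.closure D ⊓ MulAction.stabilizer (Equiv.Perm Ω) x
    have hA : ∀ d ∈ D, d • x = x → d ∈ A := fun d hdD hdx =>
      Subgroup.mem_inf.mpr ⟨Subgroup.subset_closure hdD, hdx⟩
    have heven : Even (Nat.card A) := by
      have h1 : orderOf (⟨d₀, hA d₀ hd₀ hd₀x⟩ : A) = 2 := by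
        apply orderOf_eq_prime
        · apply Subtype.ext
          show d₀ ^ 2 = 1
          rw [pow_two]
          exact hconf.inv d₀ hd₀
        · intro h1
          exact hne1 d₀ hd₀ (congrArg Subtype.val h1)
      have h2' := orderOf_dvd_natCard (⟨d₀, hA d₀ hd₀ hd₀x⟩ : A)
      rw [h1] at h2'
      exact even_iff_two_dvd.mpr h2'
    have hodd := Cfsg.Agent.Lib.InvolutionCount.odd_card_involutions heven
    have hcard : Nat.card {t : A // orderOf t = 2} = {d ∈ D | d • x = x}.ncard := by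
      rw [← Nat.card_coe_set_eq]
      refine Nat.card_congr ⟨fun t => ⟨t.1.1, ?_⟩, fun d => ⟨⟨d.1, hA d.1 d.2.1 d.2.2⟩, ?_⟩, ?_, ?_⟩
      · have h1 := orderOf_eq_prime_iff.mp t.2
        refine ⟨hv t.1.1 (Subgroup.mem_inf.mp t.1.2).1 ?_ ?_, (Subgroup.mem_inf.mp t.1.2).2⟩
        · have := congrArg Subtype.val h1.1
          rw [pow_two] at this
          exact this
        · intro h3
          exact h1.2 (Subtype.ext h3)
      · apply orderOf_eq_prime
        · apply Subtype.ext
          show d.1 ^ 2 = 1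
          rw [pow_two]
          exact hconf.inv d.1 d.2.1
        · intro h1
          exact hne1 d.1 d.2.1 (congrArg Subtype.val h1)
      · intro t
        rfl
      · intro d
        rfl
    rwa [hcard] at hodd

/-- **Main parity theorem.** -/
theorem odd_fix {G : Type*} {Ω : Type u} [Group G] [MulAction G Ω] [Finite G] [Finite Ω] {D : Set G}
    (h : Conf G Ω D) (h2 : 2 ≤ Nat.card Ω) (hd : ∀ q : Ω, ∃ d ∈ D, d • q = q) (x : Ω) :
    Odd {d ∈ D | d • x = x}.ncard := by
  refine restrict_odd h Set.univ (odd_perm _ _ rfl) ?_ D subset_rfl h.conj ?_ ?_ ?_ x trivial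
  · rwa [Nat.card_congr (Equiv.Set.univ Ω)]
  · intro _ _ _ _
    trivial
  · intro _ _ _ _
    trivial
  · intro y _
    exact hd y

end Cfsg.Agent.Lib.UniqFix
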