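import Mathlib
import Cfsg.Agent.S4456
import Cfsg.Agent.S4558
import Cfsg.Agent.S0191
import Cfsg.Agent.Lib.CharCoprime
import Cfsg.Agent.Lib.DegreeDiv
import Cfsg.Agent.Lib.CharIto
import Cfsg.Agent.Lib.PCore
import Cfsg.Agent.Lib.CharDet

/-!
# Groups whose vanishing elements are `p`-elements
-/

set_option autoImplicit false
set_option linter.unusedSectionVars false
set_option linter.unusedVariables false
set_option linter.style.haveILetI false

namespace Cfsg.Agent.Lib.VanishPow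

open Cfsg Cfsg.Agent.Lib.CharBasic Cfsg.Agent.Lib.CharInd Cfsg.Agent.Lib.CharKernel
open Cfsg.Agent.Lib.CharInduction Cfsg.Agent.Lib.PCore

universe u

variable {G : Type u} [Group G] [Fintype G]

/-- Irreducible characters lying over a normal subgroup separate its cosets. -/
theorem exists_irr_not_ker (K : Subgroup G) [hK : K.Normal] {z : G} (hz : z ∉ K) :
    ∃ χ : IrrCharacter G, (∀ n ∈ K, (χ : G → ℂ) n = (χ : G → ℂ) 1) ∧ (χ : G → ℂ) z ≠ (χ : G → ℂ) 1 := by
  classical
  by_contra hcon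
  push Not at hcon
  have h1 := sum_ker_deg_mul K z
  rw [if_neg hz] at h1
  have h2 : ∑ χ : IrrCharacter G, (if ∀ n ∈ K, (χ : G → ℂ) n = (χ : G → ℂ) 1 then
      (χ : G → ℂ) 1 * (χ : G → ℂ) z else 0) = 0 := by
    have hne : (Nat.card K : ℂ) ≠ 0 := by exact_mod_cast Nat.card_pos.ne'
    exact (mul_eq_zero.mp h1).resolve_left hne
  have h3 : ∑ χ : IrrCharacter G, (if ∀ n ∈ K, (χ : G → ℂ) n = (χ : G → ℂ) 1 then
      (χ : G → ℂ) 1 * (χ : G → ℂ) z else 0) =
      ((∑ χ : IrrCharacter G, (if ∀ n ∈ K, (χ : G → ℂ) n = (χ : G → ℂ) 1 then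
        charDegree (χ : G → ℂ) ^ 2 else 0) : ℕ) : ℂ) := by
    push_cast
    refine Finset.sum_congr rfl fun χ _ => ?_
    by_cases hχ : ∀ n ∈ K, (χ : G → ℂ) n = (χ : G → ℂ) 1
    · rw [if_pos hχ, if_pos hχ, hcon χ hχ, one_eq_charDegree (IsIrrCharacter.isCharacter χ.2)]
      exact (pow_two _).symm
    · rw [if_neg hχ, if_neg hχ]
  rw [h3] at h2
  have h4 : (∑ χ : IrrCharacter G, (if ∀ n ∈ K, (χ : G → ℂ) n = (χ : G → ℂ) 1 then
      charDegree (χ : G → ℂ) ^ 2 else 0) : ℕ) = 0 := by exact_mod_cast h2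
  rw [Finset.sum_eq_zero_iff] at h4
  let one : IrrCharacter G := ⟨fun _ => 1, isIrrCharacter_one⟩
  have h5 := h4 one (Finset.mem_univ _)
  rw [if_pos (fun n _ => rfl)] at h5
  have h6 := charDegree_pos one.2
  have h7 : charDegree (one : G → ℂ) = 0 := by simpa using h5
  omega

/-- **Vanishing on cosets**, for a normal subgroup of `p`-power index. -/
theorem exists_vanish_coset {p : ℕ} [hp : Fact p.Prime] : ∀ (m : ℕ) (K : Subgroup G) [K.Normal],
    K.index = p ^ m → ∀ y : G, (∃ g : G, g * y * g⁻¹ * y⁻¹ ∉ K) →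
    ∃ χ : IrrCharacter G, (∀ n ∈ K, (χ : G → ℂ) n = (χ : G → ℂ) 1) ∧
      ∀ n ∈ K, (χ : G → ℂ) (y * n) = 0 := by
  classical
  intro m
  induction m using Nat.strong_induction_on with
  | _ m ih =>
  intro K hK hidx y hy
  have hpp := hp.out
  obtain ⟨g₀, hg₀⟩ := hy
  have hKtop : K ≠ ⊤ := by
    rintro rfl
    exact hg₀ (Subgroup.mem_top _)
  have hcardq : Nat.card (G ⧸ K) = p ^ m := hidx
  have hQp : IsPGroup p (G ⧸ K) := IsPGroup.of_card hcardq
  have hm0 : m ≠ 0 := by
    rintro rfl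
    rw [pow_zero] at hidx
    exact hKtop (Subgroup.index_eq_one.mp hidx)
  haveI : Nontrivial (G ⧸ K) := by
    rw [← Finite.one_lt_card_iff_nontrivial, hcardq]
    exact Nat.one_lt_pow hm0 hpp.one_lt
  haveI := hQp.center_nontrivial
  -- a central element of order `p`
  obtain ⟨c', hc'⟩ := exists_ne (1 : Subgroup.center (G ⧸ K))
  obtain ⟨j, hj⟩ := (IsPGroup.iff_orderOf.1 hQp) (c' : G ⧸ K)
  have hj0 : j ≠ 0 := by
    rintro rfl
    rw [pow_zero, orderOf_eq_one_iff] at hj
    exact hc' (Subtype.ext hj)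
  obtain ⟨i, rfl⟩ := Nat.exists_eq_succ_of_ne_zero hj0
  set c : G ⧸ K := (c' : G ⧸ K) ^ (p ^ i) with hc
  have hoc : orderOf c = p := by
    rw [hc, orderOf_pow_of_dvd (pow_pos hpp.pos i).ne' (by rw [hj]; exact ⟨p, by rw [pow_succ]⟩), hj,
      pow_succ, Nat.mul_div_cancel_left _ (pow_pos hpp.pos i)]
  have hccen : c ∈ Subgroup.center (G ⧸ K) := pow_mem c'.2 _
  have hzn : (Subgroup.zpowers c).Normal := by
    constructor
    intro n hn g
    obtain ⟨k, rfl⟩ := Subgroup.mem_zpowers_iff.1 hn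
    have : g * c ^ k * g⁻¹ = c ^ k := by
      have h1 : c ^ k ∈ Subgroup.center (G ⧸ K) := zpow_mem hccen k
      rw [(Subgroup.mem_center_iff.1 h1 g)]
      group
    rw [this]
    exact Subgroup.zpow_mem_zpowers c k
  let π : G →* G ⧸ K := QuotientGroup.mk' K
  have hπ : Function.Surjective π := QuotientGroup.mk'_surjective K
  let K₀ : Subgroup G := (Subgroup.zpowers c).comap π
  haveI hK₀n : K₀.Normal := hzn.comap π
  have hKK₀ : K ≤ K₀ := by
    intro n hn
    show π n ∈ Subgroup.zpowers c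
    have : π n = 1 := (QuotientGroup.eq_one_iff n).2 hn
    rw [this]
    exact one_mem _
  have hidx₀ : K₀.index = p ^ (m - 1) := by
    have h1 : K₀.index = (Subgroup.zpowers c).index := Subgroup.index_comap_of_surjective _ hπ
    have h2 := Subgroup.card_mul_index (Subgroup.zpowers c)
    rw [Nat.card_zpowers, hoc, hcardq, ← h1] at h2
    have h3 : p ^ m = p * p ^ (m - 1) := by
      rw [← pow_succ', Nat.sub_add_cancel (Nat.one_le_iff_ne_zero.2 hm0)]
    rw [h3] at h2
    exact Nat.eq_of_mul_eq_mul_left hpp.pos h2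
  by_cases hA : ∃ g : G, g * y * g⁻¹ * y⁻¹ ∉ K₀
  · obtain ⟨χ, h1, h2⟩ := ih (m - 1) (by omega) K₀ hidx₀ y hA
    exact ⟨χ, fun n hn => h1 n (hKK₀ hn), fun n hn => h2 n (hKK₀ hn)⟩
  · push Not at hA
    obtain ⟨z, hz⟩ : ∃ z, z = g₀ * y * g₀⁻¹ * y⁻¹ := ⟨_, rfl⟩
    have hzK₀ : z ∈ K₀ := hz ▸ hA g₀
    rw [← hz] at hg₀
    have hzcen : ∀ g : G, z⁻¹ * g⁻¹ * z * g ∈ K := by
      intro g
      have h1 : π z ∈ Subgroup.center (G ⧸ K) := by
        obtain ⟨k, hk⟩ := Subgroup.mem_zpowers_iff.1 hzK₀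
        rw [← hk]
        exact zpow_mem hccen k
      have h2 := Subgroup.mem_center_iff.1 h1 (π g)
      rw [← QuotientGroup.eq_one_iff]
      show π (z⁻¹ * g⁻¹ * z * g) = 1
      rw [map_mul, map_mul, map_mul, map_inv, map_inv]
      calc (π z)⁻¹ * (π g)⁻¹ * π z * π g = (π g * π z)⁻¹ * π z * π g := by group
        _ = 1 := by rw [h2]; group
    obtain ⟨χ, hker, hzne⟩ := exists_irr_not_ker K hg₀
    obtain ⟨d, ρ, hρ, hχρ⟩ := χ.2
    have hker' : ∀ n ∈ K, ρ n = LinearMap.id := by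
      intro n hn
      apply (charKer_iff_rep ρ).1
      rw [hχρ]
      exact hker n hn
    have hcomm : ∀ g : G, ρ z ∘ₗ ρ g = ρ g ∘ₗ ρ z := by
      intro g
      have h1 : z * g = g * z * (z⁻¹ * g⁻¹ * z * g) := by group
      have h2 : ρ (z * g) = ρ (g * z) := by
        rw [h1, map_mul ρ (g * z), hker' _ (hzcen g)]
        rfl
      rw [map_mul, map_mul] at h2
      exact h2
    obtain ⟨c', hc'⟩ := schur_scalar hρ (ρ z) hcomm
    have hχc : IsCharacter G (χ : G → ℂ) := IsIrrCharacter.isCharacter χ.2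
    have hc1 : c' ≠ 1 := by
      rintro rfl
      apply hzne
      rw [← hχρ]
      apply (charKer_iff_rep ρ).2
      rw [hc', one_smul]
    have hχy : (χ : G → ℂ) y = c' * (χ : G → ℂ) y := by
      have h1 := isClassFunction_of_isCharacter hχc y g₀
      have h2 : g₀ * y * g₀⁻¹ = z * y := by
        rw [hz]
        group
      rw [h2] at h1
      have h3 : (χ : G → ℂ) (z * y) = c' * (χ : G → ℂ) y := by
        rw [← hχρ]
        show LinearMap.trace ℂ _ (ρ (z * y)) = c' * LinearMap.trace ℂ _ (ρ y)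
        rw [map_mul, hc']
        have : (c' • (LinearMap.id : (Fin d → ℂ) →ₗ[ℂ] (Fin d → ℂ))) * ρ y = c' • ρ y := by
          ext v
          simp
        rw [this, map_smul, smul_eq_mul]
      rw [← h3]
      exact h1.symm
    have hy0 : (χ : G → ℂ) y = 0 := by
      have h1 : (1 - c') * (χ : G → ℂ) y = 0 := by
        rw [sub_mul, one_mul, ← hχy, sub_self]
      exact (mul_eq_zero.mp h1).resolve_left (sub_ne_zero.mpr hc1.symm)
    refine ⟨χ, hker, fun n hn => ?_⟩
    rw [char_mul_of_mem_ker hχc (hker n hn), hy0]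

/-- A group all of whose irreducible characters have degree one is commutative. -/
theorem comm_of_all_linear (h : ∀ χ : IrrCharacter G, charDegree (χ : G → ℂ) = 1) (a b : G) :
    a * b = b * a := by
  classical
  set c := a * b * a⁻¹ * b⁻¹ with hc
  have h1 : ∀ χ : IrrCharacter G, (χ : G → ℂ) c = 1 := by
    intro χ
    have hχc : IsCharacter G (χ : G → ℂ) := IsIrrCharacter.isCharacter χ.2
    have h2 : (χ : G → ℂ) 1 = 1 := by
      rw [one_eq_charDegree hχc, h χ]
      simp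
    have h3 := Cfsg.Agent.S4456.detChar_of_degree_one hχc h2
    rw [← h3]
    have hm := Cfsg.Agent.Lib.CharDet.detChar_mul hχc
    have hinv : ∀ x : G, detChar (χ : G → ℂ) x * detChar (χ : G → ℂ) x⁻¹ = 1 := by
      intro x
      rw [← hm, mul_inv_cancel, Cfsg.Agent.Lib.CharDet.detChar_one hχc]
    rw [hc, hm, hm, hm]
    calc detChar (χ : G → ℂ) a * detChar (χ : G → ℂ) b * detChar (χ : G → ℂ) a⁻¹ *
          detChar (χ : G → ℂ) b⁻¹
        = (detChar (χ : G → ℂ) a * detChar (χ : G → ℂ) a⁻¹) *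
          (detChar (χ : G → ℂ) b * detChar (χ : G → ℂ) b⁻¹) := by ring
      _ = 1 := by rw [hinv, hinv, one_mul]
  have h2 := sum_irr_deg_mul c
  by_contra hne
  have hc1 : c ≠ 1 := by
    intro h
    apply hne
    have : a * b * a⁻¹ = b := mul_inv_eq_one.mp h
    calc a * b = (a * b * a⁻¹) * a := by group
      _ = b * a := by rw [this]
  rw [if_neg hc1] at h2
  have h3 : ∑ χ : IrrCharacter G, (χ : G → ℂ) 1 * (χ : G → ℂ) c =
      ((∑ χ : IrrCharacter G, 1 : ℕ) : ℂ) := by
    push_cast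
    refine Finset.sum_congr rfl fun χ _ => ?_
    rw [h1 χ, one_eq_charDegree (IsIrrCharacter.isCharacter χ.2), h χ]
    simp
  rw [h3] at h2
  have h4 : (∑ χ : IrrCharacter G, 1 : ℕ) = 0 := by exact_mod_cast h2
  rw [Finset.sum_eq_zero_iff] at h4
  exact one_ne_zero (h4 ⟨fun _ => 1, isIrrCharacter_one⟩ (Finset.mem_univ _))

open Cfsg.Agent.Lib.CharCoprime Cfsg.Agent.Lib.Clifford in
/-- A central element of `P` acting nontrivially on the normal complement vanishes on its coset. -/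
theorem exists_vanish_of_central {p : ℕ} [hp : Fact p.Prime] (N : Subgroup G) [hN : N.Normal] (P : Subgroup G)
    (hP : IsPGroup p P) (hNp : ¬ p ∣ Nat.card N) (hdec : ∀ g : G, ∃ n ∈ N, ∃ x ∈ P, g = n * x) {y : G} (hy : y ∈ P)
    (hcen : ∀ x ∈ P, x * y = y * x) (hact : ¬ ∀ n ∈ N, y * n = n * y) :
    ∃ χ : IrrCharacter G, ∀ n ∈ N, (χ : G → ℂ) (y * n) = 0 := by
  classical
  letI : Fintype N := Fintype.ofFinite _
  -- a character of `N` moved by `y`
  have hθ : ∃ θ : N → ℂ, IsIrrCharacter N θ ∧ conjBy N hN y θ ≠ θ := by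
    by_contra hcon
    push Not at hcon
    apply hact
    have hc1 := isConj_of_fixes_irr N hN y hcon
    have hPN : ∀ x ∈ Subgroup.zpowers y, ∀ n ∈ N, x * n * x⁻¹ ∈ N := fun x _ n hn => hN.conj_mem n hn x
    have hzp : IsPGroup p (Subgroup.zpowers y) := by
      obtain ⟨k, hk⟩ := (IsPGroup.iff_orderOf.1 hP) ⟨y, hy⟩
      rw [Subgroup.orderOf_mk] at hk
      apply IsPGroup.of_card (n := k)
      rw [Nat.card_zpowers, hk]
    have hfix : ∀ (x : G) (hx : x ∈ Subgroup.zpowers y) (n : N),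
        IsConj (⟨x * n * x⁻¹, hPN x hx n n.2⟩ : N) n := by
      intro x hx n
      obtain ⟨k, rfl⟩ := Subgroup.mem_zpowers_iff.1 hx
      -- powers of `y` fix classes
      have key : ∀ (k : ℕ) (n : N), IsConj (⟨y ^ k * n * (y ^ k)⁻¹, hN.conj_mem n n.2 _⟩ : N) n := by
        intro k
        induction k with
        | zero =>
          intro n
          convert IsConj.refl n using 2
          simp
        | succ k ih =>
          intro n
          have h1 := hc1 n
          have h2 := ih (conjAut N hN y n)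
          have h3 : (⟨y ^ (k + 1) * n * (y ^ (k + 1))⁻¹, hN.conj_mem n n.2 _⟩ : N) =
              ⟨y ^ k * (conjAut N hN y n : N) * (y ^ k)⁻¹, hN.conj_mem _ (conjAut N hN y n).2 _⟩ := by
            apply Subtype.ext
            show y ^ (k + 1) * (n : G) * (y ^ (k + 1))⁻¹ = y ^ k * (y * (n : G) * y⁻¹) * (y ^ k)⁻¹
            rw [pow_succ]
            group
          rw [h3]
          exact h2.trans h1
      have hy1 : y ^ (orderOf y) = 1 := pow_orderOf_eq_one y
      have hpos : 0 < orderOf y := orderOf_pos y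
      obtain ⟨m, hm⟩ : ∃ m : ℕ, y ^ k = y ^ m := by
        refine ⟨(k % (orderOf y : ℤ)).toNat, ?_⟩
        have h1 : (0 : ℤ) ≤ k % (orderOf y : ℤ) := Int.emod_nonneg _ (by exact_mod_cast hpos.ne')
        rw [← zpow_natCast, Int.toNat_of_nonneg h1]
        exact (zpow_mod_orderOf y k).symm
      have h2 := key m n
      convert h2 using 2
      simp only [hm]
    have h2 := commute_of_fixes_classes (Subgroup.zpowers y) N hzp hNp hPN hfix
    intro n hn
    exact h2 y (Subgroup.mem_zpowers y) n hn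
  obtain ⟨θ, hθirr, hθne⟩ := hθ
  let T := Cfsg.Agent.Lib.DegreeDiv.inertia N hN θ
  have hNT : N ≤ T := Cfsg.Agent.Lib.DegreeDiv.le_inertia N hN (IsIrrCharacter.isCharacter hθirr)
  letI : Fintype T := Fintype.ofFinite _
  obtain ⟨χ, hχ, hover⟩ := exists_over (G := G) N hθirr
  obtain ⟨ψ, hψ, hind, -⟩ := exists_inertia_char N T hθirr (Cfsg.Agent.Lib.DegreeDiv.mem_inertia N hN θ) hNT hχ hover
  refine ⟨⟨χ, hχ⟩, fun n hn => ?_⟩
  show χ (y * n) = 0
  rw [← hind, indFun_apply]
  rw [Finset.sum_eq_zero, mul_zero]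
  intro x _
  apply extendByZero_of_not_mem
  -- the conjugate of `y n` moves `θ`
  intro hmem
  apply hθne
  obtain ⟨m, hm, w, hw, rfl⟩ := hdec x
  -- `x⁻¹ (y n) x = y n'`
  have h1 : ∃ n' ∈ N, (m * w)⁻¹ * (y * n) * (m * w) = y * n' := by
    refine ⟨y⁻¹ * ((m * w)⁻¹ * (y * n) * (m * w)), ?_, by group⟩
    -- in `G / N` the element `y` is central
    have h2 : y⁻¹ * (w⁻¹ * m⁻¹ * (y * n) * m * w) = (y⁻¹ * w⁻¹ * y * w) *
        (w⁻¹ * (y⁻¹ * m⁻¹ * y) * n * m * w) := by group
    have h3 : y⁻¹ * w⁻¹ * y * w = 1 := by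
      have := hcen w hw
      calc y⁻¹ * w⁻¹ * y * w = y⁻¹ * w⁻¹ * (y * w) := by group
        _ = y⁻¹ * w⁻¹ * (w * y) := by rw [this]
        _ = 1 := by group
    have h4 : (m * w)⁻¹ * (y * n) * (m * w) = w⁻¹ * m⁻¹ * (y * n) * m * w := by group
    rw [h4, h2, h3, one_mul]
    have h5 : w⁻¹ * (y⁻¹ * m⁻¹ * y) * n * m * w = w⁻¹ * ((y⁻¹ * m⁻¹ * y) * n * m) * w := by group
    rw [h5]
    have h6 : (y⁻¹ * m⁻¹ * y) ∈ N := by
      have := hN.conj_mem m⁻¹ (inv_mem hm) y⁻¹
      rwa [inv_inv] at this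
    have h7 := hN.conj_mem ((y⁻¹ * m⁻¹ * y) * n * m) (mul_mem (mul_mem h6 hn) hm) w⁻¹
    rwa [inv_inv] at h7
  obtain ⟨n', hn', h2⟩ := h1
  rw [h2] at hmem
  -- hence `y` fixes `θ`
  have h3 : (y * n') * n' ⁻¹ = y := by group
  funext k
  rw [conjBy_apply]
  have h4 := hmem ⟨n'⁻¹ * (k : G) * n', by
    have := hN.conj_mem k k.2 n'⁻¹
    rwa [inv_inv] at this⟩
  have hcl : ∀ (a : N) (b : N), θ (b * a * b⁻¹) = θ a := fun a b =>
    isClassFunction_of_isCharacter (IsIrrCharacter.isCharacter hθirr) a b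
  have h5 := hcl ⟨n'⁻¹ * (k : G) * n', by
    have := hN.conj_mem k k.2 n'⁻¹
    rwa [inv_inv] at this⟩ ⟨n', hn'⟩
  have h6 : ((⟨n', hn'⟩ : N) * ⟨n'⁻¹ * (k : G) * n', by
    have := hN.conj_mem k k.2 n'⁻¹
    rwa [inv_inv] at this⟩ * (⟨n', hn'⟩ : N)⁻¹ : N) = k := by
    apply Subtype.ext
    show n' * (n'⁻¹ * (k : G) * n') * n'⁻¹ = k
    group
  rw [h6] at h5
  rw [h5, ← h4]
  congr 1
  apply Subtype.ext
  show y * (k : G) * y⁻¹ = (y * n') * (n'⁻¹ * (k : G) * n') * (y * n')⁻¹
  group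

/-- **Groups whose vanishing elements are `p`-elements.** -/
theorem main (hna : ¬ IsMulCommutative G) (p : ℕ) [hp : Fact p.Prime]
    (hvan : ∀ g : G, (∃ χ : IrrCharacter G, (χ : G → ℂ) g = 0) → ∃ m : ℕ, 1 ≤ m ∧ orderOf g = p ^ m) :
    IsPGroup p G ∨ (Subgroup.center G = pCore p G ∧
      ∃ H : Subgroup (G ⧸ Subgroup.center G), IsFrobeniusComplement H ∧ IsPGroup p H) := by
  classical
  have hpp := hp.out
  -- all nonlinear characters have degree divisible by `p`
  have hdeg : ∀ χ : IrrCharacter G, charDegree (χ : G → ℂ) ≠ 1 → p ∣ charDegree (χ : G → ℂ) := by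
    intro χ hχ
    obtain ⟨d, ρ, hρ, hχρ⟩ := χ.2
    haveI : ρ.IsIrreducible := hρ
    have hdeg1 : charDegree (χ : G → ℂ) = Module.finrank ℂ (Fin d → ℂ) := by
      have h1 := one_eq_charDegree (IsIrrCharacter.isCharacter χ.2)
      rw [← hχρ, char_one_eq_rep] at h1
      have h2 : charDegree (χ : G → ℂ) = d := by
        rw [← hχρ]
        exact_mod_cast h1.symm
      simpa using h2
    have h1 : 1 < Module.finrank ℂ (Fin d → ℂ) := by
      have h2 := charDegree_pos χ.2
      rw [hdeg1] at h2 hχ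
      omega
    obtain ⟨g, hg⟩ := Cfsg.Agent.S0191.result ρ h1
    have hg0 : (χ : G → ℂ) g = 0 := by rw [← hχρ]; exact hg
    obtain ⟨m, -, hm⟩ := hvan g ⟨χ, hg0⟩
    exact Cfsg.Agent.S4558.result p _ (IsIrrCharacter.isCharacter χ.2) g ⟨m, hm⟩ hg0
  obtain ⟨N, hNn, hNc, k, hk⟩ := Cfsg.Agent.S4456.result p hpp hdeg
  haveI := hNn
  by_cases hN1 : N = ⊥
  · left
    subst hN1
    apply IsPGroup.of_card (n := k)
    rw [Subgroup.index_bot] at hk
    exact hk
  right
  have hNp : ¬ p ∣ Nat.card N := fun h => hpp.one_lt.ne' (Nat.eq_one_of_dvd_coprimes hNc h (dvd_refl p))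
  let P : Sylow p G := default
  have hPp : IsPGroup p (P : Subgroup G) := P.isPGroup'
  have hPcard : Nat.card (P : Subgroup G) = N.index := by
    have h1 := P.card_eq_multiplicity
    have h2 := Subgroup.card_mul_index N
    rw [hk] at h2
    rw [h1, hk, ← h2, Nat.factorization_mul (Nat.card_pos.ne') (pow_pos hpp.pos k).ne',
      Finsupp.add_apply, Nat.factorization_eq_zero_of_not_dvd hNp, zero_add,
      Nat.factorization_pow, Finsupp.smul_apply, hpp.factorization_self, smul_eq_mul, mul_one]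
  have hcompl : Subgroup.IsComplement' N (P : Subgroup G) := by
    apply Subgroup.isComplement'_of_coprime
    · rw [hPcard, Subgroup.card_mul_index]
    · rw [hPcard, hk]
      exact Nat.Coprime.pow_right k hNc
  have hdec : ∀ g : G, ∃ n ∈ N, ∃ x ∈ (P : Subgroup G), g = n * x := by
    intro g
    obtain ⟨⟨n, x⟩, hx⟩ := hcompl.2 g
    exact ⟨n, n.2, x, x.2, hx.symm⟩
  have hinter : ∀ x : G, x ∈ (P : Subgroup G) → x ∈ N → x = 1 := fun x hx hn =>
    Subgroup.disjoint_def.1 hcompl.disjoint hn hx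
  -- a coset on which a character vanishes forces a trivial centralizer
  have hL0 : ∀ y ∈ (P : Subgroup G), (∃ χ : IrrCharacter G, ∀ n ∈ N, (χ : G → ℂ) (y * n) = 0) →
      ∀ u ∈ N, u * y = y * u → u = 1 := by
    intro y hy ⟨χ, hχ⟩ u hu hcomm
    obtain ⟨m, -, hm⟩ := hvan (y * u) ⟨χ, hχ u hu⟩
    obtain ⟨a, ha⟩ := (IsPGroup.iff_orderOf.1 hPp) ⟨y, hy⟩
    rw [Subgroup.orderOf_mk] at ha
    have hou : orderOf u ∣ Nat.card N := by
      have := orderOf_dvd_natCard (⟨u, hu⟩ : N)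
      rwa [Subgroup.orderOf_mk] at this
    have hcop : (orderOf y).Coprime (orderOf u) := by
      rw [ha]
      exact Nat.Coprime.pow_left a (Nat.Coprime.coprime_dvd_left hou hNc).symm
    have hc : Commute y u := hcomm.symm
    have h1 := hc.orderOf_mul_eq_mul_orderOf_of_coprime hcop
    rw [hm] at h1
    have h2 : orderOf u ∣ p ^ m := ⟨orderOf y, by rw [h1, mul_comm]⟩
    have h3 : (orderOf u).Coprime (p ^ m) :=
      Nat.Coprime.pow_right m (Nat.Coprime.coprime_dvd_left hou hNc)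
    have h4 : orderOf u = 1 := Nat.eq_one_of_dvd_coprimes h3 (dvd_refl _) h2
    exact orderOf_eq_one_iff.1 h4
  -- noncentral elements of `P`
  have hNC : ∀ y ∈ (P : Subgroup G), (¬ ∀ x ∈ (P : Subgroup G), x * y = y * x) →
      ∀ u ∈ N, u * y = y * u → u = 1 := by
    intro y hy hnc
    push Not at hnc
    obtain ⟨x, hx, hxy⟩ := hnc
    apply hL0 y hy
    obtain ⟨χ, -, h2⟩ := exists_vanish_coset k N hk y ⟨x, fun hmem => by
      have h1 : x * y * x⁻¹ * y⁻¹ ∈ (P : Subgroup G) :=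
        mul_mem (mul_mem (mul_mem hx hy) (inv_mem hx)) (inv_mem hy)
      have h2 := hinter _ h1 hmem
      apply hxy
      have h3 : x * y * x⁻¹ = y := mul_inv_eq_one.mp h2
      calc x * y = (x * y * x⁻¹) * x := by group
        _ = y * x := by rw [h3]⟩
    exact ⟨χ, h2⟩
  have hFP : ∀ y ∈ (P : Subgroup G), (∀ n ∈ N, y * n = n * y) ∨ ∀ u ∈ N, u * y = y * u → u = 1 := by
    intro y hy
    by_cases hact : ∀ n ∈ N, y * n = n * y
    · exact Or.inl hact
    right
    by_cases hcen : ∀ x ∈ (P : Subgroup G), x * y = y * x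
    · apply hL0 y hy
      exact exists_vanish_of_central N (P : Subgroup G) hPp hNp hdec hy hcen hact
    · exact hNC y hy hcen
  obtain ⟨u₀, hu₀, hu₀1⟩ : ∃ u ∈ N, u ≠ 1 := by
    by_contra hcon
    push Not at hcon
    exact hN1 ((Subgroup.eq_bot_iff_forall _).2 hcon)
  -- elements of `P` centralizing `N` are central
  have hCZ : ∀ y ∈ (P : Subgroup G), (∀ n ∈ N, y * n = n * y) → y ∈ Subgroup.center G := by
    intro y hy hact
    have hcen : ∀ x ∈ (P : Subgroup G), x * y = y * x := by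
      by_contra hcon
      exact hu₀1 (hNC y hy hcon u₀ hu₀ (hact u₀ hu₀).symm)
    rw [Subgroup.mem_center_iff]
    intro g
    obtain ⟨n, hn, x, hx, rfl⟩ := hdec g
    calc n * x * y = n * (x * y) := by group
      _ = n * (y * x) := by rw [hcen x hx]
      _ = (n * y) * x := by group
      _ = (y * n) * x := by rw [hact n hn]
      _ = y * (n * x) := by group
  -- some element of `P` acts nontrivially on `N`
  obtain ⟨y₀, hy₀, hy₀act⟩ : ∃ y ∈ (P : Subgroup G), ¬ ∀ n ∈ N, y * n = n * y := by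
    by_contra hcon
    push Not at hcon
    apply hna
    have hPZ : (P : Subgroup G) ≤ Subgroup.center G := fun y hy => hCZ y hy (hcon y hy)
    have hidx : (Subgroup.center G).index ∣ Nat.card N := by
      have h1 := Subgroup.index_dvd_of_le hPZ
      have h2 : (P : Subgroup G).index = Nat.card N := by
        have h3 := Subgroup.card_mul_index (P : Subgroup G)
        have h4 := Subgroup.card_mul_index N
        rw [hPcard, ← h4, mul_comm] at h3
        exact Nat.eq_of_mul_eq_mul_right (by rw [hk]; exact pow_pos hpp.pos k) h3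
      rwa [h2] at h1
    have hlin : ∀ χ : IrrCharacter G, charDegree (χ : G → ℂ) = 1 := by
      intro χ
      by_contra hχ
      have h1 := hdeg χ hχ
      obtain ⟨d, ρ, hρ, hχρ⟩ := χ.2
      haveI : ρ.IsIrreducible := hρ
      have h2 : charDegree (χ : G → ℂ) = Module.finrank ℂ (Fin d → ℂ) := by
        have h1 := one_eq_charDegree (IsIrrCharacter.isCharacter χ.2)
        rw [← hχρ, char_one_eq_rep] at h1
        have h2 : charDegree (χ : G → ℂ) = d := by
          rw [← hχρ]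
          exact_mod_cast h1.symm
        simpa using h2
      have h3 := Cfsg.Agent.Lib.CharIto.finrank_dvd_index_center ρ hρ
      rw [← h2] at h3
      exact hNp (h1.trans (h3.trans hidx))
    exact ⟨⟨fun a b => comm_of_all_linear hlin a b⟩⟩
  have hy₀fpf : ∀ u ∈ N, u * y₀ = y₀ * u → u = 1 := (hFP y₀ hy₀).resolve_left hy₀act
  -- the centre lies in `P`
  have hZP : Subgroup.center G ≤ (P : Subgroup G) := by
    intro z hz
    obtain ⟨n, hn, x, hx, rfl⟩ := hdec z
    have h1 := Subgroup.mem_center_iff.1 hz y₀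
    have h2 : y₀ * x * y₀⁻¹ * x⁻¹ ∈ N := by
      have h3 : y₀ * x * y₀⁻¹ * x⁻¹ = (y₀ * n⁻¹ * y₀⁻¹) * n := by
        have h4 : y₀ * (n * x) * y₀⁻¹ = n * x := by
          rw [h1]; group
        calc y₀ * x * y₀⁻¹ * x⁻¹ = (y₀ * n⁻¹ * y₀⁻¹) * (y₀ * (n * x) * y₀⁻¹) * x⁻¹ := by group
          _ = (y₀ * n⁻¹ * y₀⁻¹) * (n * x) * x⁻¹ := by rw [h4]
          _ = (y₀ * n⁻¹ * y₀⁻¹) * n := by group
      rw [h3]
      exact mul_mem (hNn.conj_mem _ (inv_mem hn) _) hn
    have h3 : y₀ * x * y₀⁻¹ * x⁻¹ ∈ (P : Subgroup G) :=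
      mul_mem (mul_mem (mul_mem hy₀ hx) (inv_mem hy₀)) (inv_mem hx)
    have h4 := hinter _ h3 h2
    have h5 : y₀ * x = x * y₀ := by
      have h6 : y₀ * x * y₀⁻¹ = x := mul_inv_eq_one.mp h4
      calc y₀ * x = (y₀ * x * y₀⁻¹) * y₀ := by group
        _ = x * y₀ := by rw [h6]
    have h7 : n * y₀ = y₀ * n := by
      have h8 : y₀ * n * x = n * y₀ * x := by
        calc y₀ * n * x = y₀ * (n * x) := by group
          _ = n * x * y₀ := h1
          _ = n * (x * y₀) := by group
          _ = n * (y₀ * x) := by rw [h5]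
          _ = n * y₀ * x := by group
      exact (mul_right_cancel h8).symm
    rw [hy₀fpf n hn h7, one_mul]
    exact hx
  have hZeq : Subgroup.center G = pCore p G := by
    apply le_antisymm
    · apply le_pCore inferInstance
      exact hPp.to_le hZP
    · intro w hw
      have hwP : w ∈ (P : Subgroup G) := pCore_le_sylow p P hw
      apply hCZ w hwP
      intro n hn
      have h1 : w * n * w⁻¹ * n⁻¹ ∈ N := mul_mem (hNn.conj_mem n hn w) (inv_mem hn)
      have h2 : w * n * w⁻¹ * n⁻¹ ∈ (P : Subgroup G) := by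
        apply pCore_le_sylow p P
        have h3 : w * (n * w⁻¹ * n⁻¹) ∈ pCore p G :=
          mul_mem hw ((pCore_normal p).conj_mem _ (inv_mem hw) n)
        convert h3 using 1
        group
      have h4 := hinter _ h2 h1
      have h5 : w * n * w⁻¹ = n := mul_inv_eq_one.mp h4
      calc w * n = (w * n * w⁻¹) * w := by group
        _ = n * w := by rw [h5]
  refine ⟨hZeq, (P : Subgroup G).map (QuotientGroup.mk' (Subgroup.center G)), ⟨?_, ?_, ?_⟩, hPp.map _⟩
  · intro hbot
    apply hy₀act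
    have h1 : QuotientGroup.mk' (Subgroup.center G) y₀ ∈
        (P : Subgroup G).map (QuotientGroup.mk' (Subgroup.center G)) := Subgroup.mem_map_of_mem _ hy₀
    rw [hbot, Subgroup.mem_bot] at h1
    have h2 : y₀ ∈ Subgroup.center G := (QuotientGroup.eq_one_iff y₀).1 h1
    intro n hn
    exact (Subgroup.mem_center_iff.1 h2 n).symm
  · intro htop
    have h1 : QuotientGroup.mk' (Subgroup.center G) u₀ ∈
        (P : Subgroup G).map (QuotientGroup.mk' (Subgroup.center G)) := by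
      rw [htop]
      exact Subgroup.mem_top _
    obtain ⟨x, hx, hxu⟩ := h1
    have h2 : x⁻¹ * u₀ ∈ Subgroup.center G := QuotientGroup.eq.1 hxu
    have h3 : u₀ ∈ (P : Subgroup G) := by
      have := mul_mem hx (hZP h2)
      simpa using this
    exact hu₀1 (hinter u₀ h3 hu₀)
  · intro gbar hgbar
    rw [eq_bot_iff]
    intro v hv
    obtain ⟨g, rfl⟩ := QuotientGroup.mk'_surjective _ gbar
    obtain ⟨hv1, hv2⟩ := Subgroup.mem_inf.1 hv
    obtain ⟨x, hx, rfl⟩ := hv1
    rw [Subgroup.mem_pointwise_smul_iff_inv_smul_mem] at hv2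
    obtain ⟨x', hx', hxx'⟩ := hv2
    have h1 : QuotientGroup.mk' (Subgroup.center G) x' =
        QuotientGroup.mk' (Subgroup.center G) (g⁻¹ * x * g) := by
      rw [hxx']
      simp [MulAut.smul_def, MulAut.conj_symm_apply, map_mul, map_inv]
    have h2 : x'⁻¹ * (g⁻¹ * x * g) ∈ Subgroup.center G := QuotientGroup.eq.1 h1
    have h3 : g⁻¹ * x * g ∈ (P : Subgroup G) := by
      have := mul_mem hx' (hZP h2)
      simpa using this
    obtain ⟨n, hn, w, hw, rfl⟩ := hdec g
    have hn1 : n ≠ 1 := by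
      rintro rfl
      apply hgbar
      rw [one_mul]
      exact Subgroup.mem_map_of_mem _ hw
    have h4 : n⁻¹ * x * n ∈ (P : Subgroup G) := by
      have := mul_mem (mul_mem hw h3) (inv_mem hw)
      convert this using 1
      group
    have h5 : n⁻¹ * x * n * x⁻¹ ∈ (P : Subgroup G) := mul_mem h4 (inv_mem hx)
    have h6 : n⁻¹ * x * n * x⁻¹ ∈ N := by
      have := mul_mem (inv_mem hn) (hNn.conj_mem n hn x)
      convert this using 1
      group
    have h7 := hinter _ h5 h6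
    have h8 : n * x = x * n := by
      have h9 : n⁻¹ * x * n = x := mul_inv_eq_one.mp h7
      calc n * x = n * (n⁻¹ * x * n) := by rw [h9]
        _ = x * n := by group
    have h9 : ∀ m ∈ N, x * m = m * x := by
      rcases hFP x hx with h | h
      · exact h
      · exact absurd (h n hn h8) hn1
    have h10 := hCZ x hx h9
    rw [Subgroup.mem_bot]
    exact (QuotientGroup.eq_one_iff x).2 h10

end Cfsg.Agent.Lib.VanishPow
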