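import Mathlib
import Cfsg.Agent.Lib.ZStar
import Cfsg.Agent.Lib.NilClosedMain
import Cfsg.Agent.Lib.SylowConjLemmas

/-!
# Weakly closed `2`-elements are central modulo the odd core

A consequence of Glauberman's `Z*`-theorem: if all elements of a subgroup `A` of a Sylow
`2`-subgroup `S` are weakly closed in `S`, then every element of `A` is central modulo `O(G)`.
-/

set_option autoImplicit false

namespace Cfsg.Agent.Lib.WeakClosedZStar

open Cfsg Cfsg.Agent.Lib Cfsg.Agent.Lib.PCore

universe u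

/-- The case `O(G) = 1`. -/
theorem central_aux : ∀ (n : ℕ) (G : Type u) [Group G] [Finite G], Nat.card G = n →
    pPrimeCore 2 G = ⊥ → ∀ (S : Sylow 2 G) (A : Subgroup G), A ≤ (S : Subgroup G) →
    (∀ a ∈ A, ∀ g : G, g * a * g⁻¹ ∈ (S : Subgroup G) → g * a * g⁻¹ = a) →
    ∀ a ∈ A, ∀ g : G, g * a * g⁻¹ = a := by
  intro n
  induction n using Nat.strong_induction_on with
  | _ n IH =>
    intro G _ _ hn hcore S A hAS hw a ha g
    haveI hp2 : Fact (Nat.Prime 2) := ⟨Nat.prime_two⟩
    by_cases hA : Nat.card A = 1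
    · have h1 : A = ⊥ := Subgroup.card_eq_one.1 hA
      rw [h1, Subgroup.mem_bot] at ha
      subst ha
      simp
    -- an involution in `A`
    have hA2 : IsPGroup 2 A := S.isPGroup'.to_le hAS
    have h2A : 2 ∣ Nat.card A := by
      obtain ⟨k, hk⟩ := IsPGroup.iff_card.1 hA2
      rw [hk]
      rcases k with _ | k
      · exact absurd (by rw [hk]; simp) hA
      · exact dvd_pow_self 2 (Nat.succ_ne_zero k)
    obtain ⟨⟨z, hzA⟩, hz⟩ := exists_prime_orderOf_dvd_card' 2 h2A
    have hz2 : orderOf z = 2 := by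
      rw [← hz]; exact (Subgroup.orderOf_mk z hzA).symm
    have hzS : z ∈ (S : Subgroup G) := hAS hzA
    -- `z` is central in `S`
    have hzc : ∀ s ∈ (S : Subgroup G), s * z * s⁻¹ = z := fun s hs =>
      hw z hzA s ((S : Subgroup G).mul_mem ((S : Subgroup G).mul_mem hs hzS)
        ((S : Subgroup G).inv_mem hs))
    -- `z` is isolated
    have hiso : IsIsolatedInvolution z := by
      refine ⟨hz2, ?_⟩
      intro t ht
      let C := Subgroup.centralizer ({z} : Set G)
      have hSC : (S : Subgroup G) ≤ C := by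
        intro s hs
        rw [Subgroup.mem_centralizer_singleton_iff]
        have := hzc s hs
        calc s * z = s * z * s⁻¹ * s := by group
          _ = z * s := by rw [this]
      have huC : t * z * t⁻¹ ∈ C := by
        rw [Subgroup.mem_centralizer_singleton_iff]
        exact ht.symm
      have hu2 : IsPGroup 2 (Subgroup.zpowers (t * z * t⁻¹)) := by
        rw [IsPGroup.iff_card, Nat.card_zpowers]
        have : orderOf (t * z * t⁻¹) = 2 := by
          rw [← hz2]
          exact (MulAut.conj t).orderOf_eq z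
        exact ⟨1, by rw [this]; norm_num⟩
      obtain ⟨c, hc, hcu⟩ := Cfsg.Agent.Lib.SylowConjLemmas.exists_conj_mem_of_le S C hSC _ hu2
        ((Subgroup.zpowers_le).2 huC)
      have h1 := hcu _ (Subgroup.mem_zpowers _)
      have h2 : (c * t) * z * (c * t)⁻¹ = c * (t * z * t⁻¹) * c⁻¹ := by group
      have h3 := hw z hzA (c * t) (by rw [h2]; exact h1)
      have hcz : c * z = z * c := Subgroup.mem_centralizer_singleton_iff.1 hc
      have hcz' : c⁻¹ * z * c = z := by
        rw [mul_assoc, ← hcz]; group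
      rw [h2] at h3
      calc t * z * t⁻¹ = c⁻¹ * (c * (t * z * t⁻¹) * c⁻¹) * c := by group
        _ = c⁻¹ * z * c := by rw [h3]
        _ = z := hcz'
    -- `z` is central in `G`
    have hzG : ∀ g : G, g * z = z * g := by
      intro g
      have h1 := Cfsg.Agent.Lib.ZStar.zstar hiso g
      rw [hcore, Subgroup.mem_bot] at h1
      have h2 : g * z * g⁻¹ = z := by
        rw [mul_inv_eq_one] at h1; exact h1
      calc g * z = g * z * g⁻¹ * g := by group
        _ = z * g := by rw [h2]
    -- pass to the quotient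
    set W : Subgroup G := Subgroup.zpowers z with hWd
    haveI hWn : W.Normal := by
      constructor
      intro x hx g
      obtain ⟨j, rfl⟩ := Subgroup.mem_zpowers_iff.1 hx
      have : g * z ^ j * g⁻¹ = z ^ j := by
        have h2 : Commute g (z ^ j) := Commute.zpow_right (hzG g) j
        rw [h2.eq, mul_inv_cancel_right]
      rw [this]
      exact hx
    have hcardW : Nat.card W = 2 := by
      rw [hWd, Nat.card_zpowers, hz2]
    have hWS : W ≤ (S : Subgroup G) := (Subgroup.zpowers_le).2 hzS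
    have hcq := Cfsg.Agent.Lib.NilClosedMain.core_quot_central hcore hzG hz2 W hWd
    have hlt : Nat.card (G ⧸ W) < n := by
      have h1 := Subgroup.card_mul_index W
      rw [hcardW] at h1
      have h6 : Nat.card (G ⧸ W) = W.index := rfl
      have hG : 0 < Nat.card G := Nat.card_pos
      rw [h6, ← hn]
      omega
    let π := QuotientGroup.mk' W
    have hπ : Function.Surjective π := QuotientGroup.mk'_surjective W
    have hkey : ∀ y : G, π y ∈ (S : Subgroup G).map π → y ∈ (S : Subgroup G) := by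
      rintro y ⟨s, hs, e⟩
      have h1 : π (s⁻¹ * y) = 1 := by
        rw [map_mul, map_inv, ← e]; simp
      have h2 : s⁻¹ * y ∈ W := (QuotientGroup.eq_one_iff _).1 h1
      have h3 : y = s * (s⁻¹ * y) := by group
      rw [h3]
      exact (S : Subgroup G).mul_mem hs (hWS h2)
    have hIH := IH _ hlt (G ⧸ W) rfl hcq (S.mapSurjective hπ) (A.map π)
      (by
        rw [Sylow.coe_mapSurjective]
        exact Subgroup.map_mono hAS)
      (by
        rintro _ ⟨b, hb, rfl⟩ g' hg'
        obtain ⟨t, rfl⟩ := hπ g'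
        rw [Sylow.coe_mapSurjective] at hg'
        have e : π t * π b * (π t)⁻¹ = π (t * b * t⁻¹) := by simp
        rw [e] at hg' ⊢
        rw [hw b hb t (hkey _ hg')])
    have h1 := hIH (π a) ⟨a, ha, rfl⟩ (π g)
    have e : π g * π a * (π g)⁻¹ = π (g * a * g⁻¹) := by simp
    rw [e] at h1
    apply hw a ha g
    apply hkey
    rw [h1]
    exact ⟨a, hAS ha, rfl⟩

/-- **Weakly closed elements are central modulo the odd core.** -/
theorem mem_core {G : Type u} [Group G] [Finite G] (S : Sylow 2 G) (A : Subgroup G)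
    (hAS : A ≤ (S : Subgroup G))
    (hw : ∀ a ∈ A, ∀ g : G, g * a * g⁻¹ ∈ (S : Subgroup G) → g * a * g⁻¹ = a)
    {a : G} (ha : a ∈ A) (g : G) : g * a * g⁻¹ * a⁻¹ ∈ pPrimeCore 2 G := by
  haveI hp2 : Fact (Nat.Prime 2) := ⟨Nat.prime_two⟩
  set O := pPrimeCore 2 G with hO
  haveI hOn : O.Normal := pPrimeCore_normal 2 G
  let π := QuotientGroup.mk' O
  have hπ : Function.Surjective π := QuotientGroup.mk'_surjective O
  have hcq : pPrimeCore 2 (G ⧸ O) = ⊥ := pPrimeCore_quotient_pPrimeCore 2
  have hkey : ∀ b ∈ A, ∀ t : G, π (t * b * t⁻¹) ∈ (S : Subgroup G).map π →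
      π (t * b * t⁻¹) = π b := by
    rintro b hb t ⟨s, hs, e⟩
    have h1 : π (s⁻¹ * (t * b * t⁻¹)) = 1 := by
      rw [map_mul, map_inv, ← e]; simp
    have h2 : s⁻¹ * (t * b * t⁻¹) ∈ O := (QuotientGroup.eq_one_iff _).1 h1
    have hsup : t * b * t⁻¹ ∈ (S : Subgroup G) ⊔ O := by
      have h3 : t * b * t⁻¹ = s * (s⁻¹ * (t * b * t⁻¹)) := by group
      rw [h3]
      exact Subgroup.mul_mem _ (Subgroup.mem_sup_left hs) (Subgroup.mem_sup_right h2)
    have hbp : IsPGroup 2 (Subgroup.zpowers (t * b * t⁻¹)) := by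
      have h4 : IsPGroup 2 (Subgroup.zpowers b) :=
        S.isPGroup'.to_le ((Subgroup.zpowers_le).2 (hAS hb))
      rw [IsPGroup.iff_card, Nat.card_zpowers] at h4 ⊢
      have h5 : orderOf (t * b * t⁻¹) = orderOf b := (MulAut.conj t).orderOf_eq b
      rwa [h5]
    obtain ⟨o, ho, hoc⟩ := Cfsg.Agent.Lib.SylowConjLemmas.exists_conj_mem_of_le_sup S O _ hbp
      ((Subgroup.zpowers_le).2 hsup)
    have h6 := hoc _ (Subgroup.mem_zpowers _)
    have h7 : (o * t) * b * (o * t)⁻¹ = o * (t * b * t⁻¹) * o⁻¹ := by group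
    have h8 := hw b hb (o * t) (by rw [h7]; exact h6)
    rw [h7] at h8
    have h9 : t * b * t⁻¹ = o⁻¹ * b * o := by
      calc t * b * t⁻¹ = o⁻¹ * (o * (t * b * t⁻¹) * o⁻¹) * o := by group
        _ = o⁻¹ * b * o := by rw [h8]
    rw [h9]
    have hπo : π o = 1 := (QuotientGroup.eq_one_iff _).2 ho
    simp [hπo]
  have h1 := central_aux _ (G ⧸ O) rfl hcq (S.mapSurjective hπ) (A.map π)
    (by
      rw [Sylow.coe_mapSurjective]
      exact Subgroup.map_mono hAS)
    (by
      rintro _ ⟨b, hb, rfl⟩ g' hg'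
      obtain ⟨t, rfl⟩ := hπ g'
      rw [Sylow.coe_mapSurjective] at hg'
      have e : π t * π b * (π t)⁻¹ = π (t * b * t⁻¹) := by simp
      rw [e] at hg' ⊢
      exact hkey b hb t hg')
    (π a) ⟨a, ha, rfl⟩ (π g)
  have e : π g * π a * (π g)⁻¹ = π (g * a * g⁻¹) := by simp
  rw [e] at h1
  have h2 : π (g * a * g⁻¹ * a⁻¹) = 1 := by
    rw [map_mul, h1, map_inv]; simp
  exact (QuotientGroup.eq_one_iff _).1 h2

/-- If all commutators of elements of `A` lie in the normal subgroup `O`, then `O ⊔ A` is normal. -/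
theorem normal_sup {G : Type*} [Group G] {O A : Subgroup G} [hO : O.Normal]
    (h : ∀ a ∈ A, ∀ g : G, g * a * g⁻¹ * a⁻¹ ∈ O) : (O ⊔ A).Normal := by
  constructor
  intro x hx g
  obtain ⟨o, ho, a, ha, rfl⟩ := Subgroup.mem_sup_of_normal_left.1 hx
  have e : g * (o * a) * g⁻¹ = (g * o * g⁻¹) * ((g * a * g⁻¹ * a⁻¹) * a) := by group
  rw [e]
  refine Subgroup.mul_mem _ (Subgroup.mem_sup_left (hO.conj_mem o ho g)) ?_
  exact Subgroup.mul_mem _ (Subgroup.mem_sup_left (h a ha g)) (Subgroup.mem_sup_right ha)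

end Cfsg.Agent.Lib.WeakClosedZStar
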