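import Mathlib
import Cfsg.Agent.Lib.WeakClosureLocal
import Cfsg.Agent.Lib.ThompsonNPC5

/-!
# An orbit sum lemma for conjugates of a central element, at the prime two

If `x` is central in a Sylow `2`-subgroup `S`, all conjugates of `x` are congruent modulo a normal elementary abelian
subgroup `W`, the proper overgroups of `S` centralize `x`, and some subgroup `B ≤ S` outside `O₂(X)` acts quadratically on
`W`, never with `[y, B]` of order two, then `x` is central.
-/

set_option autoImplicit false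
set_option linter.unusedSectionVars false

open scoped commutatorElement

namespace Cfsg.Agent.Lib.WeakJ1

open Cfsg Cfsg.Agent.Lib.PCore Cfsg.Agent.Lib.TransferOrbit
open Cfsg.Agent.Lib.WeakClosureLocal Cfsg.Agent.Lib.ThompsonNPC1

universe u

section Orbit

variable {L Ω A : Type*} [Group L] [MulAction L Ω] [CommGroup A]

/-- Products over invariant finite sets of points moved by members of a family of subgroups vanish. -/
theorem prod_eq_one_of_moved_family [Finite L] (p : ℕ) [Fact p.Prime] (S₀ : Subgroup L) (hS₀ : IsPGroup p S₀)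
    (𝓑 : Set (Subgroup L)) (h𝓑 : ∀ B ∈ 𝓑, ∀ g ∈ S₀, B.map (MulAut.conj g).toMonoidHom ∈ 𝓑) (Γ : Ω → A)
    (hbase : ∀ B ∈ 𝓑, B ≤ S₀ → ∀ ω : Ω, (∃ b ∈ B, b • ω ≠ ω) → ∀ C : Finset Ω,
      (∀ q, q ∈ C ↔ ∃ b ∈ B, q = b • ω) → ∏ q ∈ C, Γ q = 1)
    (H : Subgroup L) (hH : H ≤ S₀) (F : Finset Ω) (hinv : ∀ h ∈ H, ∀ ω ∈ F, h • ω ∈ F)
    (hmov : ∀ ω ∈ F, ∃ B ∈ 𝓑, B ≤ H ∧ ∃ b ∈ B, b • ω ≠ ω) : ∏ q ∈ F, Γ q = 1 := by
  classical
  induction hn : Nat.card H using Nat.strong_induction_on generalizing H F with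
  | _ n ih =>
    subst hn
    let R : Setoid Ω :=
      { r := fun a b => ∃ h ∈ H, a = h • b
        iseqv :=
          { refl := fun a => ⟨1, H.one_mem, by simp⟩
            symm := by
              rintro a b ⟨h, hh, rfl⟩
              exact ⟨h⁻¹, H.inv_mem hh, by simp⟩
            trans := by
              rintro a b c ⟨h, hh, rfl⟩ ⟨k, hk, rfl⟩
              exact ⟨h * k, H.mul_mem hh hk, by simp [mul_smul]⟩ } }
    rw [Finset.prod_partition R]
    apply Finset.prod_eq_one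
    intro x hx
    obtain ⟨ω, hω, rfl⟩ := Finset.mem_image.mp hx
    set C := F.filter (fun y => (⟦y⟧ : Quotient R) = ⟦ω⟧) with hC
    have hCmem : ∀ q, q ∈ C ↔ ∃ h ∈ H, q = h • ω := by
      intro q
      rw [hC, Finset.mem_filter]
      constructor
      · rintro ⟨_, h2⟩
        exact Quotient.exact h2
      · rintro ⟨h, hh, rfl⟩
        exact ⟨hinv h hh ω hω, Quotient.sound ⟨h, hh, rfl⟩⟩
    obtain ⟨B, hB𝓑, hBH, b, hb, hbω⟩ := hmov ω hω
    by_cases hz : B = H
    · subst hz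
      exact hbase B hB𝓑 hH ω ⟨b, hb, hbω⟩ C hCmem
    · obtain ⟨H₁, h1, h2, h3, h4⟩ := exists_normal_between (hS₀.to_le hH) hBH hz
      have hlt : Nat.card H₁ < Nat.card H := by
        exact Set.ncard_lt_ncard (show (H₁ : Set L) ⊂ (H : Set L) from
          SetLike.coe_ssubset_coe.mpr (lt_of_le_of_ne h2 h3)) (Set.toFinite _)
      refine ih _ hlt H₁ (h2.trans hH) C ?_ ?_ rfl
      · intro k hk q hq
        rw [hCmem] at hq ⊢
        obtain ⟨h, hh, rfl⟩ := hq
        exact ⟨k * h, H.mul_mem (h2 hk) hh, by rw [mul_smul]⟩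
      · intro q hq
        rw [hCmem] at hq
        obtain ⟨h, hh, rfl⟩ := hq
        refine ⟨B.map (MulAut.conj h).toMonoidHom, h𝓑 B hB𝓑 h (hH hh), ?_, h * b * h⁻¹, ⟨b, hb, rfl⟩, ?_⟩
        · rintro _ ⟨c, hc, rfl⟩
          exact h4 h hh c (h1 hc)
        · intro he
          apply hbω
          have : h • (b • ω) = h • ω := by
            rw [← he]
            simp [mul_smul]
          exact smul_left_cancel h this

theorem pow_two_cases {d : A} (hd : d * d = 1) (n : ℕ) : d ^ n = 1 ∨ d ^ n = d := by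
  induction n with
  | zero => left; simp
  | succ n ih =>
    rcases ih with h | h
    · right; rw [pow_succ, h, one_mul]
    · left; rw [pow_succ, h, hd]

/-- The product over a set on which a `2`-element acts freely, moving values by a fixed involution. -/
theorem prod_of_free {b : L} (hb : ∃ k : ℕ, b ^ 2 ^ k = 1) (F : Finset Ω) (hF : ∀ q ∈ F, b • q ∈ F)
    (Γ : Ω → A) (d : A) (hd : d * d = 1) (hA : ∀ q ∈ F, Γ q * Γ q = 1) (hΓ : ∀ q ∈ F, Γ (b • q) = d * Γ q)
    (hmove : ∀ q ∈ F, b • q ≠ q) : ∏ q ∈ F, Γ q = 1 ∨ ∏ q ∈ F, Γ q = d := by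
  classical
  haveI : Fact (Nat.Prime 2) := ⟨Nat.prime_two⟩
  obtain ⟨k, hk⟩ := hb
  have hFn : ∀ n : ℕ, ∀ q ∈ F, b ^ n • q ∈ F := by
    intro n
    induction n with
    | zero => intro q hq; simpa using hq
    | succ n ih =>
      intro q hq
      rw [pow_succ', mul_smul]
      exact hF _ (ih q hq)
  have hFz : ∀ z : ℤ, ∀ q ∈ F, b ^ z • q ∈ F := by
    intro z q hq
    have hpos : (0 : ℤ) < ((2 ^ k : ℕ) : ℤ) := by positivity
    have h1 : b ^ z = b ^ (z % ((2 ^ k : ℕ) : ℤ)) := by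
      conv_lhs => rw [← Int.emod_add_mul_ediv z ((2 ^ k : ℕ) : ℤ)]
      rw [zpow_add, zpow_mul, zpow_natCast, hk, one_zpow, mul_one]
    have h2 : (0 : ℤ) ≤ z % ((2 ^ k : ℕ) : ℤ) := Int.emod_nonneg _ hpos.ne'
    rw [h1, ← Int.toNat_of_nonneg h2, zpow_natCast]
    exact hFn _ q hq
  let R : Setoid Ω :=
    { r := fun a c => ∃ z : ℤ, a = b ^ z • c
      iseqv :=
        { refl := fun a => ⟨0, by simp⟩
          symm := by
            rintro a c ⟨z, rfl⟩
            exact ⟨-z, by simp [mul_smul]⟩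
          trans := by
            rintro a c e ⟨z, rfl⟩ ⟨w, rfl⟩
            exact ⟨z + w, by rw [zpow_add, mul_smul]⟩ } }
  rw [Finset.prod_partition R]
  refine Finset.prod_induction _ (fun t => t = 1 ∨ t = d) ?_ (Or.inl rfl) ?_
  · rintro s t (rfl | rfl) (rfl | rfl)
    · left; simp
    · right; simp
    · right; simp
    · left; exact hd
  intro x hx
  obtain ⟨ω, hω, rfl⟩ := Finset.mem_image.mp hx
  set C := F.filter (fun y => (⟦y⟧ : Quotient R) = ⟦ω⟧) with hC
  have hCmem : ∀ q, q ∈ C ↔ ∃ z : ℤ, q = b ^ z • ω := by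
    intro q
    rw [hC, Finset.mem_filter]
    constructor
    · rintro ⟨_, h2⟩
      exact Quotient.exact h2
    · rintro ⟨z, rfl⟩
      exact ⟨hFz z ω hω, Quotient.sound ⟨z, rfl⟩⟩
  obtain ⟨m, hm⟩ := prod_orbit_eq (L := L) 2 b ⟨k, hk⟩ ω (hmove ω hω) C hCmem Γ
  rw [hm]
  have hval : ∀ i : ℕ, Γ (b ^ i • ω) = d ^ i * Γ ω := by
    intro i
    induction i with
    | zero => simp
    | succ i ih =>
      rw [pow_succ', mul_smul, hΓ _ (hFn i ω hω), ih, pow_succ']
      group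
  rw [Finset.prod_congr rfl (fun i _ => hval i), Finset.prod_mul_distrib, Finset.prod_const,
    Finset.card_range, Finset.prod_pow_eq_pow_sum, pow_mul, pow_two, hA ω hω, one_pow, mul_one]
  exact pow_two_cases hd _

end Orbit

section Sum

variable {X : Type u} [Group X] [Finite X]

/-- A quadratic group never acting with commutators of order two. -/
structure QG (W B : Subgroup X) : Prop where
  comm : ∀ b ∈ B, ∀ b' ∈ B, b * b' = b' * b
  quad : ∀ b ∈ B, ∀ b' ∈ B, ∀ y ∈ W, b' * ⁅b, y⁆ = ⁅b, y⁆ * b'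
  good : ∀ y ∈ W, (∀ b ∈ B, ⁅b, y⁆ = 1) ∨ ∃ b₁ ∈ B, ∃ b₂ ∈ B, ⁅b₁, y⁆ ≠ 1 ∧ ⁅b₂, y⁆ ≠ 1 ∧ ⁅b₁, y⁆ ≠ ⁅b₂, y⁆

theorem comm_conj (g b y : X) : ⁅g * b * g⁻¹, y⁆ = g * ⁅b, g⁻¹ * y * g⁆ * g⁻¹ := by
  simp only [commutatorElement_def]; group

theorem QG.conj {W B : Subgroup X} [hW : W.Normal] (h : QG W B) (g : X) :
    QG W (B.map (MulAut.conj g).toMonoidHom) := by
  have hy : ∀ y ∈ W, g⁻¹ * y * g ∈ W := fun y hy => by simpa using hW.conj_mem y hy g⁻¹
  refine ⟨?_, ?_, ?_⟩
  · rintro _ ⟨b, hb, rfl⟩ _ ⟨b', hb', rfl⟩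
    show g * b * g⁻¹ * (g * b' * g⁻¹) = g * b' * g⁻¹ * (g * b * g⁻¹)
    have h1 := h.comm b hb b' hb'
    calc g * b * g⁻¹ * (g * b' * g⁻¹) = g * (b * b') * g⁻¹ := by group
      _ = g * (b' * b) * g⁻¹ := by rw [h1]
      _ = _ := by group
  · rintro _ ⟨b, hb, rfl⟩ _ ⟨b', hb', rfl⟩ y hy'
    show g * b' * g⁻¹ * ⁅g * b * g⁻¹, y⁆ = ⁅g * b * g⁻¹, y⁆ * (g * b' * g⁻¹)
    have h1 := h.quad b hb b' hb' _ (hy y hy')
    rw [comm_conj]
    calc g * b' * g⁻¹ * (g * ⁅b, g⁻¹ * y * g⁆ * g⁻¹) = g * (b' * ⁅b, g⁻¹ * y * g⁆) * g⁻¹ := by group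
      _ = g * (⁅b, g⁻¹ * y * g⁆ * b') * g⁻¹ := by rw [h1]
      _ = _ := by group
  · intro y hy'
    rcases h.good _ (hy y hy') with h1 | ⟨b₁, hb₁, b₂, hb₂, h1, h2, h3⟩
    · left
      rintro _ ⟨b, hb, rfl⟩
      show ⁅g * b * g⁻¹, y⁆ = 1
      rw [comm_conj, h1 b hb]; group
    · right
      have hne : ∀ c : X, c ≠ 1 → g * c * g⁻¹ ≠ 1 := by
        intro c hc he
        apply hc
        have : c = g⁻¹ * (g * c * g⁻¹) * g := by group
        rw [this, he]; group
      refine ⟨g * b₁ * g⁻¹, ⟨b₁, hb₁, rfl⟩, g * b₂ * g⁻¹, ⟨b₂, hb₂, rfl⟩, ?_, ?_, ?_⟩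
      · rw [comm_conj]; exact hne _ h1
      · rw [comm_conj]; exact hne _ h2
      · rw [comm_conj, comm_conj]
        intro he
        apply h3
        have h5 : ∀ c : X, c = g⁻¹ * (g * c * g⁻¹) * g := fun c => by group
        rw [h5 ⁅b₁, g⁻¹ * y * g⁆, h5 ⁅b₂, g⁻¹ * y * g⁆, he]

/-- Conjugates of `B` lying in `S`. -/
def fam (B S : Subgroup X) : Set (Subgroup X) :=
  {B' | B' ≤ S ∧ ∃ g : X, B' = B.map (MulAut.conj g).toMonoidHom}

/-- `M` is the only point of `X / M` fixed by all conjugates of `B` in `S`. -/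
theorem hfix_sub {p : ℕ} [Fact p.Prime] (S : Sylow p X) {B : Subgroup X} (hBS : B ≤ (S : Subgroup X))
    (hBP : ¬ B ≤ pCore p X) (M : Subgroup X) (hSM : (S : Subgroup X) ≤ M)
    (hNM : ∀ B' : Subgroup X, (S : Subgroup X) ≤ B' → B' ≠ ⊤ → B' ≤ M) (z : X)
    (hz : ∀ B' ∈ fam B (S : Subgroup X), ∀ b ∈ B', z⁻¹ * b * z ∈ M) : z ∈ M := by
  set 𝓕 := fam B (S : Subgroup X) with h𝓕
  set D : Subgroup X := sSup 𝓕 with hDdef
  have hDS : D ≤ (S : Subgroup X) := sSup_le fun B' hB' => hB'.1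
  have hBD : B ≤ D := by
    apply le_sSup
    refine ⟨hBS, 1, ?_⟩
    ext y
    simp
  have hnorm : ∀ g : X, (∀ B' ∈ 𝓕, B'.map (MulAut.conj g).toMonoidHom ∈ 𝓕) →
      g ∈ Subgroup.normalizer ((D : Subgroup X) : Set X) := by
    intro g hg
    apply Cfsg.Agent.Lib.PResid.mem_normalizer_of_conj_map_eq
    apply Subgroup.eq_of_le_of_card_ge
    · rw [Subgroup.map_le_iff_le_comap]
      refine sSup_le fun B' hB' => ?_
      rw [← Subgroup.map_le_iff_le_comap]
      exact le_sSup (hg B' hB')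
    · exact (Subgroup.card_map_of_injective (MulAut.conj g).injective).ge
  have hconj : ∀ (g k : X) (B' : Subgroup X), B' = B.map (MulAut.conj k).toMonoidHom →
      B'.map (MulAut.conj g).toMonoidHom = B.map (MulAut.conj (g * k)).toMonoidHom := by
    rintro g k _ rfl
    rw [Subgroup.map_map]
    congr 1
    ext y
    simp [MulAut.conj_apply]
  have hSN : (S : Subgroup X) ≤ Subgroup.normalizer ((D : Subgroup X) : Set X) := by
    intro s hs
    apply hnorm
    rintro B' ⟨hB', k, hk⟩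
    refine ⟨?_, s * k, hconj s k B' hk⟩
    rintro _ ⟨b, hb, rfl⟩
    exact Subgroup.mul_mem _ (Subgroup.mul_mem _ hs (hB' hb)) (Subgroup.inv_mem _ hs)
  have hNne : Subgroup.normalizer ((D : Subgroup X) : Set X) ≠ ⊤ := by
    intro h
    have h1 : D.Normal := Subgroup.normalizer_eq_top_iff.mp h
    have h2 : D ≤ pCore p X := le_pCore h1 (S.isPGroup'.to_le hDS)
    exact hBP (hBD.trans h2)
  have hNM' := hNM _ hSN hNne
  set D₁ : Subgroup X := D.map (MulAut.conj z⁻¹).toMonoidHom with hD₁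
  have hD₁M : D₁ ≤ M := by
    rw [hD₁, Subgroup.map_le_iff_le_comap]
    refine sSup_le fun B' hB' b hb => ?_
    show z⁻¹ * b * z⁻¹⁻¹ ∈ M
    simpa using hz B' hB' b hb
  have hD₁p : IsPGroup p D₁ := (S.isPGroup'.to_le hDS).map _
  obtain ⟨m, hm, hmS⟩ := Cfsg.Agent.Lib.TransferEval.exists_conj_le_sylow M (S.subtype hSM) D₁ hD₁p hD₁M
  have hmS' : (((S.subtype hSM : Sylow p M) : Subgroup M).map M.subtype) = (S : Subgroup X) := by
    rw [S.coe_subtype hSM, Subgroup.map_subgroupOf_eq_of_le hSM]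
  have hy : m * z⁻¹ ∈ Subgroup.normalizer ((D : Subgroup X) : Set X) := by
    apply hnorm
    rintro B' hB'
    obtain ⟨-, k, hk⟩ := id hB'
    refine ⟨?_, m * z⁻¹ * k, hconj _ k B' hk⟩
    rintro _ ⟨b, hb, rfl⟩
    have hbD : b ∈ D := (le_sSup hB' : B' ≤ D) hb
    have h3 := hmS (z⁻¹ * b * z⁻¹⁻¹) ⟨b, hbD, rfl⟩
    have h4 : m * (z⁻¹ * b * z⁻¹⁻¹) * m⁻¹ ∈ (S : Subgroup X) := by
      rw [← hmS']
      exact h3
    show m * z⁻¹ * b * (m * z⁻¹)⁻¹ ∈ (S : Subgroup X)
    have e : m * z⁻¹ * b * (m * z⁻¹)⁻¹ = m * (z⁻¹ * b * z⁻¹⁻¹) * m⁻¹ := by group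
    rw [e]
    exact h4
  have hzm : z = (m * z⁻¹)⁻¹ * m := by group
  rw [hzm]
  exact M.mul_mem (M.inv_mem (hNM' hy)) hm

/-- The abstract sum lemma. -/
theorem sum_abstract {A : Type*} [CommGroup A] (S : Sylow 2 X) (M : Subgroup X)
    (hSM : (S : Subgroup X) ≤ M)
    (hNM : ∀ B' : Subgroup X, (S : Subgroup X) ≤ B' → B' ≠ ⊤ → B' ≤ M)
    (cc : X →* MulAut A) (u : X → A) (hu1 : ∀ m ∈ M, u m = 1)
    (hcoc : ∀ h k, u (h * k) = u h * cc h (u k))
    (hA : ∀ a : A, a * a = 1)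
    {B : Subgroup X} (hBS : B ≤ (S : Subgroup X)) (hBP : ¬ B ≤ pCore 2 X)
    (hB : ∀ B' ∈ fam B (S : Subgroup X),
      (∀ b ∈ B', ∀ b' ∈ B', b * b' = b' * b) ∧
      ∀ y : A, (∀ b ∈ B', cc b y = y) ∨ ∃ b₁ ∈ B', ∃ b₂ ∈ B', ∃ d₁ d₂ : A, d₁ ≠ d₂ ∧ d₁ ≠ 1 ∧ d₂ ≠ 1 ∧
        ∀ b' ∈ B', cc b₁ (cc b' y) = d₁ * cc b' y ∧ cc b₂ (cc b' y) = d₂ * cc b' y) :
    ∀ h, u h = 1 := by
  classical
  have hSp : IsPGroup 2 (S : Subgroup X) := S.isPGroup'
  have hur : ∀ h, ∀ m ∈ M, u (h * m) = u h := by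
    intro h m hm
    rw [hcoc, hu1 m hm, map_one, mul_one]
  have : Fintype (X ⧸ M) := Fintype.ofFinite _
  have hout : ∀ h : X, u ((h : X ⧸ M).out) = u h := by
    intro h
    obtain ⟨m, hm⟩ := QuotientGroup.mk_out_eq_mul M h
    rw [hm, hur h m m.2]
  set base : X ⧸ M := ((1 : X) : X ⧸ M) with hbase
  have hvan : ∏ q : X ⧸ M, u q.out = 1 := by
    have hb : u base.out = 1 := by
      rw [hbase, hout, hu1 1 M.one_mem]
    rw [← Finset.mul_prod_erase Finset.univ _ (Finset.mem_univ base), hb, one_mul]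
    refine prod_eq_one_of_moved_family (L := X) (Ω := X ⧸ M) (A := A) 2 (S : Subgroup X) hSp
      (fam B (S : Subgroup X)) ?_ (fun q => u q.out) ?_ (S : Subgroup X) le_rfl _ ?_ ?_
    · rintro B' ⟨hB', k, rfl⟩ g hg
      refine ⟨?_, g * k, ?_⟩
      · rintro _ ⟨c, hc, rfl⟩
        exact Subgroup.mul_mem _ (Subgroup.mul_mem _ hg (hB' hc)) (Subgroup.inv_mem _ hg)
      · rw [Subgroup.map_map]
        congr 1
        ext y
        simp [MulAut.conj_apply]
    · intro B' hB'𝓑 hB'S ω hω C hC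
      obtain ⟨b, hb, hbω⟩ := hω
      obtain ⟨hcomm', hgood⟩ := hB B' hB'𝓑
      induction ω using QuotientGroup.induction_on with
      | H z =>
        have hval : ∀ b' ∈ B', u (b' • (z : X ⧸ M)).out = cc b' (u z) := by
          intro b' hb'
          have e1 : b' • (z : X ⧸ M) = ((b' * z : X) : X ⧸ M) := by
            rw [MulAction.Quotient.smul_mk]; rfl
          rw [e1, hout, hcoc, hu1 _ (hSM (hB'S hb')), one_mul]
        have hCinv : ∀ t ∈ B', ∀ q ∈ C, t • q ∈ C := by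
          intro t ht q hq
          rw [hC] at hq ⊢
          obtain ⟨b', hb', rfl⟩ := hq
          exact ⟨t * b', B'.mul_mem ht hb', (mul_smul _ _ _).symm⟩
        have h2b : ∀ t ∈ B', ∃ k : ℕ, t ^ 2 ^ k = 1 := by
          intro t ht
          obtain ⟨k, hk⟩ := hSp ⟨t, hB'S ht⟩
          exact ⟨k, by simpa using congrArg Subtype.val hk⟩
        rcases hgood (u z) with h0 | ⟨b₁, hb₁, b₂, hb₂, d₁, d₂, hne, hd₁, hd₂, hdd⟩
        · have hmove : ∀ q ∈ C, b • q ≠ q := by
            intro q hq he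
            rw [hC] at hq
            obtain ⟨b', hb', rfl⟩ := hq
            apply hbω
            have : b' • b • (z : X ⧸ M) = b' • (z : X ⧸ M) := by
              rw [← mul_smul, ← hcomm' b hb b' hb', mul_smul]; exact he
            exact smul_left_cancel b' this
          have hΓ : ∀ q ∈ C, u (b • q).out = 1 * u q.out := by
            intro q hq
            rw [hC] at hq
            obtain ⟨b', hb', rfl⟩ := hq
            rw [one_mul, ← mul_smul, hval _ (B'.mul_mem hb hb'), hval _ hb', h0 _ (B'.mul_mem hb hb'), h0 _ hb']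
          rcases prod_of_free (h2b b hb) C (hCinv b hb) (fun q => u q.out) 1 (by simp)
            (fun q _ => hA _) hΓ hmove with h | h
          exacts [h, h]
        · have hΓ : ∀ (t : X) (d : A), t ∈ B' → (∀ b' ∈ B', cc t (cc b' (u z)) = d * cc b' (u z)) →
              ∀ q ∈ C, u (t • q).out = d * u q.out := by
            intro t d ht hd q hq
            rw [hC] at hq
            obtain ⟨b', hb', rfl⟩ := hq
            rw [← mul_smul, hval _ (B'.mul_mem ht hb'), hval _ hb', map_mul, MulAut.mul_apply, hd b' hb']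
          have hmv : ∀ (t : X) (d : A), d ≠ 1 → (∀ q ∈ C, u (t • q).out = d * u q.out) → ∀ q ∈ C, t • q ≠ q := by
            intro t d hd hΓ' q hq he
            have := hΓ' q hq
            rw [he] at this
            apply hd
            exact (mul_eq_right.mp this.symm)
          have h1 := prod_of_free (h2b b₁ hb₁) C (hCinv b₁ hb₁) (fun q => u q.out) d₁ (hA _)
            (fun q _ => hA _) (hΓ b₁ d₁ hb₁ fun b' hb' => (hdd b' hb').1)
            (hmv b₁ d₁ hd₁ (hΓ b₁ d₁ hb₁ fun b' hb' => (hdd b' hb').1))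
          have h2 := prod_of_free (h2b b₂ hb₂) C (hCinv b₂ hb₂) (fun q => u q.out) d₂ (hA _)
            (fun q _ => hA _) (hΓ b₂ d₂ hb₂ fun b' hb' => (hdd b' hb').2)
            (hmv b₂ d₂ hd₂ (hΓ b₂ d₂ hb₂ fun b' hb' => (hdd b' hb').2))
          rcases h1 with h1 | h1
          · exact h1
          · rcases h2 with h2 | h2
            · exact h2
            · exact absurd (h1.symm.trans h2) hne
    · intro s hs ω hω
      rw [Finset.mem_erase] at hω ⊢
      refine ⟨?_, Finset.mem_univ _⟩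
      intro he
      apply hω.1
      have h3 : s⁻¹ • base = base := by
        rw [hbase, MulAction.Quotient.smul_mk]
        show ((s⁻¹ • (1 : X) : X) : X ⧸ M) = _
        rw [QuotientGroup.eq, smul_eq_mul]
        simpa using hSM (Subgroup.inv_mem _ (Subgroup.inv_mem _ hs))
      have h4 : s⁻¹ • (s • ω) = ω := by simp
      rw [← h4, he, h3]
    · intro ω hω
      rw [Finset.mem_erase] at hω
      induction ω using QuotientGroup.induction_on with
      | H z =>
        have hx1 : z ∉ M := by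
          intro hxM
          apply hω.1
          rw [hbase, eq_comm, QuotientGroup.eq]
          simpa using hxM
        by_contra hcon
        push Not at hcon
        apply hx1
        refine hfix_sub S hBS hBP M hSM hNM z ?_
        intro B' hB' b hb
        have := hcon B' hB' hB'.1 b hb
        rw [MulAction.Quotient.smul_mk] at this
        have h5 : ((b • z : X) : X ⧸ M) = z := this
        rw [eq_comm, QuotientGroup.eq, smul_eq_mul] at h5
        rwa [← mul_assoc] at h5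
  intro h
  have h2 : ∏ q : X ⧸ M, u (h • q).out = 1 := by
    rw [← hvan]
    exact Equiv.prod_comp (MulAction.toPerm h) (fun q : X ⧸ M => u q.out)
  have h3 : ∀ q : X ⧸ M, u (h • q).out = u h * (cc h) (u q.out) := by
    intro q
    have e1 : h • q = ((h * q.out : X) : X ⧸ M) := by
      conv_lhs => rw [← QuotientGroup.out_eq' q]
      rw [MulAction.Quotient.smul_mk]
      rfl
    rw [e1, hout, hcoc]
  rw [Finset.prod_congr rfl (fun q _ => h3 q), Finset.prod_mul_distrib, Finset.prod_const, ← map_prod,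
    hvan, map_one, mul_one, Finset.card_univ] at h2
  have h5 : u h ^ M.index = 1 := by
    rw [Subgroup.index_eq_card, Nat.card_eq_fintype_card]
    exact h2
  have hodd : ¬ 2 ∣ M.index := fun h' =>
    S.not_dvd_index (h'.trans (Subgroup.index_dvd_of_le hSM))
  obtain ⟨k, hk⟩ := Nat.odd_iff.mpr (Nat.mod_two_ne_zero.mp (fun h' => hodd (Nat.dvd_of_mod_eq_zero h')))
  rw [hk, pow_succ, pow_mul, pow_two, hA, one_pow, one_mul] at h5
  exact h5

/-- **The sum lemma.** If `x` is central in a Sylow `2`-subgroup `S`, the overgroups of `S` centralize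
`x`, conjugates of `x` are congruent modulo a normal elementary abelian `W`, and some `B ≤ S` outside
`O₂(X)` acts quadratically on `W`, never with `[y, B]` of order two, then `x` is central. -/
theorem sum_lemma (S : Sylow 2 X) {x : X} {W : Subgroup X} [hWn : W.Normal]
    (hWc : ∀ a ∈ W, ∀ b ∈ W, a * b = b * a) (hW2 : ∀ a ∈ W, a * a = 1)
    (hu : ∀ h : X, x⁻¹ * (h * x * h⁻¹) ∈ W)
    (hSx : ∀ s ∈ (S : Subgroup X), s * x * s⁻¹ = x)
    (hover : ∀ B : Subgroup X, (S : Subgroup X) ≤ B → B ≠ ⊤ → ∀ b ∈ B, b * x * b⁻¹ = x)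
    {B : Subgroup X} (hBS : B ≤ (S : Subgroup X)) (hBP : ¬ B ≤ pCore 2 X) (hQ : QG W B) :
    ∀ h, h * x * h⁻¹ = x := by
  classical
  set M : Subgroup X := Subgroup.centralizer ({x} : Set X) with hM
  have hMmem : ∀ y, y ∈ M ↔ y * x * y⁻¹ = x := by
    intro y
    rw [hM, Subgroup.mem_centralizer_singleton_iff, mul_inv_eq_iff_eq_mul]
  have hSM : (S : Subgroup X) ≤ M := fun s hs => (hMmem s).mpr (hSx s hs)
  have hNM : ∀ B' : Subgroup X, (S : Subgroup X) ≤ B' → B' ≠ ⊤ → B' ≤ M :=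
    fun B' h1 h2 b hb => (hMmem b).mpr (hover B' h1 h2 b hb)
  letI hcomm : CommGroup W :=
    { (inferInstance : Group W) with mul_comm := fun a b => Subtype.ext (hWc a a.2 b b.2) }
  let u : X → W := fun h => ⟨x⁻¹ * (h * x * h⁻¹), hu h⟩
  have hcoe : ∀ (g : X) (t : W), ((MulAut.conjNormal g : MulAut W) t : X) = g * t * g⁻¹ := by
    intro g t
    simp [MulAut.conjNormal_apply]
  have key : ∀ h, u h = 1 := by
    refine sum_abstract (A := W) S M hSM hNM (MulAut.conjNormal : X →* MulAut W) u ?_ ?_ ?_ hBS hBP ?_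
    · intro m hm
      apply Subtype.ext
      show x⁻¹ * (m * x * m⁻¹) = 1
      rw [(hMmem m).mp hm]; group
    · intro h k
      apply Subtype.ext
      show x⁻¹ * ((h * k) * x * (h * k)⁻¹) = (x⁻¹ * (h * x * h⁻¹)) * ((MulAut.conjNormal h : MulAut W) (u k) : X)
      rw [hcoe]
      show _ = (x⁻¹ * (h * x * h⁻¹)) * (h * (x⁻¹ * (k * x * k⁻¹)) * h⁻¹)
      group
    · intro a
      exact Subtype.ext (hW2 a a.2)
    · rintro B' ⟨hB'S, g, rfl⟩
      have hQ' := hQ.conj g
      refine ⟨hQ'.comm, ?_⟩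
      intro y
      have hcm : ∀ t : X, ⁅t, (y : X)⁆ ∈ W := fun t => by
        rw [commutatorElement_def]
        exact W.mul_mem (hWn.conj_mem y y.2 t) (W.inv_mem y.2)
      rcases hQ'.good y y.2 with h1 | ⟨b₁, hb₁, b₂, hb₂, h1, h2, h3⟩
      · left
        intro b hb
        apply Subtype.ext
        rw [hcoe]
        have := h1 b hb
        rw [commutatorElement_def] at this
        exact mul_inv_eq_one.mp this
      · right
        refine ⟨b₁, hb₁, b₂, hb₂, ⟨_, hcm b₁⟩, ⟨_, hcm b₂⟩, ?_, ?_, ?_, ?_⟩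
        · intro he
          exact h3 (congrArg Subtype.val he)
        · intro he
          exact h1 (congrArg Subtype.val he)
        · intro he
          exact h2 (congrArg Subtype.val he)
        · have hkey : ∀ t ∈ B.map (MulAut.conj g).toMonoidHom, ∀ b' ∈ B.map (MulAut.conj g).toMonoidHom,
              ((MulAut.conjNormal t : MulAut W) ((MulAut.conjNormal b' : MulAut W) y) : X) =
                ⁅t, (y : X)⁆ * ((MulAut.conjNormal b' : MulAut W) y : X) := by
            intro t ht b' hb'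
            rw [hcoe, hcoe]
            have hq := hQ'.quad t ht b' hb' y y.2
            have hc := hQ'.comm t ht b' hb'
            calc t * (b' * y * b'⁻¹) * t⁻¹ = (t * b') * y * (t * b')⁻¹ := by group
              _ = (b' * t) * y * (b' * t)⁻¹ := by rw [hc]
              _ = (b' * ⁅t, (y : X)⁆) * y * b'⁻¹ := by
                  rw [commutatorElement_def]; group
              _ = (⁅t, (y : X)⁆ * b') * y * b'⁻¹ := by rw [hq]
              _ = ⁅t, (y : X)⁆ * (b' * y * b'⁻¹) := by group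
          intro b' hb'
          exact ⟨Subtype.ext (hkey b₁ hb₁ b' hb'), Subtype.ext (hkey b₂ hb₂ b' hb')⟩
  intro h
  have := congrArg Subtype.val (key h)
  have h1 : x⁻¹ * (h * x * h⁻¹) = 1 := this
  rw [inv_mul_eq_one] at h1
  exact h1.symm

end Sum

end Cfsg.Agent.Lib.WeakJ1
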