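import Mathlib
import Cfsg.Agent.Lib.WeakJ1
import Cfsg.Agent.Lib.BaerSuzuki
import Cfsg.Agent.Lib.BrolineGT
import Cfsg.Agent.Lib.PLocalTools

/-!
# Offenders and transvections on a normal elementary abelian `2`-subgroup

`offender`: a quadratic offender contains either a quadratic subgroup of the type handled by the sum lemma
or an element acting as a transvection.

`lemmaT`: a transvection on a minimal normal elementary abelian `2`-subgroup forces a section isomorphic to `S₄`.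
-/

set_option autoImplicit false
set_option linter.unusedSectionVars false

open scoped commutatorElement

namespace Cfsg.Agent.Lib.WeakJ1

open Cfsg Cfsg.Agent.Lib.PCore
open Cfsg.Agent.Lib.ThompsonNPC1

universe u

variable {X : Type u} [Group X] [Finite X]

theorem relIndex_ne_zero' (H K : Subgroup X) : H.relIndex K ≠ 0 := Subgroup.index_ne_zero_of_finite

/-- **The offender lemma.** -/
theorem offender {W A A₀ : Subgroup X} [hWn : W.Normal]
    (hWc : ∀ a ∈ W, ∀ b ∈ W, a * b = b * a) (hW2 : ∀ a ∈ W, a * a = 1)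
    (hAc : ∀ a ∈ A, ∀ b ∈ A, a * b = b * a)
    (hq : ∀ a ∈ A, ∀ b ∈ A, ∀ y ∈ W, b * ⁅a, y⁆ = ⁅a, y⁆ * b)
    (hA₀ : A₀ ≤ A) (hA₀W : ∀ a ∈ A₀, ∀ y ∈ W, a * y = y * a) (hne : A₀ ≠ A)
    (hOff : (W ⊓ Subgroup.centralizer (A : Set X)).relIndex W ≤ A₀.relIndex A) :
    ∃ B : Subgroup X, A₀ ≤ B ∧ B ≤ A ∧ B ≠ A₀ ∧
      (QG W B ∨ ∃ a ∈ B, a ∉ A₀ ∧ ∃ c, ∀ y ∈ W, ⁅a, y⁆ = 1 ∨ ⁅a, y⁆ = c) := by
  classical
  let F : Set (Subgroup X) := {B | A₀ ≤ B ∧ B ≤ A ∧ B ≠ A₀ ∧
    (W ⊓ Subgroup.centralizer (B : Set X)).relIndex W ≤ A₀.relIndex B}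
  obtain ⟨B, hB, hmin⟩ := Set.exists_min_image F (fun B : Subgroup X => Nat.card B) (Set.toFinite _)
    ⟨A, hA₀, le_rfl, hne.symm, hOff⟩
  obtain ⟨h1, h2, h3, h4⟩ := hB
  refine ⟨B, h1, h2, h3, ?_⟩
  have hcm : ∀ (t y : X), y ∈ W → ⁅t, y⁆ ∈ W := fun t y hy => by
    rw [commutatorElement_def]
    exact W.mul_mem (hWn.conj_mem y hy t) (W.inv_mem hy)
  by_cases hm : A₀.relIndex B = 2
  · right
    obtain ⟨a, ha1, haC⟩ := SetLike.exists_of_lt (lt_of_le_of_ne h1 h3.symm)
    refine ⟨a, ha1, haC, ?_⟩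
    set U : Subgroup X := W ⊓ Subgroup.centralizer ({a} : Set X) with hU
    have hmemU : ∀ {v : X}, v ∈ U ↔ v ∈ W ∧ a * v = v * a := by
      intro v
      constructor
      · rintro ⟨h1, h2⟩
        exact ⟨h1, Subgroup.mem_centralizer_iff.mp h2 a rfl⟩
      · rintro ⟨h1, h2⟩
        refine ⟨h1, Subgroup.mem_centralizer_iff.mpr ?_⟩
        rintro _ rfl
        exact h2
    have hUle : U ≤ W ⊓ Subgroup.centralizer (B : Set X) := by
      intro u hu
      obtain ⟨hu1, hu2⟩ := hmemU.mp hu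
      refine ⟨hu1, Subgroup.mem_centralizer_iff.mpr ?_⟩
      intro b hb
      have hb' : b ∈ B := hb
      by_cases hbC : b ∈ A₀
      · exact hA₀W b hbC u hu1
      · have hi : (A₀.subgroupOf B).index = 2 := hm
        have h1' : (⟨a, ha1⟩ * ⟨b, hb'⟩ : B) ∈ A₀.subgroupOf B := by
          rw [Subgroup.mul_mem_iff_of_index_two hi]
          exact iff_of_false haC hbC
        have h2' : a * b ∈ A₀ := h1'
        have h3' : (a * b) * u = u * (a * b) := hA₀W _ h2' u hu1
        have h4' : a * (b * u) = a * (u * b) := by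
          calc a * (b * u) = (a * b) * u := by group
            _ = u * a * b := by rw [h3']; group
            _ = a * u * b := by rw [hu2]
            _ = a * (u * b) := by group
        exact mul_left_cancel h4'
    have hUW : U ≤ W := inf_le_left
    have hidx2 : U.relIndex W ≤ 2 := by
      have h5 : U.relIndex W ≤ (W ⊓ Subgroup.centralizer (B : Set X)).relIndex W := by
        have hle : W ⊓ Subgroup.centralizer (B : Set X) ≤ U := by
          rintro v ⟨hv1, hv2⟩
          exact hmemU.mpr ⟨hv1, Subgroup.mem_centralizer_iff.mp hv2 a ha1⟩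
        exact Subgroup.relIndex_le_of_le_left hle (relIndex_ne_zero' _ _)
      omega
    by_cases hall : ∀ v ∈ W, a * v = v * a
    · exact ⟨1, fun y hy => Or.inl (commutatorElement_eq_one_iff_mul_comm.mpr (hall y hy))⟩
    push Not at hall
    obtain ⟨v₀, hv₀, hv₀a⟩ := hall
    have hv₀U : v₀ ∉ U := fun h => hv₀a (hmemU.mp h).2
    have hidx : U.relIndex W = 2 := by
      have h3' := relIndex_ne_zero' U W
      have h4' : U.relIndex W ≠ 1 := by
        intro h0
        exact hv₀U (Subgroup.relIndex_eq_one.mp h0 hv₀)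
      omega
    refine ⟨⁅a, v₀⁆, fun v hv => ?_⟩
    by_cases hvU : v ∈ U
    · exact Or.inl (commutatorElement_eq_one_iff_mul_comm.mpr (hmemU.mp hvU).2)
    · right
      have hi : (U.subgroupOf W).index = 2 := hidx
      have h1' : (⟨v₀, hv₀⟩ * ⟨v, hv⟩ : W) ∈ U.subgroupOf W := by
        rw [Subgroup.mul_mem_iff_of_index_two hi]
        exact iff_of_false hv₀U hvU
      have h2' : v₀ * v ∈ U := h1'
      have h3' : a * (v₀ * v) = (v₀ * v) * a := (hmemU.mp h2').2
      have hc : ⁅a, v₀⁆ ∈ W := hcm a v₀ hv₀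
      have hc' : ⁅a, v⁆ ∈ W := hcm a v hv
      have e1 : a * v₀ * a⁻¹ = ⁅a, v₀⁆ * v₀ := by rw [commutatorElement_def]; group
      have e2 : a * v * a⁻¹ = ⁅a, v⁆ * v := by rw [commutatorElement_def]; group
      have h4' : (⁅a, v₀⁆ * v₀) * (⁅a, v⁆ * v) = v₀ * v := by
        rw [← e1, ← e2]
        calc a * v₀ * a⁻¹ * (a * v * a⁻¹) = (a * (v₀ * v)) * a⁻¹ := by group
          _ = v₀ * v := by rw [h3']; group
      have h5 : (⁅a, v₀⁆ * v₀) * (⁅a, v⁆ * v) = v₀ * (⁅a, v₀⁆ * ⁅a, v⁆) * v := by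
        rw [hWc _ hc _ hv₀]; group
      rw [h5] at h4'
      have h6 : ⁅a, v₀⁆ * ⁅a, v⁆ = 1 := by
        have h7 : v₀ * (⁅a, v₀⁆ * ⁅a, v⁆) * v = v₀ * 1 * v := by rw [h4', mul_one]
        exact mul_left_cancel (mul_right_cancel h7)
      calc ⁅a, v⁆ = (⁅a, v₀⁆ * ⁅a, v₀⁆) * ⁅a, v⁆ := by rw [hW2 _ hc, one_mul]
        _ = ⁅a, v₀⁆ * (⁅a, v₀⁆ * ⁅a, v⁆) := by group
        _ = ⁅a, v₀⁆ := by rw [h6, mul_one]
  · left
    refine ⟨fun b hb b' hb' => hAc _ (h2 hb) _ (h2 hb'), fun b hb b' hb' y hy => hq _ (h2 hb) _ (h2 hb') y hy, ?_⟩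
    intro y hy
    by_contra hcon
    push Not at hcon
    obtain ⟨⟨b₁, hb₁, hb₁y⟩, hall⟩ := hcon
    set B₀ : Subgroup X := B ⊓ Subgroup.centralizer ({y} : Set X) with hB₀
    have hmemB₀ : ∀ {b : X}, b ∈ B₀ ↔ b ∈ B ∧ ⁅b, y⁆ = 1 := by
      intro b
      rw [hB₀, Subgroup.mem_inf, Subgroup.mem_centralizer_singleton_iff, commutatorElement_eq_one_iff_mul_comm]
    have hB₀B : B₀ ≤ B := inf_le_left
    have hA₀B₀ : A₀ ≤ B₀ := fun a ha =>
      hmemB₀.mpr ⟨h1 ha, commutatorElement_eq_one_iff_mul_comm.mpr (hA₀W a ha y hy)⟩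
    have hmulc : ∀ b ∈ B, ∀ b' ∈ B, ⁅b * b', y⁆ = ⁅b', y⁆ * ⁅b, y⁆ := by
      intro b hb b' hb'
      have h5 := hq b' (h2 hb') b (h2 hb) y hy
      calc ⁅b * b', y⁆ = b * (b' * y * b'⁻¹ * y⁻¹) * y * b⁻¹ * y⁻¹ := by
            rw [commutatorElement_def]; group
        _ = (b * ⁅b', y⁆) * y * b⁻¹ * y⁻¹ := by rw [commutatorElement_def]
        _ = (⁅b', y⁆ * b) * y * b⁻¹ * y⁻¹ := by rw [h5]
        _ = ⁅b', y⁆ * ⁅b, y⁆ := by rw [commutatorElement_def b y]; group
    have hidx : B₀.relIndex B = 2 := by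
      rw [Subgroup.relIndex_eq_two_iff]
      refine ⟨b₁, hb₁, fun b hb => ?_⟩
      by_cases hbB : b ∈ B₀
      · right
        refine ⟨hbB, ?_⟩
        intro hmem
        have h5 := (hmemB₀.mp hmem).2
        rw [hmulc b hb b₁ hb₁, (hmemB₀.mp hbB).2, mul_one] at h5
        exact hb₁y h5
      · left
        refine ⟨?_, hbB⟩
        have hby : ⁅b, y⁆ ≠ 1 := fun h => hbB (hmemB₀.mpr ⟨hb, h⟩)
        refine hmemB₀.mpr ⟨B.mul_mem hb hb₁, ?_⟩
        rw [hmulc b hb b₁ hb₁, hall b hb b₁ hb₁ hby hb₁y]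
        exact hW2 _ (hcm b₁ y hy)
    have hne₀ : B₀ ≠ A₀ := by
      intro he
      rw [he] at hidx
      exact hm hidx
    have hcard : Nat.card B₀ < Nat.card B := by
      have h5 := card_eq_relIndex_mul hB₀B
      rw [hidx] at h5
      have h6 : 0 < Nat.card B₀ := Nat.card_pos
      omega
    have hnot : ¬ ((W ⊓ Subgroup.centralizer (B₀ : Set X)).relIndex W ≤ A₀.relIndex B₀) := by
      intro hO
      have h5 : Nat.card B ≤ Nat.card B₀ := hmin B₀ ⟨hA₀B₀, hB₀B.trans h2, hne₀, hO⟩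
      omega
    have e1 : A₀.relIndex B₀ * B₀.relIndex B = A₀.relIndex B :=
      Subgroup.relIndex_mul_relIndex _ _ _ hA₀B₀ hB₀B
    have hle : W ⊓ Subgroup.centralizer (B : Set X) ≤ W ⊓ Subgroup.centralizer (B₀ : Set X) :=
      inf_le_inf_left _ (Subgroup.centralizer_le (SetLike.coe_mono hB₀B))
    have e2 : (W ⊓ Subgroup.centralizer (B : Set X)).relIndex (W ⊓ Subgroup.centralizer (B₀ : Set X)) *
        (W ⊓ Subgroup.centralizer (B₀ : Set X)).relIndex W = (W ⊓ Subgroup.centralizer (B : Set X)).relIndex W :=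
      Subgroup.relIndex_mul_relIndex _ _ _ hle inf_le_left
    have ht : (W ⊓ Subgroup.centralizer (B : Set X)).relIndex (W ⊓ Subgroup.centralizer (B₀ : Set X)) = 1 := by
      by_contra hne1
      have hne0 := relIndex_ne_zero' (W ⊓ Subgroup.centralizer (B : Set X)) (W ⊓ Subgroup.centralizer (B₀ : Set X))
      have h5 : 2 ≤ (W ⊓ Subgroup.centralizer (B : Set X)).relIndex (W ⊓ Subgroup.centralizer (B₀ : Set X)) := by
        omega
      push Not at hnot
      rw [hidx] at e1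
      nlinarith
    have h5 := Subgroup.relIndex_eq_one.mp ht
    have hy' : y ∈ W ⊓ Subgroup.centralizer (B₀ : Set X) := by
      refine ⟨hy, Subgroup.mem_centralizer_iff.mpr ?_⟩
      intro b hb
      exact commutatorElement_eq_one_iff_mul_comm.mp (hmemB₀.mp hb).2
    apply hb₁y
    exact commutatorElement_eq_one_iff_mul_comm.mpr (Subgroup.mem_centralizer_iff.mp (h5 hy').2 b₁ hb₁)

/-- The analysis of a pair of transvections. -/
theorem pair_analysis {W : Subgroup X} [hWn : W.Normal]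
    (hWc : ∀ a ∈ W, ∀ b ∈ W, a * b = b * a) (hW2 : ∀ a ∈ W, a * a = 1)
    {a w : X} (hwW : w ∈ W) (hw1 : w ≠ 1) (hw : ∀ v ∈ W, ⁅a, v⁆ = 1 ∨ ⁅a, v⁆ = w)
    (h_a_w : a * w * a⁻¹ = w) (hnot : ¬ Involves (Equiv.Perm (Fin 4)) X) (d₀ : X) :
    ∀ v ∈ W, (d₀ * a * d₀⁻¹ * a⁻¹) ^ 4 * v * ((d₀ * a * d₀⁻¹ * a⁻¹) ^ 4)⁻¹ = v := by
  classical
  have hww : w * w = 1 := hW2 w hwW
  have hconj_V : ∀ g : X, ∀ {v : X}, v ∈ W → g * v * g⁻¹ ∈ W := fun g v hv => hWn.conj_mem v hv g
  -- conjugation form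
  have hconj : ∀ {b y : X}, (∀ v ∈ W, ⁅b, v⁆ = 1 ∨ ⁅b, v⁆ = y) → ∀ v ∈ W,
      b * v * b⁻¹ = v ∨ b * v * b⁻¹ = y * v := by
    intro b y hb v hv
    have e1 : b * v * b⁻¹ = ⁅b, v⁆ * v := by rw [commutatorElement_def]; group
    rcases hb v hv with h | h
    · left; rw [e1, h, one_mul]
    · right; rw [e1, h]
  have ha_conj := hconj hw
  have ha_inv : ∀ v ∈ W, a⁻¹ * v * a = v ∨ a⁻¹ * v * a = w * v := by
    intro v hv
    have hv' : a⁻¹ * v * a ∈ W := by simpa using hconj_V a⁻¹ hv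
    have e1 : a * (a⁻¹ * v * a) * a⁻¹ = v := by group
    rcases ha_conj _ hv' with h | h
    · left; rw [← h, e1]
    · right
      rw [e1] at h
      calc a⁻¹ * v * a = w * (w * (a⁻¹ * v * a)) := by rw [← mul_assoc, hww, one_mul]
        _ = w * v := by rw [← h]
  set a' := d₀ * a * d₀⁻¹ with ha'
  set w' := d₀ * w * d₀⁻¹ with hw'
  set e := a' * a⁻¹ with he_eq
  have hw'V : w' ∈ W := hconj_V d₀ hwW
  have hw'1 : w' ≠ 1 := by
    intro h
    apply hw1
    have h2 : w = d₀⁻¹ * w' * d₀ := by rw [hw']; group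
    rw [h2, h]; group
  have hw'w' : w' * w' = 1 := hW2 w' hw'V
  have hcomm : w * w' = w' * w := hWc w hwW w' hw'V
  have ha'_comm : ∀ v ∈ W, ⁅a', v⁆ = 1 ∨ ⁅a', v⁆ = w' := by
    intro v hv
    have hv₁ : d₀⁻¹ * v * d₀ ∈ W := by simpa using hconj_V d₀⁻¹ hv
    have e1 : ⁅a', v⁆ = d₀ * ⁅a, d₀⁻¹ * v * d₀⁆ * d₀⁻¹ := by
      rw [commutatorElement_def, commutatorElement_def, ha']; group
    rcases hw _ hv₁ with h | h
    · left; rw [e1, h]; group
    · right; rw [e1, h]
  have ha'_conj := hconj ha'_comm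
  have h_a'_w' : a' * w' * a'⁻¹ = w' := by
    have e1 : a' * w' * a'⁻¹ = d₀ * (a * w * a⁻¹) * d₀⁻¹ := by rw [ha', hw']; group
    rw [e1, h_a_w]
  have he_conj : ∀ v, e * v * e⁻¹ = a' * (a⁻¹ * v * a) * a'⁻¹ := by
    intro v; rw [he_eq]; group
  have hmap : ∀ x y, a' * (x * y) * a'⁻¹ = (a' * x * a'⁻¹) * (a' * y * a'⁻¹) := by
    intro x y; group
  -- the general shape of the action of `e`
  have hform : ∀ v ∈ W, e * v * e⁻¹ = v ∨ e * v * e⁻¹ = w * v ∨ e * v * e⁻¹ = w' * v ∨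
      e * v * e⁻¹ = w * w' * v := by
    intro v hv
    rw [he_conj]
    rcases ha_inv v hv with h | h
    · rw [h]
      rcases ha'_conj v hv with h' | h'
      · exact Or.inl h'
      · exact Or.inr (Or.inr (Or.inl h'))
    · rw [h, hmap]
      rcases ha'_conj w hwW with h1 | h1 <;> rcases ha'_conj v hv with h2 | h2 <;> rw [h1, h2]
      · exact Or.inr (Or.inl rfl)
      · right; right; right; exact (mul_assoc _ _ _).symm
      · right; right; right; rw [hcomm]
      · right; left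
        calc w' * w * (w' * v) = (w * w') * (w' * v) := by rw [hcomm]
          _ = w * (w' * w') * v := by group
          _ = w * v := by rw [hw'w', mul_one]
  -- case analysis
  by_cases h1 : a * w' * a⁻¹ = w'
  · have h1' : a⁻¹ * w' * a = w' := by
      calc a⁻¹ * w' * a = a⁻¹ * (a * w' * a⁻¹) * a := by rw [h1]
        _ = w' := by group
    refine chain_conj hWc hW2 hwW hw'V hform ?_ ?_
    · rw [he_conj, h1', h_a'_w']
    · rw [he_conj]
      rcases ha_inv w hwW with h | h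
      · rw [h]
        rcases ha'_conj w hwW with h' | h'
        · exact Or.inl h'
        · right; rw [h', hcomm]
      · exfalso
        rw [hww] at h
        apply hw1
        have h3 : a⁻¹ * w * a = w := by
          calc a⁻¹ * w * a = a⁻¹ * (a * w * a⁻¹) * a := by rw [h_a_w]
            _ = w := by group
        rw [h3] at h
        exact h
  by_cases h2 : a' * w * a'⁻¹ = w
  · refine chain_conj (u := w') (u' := w) hWc hW2 hw'V hwW ?_ ?_ ?_
    · intro v hv
      rcases hform v hv with h | h | h | h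
      · exact Or.inl h
      · exact Or.inr (Or.inr (Or.inl h))
      · exact Or.inr (Or.inl h)
      · right; right; right; rw [h, hcomm]
    · rw [he_conj]
      have h3 : a⁻¹ * w * a = w := by
        calc a⁻¹ * w * a = a⁻¹ * (a * w * a⁻¹) * a := by rw [h_a_w]
          _ = w := by group
      rw [h3, h2]
    · rw [he_conj]
      rcases ha_inv w' hw'V with h | h
      · rw [h, h_a'_w']; exact Or.inl rfl
      · rw [h, hmap, h2, h_a'_w']; right; rw [hcomm]
  -- the remaining case: a section `S₄`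
  exfalso
  have h3 : a * w' * a⁻¹ = w * w' := (ha_conj w' hw'V).resolve_left h1
  have h4 : a' * w * a'⁻¹ = w * w' := by
    rw [((ha'_conj w hwW).resolve_left h2), hcomm]
  have hne : w ≠ w' := by
    intro h
    apply h2
    calc a' * w * a'⁻¹ = a' * w' * a'⁻¹ := by rw [← h]
      _ = w' := h_a'_w'
      _ = w := h.symm
  exact hnot (Cfsg.Agent.Lib.PermFourSection.of_elements (a := a) (a' := a') hww hw'w' hcomm hw1 hw'1 hne
    h_a_w h3 h_a'_w' h4)

/-- Two involutions whose "product" has order dividing four generate a `2`-group. -/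
theorem isPGroup_of_two_invs {Y : Type*} [Group Y] {r s : Y} (hr : r * r = 1) (hs : s * s = 1)
    (hrs : (s * r⁻¹) ^ 4 = 1) : IsPGroup 2 ↥(Subgroup.zpowers r ⊔ Subgroup.zpowers s) := by
  have hrinv : r⁻¹ = r := inv_eq_of_mul_eq_one_left hr
  have hsinv : s⁻¹ = s := inv_eq_of_mul_eq_one_left hs
  set t := s * r with ht
  have ht4 : t ^ 4 = 1 := by rw [ht, ← hrinv]; simpa [hrinv] using hrs
  have hrt : r * t * r⁻¹ = t⁻¹ := by
    rw [ht, mul_inv_rev, hrinv, hsinv]
    calc r * (s * r) * r = r * s * (r * r) := by group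
      _ = r * s := by rw [hr, mul_one]
  have hrtz : ∀ j : ℤ, r * t ^ j = t ^ (-j) * r := by
    intro j
    have h1 : r * t ^ j * r⁻¹ = (t⁻¹) ^ j := by rw [← conj_zpow, hrt]
    calc r * t ^ j = (r * t ^ j * r⁻¹) * r := by group
      _ = t ^ (-j) * r := by rw [h1, inv_zpow, zpow_neg]
  let P : Y → Prop := fun x => ∃ i : ℤ, x = t ^ i ∨ x = t ^ i * r
  have hP1 : P r := ⟨0, Or.inr (by simp)⟩
  have hP2 : P s := ⟨1, Or.inr (by
    rw [zpow_one, ht, mul_assoc, hr, mul_one])⟩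
  have hPall : ∀ x ∈ Subgroup.closure ({r, s} : Set Y), P x := by
    intro x hx
    induction hx using Subgroup.closure_induction with
    | mem y hy =>
      rcases hy with rfl | hy
      · exact hP1
      · rw [Set.mem_singleton_iff] at hy
        rw [hy]
        exact hP2
    | one => exact ⟨0, Or.inl (by simp)⟩
    | mul a b _ _ ha hb =>
      obtain ⟨i, hi⟩ := ha
      obtain ⟨j, hj⟩ := hb
      rcases hi with rfl | rfl <;> rcases hj with rfl | rfl
      · exact ⟨i + j, Or.inl (by rw [zpow_add])⟩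
      · exact ⟨i + j, Or.inr (by rw [zpow_add, mul_assoc])⟩
      · refine ⟨i + -j, Or.inr ?_⟩
        rw [zpow_add, mul_assoc, hrtz, mul_assoc]
      · refine ⟨i + -j, Or.inl ?_⟩
        calc t ^ i * r * (t ^ j * r) = t ^ i * (r * t ^ j) * r := by group
          _ = t ^ i * (t ^ (-j) * r) * r := by rw [hrtz]
          _ = t ^ i * t ^ (-j) * (r * r) := by group
          _ = t ^ (i + -j) := by rw [hr, mul_one, zpow_add]
    | inv a _ ha =>
      obtain ⟨i, hi⟩ := ha
      rcases hi with rfl | rfl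
      · exact ⟨-i, Or.inl (by rw [zpow_neg])⟩
      · refine ⟨i, Or.inr ?_⟩
        rw [mul_inv_rev, hrinv, ← zpow_neg, hrtz, neg_neg]
  have hpow : ∀ x ∈ Subgroup.closure ({r, s} : Set Y), x ^ 4 = 1 := by
    intro x hx
    obtain ⟨i, hi⟩ := hPall x hx
    rcases hi with rfl | rfl
    · rw [← zpow_natCast, ← zpow_mul, mul_comm, zpow_mul]
      simp [ht4]
    · have h2 : (t ^ i * r) * (t ^ i * r) = 1 := by
        calc (t ^ i * r) * (t ^ i * r) = t ^ i * (r * t ^ i) * r := by group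
          _ = t ^ i * (t ^ (-i) * r) * r := by rw [hrtz]
          _ = t ^ i * t ^ (-i) * (r * r) := by group
          _ = 1 := by rw [hr]; simp
      calc (t ^ i * r) ^ 4 = ((t ^ i * r) * (t ^ i * r)) * ((t ^ i * r) * (t ^ i * r)) := by
            simp only [pow_succ, pow_zero, one_mul]; group
        _ = 1 := by rw [h2, one_mul]
  intro g
  refine ⟨2, Subtype.ext ?_⟩
  have hle : Subgroup.zpowers r ⊔ Subgroup.zpowers s ≤ Subgroup.closure ({r, s} : Set Y) := by
    refine sup_le ?_ ?_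
    · rw [Subgroup.zpowers_le]
      exact Subgroup.subset_closure (by simp)
    · rw [Subgroup.zpowers_le]
      exact Subgroup.subset_closure (by simp)
  have := hpow g (hle g.2)
  simpa using this

/-- **Transvections on a minimal normal subgroup give `S₄`-sections.** -/
theorem lemmaT {W : Subgroup X} [hWn : W.Normal]
    (hWc : ∀ a ∈ W, ∀ b ∈ W, a * b = b * a) (hW2 : ∀ a ∈ W, a * a = 1)
    (hmin : ∀ N : Subgroup X, N.Normal → N ≤ W → N = ⊥ ∨ N = W)
    {a c : X} (ha : ¬ ∀ y ∈ W, a * y = y * a) (h : ∀ y ∈ W, ⁅a, y⁆ = 1 ∨ ⁅a, y⁆ = c) :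
    Involves (Equiv.Perm (Fin 4)) X := by
  classical
  by_contra hnot
  haveI : Fact (Nat.Prime 2) := ⟨Nat.prime_two⟩
  push Not at ha
  obtain ⟨v₀, hv₀, hv₀a⟩ := ha
  have hv₀c : ⁅a, v₀⁆ ≠ 1 := fun he => hv₀a (commutatorElement_eq_one_iff_mul_comm.mp he)
  have hcv : ⁅a, v₀⁆ = c := (h v₀ hv₀).resolve_left hv₀c
  have hc1 : c ≠ 1 := hcv ▸ hv₀c
  have hcW : c ∈ W := by
    rw [← hcv, commutatorElement_def]
    exact W.mul_mem (hWn.conj_mem v₀ hv₀ a) (W.inv_mem hv₀)
  have hcc : c * c = 1 := hW2 c hcW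
  have hac : a * c * a⁻¹ = c := by
    have e1 : a * c * a⁻¹ = ⁅a, c⁆ * c := by rw [commutatorElement_def]; group
    rcases h c hcW with h1 | h1
    · rw [e1, h1, one_mul]
    · exfalso
      rw [h1, hcc] at e1
      apply hc1
      have e2 : c = a⁻¹ * (a * c * a⁻¹) * a := by group
      rw [e2, e1]; group
  -- `C = C(W)`
  set C : Subgroup X := Subgroup.centralizer (W : Set X) with hC
  haveI hCn : C.Normal := Subgroup.normal_centralizer
  have hmemC : ∀ {g : X}, g ∈ C ↔ ∀ v ∈ W, g * v * g⁻¹ = v := by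
    intro g
    rw [hC, Subgroup.mem_centralizer_iff]
    constructor
    · intro hg v hv
      rw [← hg v hv]; group
    · intro hg v hv
      have := hg v hv
      calc v * g = (g * v * g⁻¹) * g := by rw [this]
        _ = g * v := by group
  have ha2 : a * a ∈ C := by
    rw [hmemC]
    intro v hv
    have e1 : a * v * a⁻¹ = ⁅a, v⁆ * v := by rw [commutatorElement_def]; group
    have hcv' : a * (c * v) * a⁻¹ = c * (a * v * a⁻¹) := by
      calc a * (c * v) * a⁻¹ = (a * c * a⁻¹) * (a * v * a⁻¹) := by group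
        _ = c * (a * v * a⁻¹) := by rw [hac]
    calc a * a * v * (a * a)⁻¹ = a * (a * v * a⁻¹) * a⁻¹ := by group
      _ = v := by
        rcases h v hv with h1 | h1
        · rw [e1, h1, one_mul, e1, h1, one_mul]
        · rw [e1, h1, hcv', e1, h1, ← mul_assoc, hcc, one_mul]
  set q := QuotientGroup.mk' C with hq
  have hq1 : ∀ x, q x = 1 ↔ x ∈ C := fun x => QuotientGroup.eq_one_iff x
  have hrr : q a * q a = 1 := by rw [← map_mul, hq1]; exact ha2
  have hpair : ∀ g : X, IsPGroup 2 ↥(Subgroup.zpowers (q a) ⊔ (Subgroup.zpowers (q a)).map (MulAut.conj (q g)).toMonoidHom) := by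
    intro g
    have h1 : (Subgroup.zpowers (q a)).map (MulAut.conj (q g)).toMonoidHom = Subgroup.zpowers (q g * q a * (q g)⁻¹) := by
      rw [MonoidHom.map_zpowers]
      rfl
    rw [h1]
    apply isPGroup_of_two_invs hrr
    · calc q g * q a * (q g)⁻¹ * (q g * q a * (q g)⁻¹) = q g * (q a * q a) * (q g)⁻¹ := by group
        _ = 1 := by rw [hrr]; group
    · have h2 := pair_analysis hWc hW2 hcW hc1 h hac hnot g
      have h3 : (g * a * g⁻¹ * a⁻¹) ^ 4 ∈ C := hmemC.mpr h2
      rw [← hq1] at h3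
      simpa using h3
  obtain ⟨Nb, hNbn, hNbp, hNba⟩ := Cfsg.Agent.Lib.BaerSuzuki.baer_suzuki (Subgroup.zpowers (q a)) (by
      have : IsPGroup 2 ↥(Subgroup.zpowers (q a)) := by
        intro g
        refine ⟨1, Subtype.ext ?_⟩
        obtain ⟨_, i, rfl⟩ := g
        show (q a ^ i) ^ 2 ^ 1 = 1
        rw [pow_one, ← zpow_natCast, ← zpow_mul, mul_comm, zpow_mul]
        have : q a ^ ((2 : ℕ) : ℤ) = 1 := by
          rw [zpow_natCast, pow_two]; exact hrr
        rw [this, one_zpow]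
      exact this) (by
      intro g
      obtain ⟨g', rfl⟩ := QuotientGroup.mk'_surjective C g
      exact hpair g')
  set N : Subgroup X := Nb.comap q with hNdef
  haveI hNn : N.Normal := hNbn.comap q
  have hCN : C ≤ N := by
    intro g hg
    show q g ∈ Nb
    rw [(hq1 g).mpr hg]
    exact Nb.one_mem
  have haN : a ∈ N := hNba (Subgroup.mem_zpowers (q a))
  -- `D = W ∩ C(N)`
  set D : Subgroup X := W ⊓ Subgroup.centralizer (N : Set X) with hD
  haveI hCNn : (Subgroup.centralizer (N : Set X)).Normal := Subgroup.normal_centralizer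
  haveI hDn : D.Normal := inferInstance
  rcases hmin D hDn inf_le_left with hbot | htop
  · -- `D = 1` contradicts `W ∩ Z(Q) ≠ 1`
    obtain ⟨Q⟩ : Nonempty (Sylow 2 X) := inferInstance
    have hWp : IsPGroup 2 W := by
      intro g
      exact ⟨1, Subtype.ext (by simpa [pow_two] using hW2 g g.2)⟩
    have hWQ : W ≤ (Q : Subgroup X) := (le_pCore hWn hWp).trans (pCore_le_sylow 2 Q)
    have hQnil : Group.IsNilpotent (Q : Subgroup X) := Q.isPGroup'.isNilpotent
    have hWne : W.subgroupOf (Q : Subgroup X) ≠ ⊥ := by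
      intro he
      apply hc1
      have : (⟨c, hWQ hcW⟩ : (Q : Subgroup X)) ∈ W.subgroupOf (Q : Subgroup X) := hcW
      rw [he, Subgroup.mem_bot] at this
      exact congrArg Subtype.val this
    have h1 := Cfsg.Agent.Lib.BrolineGT.inf_center_ne_bot (W.subgroupOf (Q : Subgroup X)) hWne
    obtain ⟨⟨y, hyQ⟩, hy, hy1⟩ := Cfsg.Agent.Lib.BrolineGT.exists_mem_ne_one h1
    obtain ⟨hyW, hyZ⟩ := hy
    have hyW' : y ∈ W := hyW
    have hyne : y ≠ 1 := fun he => hy1 (Subtype.ext he)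
    apply hyne
    have hyD : y ∈ D := by
      refine ⟨hyW', Subgroup.mem_centralizer_iff.mpr ?_⟩
      intro n hn
      have hnq : (n : X ⧸ C) ∈ pCore 2 (X ⧸ C) := le_pCore hNbn hNbp hn
      obtain ⟨s, hs, c', hc', rfl⟩ := Cfsg.Agent.Lib.PLocalTools.exists_sylow_mul_of_mk_mem_pCore C Q hnq
      have h2 : s * y = y * s := by
        have := (Subgroup.mem_center_iff.mp hyZ) ⟨s, hs⟩
        exact congrArg Subtype.val this
      have h3 : c' * y = y * c' := ((Subgroup.mem_centralizer_iff.mp hc') y hyW').symm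
      calc s * c' * y = s * (c' * y) := by group
        _ = s * (y * c') := by rw [h3]
        _ = (s * y) * c' := by group
        _ = y * (s * c') := by rw [h2]; group
    rw [hbot] at hyD
    exact Subgroup.mem_bot.mp hyD
  · -- `D = W` : `a` centralizes `W`
    apply hv₀a
    have h1 : v₀ ∈ D := by rw [htop]; exact hv₀
    exact Subgroup.mem_centralizer_iff.mp h1.2 a haN

end Cfsg.Agent.Lib.WeakJ1
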