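import Mathlib
import Cfsg.Agent.Lib.WeakJ2
import Cfsg.Agent.Lib.BGStable
import Cfsg.Agent.Lib.StableW
import Cfsg.Agent.Lib.NPCThompson
import Cfsg.Agent.Lib.KInfThm

/-!
# Weak closure and the Thompson subgroup: the local analysis
-/

set_option autoImplicit false
set_option linter.unusedSectionVars false

open scoped commutatorElement

namespace Cfsg.Agent.Lib.WeakJ1

open Cfsg Cfsg.Agent.Lib.PCore Cfsg.Agent.Lib.WeakClosureLocal
open Cfsg.Agent.Lib.ThompsonNPC1 Cfsg.Agent.Lib.ZJCore3 Cfsg.Agent.Lib.AbReplace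

universe u

variable {X : Type u} [Group X] [Finite X]

/-- Passage to a member of `𝒜(T)` outside `L` normalized by `V`. -/
theorem exists_norm_A {p : ℕ} [Fact p.Prime] {T V L : Subgroup X} [hVn : V.Normal] (hT : IsPGroup p T) (hVT : V ≤ T)
    (hVc : ∀ x ∈ V, ∀ y ∈ V, x * y = y * x) (hLV : ∀ l ∈ L, ∀ v ∈ V, l * v = v * l)
    (hex : ∃ A ∈ maxFam clsComm T, ¬ A ≤ L) :
    ∃ A ∈ maxFam clsComm T, ¬ A ≤ L ∧ V ≤ Subgroup.normalizer (A : Set X) := by
  classical
  let F : Set (Subgroup X) := {A | A ∈ maxFam clsComm T ∧ ¬ A ≤ L}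
  obtain ⟨A, hA, hmax⟩ := Set.exists_max_image F (fun A : Subgroup X => Nat.card ↥(A ⊓ V))
    (Set.toFinite _) (by obtain ⟨A, hA1, hA2⟩ := hex; exact ⟨A, hA1, hA2⟩)
  refine ⟨A, hA.1, hA.2, ?_⟩
  have hAm := hA.1
  by_contra hnot
  -- pass to `T`
  have : (V.subgroupOf T).Normal := Subgroup.normal_subgroupOf
  have hTp : IsPGroup p T := hT
  have hA₀ : A.subgroupOf T ∈ maxAbelianSubgroups T := by
    rw [← fam_comm_eq]
    show (A.subgroupOf T).map T.subtype ∈ maxFam clsComm T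
    rw [Subgroup.map_subgroupOf_eq_of_le hAm.1]; exact hAm
  have hnot' : ¬ V.subgroupOf T ≤ Subgroup.normalizer ((A.subgroupOf T : Subgroup T) : Set T) := by
    intro hle
    apply hnot
    intro v hv
    apply Cfsg.Agent.Lib.Replacement.mem_normalizer_of_forall
    intro x hx
    have h1 : (⟨v, hVT hv⟩ : T) ∈ Subgroup.normalizer ((A.subgroupOf T : Subgroup T) : Set T) := hle hv
    have h2 : (⟨x, hAm.1 hx⟩ : T) ∈ A.subgroupOf T := hx
    exact (Subgroup.mem_normalizer_iff.mp h1 _).mp h2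
  obtain ⟨b, -, T₀, -, hT₀, hlt1, hlt2⟩ := replace_step hTp (V.subgroupOf T)
    (fun x hx y hy => Subtype.ext (hVc _ hx _ hy)) hA₀ hnot'
  -- the new member
  have hT₀m : T₀.map T.subtype ∈ maxFam clsComm T := by
    have : T₀ ∈ {A0 : Subgroup T | A0.map T.subtype ∈ maxFam clsComm T} := by
      rw [fam_comm_eq]; exact hT₀
    exact this
  set A' := T₀.map T.subtype with hA'
  have hnotL : ¬ A' ≤ L := by
    intro hle
    have hcomm := comm_sup A' V (clsComm_comm A' hT₀m.2.1) hVc (fun x hx y hy => hLV x (hle hx) y hy)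
    have h1 := hT₀m.2.2 (A' ⊔ V) (sup_le hT₀m.1 hVT) (isMulCommutative_of_forall hcomm)
    have h2 : A' = A' ⊔ V := Subgroup.eq_of_le_of_card_ge le_sup_left h1
    have h3 : V ≤ A' := by rw [h2]; exact le_sup_right
    apply hlt2.not_ge
    intro v hv
    refine ⟨?_, hv⟩
    obtain ⟨t, ht, hvt⟩ := h3 (show (v : X) ∈ V from hv)
    have : t = v := Subtype.ext hvt
    rwa [← this]
  have hmap1 : (A.subgroupOf T ⊓ V.subgroupOf T).map T.subtype = A ⊓ V := by
    rw [Subgroup.map_inf _ _ _ T.subtype_injective, Subgroup.map_subgroupOf_eq_of_le hVT,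
      Subgroup.map_subgroupOf_eq_of_le hAm.1]
  have hmap2 : (T₀ ⊓ V.subgroupOf T).map T.subtype = A' ⊓ V := by
    rw [Subgroup.map_inf _ _ _ T.subtype_injective, Subgroup.map_subgroupOf_eq_of_le hVT]
  have hlt : Nat.card ↥(A ⊓ V) < Nat.card ↥(A' ⊓ V) := by
    rw [← hmap1, ← hmap2, Subgroup.card_map_of_injective T.subtype_injective,
      Subgroup.card_map_of_injective T.subtype_injective]
    exact lt_of_not_ge fun hge => hlt1.ne (Subgroup.eq_of_le_of_card_ge hlt1.le hge)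
  exact absurd (hmax A' ⟨hT₀m, hnotL⟩) (not_le.mpr hlt)

/-- The offender inequality for a member of `𝒜(T)`. -/
theorem off_index {T V L A : Subgroup X} [hVn : V.Normal] (hA : A ∈ maxFam clsComm T)
    (hVc : ∀ x ∈ V, ∀ y ∈ V, x * y = y * x) (hVL : V ≤ L) (hVT : V ≤ T)
    (hLV : ∀ l ∈ L, ∀ v ∈ V, l * v = v * l) :
    (V ⊓ Subgroup.centralizer (A : Set X)).relIndex V ≤ (A ⊓ L).relIndex A := by
  set C := A ⊓ L with hCdef
  have hAc := clsComm_comm A hA.2.1
  have hCV : C ≤ Subgroup.normalizer (V : Set X) := by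
    rw [Subgroup.normalizer_eq_top_iff.mpr hVn]; exact le_top
  have h1 := Cfsg.Agent.Lib.Replacement.card_sup_mul_card_inf C V hCV
  have hCV' : C ⊓ V = A ⊓ V := by
    ext x
    constructor
    · rintro ⟨⟨h1, -⟩, h3⟩; exact ⟨h1, h3⟩
    · rintro ⟨h1, h3⟩; exact ⟨⟨h1, hVL h3⟩, h3⟩
  have hcomm := comm_sup C V
    (fun x hx y hy => hAc x hx.1 y hy.1) hVc (fun x hx y hy => hLV x hx.2 y hy)
  have h2 : Nat.card ↥(C ⊔ V) ≤ Nat.card A :=
    hA.2.2 _ (sup_le (inf_le_left.trans hA.1) hVT) (isMulCommutative_of_forall hcomm)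
  have h3 : Nat.card ↥(A ⊓ V) ≤ Nat.card ↥(V ⊓ Subgroup.centralizer (A : Set X)) := by
    apply Subgroup.card_le_of_le
    rintro x ⟨hx1, hx2⟩
    exact ⟨hx2, Subgroup.mem_centralizer_iff.mpr fun y hy => hAc y hy x hx1⟩
  set E := V ⊓ Subgroup.centralizer (A : Set X) with hE
  have e1 := card_eq_relIndex_mul (inf_le_left : E ≤ V)
  have e2 := card_eq_relIndex_mul (inf_le_left : C ≤ A)
  have h4 : Nat.card V * Nat.card C ≤ Nat.card A * Nat.card E := by
    rw [mul_comm (Nat.card V), ← h1, hCV']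
    exact Nat.mul_le_mul h2 h3
  rw [e1, e2] at h4
  have hpos : 0 < Nat.card E * Nat.card C := Nat.mul_pos Nat.card_pos Nat.card_pos
  refine Nat.le_of_mul_le_mul_right ?_ hpos
  calc E.relIndex V * (Nat.card E * Nat.card C) = E.relIndex V * Nat.card E * Nat.card C := by ring
    _ ≤ C.relIndex A * Nat.card C * Nat.card E := h4
    _ = C.relIndex A * (Nat.card E * Nat.card C) := by ring

/-- If `J(S)` is not normal, then some element of `S` outside `O_p` acts quadratically on `Z(O_p)`. -/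
theorem exists_quad_of_not_normal {p : ℕ} [Fact p.Prime] (S : Sylow p X)
    (hJ : ¬ (thompsonSubgroupAOf (S : Subgroup X)).Normal) :
    ∃ g ∈ (S : Subgroup X), g ∉ pCore p X ∧ ⁅⁅ZP p X, Subgroup.zpowers g⁆, Subgroup.zpowers g⁆ = ⊥ := by
  have hPS := pCore_le_sylow (G := X) p S
  have hex : ∃ A ∈ maxFam clsComm (S : Subgroup X), ¬ A ≤ pCore p X := by
    by_contra hcon
    push Not at hcon
    exact hJ (thompsonA_normal inferInstance hPS hcon)
  obtain ⟨A, hA, hAL, hVA⟩ := exists_norm_A (V := ZP p X) (L := pCore p X) S.isPGroup'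
    (inf_le_left.trans hPS) ZP_abelian
    (fun l hl v hv => ((Subgroup.mem_centralizer_iff.mp hv.2 l hl))) hex
  obtain ⟨g, hgA, hgL⟩ := SetLike.not_le_iff_exists.mp hAL
  refine ⟨g, hA.1 hgA, hgL, ?_⟩
  have hVn : (ZP p X).Normal := inferInstance
  apply Cfsg.Agent.Lib.StableW.quad_of_elem
  · intro v hv
    exact hVn.conj_mem v hv g
  · intro v hv
    have h1 : ⁅v, g⁆ ∈ A :=
      A.mul_mem ((Subgroup.mem_normalizer_iff.mp (hVA hv) g).mp hgA) (A.inv_mem hgA)
    rw [commutatorElement_eq_one_iff_mul_comm]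
    exact clsComm_comm A hA.2.1 _ h1 _ hgA

/-- The local hypothesis of the weak closure theorems for the Thompson subgroup. -/
theorem hloc_J {G : Type u} [Group G] [Finite G] {p : ℕ} [Fact p.Prime] (H T : Subgroup G) (hTH : T ≤ H)
    (hTp : IsPGroup p T) (hrel : ¬ p ∣ T.relIndex H)
    (hnot : ¬ H ≤ Subgroup.normalizer ((inducedFunctor (fun Q _ => thompsonSubgroupA Q) T : Subgroup G) : Set G)) :
    ∃ g : G, g ∈ T ∧ g ∉ pCoreOf p H ∧
      ⁅⁅pCoreOf p H ⊓ Subgroup.centralizer ((pCoreOf p H : Subgroup G) : Set G), Subgroup.zpowers g⁆, Subgroup.zpowers g⁆ = ⊥ := by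
  have hT' : IsPGroup p (T.subgroupOf H) := hTp.comap_of_injective H.subtype H.subtype_injective
  let S₀ : Sylow p H := hT'.toSylow hrel
  have hS₀ : (S₀ : Subgroup H) = T.subgroupOf H := rfl
  have hJ : ¬ (thompsonSubgroupAOf (S₀ : Subgroup H)).Normal := fun hn =>
    hnot (Cfsg.Agent.Lib.KInfThm.le_normalizer_of_normal Cfsg.Agent.Lib.NPCThompson.isCharPFunctor_thompsonA
      hTH _ hS₀ S₀.isPGroup' hn)
  obtain ⟨g, hg, hgP, hq⟩ := exists_quad_of_not_normal S₀ hJ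
  have hgT : (g : G) ∈ T := Subgroup.mem_subgroupOf.mp hg
  have hgP' : (g : G) ∉ pCoreOf p H := by
    rintro ⟨x, hx, hxe⟩
    have : x = g := Subtype.ext hxe
    exact hgP (this ▸ hx)
  refine ⟨g, hgT, hgP', ?_⟩
  have hle : pCoreOf p H ⊓ Subgroup.centralizer ((pCoreOf p H : Subgroup G) : Set G) ≤ (ZP p H).map H.subtype := by
    rintro x ⟨⟨x₀, hx₀, rfl⟩, hc⟩
    refine ⟨x₀, ⟨hx₀, ?_⟩, rfl⟩
    refine Subgroup.mem_centralizer_iff.mpr fun t ht => ?_
    apply Subtype.ext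
    exact Subgroup.mem_centralizer_iff.mp hc t ⟨t, ht, rfl⟩
  have hz : Subgroup.zpowers (g : G) = (Subgroup.zpowers g).map H.subtype := (MonoidHom.map_zpowers H.subtype g).symm
  rw [eq_bot_iff, hz]
  refine (Subgroup.commutator_mono (Subgroup.commutator_mono hle le_rfl) le_rfl).trans ?_
  rw [← Subgroup.map_commutator, ← Subgroup.map_commutator, hq, Subgroup.map_bot]

/-- The analysis in the quotient by a chief factor. -/
theorem quot_step {W A : Subgroup X} [hWn : W.Normal]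
    (hWc : ∀ a ∈ W, ∀ b ∈ W, a * b = b * a) (hW2 : ∀ a ∈ W, a * a = 1)
    (hmin : ∀ N : Subgroup X, N.Normal → N ≤ W → N = ⊥ ∨ N = W)
    (S : Sylow 2 X) {x : X}
    (hu : ∀ h : X, x⁻¹ * (h * x * h⁻¹) ∈ W)
    (hSx : ∀ s ∈ (S : Subgroup X), s * x * s⁻¹ = x)
    (hover : ∀ B : Subgroup X, (S : Subgroup X) ≤ B → B ≠ ⊤ → ∀ b ∈ B, b * x * b⁻¹ = x)
    (hAS : A ≤ (S : Subgroup X)) (hAc : ∀ a ∈ A, ∀ b ∈ A, a * b = b * a)
    (hq : ∀ a ∈ A, ∀ b ∈ A, ∀ y ∈ W, b * ⁅a, y⁆ = ⁅a, y⁆ * b)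
    (hAW : ∀ a ∈ A, a ∈ pCore 2 X → ∀ y ∈ W, a * y = y * a) (hAL : ¬ A ≤ pCore 2 X)
    (hOff : (W ⊓ Subgroup.centralizer (A : Set X)).relIndex W ≤ (A ⊓ pCore 2 X).relIndex A)
    (hS4 : ¬ Involves (Equiv.Perm (Fin 4)) X) : ∀ h, h * x * h⁻¹ = x := by
  classical
  haveI : Fact (Nat.Prime 2) := ⟨Nat.prime_two⟩
  by_contra hne
  -- the elements of `S` centralizing `W` lie in `O₂`
  have hd : ∀ g ∈ (S : Subgroup X), (∀ y ∈ W, g * y = y * g) → g ∈ pCore 2 X := by
    intro g hg hgW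
    by_contra hgP
    apply hne
    have hzW : ∀ b ∈ Subgroup.zpowers g, ∀ y ∈ W, b * y = y * b := by
      intro b hb y hy
      have h1 : g ∈ Subgroup.centralizer (W : Set X) :=
        Subgroup.mem_centralizer_iff.mpr fun t ht => (hgW t ht).symm
      have h2 : Subgroup.zpowers g ≤ Subgroup.centralizer (W : Set X) := by
        rw [Subgroup.zpowers_le]; exact h1
      exact (Subgroup.mem_centralizer_iff.mp (h2 hb) y hy).symm
    refine sum_lemma S hWc hW2 hu hSx hover (B := Subgroup.zpowers g) ?_ ?_ ?_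
    · rw [Subgroup.zpowers_le]; exact hg
    · intro h
      exact hgP (h (Subgroup.mem_zpowers g))
    · refine ⟨?_, ?_, ?_⟩
      · rintro _ ⟨i, rfl⟩ _ ⟨j, rfl⟩
        exact (Commute.refl g).zpow_zpow i j
      · intro b hb b' _ y hy
        rw [commutatorElement_eq_one_iff_mul_comm.mpr (hzW b hb y hy)]
        group
      · intro y hy
        exact Or.inl fun b hb => commutatorElement_eq_one_iff_mul_comm.mpr (hzW b hb y hy)
  have hne' : A ⊓ pCore 2 X ≠ A := fun he => hAL (he ▸ inf_le_right)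
  obtain ⟨B, h1, h2, h3, h4⟩ := offender (A₀ := A ⊓ pCore 2 X) hWc hW2 hAc hq inf_le_left
    (fun a ha y hy => hAW a ha.1 ha.2 y hy) hne' hOff
  rcases h4 with hQ | ⟨a, ha, ha0, c, hc⟩
  · refine hne (sum_lemma S hWc hW2 hu hSx hover (h2.trans hAS) ?_ hQ)
    intro hBP
    exact h3 (le_antisymm (le_inf h2 hBP) h1)
  · apply hS4
    refine lemmaT hWc hW2 hmin (a := a) (c := c) ?_ hc
    intro haW
    exact ha0 ⟨h2 ha, hd a (hAS (h2 ha)) haW⟩

variable {Y : Type u} [Group Y] [Finite Y]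

set_option maxHeartbeats 2000000 in
/-- **The local lemma.** -/
theorem local_J (hS4 : ¬ Involves (Equiv.Perm (Fin 4)) Y) (S : Sylow 2 Y) {x : Y} (hxS : x ∈ (S : Subgroup Y))
    (hxZ : x ∈ Subgroup.centralizer (((S : Subgroup Y) : Subgroup Y) : Set Y)) (hxP : x ∈ pCore 2 Y)
    (hst : ∀ n ∈ Subgroup.normalizer ((thompsonSubgroupAOf (S : Subgroup Y) : Subgroup Y) : Set Y), n * x * n⁻¹ = x)
    (hover : ∀ B : Subgroup Y, (S : Subgroup Y) ≤ B → B ≠ ⊤ → ∀ b ∈ B, b * x * b⁻¹ = x) :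
    ∀ y, y * x * y⁻¹ = x := by
  classical
  haveI : Fact (Nat.Prime 2) := ⟨Nat.prime_two⟩
  have hPS := pCore_le_sylow (G := Y) 2 S
  have hSp : IsPGroup 2 (S : Subgroup Y) := S.isPGroup'
  have hVn : (ZP 2 Y).Normal := inferInstance
  have hxV : x ∈ ZP 2 Y := ⟨hxP, Subgroup.mem_centralizer_iff.mpr fun t ht =>
    Subgroup.mem_centralizer_iff.mp hxZ t (hPS ht)⟩
  let U : Y → Y := fun h => x⁻¹ * (h * x * h⁻¹)
  have hUV : ∀ h, U h ∈ ZP 2 Y := fun h =>
    Subgroup.mul_mem _ (Subgroup.inv_mem _ hxV) (hVn.conj_mem x hxV h)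
  set Y₀ : Subgroup Y := Subgroup.closure (Set.range U) with hY₀
  have hY₀V : Y₀ ≤ ZP 2 Y := (Subgroup.closure_le _).mpr (by rintro _ ⟨h, rfl⟩; exact hUV h)
  have hY₀p : IsPGroup 2 Y₀ := ZP_isPGroup.to_le hY₀V
  have hUmem : ∀ h, U h ∈ Y₀ := fun h => Subgroup.subset_closure ⟨h, rfl⟩
  have hY₀n : Y₀.Normal := by
    constructor
    intro n hn c
    induction hn using Subgroup.closure_induction with
    | mem y hy =>
      obtain ⟨h, rfl⟩ := hy
      have e : c * U h * c⁻¹ = (U c)⁻¹ * U (c * h) := by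
        simp only [U]; group
      rw [e]
      exact Y₀.mul_mem (Y₀.inv_mem (hUmem c)) (hUmem _)
    | one => simp [Y₀.one_mem]
    | mul a b _ _ ha hb =>
      have e : c * (a * b) * c⁻¹ = (c * a * c⁻¹) * (c * b * c⁻¹) := by group
      rw [e]
      exact Y₀.mul_mem ha hb
    | inv a _ ha =>
      have e : c * a⁻¹ * c⁻¹ = (c * a * c⁻¹)⁻¹ := by group
      rw [e]
      exact Y₀.inv_mem ha
  by_cases hbot : Y₀ = ⊥
  · intro y
    have h1 := hUmem y
    rw [hbot, Subgroup.mem_bot] at h1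
    have h2 : x⁻¹ * (y * x * y⁻¹) = 1 := h1
    rw [inv_mul_eq_one] at h2
    exact h2.symm
  exfalso
  -- a maximal normal subgroup of `Y₀`
  set 𝒩 : Set (Subgroup Y) := {N | N.Normal ∧ N < Y₀} with h𝒩
  have hne𝒩 : (⊥ : Subgroup Y) ∈ 𝒩 := ⟨inferInstance, bot_lt_iff_ne_bot.mpr hbot⟩
  obtain ⟨Y₁, hY₁max⟩ := (Set.toFinite 𝒩).exists_maximal ⟨_, hne𝒩⟩
  obtain ⟨hY₁n, hY₁lt⟩ := hY₁max.prop
  have hchief : IsChiefFactor Y₀ Y₁ := by
    refine ⟨hY₁lt, hY₀n, hY₁n, ?_⟩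
    intro N hN h1 h2
    by_cases hNe : N = Y₀
    · exact Or.inr hNe
    · left
      exact le_antisymm (hY₁max.le_of_ge ⟨hN, lt_of_le_of_ne h2 hNe⟩ h1) h1
  have hY₁p : IsPGroup 2 Y₁ := hY₀p.to_le hY₁lt.le
  -- the Thompson step
  have hex : ∃ A ∈ maxFam clsComm (S : Subgroup Y), ¬ A ≤ pCore 2 Y := by
    by_contra hcon
    push Not at hcon
    have hJn := thompsonA_normal inferInstance hPS hcon
    apply hbot
    rw [hY₀, Subgroup.closure_eq_bot_iff]
    rintro _ ⟨h, rfl⟩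
    have h1 := hst h (by rw [Subgroup.normalizer_eq_top_iff.mpr hJn]; exact Subgroup.mem_top h)
    show x⁻¹ * (h * x * h⁻¹) = 1
    rw [h1]; group
  have hLV : ∀ l ∈ pCore 2 Y, ∀ v ∈ ZP 2 Y, l * v = v * l := fun l hl v hv =>
    Subgroup.mem_centralizer_iff.mp hv.2 l hl
  obtain ⟨A, hA, hAL, hVA⟩ := exists_norm_A (V := ZP 2 Y) (L := pCore 2 Y) S.isPGroup'
    (inf_le_left.trans hPS) ZP_abelian hLV hex
  have hOffY := off_index hA ZP_abelian inf_le_left (inf_le_left.trans hPS) hLV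
  have hAc := clsComm_comm A hA.2.1
  -- the quotient
  set π := QuotientGroup.mk' Y₁ with hπ
  have hπs : Function.Surjective π := QuotientGroup.mk'_surjective Y₁
  have hπ1 : ∀ g, π g = 1 ↔ g ∈ Y₁ := fun g => QuotientGroup.eq_one_iff g
  have hcomap : (pCore 2 (Y ⧸ Y₁)).comap π = pCore 2 Y := by
    apply le_antisymm (Cfsg.Agent.Lib.BGStable.comap_pCore_le Y₁ hY₁p)
    rw [← Subgroup.map_le_iff_le_comap]
    exact le_pCore (Subgroup.Normal.map inferInstance π hπs) ((isPGroup_pCore (G := Y) 2).map π)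
  have hmemP : ∀ g, π g ∈ pCore 2 (Y ⧸ Y₁) ↔ g ∈ pCore 2 Y := fun g => by
    rw [← hcomap]; rfl
  haveI hWn : (Y₀.map π).Normal := hY₀n.map π hπs
  have key : ∀ h, h * π x * h⁻¹ = π x := by
    refine quot_step (W := Y₀.map π) (A := A.map π) ?_ ?_ ?_ (S.mapSurjective hπs) ?_ ?_ ?_ ?_ ?_ ?_ ?_ ?_ ?_ ?_
    · rintro _ ⟨a, ha, rfl⟩ _ ⟨b, hb, rfl⟩
      rw [← map_mul, ← map_mul, ZP_abelian _ (hY₀V ha) _ (hY₀V hb)]
    · rintro _ ⟨a, ha, rfl⟩
      rw [← map_mul, hπ1]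
      have := Cfsg.Agent.Lib.TransferLocal.chief_pow_mem hchief hY₀p ha
      rwa [pow_two] at this
    · intro N hN hNle
      have hle1 : Y₁ ≤ N.comap π := fun y hy => by
        show π y ∈ N
        rw [(hπ1 y).mpr hy]
        exact N.one_mem
      have hle2 : N.comap π ≤ Y₀ := by
        intro n hn
        obtain ⟨y, hy, hyn⟩ := hNle hn
        have h1 : y⁻¹ * n ∈ Y₁ := by
          rw [← hπ1, map_mul, map_inv, hyn]
          simp
        have e : n = y * (y⁻¹ * n) := by group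
        rw [e]
        exact Y₀.mul_mem hy (hY₁lt.le h1)
      rcases hchief.2.2.2 (N.comap π) (hN.comap π) hle1 hle2 with h1 | h1
      · left
        rw [eq_bot_iff]
        intro t ht
        obtain ⟨n, rfl⟩ := hπs t
        have h2 : n ∈ N.comap π := ht
        rw [h1] at h2
        exact Subgroup.mem_bot.mpr ((hπ1 n).mpr h2)
      · right
        apply le_antisymm hNle
        rintro _ ⟨y, hy, rfl⟩
        have h2 : y ∈ N.comap π := by rw [h1]; exact hy
        exact h2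
    · intro h
      obtain ⟨h₀, rfl⟩ := hπs h
      exact ⟨U h₀, hUmem h₀, by simp [U]⟩
    · intro s hs
      rw [Sylow.coe_mapSurjective] at hs
      obtain ⟨s₀, hs₀, rfl⟩ := hs
      rw [← map_inv, ← map_mul, ← map_mul]
      congr 1
      have := Subgroup.mem_centralizer_iff.mp hxZ s₀ hs₀
      rw [this]; group
    · intro B hSB hB b hb
      obtain ⟨b₀, rfl⟩ := hπs b
      have h1 : (S : Subgroup Y) ≤ B.comap π := by
        intro s hs
        apply hSB
        rw [Sylow.coe_mapSurjective]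
        exact ⟨s, hs, rfl⟩
      have h2 : B.comap π ≠ ⊤ := by
        intro he
        apply hB
        rw [eq_top_iff]
        intro t _
        obtain ⟨t₀, rfl⟩ := hπs t
        have : t₀ ∈ B.comap π := by rw [he]; exact Subgroup.mem_top _
        exact this
      have h3 := hover _ h1 h2 b₀ hb
      rw [← map_inv, ← map_mul, ← map_mul, h3]
    · rw [Sylow.coe_mapSurjective]
      exact Subgroup.map_mono hA.1
    · rintro _ ⟨a, ha, rfl⟩ _ ⟨b, hb, rfl⟩
      rw [← map_mul, ← map_mul, hAc a ha b hb]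
    · rintro _ ⟨a, ha, rfl⟩ _ ⟨b, hb, rfl⟩ _ ⟨y, hy, rfl⟩
      have h1 : ⁅a, y⁆ ∈ A := by
        have h2 : y * a⁻¹ * y⁻¹ ∈ A :=
          (Subgroup.mem_normalizer_iff.mp (hVA (hY₀V hy)) a⁻¹).mp (A.inv_mem ha)
        have e : ⁅a, y⁆ = a * (y * a⁻¹ * y⁻¹) := by rw [commutatorElement_def]; group
        rw [e]
        exact A.mul_mem ha h2
      show π b * ⁅π a, π y⁆ = ⁅π a, π y⁆ * π b
      rw [← map_commutatorElement, ← map_mul, ← map_mul, hAc b hb _ h1]
    · rintro _ ⟨a, ha, rfl⟩ hap _ ⟨y, hy, rfl⟩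
      rw [← map_mul, ← map_mul, hLV a ((hmemP a).mp hap) y (hY₀V hy)]
    · intro hle
      apply hAL
      intro a ha
      exact (hmemP a).mp (hle ⟨a, ha, rfl⟩)
    · -- the offender inequality
      have e1 : (A.map π ⊓ pCore 2 (Y ⧸ Y₁)).relIndex (A.map π) = (A ⊓ pCore 2 Y).relIndex A := by
        rw [Subgroup.inf_relIndex_left, Subgroup.inf_relIndex_left, ← hcomap, Subgroup.relIndex_comap]
      rw [e1]
      refine le_trans ?_ hOffY
      set D := Y₀.map π ⊓ Subgroup.centralizer ((A.map π : Subgroup (Y ⧸ Y₁)) : Set (Y ⧸ Y₁)) with hD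
      have e2 : D.relIndex (Y₀.map π) = (D.comap π).relIndex Y₀ := (Subgroup.relIndex_comap D π Y₀).symm
      rw [e2, Subgroup.inf_relIndex_left]
      have hle : Subgroup.centralizer (A : Set Y) ⊓ Y₀ ≤ D.comap π := by
        rintro y ⟨hy1, hy2⟩
        refine ⟨⟨y, hy2, rfl⟩, Subgroup.mem_centralizer_iff.mpr ?_⟩
        rintro _ ⟨a, ha, rfl⟩
        rw [← map_mul, ← map_mul, Subgroup.mem_centralizer_iff.mp hy1 a ha]
      calc (D.comap π).relIndex Y₀ ≤ (Subgroup.centralizer (A : Set Y) ⊓ Y₀).relIndex Y₀ :=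
            Subgroup.relIndex_le_of_le_left hle (relIndex_ne_zero' _ _)
        _ = (Subgroup.centralizer (A : Set Y)).relIndex Y₀ := Subgroup.inf_relIndex_right _ _
        _ ≤ (Subgroup.centralizer (A : Set Y)).relIndex (ZP 2 Y) :=
            Subgroup.relIndex_le_of_le_right hY₀V (relIndex_ne_zero' _ _)
    · intro h
      exact hS4 (Cfsg.Agent.Lib.InvolvesAPI.Involves.trans h
        (Cfsg.Agent.Lib.InvolvesAPI.involves_of_surj_top π hπs))
  apply hY₁lt.not_ge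
  refine (Subgroup.closure_le _).mpr ?_
  rintro _ ⟨h, rfl⟩
  show x⁻¹ * (h * x * h⁻¹) ∈ Y₁
  rw [← hπ1, map_mul, map_inv, map_mul, map_mul, map_inv, key (π h)]
  simp

end Cfsg.Agent.Lib.WeakJ1
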