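import Mathlib
import Cfsg.Agent.S3331
import Cfsg.Agent.S3277
import Cfsg.Agent.Lib.MaxClassTwo
import Cfsg.Agent.Lib.MaxClassTwo2
import Cfsg.Agent.Lib.ZStar
import Cfsg.Agent.Lib.ThompsonTransfer

/-!
# Reduction step for Wong's theorem on centralizers of order at most four
-/

set_option autoImplicit false

namespace Cfsg.Agent.Lib.Wong80Top

open Cfsg Subgroup

section TwoGroup

variable {X : Type*} [Group X] [Finite X]

/-- class size bound -/
theorem card_le_four_mul_commutator (σ : X) (hC : Nat.card (centralizer ({σ} : Set X)) = 4) :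
    Nat.card X ≤ 4 * Nat.card (commutator X) := by
  classical
  set C := centralizer ({σ} : Set X) with hCdef
  have h1 : Nat.card C * C.index = Nat.card X := C.card_mul_index
  have hm : ∀ g : X, g * σ * g⁻¹ * σ⁻¹ ∈ commutator X := by
    intro g
    have := Subgroup.commutator_mem_commutator (mem_top g) (mem_top σ)
    rwa [commutatorElement_def] at this
  have h2 : C.index ≤ Nat.card (commutator X) := by
    let φ : X ⧸ C → commutator X := fun q => ⟨(q.out) * σ * (q.out)⁻¹ * σ⁻¹, hm _⟩
    have hφ : Function.Injective φ := by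
      intro q q' h
      have h' : q.out * σ * (q.out)⁻¹ * σ⁻¹ = q'.out * σ * (q'.out)⁻¹ * σ⁻¹ :=
        congrArg Subtype.val h
      have h'' : q.out * σ * (q.out)⁻¹ = q'.out * σ * (q'.out)⁻¹ := mul_right_cancel h'
      have hmem : (q.out)⁻¹ * q'.out ∈ C := by
        apply mem_centralizer_singleton_iff.2
        have : q'.out * σ = q.out * σ * (q.out)⁻¹ * q'.out := by
          rw [h'']; group
        calc (q.out)⁻¹ * q'.out * σ = (q.out)⁻¹ * (q'.out * σ) := by group
          _ = σ * ((q.out)⁻¹ * q'.out) := by rw [this]; group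
      have := (QuotientGroup.eq (s := C)).2 hmem
      rwa [QuotientGroup.out_eq', QuotientGroup.out_eq'] at this
    exact Nat.card_le_card_of_injective φ hφ
  rw [← h1, hC]
  exact Nat.mul_le_mul_left _ h2

/-- Elements of the cyclic group generated by an element of order four. -/
theorem mem_zpowers_four {σ u : X} (hσ : orderOf σ = 4) (hu : u ∈ zpowers σ) :
    u = 1 ∨ u = σ ∨ u = σ ^ 2 ∨ u = σ⁻¹ := by
  obtain ⟨k, rfl⟩ := mem_zpowers_iff.1 hu
  rw [← zpow_mod_orderOf, hσ]
  have h1 : k % ((4 : ℕ) : ℤ) = 0 ∨ k % ((4 : ℕ) : ℤ) = 1 ∨ k % ((4 : ℕ) : ℤ) = 2 ∨ k % ((4 : ℕ) : ℤ) = 3 := by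
    omega
  rcases h1 with h | h | h | h <;> rw [h]
  · simp
  · simp
  · right; right; left
    exact_mod_cast zpow_natCast σ 2
  · right; right; right
    rw [eq_inv_iff_mul_eq_one]
    have : σ ^ (3 : ℤ) * σ = σ ^ 4 := by
      rw [show (3 : ℤ) = ((3 : ℕ) : ℤ) from rfl, zpow_natCast]
      exact (pow_succ σ 3).symm
    rw [this, ← hσ, pow_orderOf_eq_one]

/-- The unique involution of a cyclic group. -/
theorem eq_of_sq_eq_one {c a : X} {m : ℕ} (hm : orderOf c = 2 ^ m) (ha : a ∈ zpowers c)
    (h2 : a ^ 2 = 1) (h1 : a ≠ 1) : 1 ≤ m ∧ a = c ^ 2 ^ (m - 1) := by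
  obtain ⟨i, rfl⟩ := mem_zpowers_iff.1 ha
  rcases m with _ | m
  · exfalso
    apply h1
    have : c = 1 := by simpa using hm
    simp [this]
  · refine ⟨by omega, ?_⟩
    have h3 : c ^ (2 * i) = 1 := by
      rw [mul_comm, zpow_mul]
      exact_mod_cast h2
    have h4 : ((2 ^ (m + 1) : ℕ) : ℤ) ∣ 2 * i := by
      rw [← hm]; exact orderOf_dvd_iff_zpow_eq_one.2 h3
    have h5 : ((2 ^ m : ℕ) : ℤ) ∣ i := by
      push_cast at h4 ⊢
      rw [pow_succ, mul_comm] at h4
      exact (mul_dvd_mul_iff_left (by norm_num)).1 h4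
    obtain ⟨s, rfl⟩ := h5
    have h6 : ¬ (2 : ℤ) ∣ s := by
      rintro ⟨t, rfl⟩
      apply h1
      have : c ^ (((2 ^ m : ℕ) : ℤ) * (2 * t)) = (c ^ (2 ^ (m + 1) : ℕ)) ^ t := by
        rw [← zpow_natCast, ← zpow_mul]
        congr 1
        push_cast
        ring
      rw [this, ← hm, pow_orderOf_eq_one, one_zpow]
    obtain ⟨t, rfl⟩ : ∃ t, s = 2 * t + 1 := ⟨s / 2, by omega⟩
    have h7 : c ^ 2 ^ (m + 1) = 1 := by rw [← hm, pow_orderOf_eq_one]
    have h8 : c ^ (((2 ^ m : ℕ) : ℤ) * (2 * t + 1)) = (c ^ (2 ^ (m + 1) : ℕ)) ^ t * c ^ 2 ^ m := by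
      rw [← zpow_natCast, ← zpow_natCast, ← zpow_mul, ← zpow_add]
      congr 1
      push_cast
      ring
    rw [h8, h7, one_zpow, one_mul]
    simp

/-- The subgroup `⟨c², y⟩`. -/
def halfSub (c y : X) (hy : y * y = 1) (hc : ∀ j : ℤ, y * c ^ (2 * j) * y⁻¹ = c ^ (-(2 * j))) :
    Subgroup X where
  carrier := {x | ∃ j : ℤ, x = c ^ (2 * j) ∨ x = c ^ (2 * j) * y}
  one_mem' := ⟨0, Or.inl (by simp)⟩
  mul_mem' := by
    have hyinv : y⁻¹ = y := inv_eq_of_mul_eq_one_left hy
    have hc' : ∀ j : ℤ, y * c ^ (2 * j) = c ^ (-(2 * j)) * y := by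
      intro j
      rw [← hc j, hyinv, mul_assoc, hy, mul_one]
    rintro a b ⟨i, rfl | rfl⟩ ⟨j, rfl | rfl⟩
    · exact ⟨i + j, Or.inl (by rw [← zpow_add]; congr 1; ring)⟩
    · exact ⟨i + j, Or.inr (by rw [← mul_assoc, ← zpow_add]; congr 2; ring)⟩
    · refine ⟨i - j, Or.inr ?_⟩
      rw [mul_assoc, hc', ← mul_assoc, ← zpow_add]
      congr 2; ring
    · refine ⟨i - j, Or.inl ?_⟩
      rw [mul_assoc, ← mul_assoc y, hc', mul_assoc, hy, mul_one, ← zpow_add]
      congr 1; ring
  inv_mem' := by
    have hyinv : y⁻¹ = y := inv_eq_of_mul_eq_one_left hy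
    have hc' : ∀ j : ℤ, y * c ^ (2 * j) = c ^ (-(2 * j)) * y := by
      intro j
      rw [← hc j, hyinv, mul_assoc, hy, mul_one]
    rintro a ⟨i, rfl | rfl⟩
    · exact ⟨-i, Or.inl (by rw [← zpow_neg]; congr 1; ring)⟩
    · refine ⟨i, Or.inr ?_⟩
      rw [mul_inv_rev, hyinv, ← zpow_neg]
      have := hc' (-i)
      simpa [mul_neg] using this

theorem mem_halfSub {c y : X} {hy : y * y = 1} {hc : ∀ j : ℤ, y * c ^ (2 * j) * y⁻¹ = c ^ (-(2 * j))}
    {x : X} : x ∈ halfSub c y hy hc ↔ ∃ j : ℤ, x = c ^ (2 * j) ∨ x = c ^ (2 * j) * y := Iff.rfl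

/-- The structural step: a two-group with an element of order four with centralizer generated by it,
and with a second involution. -/
theorem two_group_struct (hX : IsPGroup 2 X) (σ : X) (hσ : orderOf σ = 4)
    (hC : centralizer ({σ} : Set X) = zpowers σ) (y : X) (hy : orderOf y = 2) (hyz : y ≠ σ ^ 2) :
    (∃ τ : X, orderOf τ = 2 ∧ τ * σ * τ⁻¹ = σ⁻¹ ∧ Nat.card X = 8) ∨
    (∃ M : Subgroup X, M.index = 2 ∧ (∀ x : X, orderOf x = 2 → x ∈ M) ∧
      ∀ x ∈ M, orderOf x = 4 → 4 < Nat.card (centralizer ({x} : Set X))) := by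
  classical
  haveI : Fact (Nat.Prime 2) := ⟨Nat.prime_two⟩
  have hcC4 : Nat.card (centralizer ({σ} : Set X)) = 4 := by rw [hC, Nat.card_zpowers, hσ]
  have hle := card_le_four_mul_commutator σ hcC4
  have hy2 : y * y = 1 := by
    have := pow_orderOf_eq_one y
    rwa [hy, pow_two] at this
  have hσ4 : σ ^ 4 = 1 := by rw [← hσ, pow_orderOf_eq_one]
  have hσ2ne : σ ^ 2 ≠ 1 := by
    intro h
    have := orderOf_dvd_of_pow_eq_one h
    rw [hσ] at this
    norm_num at this
  have hy1 : y ≠ 1 := by
    rintro rfl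
    simp at hy
  have hnc : ¬ IsCyclic X := by
    intro hc
    obtain ⟨g, hg⟩ := isCyclic_iff_exists_zpowers_eq_top.1 hc
    obtain ⟨m, hm⟩ := IsPGroup.iff_orderOf.1 hX g
    have h1 : y ∈ zpowers g := by rw [hg]; trivial
    have h2 : σ ^ 2 ∈ zpowers g := by rw [hg]; trivial
    have e1 := (eq_of_sq_eq_one hm h1 (by rw [pow_two, hy2]) hy1).2
    have e2 := (eq_of_sq_eq_one hm h2 (by rw [← pow_mul]; exact hσ4) hσ2ne).2
    exact hyz (e1.trans e2.symm)
  obtain ⟨n, hn⟩ := IsPGroup.iff_card.1 hX
  have hq := (commutator X).card_mul_index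
  have hq' : (commutator X).index ≤ 4 := by
    have h0 : 0 < Nat.card (commutator X) := Nat.card_pos
    have : Nat.card (commutator X) * (commutator X).index ≤ Nat.card (commutator X) * 4 := by
      rw [hq]; linarith
    exact Nat.le_of_mul_le_mul_left this h0
  have hqd : (commutator X).index ∣ 2 ^ n := by
    rw [← hn]; exact (commutator X).index_dvd_card
  obtain ⟨k, hk, hkq⟩ := (Nat.dvd_prime_pow Nat.prime_two).1 hqd
  have h4 : 4 * Nat.card (commutator X) = Nat.card X := by
    have hk2 : k = 0 ∨ k = 1 ∨ k = 2 := by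
      by_contra hcon
      have : 2 ^ 3 ≤ 2 ^ k := Nat.pow_le_pow_right (by norm_num) (by omega)
      rw [← hkq] at this
      omega
    rcases hk2 with rfl | rfl | rfl
    · exfalso
      apply hnc
      apply Cfsg.Agent.Lib.MaxClassTwo2.isCyclic_of_quotient hX
      have h1 : Nat.card (X ⧸ commutator X) = 1 := by
        simpa [Subgroup.index] using hkq
      haveI : Subsingleton (X ⧸ commutator X) := (Nat.card_eq_one_iff_unique.1 h1).1
      infer_instance
    · exfalso
      apply hnc
      apply Cfsg.Agent.Lib.MaxClassTwo2.isCyclic_of_quotient hX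
      have h1 : Nat.card (X ⧸ commutator X) = 2 := by
        simpa [Subgroup.index] using hkq
      exact isCyclic_of_prime_card h1
    · rw [← hq, hkq]; ring
  have hn3 : 3 ≤ n := by
    by_contra hcon
    apply hnc
    have h1 : Nat.card (zpowers σ) = 4 := by rw [Nat.card_zpowers, hσ]
    have h2 : Nat.card X ≤ 4 := by
      rw [hn]
      calc 2 ^ n ≤ 2 ^ 2 := Nat.pow_le_pow_right (by norm_num) (by omega)
        _ = 4 := by norm_num
    have h3 : zpowers σ = ⊤ := Subgroup.eq_top_of_card_eq _ (le_antisymm (Subgroup.card_le_card_group _) (by omega))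
    exact isCyclic_iff_exists_zpowers_eq_top.2 ⟨σ, h3⟩
  obtain ⟨c, hc⟩ := Cfsg.Agent.Lib.MaxClassTwo.taussky (n - 3) X
    (by rw [hn]; congr 1; omega) h4
  set A : Subgroup X := zpowers c with hAdef
  haveI hAn : A.Normal := Subgroup.normal_of_index_eq_two hc
  have hAcomm : ∀ a ∈ A, ∀ b ∈ A, a * b = b * a := by
    intro a ha b hb
    obtain ⟨i, rfl⟩ := mem_zpowers_iff.1 ha
    obtain ⟨j, rfl⟩ := mem_zpowers_iff.1 hb
    rw [← zpow_add, ← zpow_add, add_comm]
  have hAcard : Nat.card A * 2 = Nat.card X := by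
    rw [← hc]; exact A.card_mul_index
  have hmul : ∀ {a b : X}, a * b ∈ A ↔ (a ∈ A ↔ b ∈ A) := fun {a b} => Subgroup.mul_mem_iff_of_index_two hc
  obtain ⟨m, hm⟩ := IsPGroup.iff_orderOf.1 hX c
  have hAcm : Nat.card A = 2 ^ m := by rw [hAdef, Nat.card_zpowers, hm]
  by_cases hσA : σ ∈ A
  · -- `σ` lies in the cyclic maximal subgroup
    left
    have hAσ : A = zpowers σ := by
      apply le_antisymm
      · rw [← hC]
        intro a ha
        exact mem_centralizer_singleton_iff.2 (hAcomm a ha σ hσA)
      · exact (zpowers_le).2 hσA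
    have hAc4 : Nat.card A = 4 := by rw [hAσ, Nat.card_zpowers, hσ]
    have hyA : y ∉ A := by
      intro hyA
      rw [hAσ] at hyA
      rcases mem_zpowers_four hσ hyA with h | h | h | h
      · exact hy1 h
      · rw [h] at hy; omega
      · exact hyz h
      · rw [h, orderOf_inv] at hy; omega
    refine ⟨y, hy, ?_, by omega⟩
    have hmem : y * σ * y⁻¹ ∈ A := hAn.conj_mem σ hσA y
    rw [hAσ] at hmem
    have hord : orderOf (y * σ * y⁻¹) = 4 := by
      rw [← hσ]
      exact (orderOf_injective (MulAut.conj y).toMonoidHom (MulEquiv.injective _) σ)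
    rcases mem_zpowers_four hσ hmem with h | h | h | h
    · rw [h] at hord; simp at hord
    · exfalso
      apply hyA
      rw [hAσ, ← hC]
      apply mem_centralizer_singleton_iff.2
      calc y * σ = (y * σ * y⁻¹) * y := by group
        _ = σ * y := by rw [h]
    · exfalso
      rw [h] at hord
      have := orderOf_dvd_of_pow_eq_one (show (σ ^ 2) ^ 2 = 1 by rw [← pow_mul]; exact hσ4)
      rw [hord] at this
      norm_num at this
    · exact h
  · -- `σ` lies outside the cyclic maximal subgroup
    right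
    have hz : σ ^ 2 ∈ A := Subgroup.sq_mem_of_index_two hc σ
    set z : X := σ ^ 2 with hzdef
    have hz2 : z ^ 2 = 1 := by rw [hzdef, ← pow_mul]; exact hσ4
    have hAinv : ∀ a ∈ A, a ^ 2 = 1 → a ≠ 1 → a = z := by
      intro a ha h2 h1
      have e1 := (eq_of_sq_eq_one hm ha h2 h1).2
      have e2 := (eq_of_sq_eq_one hm hz hz2 hσ2ne).2
      exact e1.trans e2.symm
    have hyA : y ∉ A := fun h => hyz (hAinv y h (by rw [pow_two, hy2]) hy1)
    have hyinv : y⁻¹ = y := inv_eq_of_mul_eq_one_left hy2
    have hout : ∀ x : X, x ∉ A → ∃ i : ℤ, x = c ^ i * y := by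
      intro x hx
      have h1 : x * y⁻¹ ∈ A := hmul.2 (by simp [hx, hyA])
      obtain ⟨i, hi⟩ := mem_zpowers_iff.1 h1
      exact ⟨i, by rw [hi]; group⟩
    obtain ⟨i, hi⟩ := hout σ hσA
    set c' : X := y * c * y⁻¹ with hc'def
    have hc'A : c' ∈ A := hAn.conj_mem c (mem_zpowers c) y
    have hcA : c ∈ A := mem_zpowers c
    set h : X := c * c' with hhdef
    have hhA : h ∈ A := A.mul_mem hcA hc'A
    have hcomm : Commute c c' := hAcomm c hcA c' hc'A
    have hsq : ∀ j : ℤ, (c ^ j * y) ^ 2 = h ^ j := by
      intro j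
      have h1 : y * c ^ j * y⁻¹ = c' ^ j := conj_zpow.symm
      rw [hhdef, hcomm.mul_zpow, ← h1, pow_two]
      rw [hyinv]
      group
    have hhy : y * h = h * y := by
      have h1 : y * c' = c * y := by
        rw [hc'def, hyinv]
        calc y * (y * c * y) = (y * y) * c * y := by group
          _ = c * y := by rw [hy2, one_mul]
      have h2 : y * c = c' * y := by
        rw [hc'def, hyinv, mul_assoc (y * c), hy2, mul_one]
      calc y * h = (y * c) * c' := by rw [hhdef]; group
        _ = c' * (y * c') := by rw [h2]; group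
        _ = c' * (c * y) := by rw [h1]
        _ = (c' * c) * y := by group
        _ = (c * c') * y := by rw [hcomm.eq]
    have hhσ : h ∈ zpowers σ := by
      rw [← hC]
      apply mem_centralizer_singleton_iff.2
      rw [hi]
      have h1 : h * c ^ i = c ^ i * h := hAcomm h hhA _ (zpow_mem hcA i)
      calc h * (c ^ i * y) = (h * c ^ i) * y := by group
        _ = c ^ i * (h * y) := by rw [h1]; group
        _ = c ^ i * (y * h) := by rw [hhy]
        _ = c ^ i * y * h := by group
    have hσinvA : σ⁻¹ ∉ A := fun h => hσA (by simpa using h)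
    have hhz : h = z := by
      rcases mem_zpowers_four hσ hhσ with h1 | h1 | h1 | h1
      · exfalso
        apply hσ2ne
        have h2 := hsq i
        rw [← hi, h1, one_zpow] at h2
        exact h2
      · exact absurd (h1 ▸ hhA) hσA
      · exact h1
      · exact absurd (h1 ▸ hhA) hσinvA
    have hc'eq : c' = c⁻¹ * z := by
      rw [← hhz, hhdef]; group
    have hzc : z * c = c * z := hAcomm z hz c hcA
    have hczcomm : Commute c⁻¹ z := (Commute.inv_left hzc.symm)
    have hzj : ∀ j : ℤ, z ^ (2 * j) = 1 := by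
      intro j
      rw [zpow_mul]
      have : z ^ (2 : ℤ) = 1 := by exact_mod_cast hz2
      rw [this, one_zpow]
    have hcj : ∀ j : ℤ, y * c ^ (2 * j) * y⁻¹ = c ^ (-(2 * j)) := by
      intro j
      rw [← conj_zpow, ← hc'def, hc'eq, hczcomm.mul_zpow, hzj, mul_one, zpow_neg, inv_zpow]
    -- the exponent of `c`
    have hm1 := (eq_of_sq_eq_one hm hz hz2 hσ2ne)
    have hzc0 : z = c ^ 2 ^ (m - 1) := hm1.2
    have hn' : n = m + 1 := by
      have : 2 ^ m * 2 = 2 ^ n := by rw [← hAcm, hAcard, hn]
      have h2 : 2 ^ (m + 1) = 2 ^ n := by rw [pow_succ]; exact this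
      exact (Nat.pow_right_injective (le_refl 2) h2).symm
    have hm3 : 3 ≤ m := by
      by_contra hcon
      have hm2 : m = 2 := by omega
      subst hm2
      have hzc2 : z = c ^ 2 := by simpa using hzc0
      have hc'c : c' = c := by
        rw [hc'eq, hzc2, pow_two]; group
      have hyc : y * c = c * y := by
        calc y * c = c' * y := by rw [hc'def, hyinv, mul_assoc (y * c), hy2, mul_one]
          _ = c * y := by rw [hc'c]
      have hcσ : c ∈ zpowers σ := by
        rw [← hC]
        apply mem_centralizer_singleton_iff.2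
        rw [hi]
        have h1 : c * c ^ i = c ^ i * c := (Commute.zpow_right (Commute.refl c) i).eq
        calc c * (c ^ i * y) = (c * c ^ i) * y := by group
          _ = c ^ i * (c * y) := by rw [h1]; group
          _ = c ^ i * y * c := by rw [← hyc]; group
      have hc4 : c ^ 2 ≠ 1 := by rw [← hzc2]; exact hσ2ne
      rcases mem_zpowers_four hσ hcσ with h1 | h1 | h1 | h1
      · exact hc4 (by rw [h1]; simp)
      · exact hσA (h1 ▸ hcA)
      · apply hc4
        rw [h1, ← pow_mul]; exact hσ4
      · exact hσinvA (h1 ▸ hcA)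
    have hzeven : z = c ^ (2 * (2 ^ (m - 2) : ℕ) : ℤ) := by
      rw [hzc0, show ((2 : ℤ) * ((2 ^ (m - 2) : ℕ) : ℤ)) = ((2 ^ (m - 1) : ℕ) : ℤ) from ?_, zpow_natCast]
      push_cast
      rw [← pow_succ']
      congr 1
      omega
    have hcne : ∀ j : ℤ, c ^ j = 1 → Even j := by
      intro j hj
      have h1 : ((2 ^ m : ℕ) : ℤ) ∣ j := by
        rw [← hm]; exact orderOf_dvd_iff_zpow_eq_one.2 hj
      obtain ⟨s, rfl⟩ := h1
      refine ⟨((2 ^ (m - 1) : ℕ) : ℤ) * s, ?_⟩
      have : ((2 ^ m : ℕ) : ℤ) = ((2 ^ (m - 1) : ℕ) : ℤ) + ((2 ^ (m - 1) : ℕ) : ℤ) := by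
        rw [← two_mul]
        push_cast
        rw [← pow_succ']
        congr 1
        omega
      rw [this]; ring
    have hzodd : ∀ j : ℤ, z ^ j = 1 → Even j := by
      intro j hj
      by_contra hcon
      obtain ⟨t, rfl⟩ := Int.not_even_iff_odd.1 hcon
      apply hσ2ne
      have := hzj t
      rw [zpow_add, this, one_mul, zpow_one] at hj
      exact hj
    let M : Subgroup X := halfSub c y hy2 hcj
    have hMmem : ∀ x, x ∈ M ↔ ∃ j : ℤ, x = c ^ (2 * j) ∨ x = c ^ (2 * j) * y := fun x => Iff.rfl
    have hMc : ∀ j : ℤ, c ^ j ∈ M ↔ Even j := by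
      intro j
      constructor
      · rintro ⟨l, h1 | h1⟩
        · have : c ^ (j - 2 * l) = 1 := by rw [zpow_sub, h1]; simp
          have h2 := hcne _ this
          have h3 : Even (2 * l) := even_two_mul l
          simpa [Int.even_sub, h3] using h2
        · exfalso
          apply hyA
          have : y = (c ^ (2 * l))⁻¹ * c ^ j := by rw [h1]; group
          rw [this]
          exact A.mul_mem (A.inv_mem (zpow_mem hcA _)) (zpow_mem hcA _)
      · rintro ⟨l, rfl⟩
        exact ⟨l, Or.inl (by rw [two_mul])⟩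
    have hMy : ∀ j : ℤ, c ^ j * y ∈ M ↔ Even j := by
      intro j
      constructor
      · rintro ⟨l, h1 | h1⟩
        · exfalso
          apply hyA
          have : y = (c ^ j)⁻¹ * c ^ (2 * l) := by rw [← h1]; group
          rw [this]
          exact A.mul_mem (A.inv_mem (zpow_mem hcA _)) (zpow_mem hcA _)
        · have h2 : c ^ j = c ^ (2 * l) := mul_right_cancel h1
          have : c ^ (j - 2 * l) = 1 := by rw [zpow_sub, h2]; simp
          have h3 := hcne _ this
          have h4 : Even (2 * l) := even_two_mul l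
          simpa [Int.even_sub, h4] using h3
      · rintro ⟨l, rfl⟩
        exact ⟨l, Or.inr (by rw [two_mul])⟩
    refine ⟨M, ?_, ?_, ?_⟩
    · -- index two
      rw [Subgroup.index_eq_two_iff]
      refine ⟨c, fun b => ?_⟩
      by_cases hb : b ∈ A
      · obtain ⟨j, rfl⟩ := mem_zpowers_iff.1 hb
        rw [← zpow_add_one, hMc, hMc, Int.even_add_one]
        by_cases hj : Even j <;> simp [hj, Xor]
      · obtain ⟨j, rfl⟩ := hout b hb
        have h1 : c ^ j * y * c = c ^ (j - 1 + (2 * (2 ^ (m - 2) : ℕ) : ℤ)) * y := by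
          have h2 : y * c = c' * y := by
            rw [hc'def, hyinv, mul_assoc (y * c), hy2, mul_one]
          rw [zpow_add, ← hzeven, zpow_sub_one, mul_assoc, h2, hc'eq, ← mul_assoc, mul_assoc (c ^ j)]
          simp only [mul_assoc]
        rw [h1, hMy, hMy]
        have h3 : Even (j - 1 + (2 * (2 ^ (m - 2) : ℕ) : ℤ)) ↔ ¬ Even j := by
          rw [Int.even_add, Int.even_sub]
          simp
        rw [h3]
        by_cases hj : Even j <;> simp [hj, Xor]
    · -- involutions
      intro x hx
      have hx2 : x ^ 2 = 1 := by rw [← hx, pow_orderOf_eq_one]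
      have hx1 : x ≠ 1 := by
        rintro rfl
        simp at hx
      by_cases hxA : x ∈ A
      · have := hAinv x hxA hx2 hx1
        rw [this, hzeven]
        exact ⟨_, Or.inl rfl⟩
      · obtain ⟨j, rfl⟩ := hout x hxA
        rw [hMy]
        apply hzodd
        rw [← hhz, ← hsq]
        exact hx2
    · -- elements of order four
      intro x hx hx4
      obtain ⟨j, rfl | rfl⟩ := (hMmem x).1 hx
      · have hAle : A ≤ centralizer ({c ^ (2 * j)} : Set X) := by
          intro a ha
          exact mem_centralizer_singleton_iff.2 (hAcomm a ha _ (zpow_mem hcA _))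
        have h1 := Subgroup.card_le_of_le hAle
        rw [hAcm] at h1
        have h2 : 2 ^ 3 ≤ 2 ^ m := Nat.pow_le_pow_right (by norm_num) hm3
        omega
      · exfalso
        have h1 := hsq (2 * j)
        rw [hhz, hzj] at h1
        have := orderOf_dvd_of_pow_eq_one h1
        rw [hx4] at this
        norm_num at this

end TwoGroup

section Simple

variable {G : Type*} [Group G] [Finite G] [IsSimpleGroup G]

theorem center_eq_bot (hG : ¬ IsCyclic G) : center G = ⊥ := by
  rcases IsSimpleGroup.eq_bot_or_eq_top_of_normal (center G) inferInstance with h | h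
  · exact h
  · exfalso
    apply hG
    obtain ⟨g, hg⟩ := exists_ne (1 : G)
    have hn : (zpowers g).Normal := by
      constructor
      intro n hn u
      have hu : u ∈ center G := by rw [h]; trivial
      have : u * n * u⁻¹ = n := by
        rw [(mem_center_iff.1 hu n).symm]; group
      rwa [this]
    rcases IsSimpleGroup.eq_bot_or_eq_top_of_normal _ hn with h1 | h1
    · exact absurd (zpowers_eq_bot.1 h1) hg
    · exact isCyclic_iff_exists_zpowers_eq_top.2 ⟨g, h1⟩

theorem no_index_two (hG : ¬ IsCyclic G) (H : Subgroup G) : H.index ≠ 2 := by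
  intro h
  rcases IsSimpleGroup.eq_bot_or_eq_top_of_normal H (normal_of_index_eq_two h) with h1 | h1
  · apply hG
    subst h1
    rw [Subgroup.index_bot] at h
    exact isCyclic_of_prime_card h
  · subst h1
    simp at h

/-- A Sylow `2`-subgroup of a noncyclic simple group has at least two involutions. -/
theorem two_involutions (hG : ¬ IsCyclic G) (S : Sylow 2 G) (z : G) (hzS : z ∈ (S : Subgroup G))
    (hz : orderOf z = 2) : ∃ y ∈ (S : Subgroup G), orderOf y = 2 ∧ y ≠ z := by
  classical
  haveI : Fact (Nat.Prime 2) := ⟨Nat.prime_two⟩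
  by_contra hno
  push Not at hno
  have hz1 : z ≠ 1 := by
    rintro rfl
    simp at hz
  have hiso : IsIsolatedInvolution z := by
    refine ⟨hz, fun g hg => ?_⟩
    set z' := g * z * g⁻¹ with hz'
    have hz'o : orderOf z' = 2 := by
      rw [← hz]
      exact orderOf_injective (MulAut.conj g).toMonoidHom (MulEquiv.injective _) z
    have hp1 : IsPGroup 2 (zpowers z) := IsPGroup.of_card (n := 1) (by rw [Nat.card_zpowers, hz]; norm_num)
    have hp2 : IsPGroup 2 (zpowers z') := IsPGroup.of_card (n := 1) (by rw [Nat.card_zpowers, hz'o]; norm_num)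
    have hle : zpowers z ≤ normalizer (zpowers z' : Set G) := by
      rw [zpowers_le]
      rw [mem_normalizer_iff]
      intro h
      have hc : z * h * z⁻¹ = h ∨ True := Or.inr trivial
      constructor
      · intro hh
        obtain ⟨k, rfl⟩ := mem_zpowers_iff.1 hh
        have : z * z' ^ k * z⁻¹ = z' ^ k := by
          rw [(hg.zpow_right k).eq]; group
        rw [this]; exact zpow_mem (mem_zpowers z') k
      · intro hh
        obtain ⟨k, hk⟩ := mem_zpowers_iff.1 hh
        have : h = z⁻¹ * z' ^ k * z := by rw [hk]; group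
        rw [this]
        have h2 : z⁻¹ * z' ^ k * z = z' ^ k := by
          rw [mul_assoc, ((hg.zpow_right k).eq).symm]; group
        rw [h2]; exact zpow_mem (mem_zpowers z') k
    have hp3 := IsPGroup.to_sup_of_normal_right' hp1 hp2 hle
    obtain ⟨T, hT⟩ := hp3.exists_le_sylow
    obtain ⟨u, hu⟩ := MulAction.exists_smul_eq G T S
    have hconj : ∀ x ∈ (T : Subgroup G), u * x * u⁻¹ ∈ (S : Subgroup G) := by
      intro x hx
      rw [← hu, Sylow.coe_subgroup_smul]
      exact Subgroup.mem_pointwise_smul_iff_inv_smul_mem.2 (by simpa [MulAut.smul_def, MulAut.conj_symm_apply, mul_assoc] using hx)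
    have h1 := hconj z (hT (le_sup_left (a := zpowers z) (b := zpowers z') (mem_zpowers z)))
    have h2 := hconj z' (hT (le_sup_right (a := zpowers z) (b := zpowers z') (mem_zpowers z')))
    have h3 : u * z * u⁻¹ = z := by
      exact hno _ h1 (by
        rw [← hz]
        exact orderOf_injective (MulAut.conj u).toMonoidHom (MulEquiv.injective _) z)
    have h4 : u * z' * u⁻¹ = z := by
      exact hno _ h2 (by
        rw [← hz'o]
        exact orderOf_injective (MulAut.conj u).toMonoidHom (MulEquiv.injective _) z')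
    have h5 : u * z' * u⁻¹ = u * z * u⁻¹ := h4.trans h3.symm
    exact mul_left_cancel (mul_right_cancel h5)
  have hstar := Cfsg.Agent.Lib.ZStar.zstar hiso
  rcases IsSimpleGroup.eq_bot_or_eq_top_of_normal (pPrimeCore 2 G) inferInstance with h | h
  · apply hz1
    have hzc : z ∈ center G := by
      rw [mem_center_iff]
      intro g
      have := hstar g
      rw [h, mem_bot] at this
      have h2 : g * z * g⁻¹ = z := by
        rw [mul_inv_eq_one] at this; exact this
      calc g * z = (g * z * g⁻¹) * g := by group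
        _ = z * g := by rw [h2]
    rw [center_eq_bot hG, mem_bot] at hzc
    exact hzc
  · have h1 := Cfsg.Agent.Lib.PCore.card_pPrimeCore_coprime (G := G) 2
    rw [h, Subgroup.card_top] at h1
    have h2 : 2 ∣ Nat.card G := by
      rw [← hz]; exact orderOf_dvd_natCard z
    have := Nat.Coprime.eq_one_of_dvd h1.symm h2
    omega

/-- Structure of the Sylow `2`-subgroup containing an element of order four with centralizer
generated by it. -/
theorem key (hG : ¬ IsCyclic G) (σ : G) (hσ : orderOf σ = 4) (hC : centralizer ({σ} : Set G) = zpowers σ) :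
    ∃ (S : Sylow 2 G) (τ : G), σ ∈ (S : Subgroup G) ∧ τ ∈ (S : Subgroup G) ∧ orderOf τ = 2 ∧
      τ * σ * τ⁻¹ = σ⁻¹ ∧ Nat.card (S : Subgroup G) = 8 := by
  classical
  haveI : Fact (Nat.Prime 2) := ⟨Nat.prime_two⟩
  have hp : IsPGroup 2 (zpowers σ) := IsPGroup.of_card (n := 2) (by rw [Nat.card_zpowers, hσ]; norm_num)
  obtain ⟨S, hS⟩ := hp.exists_le_sylow
  have hσS : σ ∈ (S : Subgroup G) := hS (mem_zpowers σ)
  have hσ4 : σ ^ 4 = 1 := by rw [← hσ, pow_orderOf_eq_one]
  have hσ2ne : σ ^ 2 ≠ 1 := by
    intro h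
    have := orderOf_dvd_of_pow_eq_one h
    rw [hσ] at this
    norm_num at this
  have hz2 : orderOf (σ ^ 2) = 2 := orderOf_eq_prime (by rw [← pow_mul]; exact hσ4) hσ2ne
  obtain ⟨y, hyS, hyo, hyz⟩ := two_involutions hG S (σ ^ 2) (pow_mem hσS 2) hz2
  let σ' : (S : Subgroup G) := ⟨σ, hσS⟩
  let y' : (S : Subgroup G) := ⟨y, hyS⟩
  have hσ' : orderOf σ' = 4 := (Subgroup.orderOf_mk σ hσS).trans hσ
  have hy' : orderOf y' = 2 := (Subgroup.orderOf_mk y hyS).trans hyo
  have hne : y' ≠ σ' ^ 2 := by
    intro h
    exact hyz (congrArg Subtype.val h)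
  have hC' : centralizer ({σ'} : Set (S : Subgroup G)) = zpowers σ' := by
    ext u
    rw [mem_centralizer_singleton_iff]
    constructor
    · intro hu
      have h1 : (u : G) ∈ zpowers σ := by
        rw [← hC]
        exact mem_centralizer_singleton_iff.2 (congrArg Subtype.val hu)
      obtain ⟨k, hk⟩ := mem_zpowers_iff.1 h1
      exact mem_zpowers_iff.2 ⟨k, Subtype.ext (by simpa [σ'] using hk)⟩
    · intro hu
      obtain ⟨k, rfl⟩ := mem_zpowers_iff.1 hu
      exact ((Commute.refl σ').zpow_left k).eq
  rcases two_group_struct S.isPGroup' σ' hσ' hC' y' hy' hne with ⟨τ, h1, h2, h3⟩ | ⟨M, hM1, hM2, hM3⟩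
  · refine ⟨S, τ, hσS, τ.2, ?_, ?_, h3⟩
    · rw [Subgroup.orderOf_coe]; exact h1
    · exact congrArg Subtype.val h2
  · exfalso
    set M' : Subgroup G := M.map (S : Subgroup G).subtype with hM'
    have hMS : M' ≤ (S : Subgroup G) := Subgroup.map_subtype_le M
    have hrel : M'.relIndex (S : Subgroup G) = 2 := by
      rw [Subgroup.relIndex, hM', Subgroup.subgroupOf,
        Subgroup.comap_map_eq_self_of_injective (S : Subgroup G).subtype_injective]
      exact hM1
    have hmemM' : ∀ (x : G) (hx : x ∈ (S : Subgroup G)), orderOf x = 2 → x ∈ M' := by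
      intro x hx hxo
      exact Subgroup.mem_map.2 ⟨⟨x, hx⟩, hM2 _ ((Subgroup.orderOf_mk x hx).trans hxo), rfl⟩
    obtain ⟨g, hg⟩ := Cfsg.Agent.Lib.ThompsonTransfer.exists_conj_mem (no_index_two hG)
      (S : Subgroup G) M' hMS hrel S.not_dvd_index σ 2 (by simpa using hσ4) (by
        intro m g hm hm0 hmem
        by_cases h1 : σ ^ m = 1
        · rw [h1]; simp [M'.one_mem]
        · refine hmemM' _ hmem (orderOf_eq_prime ?_ ?_)
          · have h2 : (σ ^ m) ^ 2 = 1 := by
              obtain ⟨k, rfl⟩ := hm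
              rw [← pow_mul, show 2 * k * 2 = 4 * k by ring, pow_mul, hσ4, one_pow]
            have : (g⁻¹ * σ ^ m * g) ^ 2 = g⁻¹ * (σ ^ m) ^ 2 * g := by
              rw [pow_two, pow_two]; group
            rw [this, h2]; group
          · intro h
            apply h1
            have : σ ^ m = g * (g⁻¹ * σ ^ m * g) * g⁻¹ := by group
            rw [this, h]; group)
    obtain ⟨x', hx'M, hx'⟩ := Subgroup.mem_map.1 hg
    have hx'eq : (x' : G) = g⁻¹ * σ * g := hx'
    have hx'o : orderOf x' = 4 := by
      rw [← Subgroup.orderOf_coe, hx'eq, ← hσ]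
      have : g⁻¹ * σ * g = (MulAut.conj g⁻¹).toMonoidHom σ := by simp [MulAut.conj_apply]
      rw [this]
      exact orderOf_injective (MulAut.conj g⁻¹).toMonoidHom (MulEquiv.injective _) σ
    have h4 := hM3 x' hx'M hx'o
    have h5 : Nat.card (centralizer ({x'} : Set (S : Subgroup G))) ≤ Nat.card (zpowers σ) := by
      let φ : centralizer ({x'} : Set (S : Subgroup G)) → zpowers σ := fun u =>
        ⟨g * (u.1 : G) * g⁻¹, by
          rw [← hC]
          apply mem_centralizer_singleton_iff.2
          have h6 : (u.1 : (S : Subgroup G)) * x' = x' * u.1 := mem_centralizer_singleton_iff.1 u.2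
          have h7 : (u.1 : G) * (g⁻¹ * σ * g) = (g⁻¹ * σ * g) * (u.1 : G) := by
            rw [← hx'eq]; exact congrArg Subtype.val h6
          calc g * (u.1 : G) * g⁻¹ * σ = g * ((u.1 : G) * (g⁻¹ * σ * g)) * g⁻¹ := by group
            _ = g * ((g⁻¹ * σ * g) * (u.1 : G)) * g⁻¹ := by rw [h7]
            _ = σ * (g * (u.1 : G) * g⁻¹) := by group⟩
      apply Nat.card_le_card_of_injective φ
      intro u v huv
      have h8 : g * (u.1 : G) * g⁻¹ = g * (v.1 : G) * g⁻¹ := congrArg Subtype.val huv
      have h9 : (u.1 : G) = (v.1 : G) := mul_left_cancel (mul_right_cancel h8)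
      exact Subtype.ext (Subtype.ext h9)
    rw [Nat.card_zpowers, hσ] at h5
    omega

end Simple

/-- The reduction for Wong's theorem. -/
theorem wong_reduction {G : Type*} [Group G] [Finite G] [IsSimpleGroup G] (hG : ¬ IsCyclic G) (w : G)
    (hw : Nat.card (centralizer ({w} : Set G)) ≤ 4) :
    Nonempty (G ≃* alternatingGroup (Fin 5)) ∨
    (∃ (F : Type) (_ : Field F) (_ : Fintype F), Fintype.card F = 7 ∧
      Nonempty (G ≃* Matrix.ProjectiveSpecialLinearGroup (Fin 2) F)) ∨
    (∃ (S : Sylow 2 G) (σ τ : G), σ ∈ (S : Subgroup G) ∧ τ ∈ (S : Subgroup G) ∧ orderOf σ = 4 ∧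
      orderOf τ = 2 ∧ centralizer ({σ} : Set G) = zpowers σ ∧ τ * σ * τ⁻¹ = σ⁻¹ ∧
      Nat.card (S : Subgroup G) = 8) := by
  classical
  haveI : Fact (Nat.Prime 2) := ⟨Nat.prime_two⟩
  have hZ := center_eq_bot (G := G) hG
  have hno2 := no_index_two (G := G) hG
  have hkey : ∀ σ : G, orderOf σ = 4 → centralizer ({σ} : Set G) = zpowers σ →
      (∃ (S : Sylow 2 G) (σ τ : G), σ ∈ (S : Subgroup G) ∧ τ ∈ (S : Subgroup G) ∧ orderOf σ = 4 ∧
      orderOf τ = 2 ∧ centralizer ({σ} : Set G) = zpowers σ ∧ τ * σ * τ⁻¹ = σ⁻¹ ∧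
      Nat.card (S : Subgroup G) = 8) := by
    intro σ h1 h2
    obtain ⟨S, τ, a1, a2, a3, a4, a5⟩ := key hG σ h1 h2
    exact ⟨S, σ, τ, a1, a2, h1, a3, h2, a4, a5⟩
  have hw1 : w ≠ 1 := by
    rintro rfl
    have h1 : centralizer ({1} : Set G) = ⊤ := by
      ext u
      simp [mem_centralizer_singleton_iff]
    rw [h1, Subgroup.card_top] at hw
    have hpos : 1 ≤ Nat.card G := Nat.card_pos
    have hne : Nat.card G ≠ 1 := by
      intro h
      have := (Nat.card_eq_one_iff_unique.1 h).1
      exact not_subsingleton G this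
    have h2 : Nat.card G = 2 ∨ Nat.card G = 3 ∨ Nat.card G = 4 := by omega
    rcases h2 with h | h | h
    · exact absurd (isCyclic_of_prime_card h) hG
    · haveI : Fact (Nat.Prime 3) := ⟨by norm_num⟩
      exact absurd (isCyclic_of_prime_card h) hG
    · have hp : IsPGroup 2 G := IsPGroup.of_card (n := 2) (by rw [h]; norm_num)
      have := hp.center_nontrivial
      rw [hZ] at this
      exact not_subsingleton (↥(⊥ : Subgroup G)) inferInstance
  set C := centralizer ({w} : Set G) with hCdef
  have hwC : zpowers w ≤ C := by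
    rw [zpowers_le]
    exact mem_centralizer_singleton_iff.2 rfl
  have hdvd : orderOf w ∣ Nat.card C := by
    rw [← Nat.card_zpowers]
    exact Subgroup.card_dvd_of_le hwC
  have hw2 : orderOf w ≠ 1 := fun h => hw1 (orderOf_eq_one_iff.1 h)
  have hCpos : 0 < Nat.card C := Nat.card_pos
  have hcases : Nat.card C = 1 ∨ Nat.card C = 2 ∨ Nat.card C = 3 ∨ Nat.card C = 4 := by omega
  rcases hcases with h | h | h | h
  · rw [h] at hdvd
    exact absurd (Nat.dvd_one.1 hdvd) hw2
  · -- centralizer of order two
    exfalso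
    have ho : orderOf w = 2 := by
      rw [h] at hdvd
      rcases (Nat.dvd_prime Nat.prime_two).1 hdvd with h1 | h1
      · exact absurd h1 hw2
      · exact h1
    have heq : C = zpowers w :=
      (Subgroup.eq_of_le_of_card_ge hwC (by rw [Nat.card_zpowers, ho, h])).symm
    have hp : IsPGroup 2 (zpowers w) := IsPGroup.of_card (n := 1) (by rw [Nat.card_zpowers, ho]; norm_num)
    obtain ⟨S, hS⟩ := hp.exists_le_sylow
    have hwS : w ∈ (S : Subgroup G) := hS (mem_zpowers w)
    obtain ⟨y, hyS, hyo, hyne⟩ := two_involutions hG S w hwS ho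
    -- a central involution of `S`
    haveI : Nontrivial (S : Subgroup G) := ⟨⟨⟨w, hwS⟩, 1, fun h => hw1 (congrArg Subtype.val h)⟩⟩
    have hcen := S.isPGroup'.center_nontrivial
    have h2dvd : 2 ∣ Nat.card (center (S : Subgroup G)) := by
      have hp2 : IsPGroup 2 (center (S : Subgroup G)) := S.isPGroup'.to_subgroup _
      obtain ⟨k, hk⟩ := IsPGroup.iff_card.1 hp2
      have h1 : Nat.card (center (S : Subgroup G)) ≠ 1 := by
        intro h1
        exact not_subsingleton _ ((Nat.card_eq_one_iff_unique.1 h1).1)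
      rcases k with _ | k
      · simp [hk] at h1
      · rw [hk, pow_succ]; exact dvd_mul_left _ _
    obtain ⟨u, hu⟩ := exists_prime_orderOf_dvd_card' 2 h2dvd
    have hu1 : ((u : (S : Subgroup G)) : G) ∈ C := by
      apply mem_centralizer_singleton_iff.2
      have := mem_center_iff.1 u.2 ⟨w, hwS⟩
      exact (congrArg Subtype.val this).symm
    have hu2 : orderOf ((u : (S : Subgroup G)) : G) = 2 := by
      rw [Subgroup.orderOf_coe, Subgroup.orderOf_coe]; exact hu
    have huw : ((u : (S : Subgroup G)) : G) = w := by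
      rw [heq] at hu1
      obtain ⟨k, hk⟩ := mem_zpowers_iff.1 hu1
      have h3 : (k : ℤ) % 2 = 0 ∨ (k : ℤ) % 2 = 1 := by omega
      rw [← zpow_mod_orderOf, ho] at hk
      rcases h3 with h3 | h3
      · rw [show k % ((2 : ℕ) : ℤ) = 0 from h3, zpow_zero] at hk
        rw [← hk] at hu2
        simp at hu2
      · rw [show k % ((2 : ℕ) : ℤ) = 1 from h3, zpow_one] at hk
        exact hk.symm
    apply hyne
    have hyC : y ∈ C := by
      apply mem_centralizer_singleton_iff.2
      have := mem_center_iff.1 u.2 ⟨y, hyS⟩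
      rw [← huw]
      exact congrArg Subtype.val this
    rw [heq] at hyC
    obtain ⟨k, hk⟩ := mem_zpowers_iff.1 hyC
    have h3 : (k : ℤ) % 2 = 0 ∨ (k : ℤ) % 2 = 1 := by omega
    rw [← zpow_mod_orderOf, ho] at hk
    rcases h3 with h3 | h3
    · rw [show k % ((2 : ℕ) : ℤ) = 0 from h3, zpow_zero] at hk
      rw [← hk] at hyo
      simp at hyo
    · rw [show k % ((2 : ℕ) : ℤ) = 1 from h3, zpow_one] at hk
      exact hk.symm
  · -- centralizer of order three
    haveI : Fact (Nat.Prime 3) := ⟨by norm_num⟩
    have ho : orderOf w = 3 := by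
      rw [h] at hdvd
      rcases (Nat.dvd_prime (by norm_num)).1 hdvd with h1 | h1
      · exact absurd h1 hw2
      · exact h1
    have heq : C = zpowers w :=
      (Subgroup.eq_of_le_of_card_ge hwC (by rw [Nat.card_zpowers, ho, h])).symm
    have hcen : centralizer ((zpowers w : Subgroup G) : Set G) = zpowers w := by
      apply le_antisymm
      · intro u hu
        have hu' : u ∈ C := by
          apply mem_centralizer_singleton_iff.2
          exact (mem_centralizer_iff.1 hu w (mem_zpowers w)).symm
        rwa [heq] at hu'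
      · intro u hu
        have hu' : u ∈ C := hwC hu
        rw [mem_centralizer_iff]
        intro x hx
        obtain ⟨k, rfl⟩ := mem_zpowers_iff.1 hx
        have h1 : u * w = w * u := mem_centralizer_singleton_iff.1 hu'
        exact (((Commute.zpow_left (show Commute w u from h1.symm) k)).eq)
    rcases Cfsg.Agent.S3331.result (zpowers w) (by rw [Nat.card_zpowers, ho]) hcen with
      ⟨N, hN, -, -, h1⟩ | ⟨N, hN, -, -, ⟨e⟩⟩ | ⟨e⟩
    · exfalso
      rcases IsSimpleGroup.eq_bot_or_eq_top_of_normal N hN with rfl | rfl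
      · rcases h1 with h1 | ⟨⟨e⟩⟩
        · have e0 : G ⧸ (⊥ : Subgroup G) ≃* G := QuotientGroup.quotientBot
          have h2 : Nat.card G = 3 := by rw [← Nat.card_congr e0.toEquiv]; exact h1
          exact hG (isCyclic_of_prime_card h2)
        · have e0 : G ⧸ (⊥ : Subgroup G) ≃* G := QuotientGroup.quotientBot
          let f : G →* ℤˣ := (Equiv.Perm.sign (α := Fin 3)).comp ((e0.symm.trans e).toMonoidHom)
          have h2 := Cfsg.Agent.Lib.ThompsonTransfer.hom_units_eq_one hno2 f
            ((e0.symm.trans e).symm (Equiv.swap 0 1))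
          have h3 : f ((e0.symm.trans e).symm (Equiv.swap 0 1)) = -1 := by
            simp only [f, MonoidHom.comp_apply]
            simp
          rw [h3] at h2
          exact absurd h2 (by decide)
      · have h2 : Nat.card (G ⧸ (⊤ : Subgroup G)) = 1 := by
          rw [← Subgroup.index, Subgroup.index_top]
        rcases h1 with h1 | ⟨⟨e⟩⟩
        · omega
        · have h3 := Nat.card_congr e.toEquiv
          rw [h2, Nat.card_eq_fintype_card, Fintype.card_perm, Fintype.card_fin] at h3
          exact absurd h3 (by decide)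
    · rcases IsSimpleGroup.eq_bot_or_eq_top_of_normal N hN with rfl | rfl
      · left
        exact ⟨(QuotientGroup.quotientBot (G := G)).symm.trans e⟩
      · exfalso
        have h2 : Nat.card (G ⧸ (⊤ : Subgroup G)) = 1 := by
          rw [← Subgroup.index, Subgroup.index_top]
        have h3 := Nat.card_congr e.toEquiv
        rw [h2] at h3
        have h4 : Nat.card (alternatingGroup (Fin 5)) = 60 := by
          rw [Nat.card_eq_fintype_card]; decide
        omega
    · right; left
      haveI : Fact (Nat.Prime 7) := ⟨by norm_num⟩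
      exact ⟨ZMod 7, inferInstance, inferInstance, ZMod.card 7, e⟩
  · -- centralizer of order four
    have ho : orderOf w = 2 ∨ orderOf w = 4 := by
      rw [h] at hdvd
      obtain ⟨k, hk, hk2⟩ := (Nat.dvd_prime_pow Nat.prime_two).1 (show orderOf w ∣ 2 ^ 2 from hdvd)
      interval_cases k
      · exact absurd (by simpa using hk2) hw2
      · left; simpa using hk2
      · right; simpa using hk2
    rcases ho with ho | ho
    · -- an involution
      by_cases hexp : ∀ c ∈ C, c ^ 2 = 1
      · left
        refine Cfsg.Agent.S3277.result w ho h hexp ?_ ?_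
        · rintro ⟨P, N, hN, hcomp⟩
          have hcard := hcomp.card_mul_card
          rcases IsSimpleGroup.eq_bot_or_eq_top_of_normal N hN with rfl | rfl
          · have h1 : Nat.card (P : Subgroup G) = Nat.card G := by
              simpa using hcard
            have hp : IsPGroup 2 G := by
              obtain ⟨k, hk⟩ := IsPGroup.iff_card.1 P.isPGroup'
              exact IsPGroup.of_card (n := k) (by rw [← h1, hk])
            have := hp.center_nontrivial
            rw [hZ] at this
            exact not_subsingleton (↥(⊥ : Subgroup G)) inferInstance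
          · have h1 : Nat.card (P : Subgroup G) = 1 := by
              have hpos : 0 < Nat.card G := Nat.card_pos
              rw [Subgroup.card_top] at hcard
              exact Nat.eq_of_mul_eq_mul_left hpos (by rw [hcard, mul_one])
            have h2 := (P : Subgroup G).card_mul_index
            rw [h1, one_mul] at h2
            apply P.not_dvd_index
            rw [h2, ← ho]
            exact orderOf_dvd_natCard w
        · intro E hEn hEa
          rcases IsSimpleGroup.eq_bot_or_eq_top_of_normal E hEn with rfl | rfl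
          · simp
          · exfalso
            have h1 : center G = ⊤ := by
              rw [eq_top_iff]
              intro a _
              rw [mem_center_iff]
              intro b
              have := hEa.1.is_comm.comm ⟨a, mem_top a⟩ ⟨b, mem_top b⟩
              exact (congrArg Subtype.val this).symm
            rw [hZ] at h1
            exact bot_ne_top h1
      · right; right
        push Not at hexp
        obtain ⟨u, huC, hu⟩ := hexp
        have hou : orderOf u = 4 := by
          have h1 : orderOf u ∣ 2 ^ 2 := by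
            have : orderOf (⟨u, huC⟩ : C) ∣ Nat.card C := orderOf_dvd_natCard _
            rw [Subgroup.orderOf_mk, h] at this
            exact this
          obtain ⟨k, hk, hk2⟩ := (Nat.dvd_prime_pow Nat.prime_two).1 h1
          interval_cases k
          · exfalso
            apply hu
            have : u = 1 := orderOf_eq_one_iff.1 (by simpa using hk2)
            rw [this]; simp
          · exfalso
            apply hu
            rw [← pow_one (2 : ℕ) ] at hk2
            have : orderOf u = 2 := by simpa using hk2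
            rw [← this, pow_orderOf_eq_one]
          · simpa using hk2
        have hCu : zpowers u = C :=
          Subgroup.eq_of_le_of_card_ge ((zpowers_le).2 huC) (by rw [Nat.card_zpowers, hou, h])
        have hwu : w = u ^ 2 := by
          have hw' : w ∈ zpowers u := by rw [hCu]; exact mem_centralizer_singleton_iff.2 rfl
          rcases mem_zpowers_four hou hw' with h1 | h1 | h1 | h1
          · exact absurd h1 hw1
          · rw [h1, hou] at ho; omega
          · exact h1
          · rw [h1, orderOf_inv, hou] at ho; omega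
        apply hkey u hou
        apply le_antisymm
        · intro v hv
          rw [hCu]
          have h1 : v * u = u * v := mem_centralizer_singleton_iff.1 hv
          apply mem_centralizer_singleton_iff.2
          rw [hwu]
          exact ((show Commute v u from h1).pow_right 2).eq
        · rw [zpowers_le]
          exact mem_centralizer_singleton_iff.2 rfl
    · right; right
      apply hkey w ho
      exact (Subgroup.eq_of_le_of_card_ge hwC (by rw [Nat.card_zpowers, ho, h])).symm

end Cfsg.Agent.Lib.Wong80Top
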