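import Mathlib
import Cfsg.Agent.Lib.WongStrong
import Cfsg.Agent.Lib.Wong80Top
import Cfsg.Agent.Lib.LBalance2
import Cfsg.Agent.S0107
import Cfsg.Agent.S3261

/-!
# Wong's theorem: passing to a frame, and the exclusion of the order `7560`.
-/

set_option autoImplicit false
set_option linter.all false

namespace Cfsg.Agent.Lib.WongFinal

open Subgroup DihedralGroup Cfsg.Agent.Lib.DihBlock Cfsg.Agent.Lib Cfsg.Agent.Lib.WongBase Cfsg.Agent.Lib.WongOdd
  Cfsg.Agent.Lib.WongStrong

universe u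
variable {G : Type u} [Group G] [Finite G] {σ τ : G}

theorem perfect [IsSimpleGroup G] (hG : ¬ IsCyclic G) : commutator G = ⊤ := by
  have hn : (commutator G).Normal := inferInstance
  rcases hn.eq_bot_or_eq_top with h | h
  · exfalso
    have h1 := (_root_.commutator_eq_bot_iff_center_eq_top G).1 h
    rw [Wong80Top.center_eq_bot hG] at h1
    exact bot_ne_top h1
  · exact h

/-- The data of the reduction give a frame. -/
theorem frame_of_data [IsSimpleGroup G] (hG : ¬ IsCyclic G) (S : Sylow 2 G) (hσS : σ ∈ (S : Subgroup G))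
    (hτS : τ ∈ (S : Subgroup G)) (hσo : orderOf σ = 4) (hτo : orderOf τ = 2)
    (hc : centralizer ({σ} : Set G) = zpowers σ) (hrel : τ * σ * τ⁻¹ = σ⁻¹) (hS : Nat.card (S : Subgroup G) = 8) :
    Frame σ τ := by
  haveI : Fact (Nat.Prime 2) := ⟨Nat.prime_two⟩
  have P : Pre σ τ := ⟨hσo, hτo, hrel⟩
  have hcl : (S : Subgroup G) = closure ({σ, τ} : Set G) := by
    symm
    apply eq_of_le_of_card_ge
    · rw [closure_le]
      rintro y (hy | hy)
      · rw [hy]; exact hσS
      · rw [Set.mem_singleton_iff.1 hy]; exact hτS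
    · rw [hS, P.card_closure]
  have hiso : Nonempty ((S : Subgroup G) ≃* DihedralGroup (2 ^ 2)) := P.iso hcl
  have hO : Cfsg.pResidual 2 G = ⊤ := LBalance2.pResidual_eq_top_of_perfect' 2 (perfect hG)
  refine { σo := hσo, τo := hτo, rel := hrel, cent := ?_, conj := ?_, two := ?_ }
  · intro g hg
    rw [← hc, mem_centralizer_singleton_iff]
    exact hg
  · intro x y hx hx1 hy hy1
    have hxo : orderOf x = 2 := orderOf_eq_prime (by rw [pow_two]; exact hx) hx1
    have hyo : orderOf y = 2 := orderOf_eq_prime (by rw [pow_two]; exact hy) hy1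
    obtain ⟨g, hg⟩ := Cfsg.Agent.S0107.result S 2 le_rfl hiso hO x y hxo hyo
    exact isConj_iff.2 ⟨g, hg⟩
  · intro h
    have h1 : (2 : ℕ) ^ 4 ∣ Nat.card (S : Subgroup G) := S.pow_dvd_card_of_pow_dvd_card (by norm_num; exact h)
    rw [hS] at h1
    omega

/-- The conjugation action on the involutions. -/
@[reducible] def involAct (u : G) : MulAction (zpowers u) {y : G // y * y = 1 ∧ y ≠ 1} where
  smul a y := ⟨(a : G) * y.1 * (a : G)⁻¹, by
    refine ⟨?_, ?_⟩
    · rw [conj_sq, y.2.1]; group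
    · intro h
      apply y.2.2
      have h6 : (a : G) * y.1 = (a : G) := by
        calc (a : G) * y.1 = (a : G) * y.1 * (a : G)⁻¹ * (a : G) := by group
          _ = (a : G) := by rw [h]; group
      simpa using h6⟩
  one_smul y := by
    apply Subtype.ext
    show ((1 : zpowers u) : G) * y.1 * ((1 : zpowers u) : G)⁻¹ = y.1
    simp
  mul_smul a b y := by
    apply Subtype.ext
    show ((a * b : zpowers u) : G) * y.1 * ((a * b : zpowers u) : G)⁻¹ = (a : G) * ((b : G) * y.1 * (b : G)⁻¹) * (a : G)⁻¹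
    push_cast
    group

/-- Counting involutions modulo a prime. -/
theorem card_invol_mod {p : ℕ} [Fact p.Prime] {u : G} (hu : orderOf u = p) :
    Nat.card {y : G // y * y = 1 ∧ y ≠ 1} ≡ Nat.card {y : G // y * y = 1 ∧ y ≠ 1 ∧ y * u = u * y} [MOD p] := by
  classical
  letI := involAct u
  have hp : IsPGroup p (zpowers u) := IsPGroup.of_card (n := 1) (by rw [Nat.card_zpowers, hu, pow_one])
  have h := hp.card_modEq_card_fixedPoints {y : G // y * y = 1 ∧ y ≠ 1}
  have hsm : ∀ (a : zpowers u) (y : {y : G // y * y = 1 ∧ y ≠ 1}), ((a • y : {y : G // y * y = 1 ∧ y ≠ 1}) : G) = (a : G) * y.1 * (a : G)⁻¹ :=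
    fun a y => rfl
  have he : Nat.card (MulAction.fixedPoints (zpowers u) {y : G // y * y = 1 ∧ y ≠ 1}) =
      Nat.card {y : G // y * y = 1 ∧ y ≠ 1 ∧ y * u = u * y} := by
    apply Nat.card_congr
    refine
      { toFun := fun y => ⟨y.1.1, y.1.2.1, y.1.2.2, ?_⟩
        invFun := fun y => ⟨⟨y.1, y.2.1, y.2.2.1⟩, ?_⟩
        left_inv := fun y => rfl
        right_inv := fun y => rfl }
    · have h1 := y.2 ⟨u, mem_zpowers u⟩
      have h2 := congrArg Subtype.val h1
      rw [hsm] at h2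
      exact (comm_of_conj_eq h2).symm
    · rintro ⟨a, i, rfl⟩
      apply Subtype.ext
      rw [hsm]
      show u ^ i * y.1 * (u ^ i)⁻¹ = y.1
      have h3 : Commute u y.1 := y.2.2.2.symm
      rw [conj_eq_of_comm (h3.zpow_left i).eq]
  rwa [he] at h

theorem card_invol_sub (F : Frame σ τ) :
    Nat.card {y : G // y * y = 1 ∧ y ≠ 1} * Nat.card (centralizer ({σ * σ} : Set G)) = Nat.card G := by
  classical
  letI := Fintype.ofFinite G
  have hall : ∀ t ∈ (F.S : Subgroup G), t ∉ zpowers σ → IsConj F.dh.z t := by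
    intro t ht htA
    rw [F.dh_z]
    have := F.dh.refl t ht htA
    refine F.conj _ _ F.zz F.z_ne_one this.1 ?_
    rintro rfl
    exact htA (one_mem _)
  have h := F.dh.card_invG hall
  rw [F.dh_z] at h
  rw [← h]
  congr 1
  exact Nat.subtype_card _ (fun x => mem_invG)

/-- The element `u` of `W₁` centralizes no element of `Od v` if `v` inverts `u` and `|G|` is not divisible by `25`. -/
theorem D_bot (F : Frame σ τ) (h5 : Nat.card (Od (σ * σ)) = 5) (h25 : ¬ 25 ∣ Nat.card G) {u v : G}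
    (huo : orderOf u = 5) (hv : v * v = 1) (hv1 : v ≠ 1) (hvu : v * u * v⁻¹ = u⁻¹) :
    Od v ⊓ centralizer ({u} : Set G) ≤ Od (σ * σ) := by
  haveI : Fact (Nat.Prime 5) := ⟨by norm_num⟩
  rintro x ⟨hx1, hx2⟩
  by_cases hx : x = 1
  · rw [hx]; exact one_mem _
  exfalso
  have hOv : Nat.card (Od v) = 5 := by rw [Frame_card_Od F hv hv1, h5]
  have hxo : orderOf x = 5 := by
    have h2 : orderOf (⟨x, hx1⟩ : Od v) ∣ Nat.card (Od v) := orderOf_dvd_natCard _
    rw [Subgroup.orderOf_mk, hOv] at h2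
    rcases (Nat.dvd_prime (by norm_num : Nat.Prime 5)).1 h2 with h3 | h3
    · exact absurd (orderOf_eq_one_iff.1 h3) hx
    · exact h3
  have hP : IsPGroup 5 (zpowers u) := IsPGroup.of_card (n := 1) (by rw [Nat.card_zpowers, huo, pow_one])
  have hQ : IsPGroup 5 (zpowers x) := IsPGroup.of_card (n := 1) (by rw [Nat.card_zpowers, hxo, pow_one])
  have hnorm : zpowers x ≤ normalizer ((zpowers u : Subgroup G) : Set G) := by
    rw [zpowers_le]
    have hc : x * u = u * x := mem_centralizer_singleton_iff.1 hx2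
    have hC : centralizer ((zpowers u : Subgroup G) : Set G) ≤ normalizer ((zpowers u : Subgroup G) : Set G) :=
      Subgroup.centralizer_le_normalizer _
    apply hC
    rw [mem_centralizer_iff]
    rintro _ ⟨i, rfl⟩
    exact ((Commute.zpow_left (show Commute u x from hc.symm) i)).eq
  have hsup : IsPGroup 5 ((zpowers u ⊔ zpowers x : Subgroup G)) := hP.to_sup_of_normal_left' hQ hnorm
  obtain ⟨k, hk⟩ := IsPGroup.iff_card.1 hsup
  have hd : Nat.card (zpowers u ⊔ zpowers x : Subgroup G) ∣ Nat.card G := Subgroup.card_subgroup_dvd_card _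
  have hk1 : k ≤ 1 := by
    by_contra hlt
    apply h25
    rw [hk] at hd
    exact (Nat.pow_dvd_pow 5 (show 2 ≤ k by omega)).trans hd
  have hle : Nat.card (zpowers u ⊔ zpowers x : Subgroup G) ≤ 5 := by
    rw [hk]
    calc 5 ^ k ≤ 5 ^ 1 := Nat.pow_le_pow_right (by norm_num) hk1
      _ = 5 := by norm_num
  have heq : zpowers x = zpowers u ⊔ zpowers x := by
    apply eq_of_le_of_card_ge le_sup_right
    rw [Nat.card_zpowers, hxo]
    exact hle
  have hum : u ∈ zpowers x := by
    rw [heq]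
    exact mem_sup_left (mem_zpowers u)
  have huOv : u ∈ Od v := by
    have : zpowers x ≤ Od v := by rwa [zpowers_le]
    exact this hum
  have hcv := ((F.mem_Od hv hv1).1 huOv).1
  have hvc : v * u * v⁻¹ = u := conj_eq_of_comm hcv.symm
  rw [hvc] at hvu
  have hu1 : u ≠ 1 := by
    rintro rfl
    rw [orderOf_one] at huo
    omega
  have hodd : Odd (orderOf u) := by rw [huo]; decide
  exact ne_inv_of_odd hodd hu1 hvu

/-- The order `7560` does not occur. -/
theorem a5_false (F : Frame σ τ) (hb : Nat.card (Wn (σ * σ) (σ * τ)) = 1) (ha : Nat.card (Wn (σ * σ) τ) = 5)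
    (hG : Nat.card G = 7560) : False := by
  haveI : Fact (Nat.Prime 5) := ⟨by norm_num⟩
  have ho : Nat.card (Od (σ * σ)) = 5 := by rw [F.card_O, ha, hb]
  have h25 : ¬ 25 ∣ Nat.card G := by rw [hG]; norm_num
  have hW2 : ∀ x ∈ Wn (σ * σ) (σ * τ), x = 1 := by
    intro x hx
    have := (Nat.card_eq_one_iff_unique.1 hb).1
    have h1 := Subsingleton.elim (⟨x, hx⟩ : Wn (σ * σ) (σ * τ)) 1
    exact congrArg Subtype.val h1
  have hOW : ∀ x ∈ Od (σ * σ), x * τ = τ * x := by
    intro x hx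
    obtain ⟨a, ha', b, hb', rfl⟩ := F.split hx
    rw [hW2 b hb', mul_one]
    exact (mem_Wn.1 ha').2
  obtain ⟨u, hu, hu1⟩ : ∃ u ∈ Wn (σ * σ) τ, u ≠ 1 := by
    by_contra hcon
    push Not at hcon
    have h1 : Wn (σ * σ) τ = ⊥ := (Subgroup.eq_bot_iff_forall _).2 hcon
    rw [h1, Subgroup.card_bot] at ha
    omega
  have huo : orderOf u = 5 := by
    have h2 : orderOf (⟨u, hu⟩ : Wn (σ * σ) τ) ∣ Nat.card (Wn (σ * σ) τ) := orderOf_dvd_natCard _
    rw [Subgroup.orderOf_mk, ha] at h2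
    rcases (Nat.dvd_prime (by norm_num : Nat.Prime 5)).1 h2 with h3 | h3
    · exact absurd (orderOf_eq_one_iff.1 h3) hu1
    · exact h3
  have hD1 := D_bot F ho h25 huo F.t2 F.t_frame.τ_ne_one (F.W1_t hu)
  have hD2 := D_bot F ho h25 huo F.zt2 F.zt_frame.τ_ne_one (W1_zt F hu)
  have hcl : ∀ y : G, y * y = 1 ∧ y ≠ 1 ∧ y * u = u * y → y ∈ F.V := by
    rintro y ⟨h1, h2, h3⟩
    obtain ⟨e, he, v, hv, rfl⟩ := class_K F hu hu1 (Od (σ * σ)) le_rfl hD1 hD2 h3 h1 h2
    have h4 : e * v = v * e := by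
      have h5 := F.O_comm_z he
      have h6 := hOW e he
      rcases F.mem_V.1 hv with h7 | h7 | h7 | h7 <;> rw [h7]
      · simp
      · exact h5
      · exact h6
      · exact comm_mul_right h5 h6
    rw [conj_eq_of_comm h4]
    exact hv
  have hO := (mem_Wn.1 hu).1
  have hτu := (mem_Wn.1 hu).2
  have hzu := F.O_comm_z hO
  -- the number of fixed points
  have hfix : Nat.card {y : G // y * y = 1 ∧ y ≠ 1 ∧ y * u = u * y} = 3 := by
    classical
    have hs : ∀ y : G, y ∈ ({σ * σ, τ, σ * σ * τ} : Finset G) ↔ (y * y = 1 ∧ y ≠ 1 ∧ y * u = u * y) := by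
      intro y
      simp only [Finset.mem_insert, Finset.mem_singleton]
      constructor
      · rintro (rfl | hh | rfl)
        · exact ⟨F.zz, F.z_ne_one, hzu.symm⟩
        · rw [hh]; exact ⟨F.τ2, F.τ_ne_one, hτu.symm⟩
        · exact ⟨F.zτ2, F.zτ_frame.τ_ne_one, (comm_mul_right hzu hτu).symm⟩
      · rintro ⟨h1, h2, h3⟩
        rcases F.mem_V.1 (hcl y ⟨h1, h2, h3⟩) with h4 | h4 | h4 | h4
        · exact absurd h4 h2
        · exact Or.inl h4
        · exact Or.inr (Or.inl h4)
        · exact Or.inr (Or.inr h4)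
    rw [Nat.subtype_card _ hs]
    rw [Finset.card_eq_three]
    refine ⟨σ * σ, τ, σ * σ * τ, F.σ_ne_τ, F.zτ_frame.σ_ne_τ, ?_, rfl⟩
    intro h
    apply F.z_ne_one
    have h2 : (1 : G) * τ = σ * σ * τ := by rw [one_mul]; exact h
    exact (mul_right_cancel h2).symm
  have hcount := card_invol_mod huo
  rw [hfix] at hcount
  have hsub := card_invol_sub F
  rw [card_Cz F, ho, hG] at hsub
  have h189 : Nat.card {y : G // y * y = 1 ∧ y ≠ 1} = 189 := by omega
  rw [h189] at hcount
  exact absurd hcount (by decide)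

/-- The element of the model. -/
def αt0 : ↥(alternatingGroup (Fin 6)) := ⟨Cfsg.Agent.S3261.tau0, Equiv.Perm.mem_alternatingGroup.2 (by decide +kernel)⟩

theorem αt0_order : orderOf αt0 = 2 := by
  apply orderOf_eq_prime
  · apply Subtype.ext
    show Cfsg.Agent.S3261.tau0 ^ 2 = 1
    decide +kernel
  · intro h
    have h1 : Cfsg.Agent.S3261.tau0 = 1 := congrArg Subtype.val h
    revert h1
    decide +kernel

theorem αt0_supp : (αt0 : Equiv.Perm (Fin 6)).support.card = 4 := by
  show Cfsg.Agent.S3261.tau0.support.card = 4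
  decide +kernel

/-- The case of trivial `O`. -/
theorem a1b1 (F : Frame σ τ) [IsSimpleGroup G] (hG : ¬ IsCyclic G) (ha : Nat.card (Wn (σ * σ) τ) = 1)
    (hb : Nat.card (Wn (σ * σ) (σ * τ)) = 1) :
    Nonempty (G ≃* ↥(alternatingGroup (Fin 6))) ∨
      (∃ (F : Type) (_ : Field F) (_ : Fintype F), Fintype.card F = 7 ∧ Nonempty (G ≃* Matrix.ProjectiveSpecialLinearGroup (Fin 2) F)) := by
  have ho : Nat.card (Od (σ * σ)) = 1 := by rw [F.card_O, ha, hb]
  have hc : Nat.card (centralizer ({σ * σ} : Set G)) = 8 := by rw [card_Cz F, ho]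
  have hle : (F.S : Subgroup G) ≤ centralizer ({σ * σ} : Set G) := by
    intro x hx
    rw [mem_centralizer_singleton_iff]
    exact F.S_comm_z hx
  have heq : (F.S : Subgroup G) = centralizer ({σ * σ} : Set G) := by
    apply eq_of_le_of_card_ge hle
    rw [hc, F.S_coe, F.card_closure]
  obtain ⟨e1⟩ := F.iso
  obtain ⟨e2⟩ := Cfsg.Agent.S3261.nonempty_cent αt0 αt0_order αt0_supp
  let e : ↥(centralizer ({σ * σ} : Set G)) ≃* ↥(centralizer ({αt0} : Set ↥(alternatingGroup (Fin 6)))) :=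
    ((MulEquiv.subgroupCongr heq).symm.trans e1).trans e2.symm
  have hzo : orderOf (σ * σ) = 2 := orderOf_eq_prime (by rw [pow_two]; exact F.zz) F.z_ne_one
  exact Cfsg.Agent.S3261.result (Wong80Top.no_index_two hG) αt0 αt0_order αt0_supp (σ * σ) hzo F.S F.z_mem
    (fun s hs => F.S_comm_z hs) e

/-- The partner of `W₁`. -/
theorem Wn_partner (F : Frame σ τ) : Wn (σ * σ) (σ * (σ * τ)) = Wn (σ * σ) τ := by
  ext x
  rw [mem_Wn, mem_Wn]
  have e : σ * (σ * τ) = σ * σ * τ := (mul_assoc _ _ _).symm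
  rw [e]
  constructor
  · rintro ⟨h1, h2⟩
    exact ⟨h1, comm_of_comm_mul (F.O_comm_z h1) h2⟩
  · rintro ⟨h1, h2⟩
    exact ⟨h1, comm_mul_right (F.O_comm_z h1) h2⟩

end Cfsg.Agent.Lib.WongFinal
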