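import Mathlib
import Cfsg.Agent.Lib.WongFinal
import Cfsg.Agent.Lib.WongArith
import Cfsg.Agent.Lib.FT3Count
import Cfsg.Agent.Lib.BSWBuild
import Cfsg.Agent.S4481
import Cfsg.Agent.S4482

/-!
# Wong's theorem: the character computation in the case `b = 1 < a`.
-/

set_option autoImplicit false
set_option linter.all false

namespace Cfsg.Agent.Lib.WongChar

open Subgroup Cfsg Cfsg.Agent.Lib Cfsg.Agent.Lib.CharBasic Cfsg.Agent.Lib.CharInd Cfsg.Agent.Lib.WongBase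
  Cfsg.Agent.Lib.WongStrong Cfsg.Agent.Lib.WongFinal Cfsg.Agent.Lib.FT3Count
open scoped ComplexConjugate

universe u

/-- Nontrivial irreducible characters of perfect groups have degree at least two. -/
theorem two_le_deg {G : Type u} [Group G] [Finite G] (hperf : commutator G = ⊤) (χ : IrrCharacter G)
    (h1 : (χ : G → ℂ) ≠ fun _ => 1) : 2 ≤ charDegree (χ : G → ℂ) := by
  have hpos := CharKernel.charDegree_pos χ.2
  by_contra hlt
  have hd : charDegree (χ : G → ℂ) = 1 := by omega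
  have hone := CharKernel.one_eq_charDegree (IsIrrCharacter.isCharacter χ.2)
  rw [hd] at hone
  obtain ⟨f, hf⟩ := exists_hom_of_degree_one (IsIrrCharacter.isCharacter χ.2) (by simpa using hone)
  apply h1
  funext g
  have hg : g ∈ commutator G := by rw [hperf]; exact mem_top g
  have h2 : g ∈ f.ker := Abelianization.commutator_subset_ker f hg
  rw [hf, MonoidHom.mem_ker.1 h2]
  simp

section Count

variable {G : Type u} [Group G] [Fintype G] {σ τ : G}

theorem invol_of_conj (F : Frame σ τ) {p : G} (h : IsConj (σ * σ) p) : p * p = 1 := by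
  obtain ⟨c, rfl⟩ := isConj_iff.1 h
  rw [conj_sq, F.zz]; group

theorem ne_one_of_conj (F : Frame σ τ) {p : G} (h : IsConj (σ * σ) p) : p ≠ 1 := by
  rintro rfl
  obtain ⟨c, hc⟩ := isConj_iff.1 h
  apply F.z_ne_one
  have h6 : c * (σ * σ) = c := by
    calc c * (σ * σ) = c * (σ * σ) * c⁻¹ * c := by group
      _ = c := by rw [hc]; group
  simpa using h6

theorem zσ3_ne (F : Frame σ τ) : σ * σ * σ ≠ 1 := by
  intro h
  have h1 : σ⁻¹ = 1 := by rw [F.zσ_inv, h]
  exact F.σ_ne_one (by simpa using h1)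

open scoped Classical in
/-- The number of factorizations of `σ` as a product of two involutions. -/
theorem count_eq (F : Frame σ τ) : countP (σ * σ) (σ * σ) σ = 4 := by
  have hconj : ∀ {p : G}, p * p = 1 → p ≠ 1 → IsConj (σ * σ) p := fun h2 h1 => F.conj _ _ F.zz F.z_ne_one h2 h1
  have hτσ : τ⁻¹ * σ = σ * σ * (σ * τ) := by
    rw [F.τi, F.τσ_eq, F.zσ_inv]
    group
  have ht : (σ * τ)⁻¹ * σ = τ := by
    have h1 : (σ * τ)⁻¹ = σ * τ := inv_eq_of_mul_eq_one_left F.t2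
    rw [h1, mul_assoc, F.τσ_eq]
    group
  have hzτ : (σ * σ * τ)⁻¹ * σ = σ * τ := by
    have h1 : (σ * σ * τ)⁻¹ = σ * σ * τ := inv_eq_of_mul_eq_one_left F.zτ2
    rw [h1, mul_assoc, F.τσ_eq]
    group
  have hzt : (σ * σ * (σ * τ))⁻¹ * σ = σ * σ * τ := by
    have h1 : (σ * σ * (σ * τ))⁻¹ = σ * σ * (σ * τ) := inv_eq_of_mul_eq_one_left F.zt2
    rw [h1]
    calc σ * σ * (σ * τ) * σ = σ * σ * σ * (τ * σ) := by group
      _ = σ * σ * σ * (σ⁻¹ * τ) := by rw [F.τσ_eq]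
      _ = σ * σ * τ := by group
  have hτ1 := F.τ_ne_one
  have ht1 := F.t_frame.τ_ne_one
  have hzτ1 := F.zτ_frame.τ_ne_one
  have hzt1 := F.zt_frame.τ_ne_one
  have hs : Finset.univ.filter (fun p : G => IsConj (σ * σ) p ∧ IsConj (σ * σ) (p⁻¹ * σ)) =
      ({τ, σ * τ, σ * σ * τ, σ * σ * (σ * τ)} : Finset G) := by
    ext p
    simp only [Finset.mem_filter, Finset.mem_univ, true_and, Finset.mem_insert, Finset.mem_singleton]
    constructor
    · rintro ⟨h1, h2⟩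
      have hp2 := invol_of_conj F h1
      have hv2 := invol_of_conj F h2
      have hpi : p⁻¹ = p := inv_eq_of_mul_eq_one_left hp2
      have hconjσ : p * σ * p⁻¹ = σ⁻¹ := by
        rw [hpi] at hv2 ⊢
        have h3 : (p * σ) * (p * σ) = 1 := hv2
        calc p * σ * p = (p * σ * p * σ) * σ⁻¹ := by group
          _ = σ⁻¹ := by rw [show p * σ * p * σ = (p * σ) * (p * σ) by group, h3]; group
      have hcomm : (p * τ) * σ = σ * (p * τ) := by
        have h3 : (p * τ) * σ * (p * τ)⁻¹ = σ := by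
          have h4 : (p * τ) * σ * (p * τ)⁻¹ = p * (τ * σ * τ⁻¹) * p⁻¹ := by group
          rw [h4, F.rel]
          have h5 : p * σ⁻¹ * p⁻¹ = (p * σ * p⁻¹)⁻¹ := by group
          rw [h5, hconjσ, inv_inv]
        exact comm_of_conj_eq h3
      have hz : p * τ ∈ zpowers σ := F.cent _ hcomm
      have hS : p * τ ∈ (F.S : Subgroup G) := (zpowers_le.2 F.σ_mem) hz
      have hpS : p ∈ (F.S : Subgroup G) := by
        have := mul_mem hS (inv_mem F.τ_mem)
        simpa using this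
      rcases F.S_cases hpS with h3 | h3 | h3 | h3 | h3 | h3 | h3 | h3
      · exact absurd h3 (ne_one_of_conj F h1)
      · exfalso
        rw [h3] at hp2
        exact F.z_ne_one hp2
      · exfalso
        rw [h3] at hconjσ
        have h4 : σ * σ * σ * (σ * σ)⁻¹ = σ := by group
        rw [h4] at hconjσ
        have h5 : σ * σ = 1 := by
          have h6 : σ * σ = σ * σ⁻¹ := by nth_rw 2 [hconjσ]
          rw [h6]; group
        exact F.z_ne_one h5
      · exfalso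
        rw [h3] at hp2
        apply F.z_ne_one
        have h4 : σ * σ = (σ⁻¹ * σ⁻¹)⁻¹ := by rw [mul_inv_rev, inv_inv]
        rw [h4, hp2, inv_one]
      · exact Or.inl h3
      · exact Or.inr (Or.inl h3)
      · exact Or.inr (Or.inr (Or.inl h3))
      · exact Or.inr (Or.inr (Or.inr h3))
    · rintro (rfl | rfl | rfl | rfl)
      · refine ⟨hconj F.τ2 hτ1, ?_⟩
        rw [hτσ]
        exact hconj F.zt2 hzt1
      · refine ⟨hconj F.t2 ht1, ?_⟩
        rw [ht]
        exact hconj F.τ2 hτ1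
      · refine ⟨hconj F.zτ2 hzτ1, ?_⟩
        rw [hzτ]
        exact hconj F.t2 ht1
      · refine ⟨hconj F.zt2 hzt1, ?_⟩
        rw [hzt]
        exact hconj F.zτ2 hzτ1
  unfold countP
  rw [hs]
  have hne : ∀ {a b : G}, a ≠ 1 → a * b ≠ b := by
    intro a b ha h
    apply ha
    exact mul_eq_right.1 h
  rw [Finset.card_insert_of_notMem, Finset.card_insert_of_notMem, Finset.card_insert_of_notMem, Finset.card_singleton]
  · simp only [Finset.mem_singleton]
    intro h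
    -- `σ σ τ = σ σ (σ τ)`
    have h1 : τ = σ * τ := mul_left_cancel h
    exact hne F.σ_ne_one h1.symm
  · simp only [Finset.mem_insert, Finset.mem_singleton]
    rintro (h | h)
    · -- `σ τ = σ σ τ`
      have h1 : σ * τ = σ * (σ * τ) := h.trans (mul_assoc _ _ _)
      exact hne F.σ_ne_one h1.symm
    · -- `σ τ = σ σ (σ τ)`
      exact hne F.z_ne_one h.symm
  · simp only [Finset.mem_insert, Finset.mem_singleton]
    rintro (h | h | h)
    · exact hne F.σ_ne_one h.symm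
    · exact hne F.z_ne_one h.symm
    · have h1 : σ * σ * σ * τ = τ := by rw [show σ * σ * σ * τ = σ * σ * (σ * τ) by group]; exact h.symm
      exact hne (zσ3_ne F) h1

end Count

/-- Characters with four distinguished values at an element with centralizer of order four vanish elsewhere. -/
theorem vanish {G : Type u} [Group G] [Fintype G] [DecidableEq (IrrCharacter G)] (σ : G)
    (hc : Nat.card (centralizer ({σ} : Set G)) = 4)
    (T : Finset (IrrCharacter G)) (hT : T.card = 4) (hv : ∀ χ ∈ T, Complex.normSq ((χ : G → ℂ) σ) = 1)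
    (χ : IrrCharacter G) (hχ : χ ∉ T) : (χ : G → ℂ) σ = 0 := by
  have h := sum_irr_mul_conj σ σ
  rw [if_pos (IsConj.refl σ), hc] at h
  simp only [Complex.mul_conj] at h
  have h' : ∑ χ : IrrCharacter G, Complex.normSq ((χ : G → ℂ) σ) = (4 : ℝ) := by exact_mod_cast h
  have hT' : ∑ χ ∈ T, Complex.normSq ((χ : G → ℂ) σ) = (4 : ℝ) := by
    rw [Finset.sum_congr rfl hv]
    simp [hT]
  have hsub := Finset.sum_sdiff (f := fun χ : IrrCharacter G => Complex.normSq ((χ : G → ℂ) σ)) (Finset.subset_univ T)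
  have hz : ∑ χ ∈ Finset.univ \ T, Complex.normSq ((χ : G → ℂ) σ) = 0 := by linarith
  have := (Finset.sum_eq_zero_iff_of_nonneg (fun i _ => Complex.normSq_nonneg _)).1 hz χ (by simp [hχ])
  exact Complex.normSq_eq_zero.1 this

variable {G : Type u} [Group G] [Finite G] {σ τ : G}

theorem card_Cσ (F : Frame σ τ) : Nat.card (centralizer ({σ} : Set G)) = 4 := by
  have h : centralizer ({σ} : Set G) = zpowers σ := by
    apply le_antisymm
    · intro g hg
      exact F.cent g (mem_centralizer_singleton_iff.1 hg)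
    · rw [zpowers_le, mem_centralizer_singleton_iff]
  rw [h, Nat.card_zpowers, F.σo]

/-- Eight divides the degree minus the sign. -/
theorem eight_dvd (F : Frame σ τ) (χ : IrrCharacter G) (δ : ℤ)
    (hval : ∀ l : ℕ, 0 < l → l < 4 → (χ : G → ℂ) (σ ^ l) = δ) :
    (8 : ℤ) ∣ (charDegree (χ : G → ℂ) : ℤ) - δ := by
  classical
  letI := Fintype.ofFinite G
  letI : Fintype (F.S : Subgroup G) := Fintype.ofFinite _
  obtain ⟨n, hn⟩ := BSW.avg_irr χ (F.S : Subgroup G)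
  have hχc := IsIrrCharacter.isCharacter χ.2
  have hone := CharKernel.one_eq_charDegree hχc
  have hz : (χ : G → ℂ) (σ * σ) = δ := by
    have := hval 2 (by norm_num) (by norm_num)
    rwa [pow_two] at this
  have hS : ∀ u : (F.S : Subgroup G), (χ : G → ℂ) (u : G) = (δ : ℂ) + (if u = 1 then ((charDegree (χ : G → ℂ) : ℂ) - δ) else 0) := by
    intro u
    by_cases hu : u = 1
    · rw [if_pos hu, hu]
      simp [hone]
    · rw [if_neg hu, add_zero]
      have hu1 : (u : G) ≠ 1 := fun h => hu (Subtype.ext h)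
      have hr : ∀ {r : G}, r * r = 1 → r ≠ 1 → (χ : G → ℂ) r = δ := by
        intro r h2 h1
        obtain ⟨c, hc⟩ := isConj_iff.1 (F.conj _ _ F.zz F.z_ne_one h2 h1)
        rw [← hc, isClassFunction_of_isCharacter hχc, hz]
      rcases F.S_cases u.2 with h | h | h | h | h | h | h | h
      · exact absurd h hu1
      · rw [h]
        have := hval 1 (by norm_num) (by norm_num)
        rwa [pow_one] at this
      · rw [h, hz]
      · rw [h]
        have := hval 3 (by norm_num) (by norm_num)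
        rwa [pow_three, ← mul_assoc, ← F.zσ_inv] at this
      · rw [h]; exact hr F.τ2 F.τ_ne_one
      · rw [h]; exact hr F.t2 F.t_frame.τ_ne_one
      · rw [h]; exact hr F.zτ2 F.zτ_frame.τ_ne_one
      · rw [h]; exact hr F.zt2 F.zt_frame.τ_ne_one
  simp only [hS] at hn
  rw [Finset.sum_add_distrib, Finset.sum_const, Finset.sum_ite_eq' Finset.univ (1 : (F.S : Subgroup G)),
    if_pos (Finset.mem_univ _), Finset.card_univ] at hn
  have hcard : Nat.card (F.S : Subgroup G) = 8 := by rw [F.S_coe, F.card_closure]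
  rw [← Nat.card_eq_fintype_card, hcard] at hn
  refine ⟨(n : ℤ) - δ, ?_⟩
  have h : (((charDegree (χ : G → ℂ) : ℤ) - δ : ℤ) : ℂ) = ((8 * ((n : ℤ) - δ) : ℤ) : ℂ) := by
    push_cast
    simp only [nsmul_eq_mul] at hn
    push_cast at hn
    linear_combination hn
  exact_mod_cast h

/-- The main computation. -/
theorem wong_char (F : Frame σ τ) [IsSimpleGroup G] (hG : ¬ IsCyclic G)
    (hb : Nat.card (Wn (σ * σ) (σ * τ)) = 1) (ha : 1 < Nat.card (Wn (σ * σ) τ)) :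
    (Nat.card (Wn (σ * σ) τ) = 3 ∧ Nat.card G = 2520) ∨ (Nat.card (Wn (σ * σ) τ) = 5 ∧ Nat.card G = 7560) := by
  classical
  letI := Fintype.ofFinite G
  have hperf := perfect (G := G) hG
  have Ft := F.t_frame
  set a : ℕ := Nat.card (Wn (σ * σ) τ) with ha_def
  set N : ℕ := Nat.card {y : G // y * y = 1 ∧ y ≠ 1} with hN_def
  have hCz : Nat.card (centralizer ({σ * σ} : Set G)) = 8 * a := by
    rw [card_Cz F, F.card_O, hb, mul_one]
  have hcardG : Nat.card G = N * (8 * a) := by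
    rw [← card_invol_sub F, hCz]
  have hGpos : 0 < Nat.card G := Nat.card_pos
  have hNpos : 0 < N := by
    rcases Nat.eq_zero_or_pos N with h | h
    · rw [h, zero_mul] at hcardG; omega
    · exact h
  have hNa : Odd (N * a) := by
    rw [← Nat.not_even_iff_odd]
    rintro ⟨k, hk⟩
    apply F.two
    rw [hcardG]
    exact ⟨k, by rw [show N * (8 * a) = 8 * (N * a) by ring, hk]; ring⟩
  have hNodd : Odd N := (Nat.odd_mul.1 hNa).1
  have c1 : Nat.card (centralizer ({σ * σ, τ} : Set G)) = 4 * a := F.card_cent2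
  have c2 : Nat.card (centralizer ({σ * σ, σ * τ} : Set G)) = 4 := by
    rw [Ft.card_cent2, hb]
  obtain ⟨M, hM⟩ := BlockVal.exists_isPModular Nat.prime_two
  have hiso : Nonempty ((F.S : Subgroup G) ≃* DihedralGroup (2 ^ (3 - 1))) := F.iso
  have hσo : orderOf σ = 2 ^ (3 - 1) := by rw [F.σo]; norm_num
  have hζ : IsPrimitiveRoot Complex.I (2 ^ (3 - 1)) := by
    have : (2 : ℕ) ^ (3 - 1) = 4 := by norm_num
    rw [this]
    exact Complex.isPrimitiveRoot_I
  obtain ⟨-, χ₁, χ₂, χ₃, χ', δ₁, δ₂, δ₃, hδ₁, hδ₂, hδ₃, -, h1ne, h2ne, h3ne, h12, h13, h23, -, hB, hval, hρ⟩ :=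
    Cfsg.Agent.S4481.result M hM 3 (by norm_num) F.S hiso σ F.σ_mem hσo Complex.I hζ
  have hmem : χ₁ ∈ Cfsg.principalBlock M G := by
    rw [hB]
    exact Or.inr (Or.inl rfl)
  have hzz : σ ^ (2 ^ (3 - 2)) = σ * σ := by norm_num [pow_two]
  have hconj : IsConj (σ ^ (2 ^ (3 - 2))) τ ∧ IsConj (σ ^ (2 ^ (3 - 2))) (σ * τ) := by
    rw [hzz]
    exact ⟨F.conj _ _ F.zz F.z_ne_one F.τ2 F.τ_ne_one, F.conj _ _ F.zz F.z_ne_one F.t2 F.t_frame.τ_ne_one⟩
  have hval' : ∀ l : ℕ, 0 < l → l < 4 → (χ₁ : G → ℂ) (σ ^ l) = δ₁ ∧ (χ₂ : G → ℂ) (σ ^ l) = δ₂ * (-1) ^ (l + 1) ∧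
      (χ₃ : G → ℂ) (σ ^ l) = δ₃ * (-1) ^ (l + 1) := by
    intro l hl1 hl2
    obtain ⟨h1, h2, h3, -⟩ := hval l hl1 (by norm_num; exact hl2)
    exact ⟨h1, h2, h3⟩
  have hform := Cfsg.Agent.S4482.result M hM 3 (by norm_num) F.S σ τ F.σ_mem F.τ_mem hσo F.τo F.rel F.S_coe.symm hconj χ₁ hmem h1ne
    δ₁ hδ₁ (fun l hl1 hl2 => (hval l hl1 hl2).1)
  rw [hzz] at hform
  obtain ⟨hxne, hform⟩ := hform
  set x : ℕ := charDegree (χ₁ : G → ℂ) with hx_def
  set x₂ : ℕ := charDegree (χ₂ : G → ℂ) with hx₂_def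
  set x₃ : ℕ := charDegree (χ₃ : G → ℂ) with hx₃_def
  have hxpos : 0 < x := CharKernel.charDegree_pos χ₁.2
  have hx₂ : 2 ≤ x₂ := two_le_deg hperf χ₂ h2ne
  have hx₃ : 2 ≤ x₃ := two_le_deg hperf χ₃ h3ne
  have h₁1 : (χ₁ : G → ℂ) 1 = x := CharKernel.one_eq_charDegree (IsIrrCharacter.isCharacter χ₁.2)
  have h₂1 : (χ₂ : G → ℂ) 1 = x₂ := CharKernel.one_eq_charDegree (IsIrrCharacter.isCharacter χ₂.2)
  have h₃1 : (χ₃ : G → ℂ) 1 = x₃ := CharKernel.one_eq_charDegree (IsIrrCharacter.isCharacter χ₃.2)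
  have hapos : 0 < a := by omega
  -- the equation at `ρ = 1`
  have h1eq : (1 : ℤ) + δ₁ * x + (δ₂ * x₂) + (δ₃ * x₃) = 0 := by
    obtain ⟨h, -⟩ := hρ 1 (by simp) ⟨0, by norm_num⟩
    rw [h₁1, h₂1, h₃1] at h
    have h' : (((1 : ℤ) + δ₁ * x + (δ₂ * x₂) + (δ₃ * x₃) : ℤ) : ℂ) = ((0 : ℤ) : ℂ) := by
      push_cast
      linear_combination h
    exact_mod_cast h'
  -- the order formula
  have h2eq : (N : ℤ) * ((x : ℤ) - δ₁) ^ 2 = 8 * ((a : ℤ) + 1) ^ 2 * x * ((x : ℤ) + δ₁) := by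
    rw [hCz, c1, c2, hcardG] at hform
    have haq : (a : ℚ) ≠ 0 := by exact_mod_cast hapos.ne'
    push_cast at hform
    have h' : ((N : ℚ)) * ((x : ℚ) - δ₁) ^ 2 = 8 * ((a : ℚ) + 1) ^ 2 * x * ((x : ℚ) + δ₁) := by
      have e : 2 * (x : ℚ) * ((x : ℚ) + δ₁) * (8 * (a : ℚ)) ^ 3 * (1 / (4 * (a : ℚ)) + 1 / 4) ^ 2 =
          (8 * (a : ℚ)) * (8 * ((a : ℚ) + 1) ^ 2 * x * ((x : ℚ) + δ₁)) := by
        field_simp
        ring
      rw [e] at hform
      have h8 : (8 * (a : ℚ)) ≠ 0 := by positivity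
      apply mul_left_cancel₀ h8
      linear_combination hform
    exact_mod_cast h'
  -- the values
  have vz₁ : (χ₁ : G → ℂ) (σ * σ) = δ₁ := by
    have := (hval' 2 (by norm_num) (by norm_num)).1
    rwa [pow_two] at this
  have vz₂ : (χ₂ : G → ℂ) (σ * σ) = -δ₂ := by
    have := (hval' 2 (by norm_num) (by norm_num)).2.1
    rw [pow_two] at this
    rw [this]; ring
  have vz₃ : (χ₃ : G → ℂ) (σ * σ) = -δ₃ := by
    have := (hval' 2 (by norm_num) (by norm_num)).2.2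
    rw [pow_two] at this
    rw [this]; ring
  have vσ₁ : (χ₁ : G → ℂ) σ = δ₁ := by
    have := (hval' 1 (by norm_num) (by norm_num)).1
    rwa [pow_one] at this
  have vσ₂ : (χ₂ : G → ℂ) σ = δ₂ := by
    have := (hval' 1 (by norm_num) (by norm_num)).2.1
    rw [pow_one] at this
    rw [this]; ring
  have vσ₃ : (χ₃ : G → ℂ) σ = δ₃ := by
    have := (hval' 1 (by norm_num) (by norm_num)).2.2
    rw [pow_one] at this
    rw [this]; ring
  have hδ₁2 : (δ₁ : ℂ) * δ₁ = 1 := by rcases hδ₁ with rfl | rfl <;> simp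
  have hδ₂2 : (δ₂ : ℂ) * δ₂ = 1 := by rcases hδ₂ with rfl | rfl <;> simp
  have hδ₃2 : (δ₃ : ℂ) * δ₃ = 1 := by rcases hδ₃ with rfl | rfl <;> simp
  have hinv : ∀ χ : IrrCharacter G, (χ : G → ℂ) σ⁻¹ = (χ : G → ℂ) σ := by
    intro χ
    have h := isClassFunction_of_isCharacter (IsIrrCharacter.isCharacter χ.2) σ τ
    rwa [F.rel] at h
  -- the four characters
  let i₀ : IrrCharacter G := ⟨fun _ => 1, isIrrCharacter_one⟩
  have hi₁ : i₀ ≠ χ₁ := fun h => h1ne (by rw [← h])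
  have hi₂ : i₀ ≠ χ₂ := fun h => h2ne (by rw [← h])
  have hi₃ : i₀ ≠ χ₃ := fun h => h3ne (by rw [← h])
  let T : Finset (IrrCharacter G) := {i₀, χ₁, χ₂, χ₃}
  have hTc : T.card = 4 := by
    rw [Finset.card_insert_of_notMem, Finset.card_insert_of_notMem, Finset.card_insert_of_notMem, Finset.card_singleton]
    · simpa using h23
    · simpa using ⟨h12, h13⟩
    · simpa using ⟨hi₁, hi₂, hi₃⟩
  have hnorm : ∀ d : ℤ, (d : ℂ) * d = 1 → Complex.normSq (d : ℂ) = 1 := by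
    intro d hd
    rw [Complex.normSq_intCast]
    have : ((d : ℝ) * d : ℂ) = 1 := by push_cast; exact hd
    exact_mod_cast this
  have hTv : ∀ χ ∈ T, Complex.normSq ((χ : G → ℂ) σ) = 1 := by
    intro χ hχ
    simp only [T, Finset.mem_insert, Finset.mem_singleton] at hχ
    rcases hχ with rfl | rfl | rfl | rfl
    · simp [i₀]
    · rw [vσ₁]; exact hnorm _ hδ₁2
    · rw [vσ₂]; exact hnorm _ hδ₂2
    · rw [vσ₃]; exact hnorm _ hδ₃2
  have hvan := vanish σ (card_Cσ F) T hTc hTv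
  -- the class formula
  have hcount := count_formula (σ * σ) (σ * σ) σ
  rw [count_eq F, hCz] at hcount
  have hsum : ∑ χ : IrrCharacter G, (χ : G → ℂ) (σ * σ) * (χ : G → ℂ) (σ * σ) * (χ : G → ℂ) σ⁻¹ / (χ : G → ℂ) 1 =
      ∑ χ ∈ T, (χ : G → ℂ) (σ * σ) * (χ : G → ℂ) (σ * σ) * (χ : G → ℂ) σ⁻¹ / (χ : G → ℂ) 1 := by
    symm
    apply Finset.sum_subset (Finset.subset_univ T)
    intro χ _ hχ
    rw [hinv, hvan χ hχ]
    simp
  rw [hsum] at hcount
  simp only [T] at hcount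
  rw [Finset.sum_insert (by simpa using ⟨hi₁, hi₂, hi₃⟩), Finset.sum_insert (by simpa using ⟨h12, h13⟩),
    Finset.sum_insert (by simpa using h23), Finset.sum_singleton] at hcount
  simp only [hinv, h₁1, h₂1, h₃1, vz₁, vz₂, vz₃, vσ₁, vσ₂, vσ₃] at hcount
  have hi₀ : ∀ g : G, (i₀ : G → ℂ) g = 1 := fun g => rfl
  simp only [hi₀] at hcount
  rw [hcardG] at hcount
  have haC : (a : ℂ) ≠ 0 := by exact_mod_cast hapos.ne'
  have hxC : (x : ℂ) ≠ 0 := by exact_mod_cast hxpos.ne'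
  have hx₂C : (x₂ : ℂ) ≠ 0 := by
    have : x₂ ≠ 0 := by omega
    exact_mod_cast this
  have hx₃C : (x₃ : ℂ) ≠ 0 := by
    have : x₃ ≠ 0 := by omega
    exact_mod_cast this
  have h3eq : (N : ℤ) * (x * (δ₂ * x₂) * (δ₃ * x₃) + δ₁ * (δ₂ * x₂) * (δ₃ * x₃) + x * (δ₃ * x₃) + x * (δ₂ * x₂)) =
      32 * a * x * (δ₂ * x₂) * (δ₃ * x₃) := by
    set p : ℂ := (δ₁ : ℂ) / x with hp
    set q : ℂ := (δ₂ : ℂ) / x₂ with hq
    set r : ℂ := (δ₃ : ℂ) / x₃ with hr
    have e1 : p * x = δ₁ := by rw [hp]; field_simp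
    have e2 : q * (δ₂ * x₂) = 1 := by
      rw [hq, ← hδ₂2]; field_simp
    have e3 : r * (δ₃ * x₃) = 1 := by
      rw [hr, ← hδ₃2]; field_simp
    have t1 : (δ₁ : ℂ) * δ₁ * δ₁ / x = p := by rw [hδ₁2, one_mul]
    have t2 : -(δ₂ : ℂ) * -(δ₂ : ℂ) * δ₂ / x₂ = q := by
      rw [neg_mul_neg, hδ₂2, one_mul]
    have t3 : -(δ₃ : ℂ) * -(δ₃ : ℂ) * δ₃ / x₃ = r := by
      rw [neg_mul_neg, hδ₃2, one_mul]
    rw [t1, t2, t3] at hcount
    push_cast at hcount
    have hS : (32 * (a : ℂ)) = N * (1 * 1 * 1 / 1 + (p + (q + r))) := by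
      have h8 : (8 * (a : ℂ)) ≠ 0 := by
        simpa using haC
      apply mul_left_cancel₀ h8
      linear_combination hcount
    have h' : (((N : ℤ) * (x * (δ₂ * x₂) * (δ₃ * x₃) + δ₁ * (δ₂ * x₂) * (δ₃ * x₃) + x * (δ₃ * x₃) + x * (δ₂ * x₂)) : ℤ) : ℂ) =
      ((32 * a * x * (δ₂ * x₂) * (δ₃ * x₃) : ℤ) : ℂ) := by
      push_cast
      rw [hS]
      simp only [mul_one, div_one]
      linear_combination (-(N : ℂ) * ((δ₂ : ℂ) * x₂) * ((δ₃ : ℂ) * x₃)) * e1 -
        ((N : ℂ) * x * ((δ₃ : ℂ) * x₃)) * e2 - ((N : ℂ) * x * ((δ₂ : ℂ) * x₂)) * e3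
    exact_mod_cast h'
  have hA : 2 ≤ |δ₂ * (x₂ : ℤ)| := by
    rw [abs_mul, Nat.abs_cast]
    have : |δ₂| = 1 := by rcases hδ₂ with rfl | rfl <;> simp
    rw [this, one_mul]
    exact_mod_cast hx₂
  have hB' : 2 ≤ |δ₃ * (x₃ : ℤ)| := by
    rw [abs_mul, Nat.abs_cast]
    have : |δ₃| = 1 := by rcases hδ₃ with rfl | rfl <;> simp
    rw [this, one_mul]
    exact_mod_cast hx₃
  have h8 : (8 : ℤ) ∣ (x : ℤ) - δ₁ := eight_dvd F χ₁ δ₁ (fun l hl1 hl2 => (hval' l hl1 hl2).1)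
  have hres := WongArith.wong_arith (a := (a : ℤ)) (N := (N : ℤ)) (x := (x : ℤ)) (δ := δ₁) (A := δ₂ * (x₂ : ℤ)) (B := δ₃ * (x₃ : ℤ))
    hδ₁ (by exact_mod_cast ha) (by exact_mod_cast hNodd) (by exact_mod_cast hNpos) (by exact_mod_cast hxpos) hxne h8 hA hB' h1eq h2eq h3eq
  rcases hres with ⟨h1, h2⟩ | ⟨h1, h2⟩
  · left
    have h1' : a = 3 := by exact_mod_cast h1
    have h2' : N = 105 := by exact_mod_cast h2
    exact ⟨h1', by rw [hcardG, h1', h2']⟩
  · right
    have h1' : a = 5 := by exact_mod_cast h1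
    have h2' : N = 189 := by exact_mod_cast h2
    exact ⟨h1', by rw [hcardG, h1', h2']⟩

end Cfsg.Agent.Lib.WongChar
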