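import Mathlib
import Cfsg.Prelude.Def_LocalStructure
import Cfsg.Agent.Lib.PCore
import Cfsg.Agent.Lib.PResid
import Cfsg.Agent.Lib.LocalTools
import Cfsg.Agent.Lib.PClosed
import Cfsg.Agent.Lib.Glauberman2
import Cfsg.Agent.Lib.CoprimeInv

/-!
# `Y`-minimal groups (`Cfsg.IsMinimalOver`)
-/

set_option autoImplicit false
set_option linter.style.haveILetI false
set_option linter.unusedSectionVars false

open Cfsg
open scoped commutatorElement

namespace Cfsg.Agent.Lib.YMinimal

open Cfsg.Agent.Lib.PCore Cfsg.Agent.Lib.PResid Cfsg.Agent.Lib.LocalTools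
  Cfsg.Agent.Lib.PClosed

/-- The image of a coatom containing the kernel is a coatom. -/
theorem isCoatom_map_of_ker_le {G H : Type*} [Group G] [Group H] {f : G →* H}
    (hf : Function.Surjective f) {M : Subgroup G} (hker : f.ker ≤ M) (hM : IsCoatom M) :
    IsCoatom (M.map f) := by
  constructor
  · intro h
    apply hM.1
    rw [← Subgroup.comap_map_eq_self hker, h, Subgroup.comap_top]
  · intro X hX
    have h1 : M < X.comap f := by
      rw [← Subgroup.comap_map_eq_self hker]
      exact (Subgroup.comap_lt_comap_of_surjective hf).mpr hX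
    have h2 := hM.2 _ h1
    apply Subgroup.comap_injective hf
    rw [h2, Subgroup.comap_top]

section general

variable {L : Type*} [Group L] [Finite L] {L₀ Y : Subgroup L}

omit [Finite L] in
/-- The coatom is unique. -/
theorem coatom_eq (hL₀ : IsCoatom L₀) (hYL₀ : Y ≤ L₀) (hmin : IsMinimalOver Y) {C : Subgroup L}
    (hC : IsCoatom C) (hYC : Y ≤ C) : C = L₀ := by
  obtain ⟨M, _, huniq⟩ := hmin.2
  rw [huniq C ⟨hC, hYC⟩, huniq L₀ ⟨hL₀, hYL₀⟩]

/-- A proper subgroup containing `Y` lies in `L₀`. -/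
theorem le_of_ne_top (hL₀ : IsCoatom L₀) (hYL₀ : Y ≤ L₀) (hmin : IsMinimalOver Y)
    {X : Subgroup L} (hYX : Y ≤ X) (hX : X ≠ ⊤) : X ≤ L₀ := by
  obtain h | ⟨C, hC, hXC⟩ := eq_top_or_exists_le_coatom X
  · exact absurd h hX
  · rw [← coatom_eq hL₀ hYL₀ hmin hC (hYX.trans hXC)]
    exact hXC

omit [Finite L] in
/-- `L₀` is not normal. -/
theorem not_normal (hL₀ : IsCoatom L₀) (hYL₀ : Y ≤ L₀) (hmin : IsMinimalOver Y) : ¬ L₀.Normal := by
  intro hn
  have : Subgroup.normalClosure (Y : Set L) ≤ L₀ := Subgroup.normalClosure_le_normal hYL₀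
  rw [hmin.1] at this
  exact hL₀.1 (top_le_iff.mp this)

omit [Finite L] in
/-- `N_L(L₀) = L₀`. -/
theorem normalizer_eq (hL₀ : IsCoatom L₀) (hYL₀ : Y ≤ L₀) (hmin : IsMinimalOver Y) :
    Subgroup.normalizer (L₀ : Set L) = L₀ := by
  by_contra hne
  have hlt : L₀ < Subgroup.normalizer (L₀ : Set L) :=
    lt_of_le_of_ne Subgroup.le_normalizer (Ne.symm hne)
  have htop := hL₀.2 _ hlt
  exact not_normal hL₀ hYL₀ hmin (Subgroup.normalizer_eq_top_iff.mp htop)

/-- A conjugate of `Y` inside `L₀` is conjugate by an element of `L₀`. -/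
theorem mem_of_conj_le (hL₀ : IsCoatom L₀) (hYL₀ : Y ≤ L₀) (hmin : IsMinimalOver Y) {g : L}
    (h : Y.map (MulAut.conj g).toMonoidHom ≤ L₀) : g ∈ L₀ := by
  have hc : IsCoatom (L₀.comap (MulAut.conj g).toMonoidHom) :=
    Subgroup.isCoatom_comap_of_surjective (MulAut.conj g).surjective hL₀
  have hYc : Y ≤ L₀.comap (MulAut.conj g).toMonoidHom := by
    intro y hy
    exact h ⟨y, hy, rfl⟩
  have h1 := coatom_eq hL₀ hYL₀ hmin hc hYc
  have h2 : g ∈ Subgroup.normalizer (L₀ : Set L) := by
    rw [Subgroup.mem_normalizer_iff]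
    intro x
    constructor
    · intro hx
      have h3 : x ∈ L₀.comap (MulAut.conj g).toMonoidHom := by rwa [h1]
      exact h3
    · intro hx
      have h3 : x ∈ L₀.comap (MulAut.conj g).toMonoidHom := hx
      rwa [h1] at h3
  rwa [normalizer_eq hL₀ hYL₀ hmin] at h2

/-- `L = ⟨Y, Y^g⟩` for `g ∉ L₀`. -/
theorem sup_conj_eq_top (hL₀ : IsCoatom L₀) (hYL₀ : Y ≤ L₀) (hmin : IsMinimalOver Y) {g : L}
    (hg : g ∉ L₀) : Y ⊔ Y.map (MulAut.conj g).toMonoidHom = ⊤ := by
  by_contra h
  have h1 := le_of_ne_top hL₀ hYL₀ hmin le_sup_left h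
  exact hg (mem_of_conj_le hL₀ hYL₀ hmin (le_sup_right.trans h1))

/-- For abelian `Y`, `Y ∩ Y^g = C_Y(L)`, if `g ∉ L₀`. -/
theorem inf_conj_eq (hL₀ : IsCoatom L₀) (hYL₀ : Y ≤ L₀) (hmin : IsMinimalOver Y)
    (hab : ∀ a ∈ Y, ∀ b ∈ Y, a * b = b * a) {g : L} (hg : g ∉ L₀) :
    Y ⊓ Y.map (MulAut.conj g).toMonoidHom = Y ⊓ Subgroup.center L := by
  apply le_antisymm
  · intro y hy
    refine ⟨hy.1, ?_⟩
    show y ∈ Subgroup.center L
    rw [Subgroup.mem_center_iff]
    have hall : (⊤ : Subgroup L) ≤ Subgroup.centralizer ({y} : Set L) := by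
      rw [← sup_conj_eq_top hL₀ hYL₀ hmin hg, sup_le_iff]
      constructor
      · intro a ha
        rw [Subgroup.mem_centralizer_singleton_iff]
        exact hab a ha y hy.1
      · rintro _ ⟨a, ha, rfl⟩
        obtain ⟨b, hb, hby⟩ := hy.2
        rw [Subgroup.mem_centralizer_singleton_iff, ← hby]
        simp only [MulEquiv.coe_toMonoidHom, MulAut.conj_apply]
        have := hab a ha b hb
        calc g * a * g⁻¹ * (g * b * g⁻¹) = g * (a * b) * g⁻¹ := by group
          _ = g * (b * a) * g⁻¹ := by rw [this]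
          _ = g * b * g⁻¹ * (g * a * g⁻¹) := by group
    intro z
    exact Subgroup.mem_centralizer_singleton_iff.mp (hall (Subgroup.mem_top z))
  · rintro y ⟨hy, hyz⟩
    refine ⟨hy, y, hy, ?_⟩
    have hyz : y ∈ Subgroup.center L := hyz
    rw [Subgroup.mem_center_iff] at hyz
    simp only [MulEquiv.coe_toMonoidHom, MulAut.conj_apply]
    rw [hyz g]
    group

/-- The normalizer of a subgroup between `Y` and `L₀`. -/
theorem normalizer_le (hL₀ : IsCoatom L₀) (hYL₀ : Y ≤ L₀) (hmin : IsMinimalOver Y)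
    {T : Subgroup L} (hYT : Y ≤ T) (hTL₀ : T ≤ L₀) :
    Subgroup.normalizer (T : Set L) ≤ L₀ := by
  apply le_of_ne_top hL₀ hYL₀ hmin (hYT.trans Subgroup.le_normalizer)
  intro h
  have hT : T.Normal := Subgroup.normalizer_eq_top_iff.mp h
  have h2 : Subgroup.normalClosure (Y : Set L) ≤ T := Subgroup.normalClosure_le_normal hYT
  rw [hmin.1] at h2
  exact hL₀.1 (top_le_iff.mp (h2.trans hTL₀))

/-- A Sylow subgroup of `L₀` containing `Y` is a Sylow subgroup of `L`. -/
theorem exists_sylow_eq {p : ℕ} [Fact p.Prime] (hL₀ : IsCoatom L₀) (T : Sylow p L₀)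
    (hYT : Y ≤ (T : Subgroup L₀).map L₀.subtype) (hmin : IsMinimalOver Y) :
    ∃ P : Sylow p L, (P : Subgroup L) = (T : Subgroup L₀).map L₀.subtype := by
  set T' := (T : Subgroup L₀).map L₀.subtype with hT'
  have hT'L₀ : T' ≤ L₀ := Subgroup.map_subtype_le _
  have hYL₀ : Y ≤ L₀ := hYT.trans hT'L₀
  have hT'p : IsPGroup p T' := T.isPGroup'.map _
  obtain ⟨P, hP⟩ := hT'p.exists_le_sylow
  refine ⟨P, ?_⟩
  by_contra hne
  have hlt : T' < (P : Subgroup L) := lt_of_le_of_ne hP (Ne.symm hne)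
  have h2 := lt_inf_normalizer P.isPGroup' hlt
  -- `P ⊓ N(T') ≤ L₀` is a `p`-subgroup above `T'`.
  have h3 : (P : Subgroup L) ⊓ Subgroup.normalizer (T' : Set L) ≤ L₀ :=
    inf_le_right.trans (normalizer_le hL₀ hYL₀ hmin hYT hT'L₀)
  have h4 : IsPGroup p (((P : Subgroup L) ⊓ Subgroup.normalizer (T' : Set L)).subgroupOf L₀) :=
    (P.isPGroup'.to_le inf_le_left).comap_of_injective _ (Subgroup.subtype_injective _)
  have h5 : (T : Subgroup L₀) ≤ ((P : Subgroup L) ⊓ Subgroup.normalizer (T' : Set L)).subgroupOf L₀ := by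
    intro x hx
    exact h2.le ⟨x, hx, rfl⟩
  have h6 := T.is_maximal' h4 h5
  obtain ⟨y, hy, hyn⟩ := SetLike.exists_of_lt h2
  apply hyn
  have hyL₀ := h3 hy
  have hy2 : (⟨y, hyL₀⟩ : L₀) ∈ (T : Subgroup L₀) := by
    rw [← h6]
    exact hy
  exact ⟨_, hy2, rfl⟩

end general

section overT

variable {K : Type*} [Group K] [Finite K] {p : ℕ} [hp : Fact p.Prime] {T M : Subgroup K}

/-- Frattini argument: a `T`-invariant Sylow subgroup of a normal subgroup `N ≤ M` is normal. -/
theorem normal_of_normalizes (hM : M ≠ ⊤) (hprop : ∀ X : Subgroup K, T ≤ X → X ≠ ⊤ → X ≤ M)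
    {N : Subgroup K} [N.Normal] (hNM : N ≤ M) {r : ℕ} [Fact r.Prime] (R : Sylow r N)
    (hR : T ≤ Subgroup.normalizer (((R : Subgroup N).map N.subtype : Subgroup K) : Set K)) :
    ((R : Subgroup N).map N.subtype).Normal := by
  rw [← Subgroup.normalizer_eq_top_iff]
  by_contra hne
  have h1 := hprop _ hR hne
  have h2 : Subgroup.normalizer (((R : Subgroup N).map N.subtype : Subgroup K) : Set K) ⊔ N = ⊤ :=
    Sylow.normalizer_sup_eq_top R
  apply hM
  rw [eq_top_iff, ← h2]
  exact sup_le h1 hNM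

/-- A normal subgroup `N ≤ M` of order prime to `p` is nilpotent. -/
theorem isNilpotent_of_coprime (hT : IsPGroup p T) (hM : M ≠ ⊤)
    (hprop : ∀ X : Subgroup K, T ≤ X → X ≠ ⊤ → X ≤ M)
    {N : Subgroup K} [hN : N.Normal] (hNM : N ≤ M) (hc : (Nat.card N).Coprime p) :
    Group.IsNilpotent N := by
  have q := (Group.isNilpotent_of_finite_tfae (G := N)).out 0 3
  rw [q]
  intro r hr P
  have hcop : (Nat.card T).Coprime (Nat.card N) := by
    obtain ⟨n, hn⟩ := IsPGroup.iff_card.mp hT
    rw [hn]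
    exact (Nat.Coprime.pow_left n hc.symm)
  have hsol : Group.IsSolvable T ∨ Group.IsSolvable N := by
    left
    have : Group.IsNilpotent T := hT.isNilpotent
    infer_instance
  have hTN : T ≤ Subgroup.normalizer (N : Set K) := by
    rw [Subgroup.normalizer_eq_top_iff.mpr hN]; exact le_top
  obtain ⟨R, hR⟩ := Cfsg.Agent.Lib.Glauberman2.exists_invariant_sylow hTN hcop hsol r
  have hRn := normal_of_normalizes hM hprop hNM R hR
  have hRn' : (R : Subgroup N).Normal := by
    have := Subgroup.Normal.comap hRn N.subtype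
    rwa [Subgroup.comap_map_eq_self_of_injective (Subgroup.subtype_injective N)] at this
  haveI := Sylow.unique_of_normal R hRn'
  rw [Subsingleton.elim P R]
  exact hRn'

/-- A `p`-subgroup is conjugate into any subgroup of index prime to `p`. -/
theorem exists_conj_le_of_not_dvd_index {R M : Subgroup K} (hR : IsPGroup p R)
    (h : ¬ p ∣ M.index) : ∃ g : K, R.map (MulAut.conj g).toMonoidHom ≤ M := by
  have hcard : ¬ p ∣ Nat.card (K ⧸ M) := h
  obtain ⟨x, hx⟩ := hR.nonempty_fixed_point_of_prime_not_dvd_card (K ⧸ M) hcard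
  obtain ⟨g, rfl⟩ := QuotientGroup.mk_surjective x
  refine ⟨g⁻¹, ?_⟩
  rintro _ ⟨r, hr, rfl⟩
  have h1 := hx ⟨r⁻¹, R.inv_mem hr⟩
  have h2 : ((r⁻¹ * g : K) : K ⧸ M) = (g : K ⧸ M) := h1
  rw [QuotientGroup.eq] at h2
  have e : (r⁻¹ * g)⁻¹ * g = g⁻¹ * r * g := by group
  rw [e] at h2
  simpa using h2

/-- If `K = M D`, with `D` normal, and `M` contains a Sylow subgroup of `D`, then `|K : M|` is prime
to `p`. -/
theorem not_dvd_index_of_sup_eq_top {D M : Subgroup K} [hD : D.Normal] (hsup : M ⊔ D = ⊤)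
    (S : Sylow p D) (hS : (S : Subgroup D).map D.subtype ≤ M) : ¬ p ∣ M.index := by
  have h1 := Cfsg.Agent.Lib.CoprimeInv.card_sup_mul_card_inf (H := M) (N := D) (by
    rw [Subgroup.normalizer_eq_top_iff.mpr hD]; exact le_top)
  rw [hsup, Subgroup.card_top] at h1
  have h2 : Nat.card (M ⊓ D : Subgroup K) * 1 = Nat.card (M ⊓ D : Subgroup K) := mul_one _
  have hS' : (S : Subgroup D).map D.subtype ≤ M ⊓ D := le_inf hS (Subgroup.map_subtype_le _)
  obtain ⟨k, hk⟩ := Subgroup.card_dvd_of_le hS'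
  have hcardS : Nat.card ((S : Subgroup D).map D.subtype) = Nat.card (S : Subgroup D) :=
    Nat.card_congr (Subgroup.equivMapOfInjective _ _ (Subgroup.subtype_injective D)).symm.toEquiv
  rw [hcardS] at hk
  have h3 : Nat.card D = Nat.card (S : Subgroup D) * (S : Subgroup D).index :=
    (Subgroup.card_mul_index _).symm
  have h4 : Nat.card K = Nat.card M * M.index := (Subgroup.card_mul_index _).symm
  rw [h4, hk, h3] at h1
  have hMpos : 0 < Nat.card M := Nat.card_pos
  have hSpos : 0 < Nat.card (S : Subgroup D) := Nat.card_pos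
  have h5 : M.index * k = (S : Subgroup D).index := by
    have h6 : Nat.card M * Nat.card (S : Subgroup D) * (M.index * k) =
        Nat.card M * Nat.card (S : Subgroup D) * (S : Subgroup D).index := by
      calc _ = Nat.card M * M.index * (Nat.card (S : Subgroup D) * k) := by ring
        _ = Nat.card M * (Nat.card (S : Subgroup D) * (S : Subgroup D).index) := h1
        _ = _ := by ring
    exact Nat.eq_of_mul_eq_mul_left (Nat.mul_pos hMpos hSpos) h6
  intro hdvd
  exact S.not_dvd_index (h5 ▸ Dvd.dvd.mul_right hdvd k)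

/-- `N ≤ M` normal is `p`-closed. -/
theorem isPClosed_of_normal_le (P : Sylow p K) (hM : M ≠ ⊤)
    (hprop : ∀ X : Subgroup K, (P : Subgroup K) ≤ X → X ≠ ⊤ → X ≤ M)
    {N : Subgroup K} [hN : N.Normal] (hNM : N ≤ M) : IsPClosed p N := by
  obtain ⟨S, hS⟩ := exists_sylow_inf_of_normal P N
  have hPS : (P : Subgroup K) ≤ Subgroup.normalizer (((S : Subgroup N).map N.subtype : Subgroup K) : Set K) := by
    rw [hS]
    intro x hx
    rw [Subgroup.mem_normalizer_iff]
    intro y
    constructor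
    · rintro ⟨h1, h2⟩
      exact ⟨P.mul_mem (P.mul_mem hx h1) (P.inv_mem hx), hN.conj_mem y h2 x⟩
    · rintro ⟨h1, h2⟩
      constructor
      · have := P.mul_mem (P.mul_mem (P.inv_mem hx) h1) hx
        have e : x⁻¹ * (x * y * x⁻¹) * x = y := by group
        rwa [e] at this
      · have := hN.conj_mem _ h2 x⁻¹
        have e : x⁻¹ * (x * y * x⁻¹) * x⁻¹⁻¹ = y := by group
        rwa [e] at this
  have hSn := normal_of_normalizes hM hprop hNM S hPS
  have h1 : (S : Subgroup N).map N.subtype ≤ pCore p K := le_pCore hSn (S.isPGroup'.map _)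
  rw [isPClosed_iff_exists]
  refine ⟨S, fun x hx => ?_⟩
  have h2 : (x : K) ∈ pCore p K := h1 ⟨x, hx, rfl⟩
  exact subgroupOf_le_pCore inferInstance (isPGroup_pCore p) h2

omit hp in
/-- `G / O_p(G)` has order prime to `p` for `p`-closed `G`. -/
theorem coprime_card_quot [Fact p.Prime] {G : Type*} [Group G] [Finite G] (h : IsPClosed p G) :
    (Nat.card (G ⧸ pCore p G)).Coprime p := by
  have hp' : p.Prime := Fact.out
  obtain ⟨P, hP⟩ := isPClosed_iff_exists.mp h
  have hPe : (P : Subgroup G) = pCore p G := le_antisymm hP (pCore_le_sylow p P)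
  have h2 := P.not_dvd_index
  rw [hPe, Subgroup.index] at h2
  exact ((Nat.Prime.coprime_iff_not_dvd hp').mpr h2).symm

/-- The quotient `N / O_p(N)` is nilpotent. -/
theorem isNilpotent_quot (P : Sylow p K) (hM : M ≠ ⊤)
    (hprop : ∀ X : Subgroup K, (P : Subgroup K) ≤ X → X ≠ ⊤ → X ≤ M)
    {N : Subgroup K} [hN : N.Normal] (hNM : N ≤ M) : Group.IsNilpotent (N ⧸ pCore p N) := by
  have hclosed := isPClosed_of_normal_le P hM hprop hNM
  have hc := coprime_card_quot hclosed
  set S' : Subgroup K := (pCore p N).map N.subtype with hS'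
  haveI hS'n : S'.Normal := normal_map_of_characteristic hN (pCore_characteristic p)
  have hS'N : S' ≤ N := Subgroup.map_subtype_le _
  set π : K →* K ⧸ S' := QuotientGroup.mk' S' with hπ
  have hsurj : Function.Surjective π := QuotientGroup.mk'_surjective S'
  set f : N →* K ⧸ S' := π.comp N.subtype with hf
  have hker : f.ker = pCore p N := by
    ext x
    rw [MonoidHom.mem_ker]
    have h1 : f x = ((x : K) : K ⧸ S') := rfl
    rw [h1, QuotientGroup.eq_one_iff]
    constructor
    · rintro ⟨y, hy, hyx⟩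
      have : y = x := Subtype.ext hyx
      rwa [← this]
    · intro hx
      exact ⟨x, hx, rfl⟩
  have hrange : f.range = N.map π := by
    rw [hf, MonoidHom.range_comp, Subgroup.range_subtype]
  haveI hrn : f.range.Normal := by rw [hrange]; exact hN.map π hsurj
  have e1 : N ⧸ pCore p N ≃* f.range :=
    (QuotientGroup.quotientMulEquivOfEq hker.symm).trans (QuotientGroup.quotientKerEquivRange f)
  have hcard : Nat.card f.range = Nat.card (N ⧸ pCore p N) := Nat.card_congr e1.symm.toEquiv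
  have hS'M : S' ≤ M := hS'N.trans hNM
  have hkerπ : π.ker = S' := QuotientGroup.ker_mk' S'
  have hnil : Group.IsNilpotent f.range := by
    apply isNilpotent_of_coprime (p := p) (T := (P : Subgroup K).map π) (M := M.map π)
    · exact P.isPGroup'.map π
    · intro h
      apply hM
      rw [eq_top_iff]
      intro x _
      have hx : π x ∈ M.map π := by rw [h]; trivial
      obtain ⟨y, hy, hyx⟩ := hx
      have h3 : y⁻¹ * x ∈ S' := by
        apply (QuotientGroup.eq_one_iff _).mp
        show π (y⁻¹ * x) = 1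
        rw [map_mul, map_inv, hyx, inv_mul_cancel]
      have : x = y * (y⁻¹ * x) := by group
      rw [this]
      exact M.mul_mem hy (hS'M h3)
    · intro X hX hXt
      have h3 := hprop (X.comap π) (Subgroup.map_le_iff_le_comap.mp hX) (by
        intro h
        apply hXt
        rw [eq_top_iff]
        intro y _
        obtain ⟨x, rfl⟩ := hsurj y
        have : x ∈ X.comap π := by rw [h]; trivial
        exact this)
      intro y hy
      obtain ⟨x, rfl⟩ := hsurj y
      exact ⟨x, h3 hy, rfl⟩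
    · rw [hrange]
      exact Subgroup.map_mono hNM
    · rw [hcard]
      exact hc
  exact Group.nilpotent_of_mulEquiv e1.symm

end overT

end Cfsg.Agent.Lib.YMinimal
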