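/-
Using `F*`: overgroups of the preimage of `F*(M†/C(Y_M))`.
-/
import Mathlib
import Cfsg.Agent.Lib.YTheory2
import Cfsg.Agent.Lib.LocalCore

set_option autoImplicit false
set_option linter.unusedSectionVars false
set_option linter.unusedVariables false
set_option linter.style.haveILetI false

namespace Cfsg.Agent.Lib.YTheory3

open Cfsg Cfsg.Agent.Lib.LocalLarge Cfsg.Agent.Lib.CharTwoLocal Cfsg.Agent.Lib.YTheory
open Cfsg.Agent.Lib.YTheory2
open Cfsg.Agent.Lib.CoprimeInv (IsSylowIn)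
open scoped commutatorElement

variable {G : Type*} [Group G] [Finite G] {p : ℕ} [hp : Fact p.Prime]

/-- A `p`-subgroup normalized by `F*(X)` is trivial when `O_p(X) = 1`. -/
theorem eq_bot_of_normalized_by_fstar {X : Type*} [Group X] [Finite X] (hO : pCore p X = ⊥)
    {W : Subgroup X} (hW : IsPGroup p W)
    (hWF : generalizedFittingSubgroup X ≤ Subgroup.normalizer (W : Set X)) : W = ⊥ := by
  set F := generalizedFittingSubgroup X with hF
  haveI hFn : F.Normal := Cfsg.Agent.Lib.LocalCore.generalizedFitting_normal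
  have h1 : Oc p F ≤ pCore p X := by
    apply Cfsg.Agent.Lib.PCore.le_pCore
    · constructor
      intro n hn g
      refine conj_mem_Oc_of_normalizer ?_ hn
      rw [Subgroup.normalizer_eq_top_iff.mpr hFn]
      trivial
    · exact isPGroup_Oc p F
  have h2 : Oc p F = ⊥ := by rw [← hO]; exact le_antisymm h1 (by rw [hO]; exact bot_le) 
  have h3 : W ⊓ F = ⊥ := by
    rw [eq_bot_iff, ← h2]
    refine le_Oc inf_le_right (hW.to_le inf_le_left) ?_
    intro l hl a ha
    exact ⟨(Subgroup.mem_normalizer_iff.mp (hWF hl) a).mp ha.1, hFn.conj_mem a ha.2 l⟩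
  have h4 : W ≤ Subgroup.centralizer (F : Set X) := by
    intro w hw
    rw [Subgroup.mem_centralizer_iff]
    intro f hf
    have h5 : f * w * f⁻¹ * w⁻¹ ∈ W ⊓ F := by
      constructor
      · exact W.mul_mem ((Subgroup.mem_normalizer_iff.mp (hWF hf) w).mp hw) (W.inv_mem hw)
      · have : f * w * f⁻¹ * w⁻¹ = f * (w * f⁻¹ * w⁻¹) := by group
        rw [this]
        exact F.mul_mem hf (hFn.conj_mem _ (F.inv_mem hf) w)
    rw [h3, Subgroup.mem_bot] at h5
    calc f * w = (f * w * f⁻¹ * w⁻¹) * (w * f) := by group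
      _ = w * f := by rw [h5, one_mul]
  have h5 : W ≤ F := h4.trans Cfsg.Agent.Lib.LocalCore.centralizer_generalizedFitting_le
  rw [eq_bot_iff, ← h3]
  exact le_inf le_rfl h5

/-- `O_p(A / C_A(B)) = 1` for `B` a `p`-reduced normal subgroup of `A`. -/
theorem IsPRed.pCore_quot_eq_bot {A B : Subgroup G} (h : IsPRed p A B)
    [hn : ((Subgroup.centralizer ((B : Subgroup G) : Set G)).subgroupOf A).Normal] :
    pCore p (↥A ⧸ (Subgroup.centralizer ((B : Subgroup G) : Set G)).subgroupOf A) = ⊥ := by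
  set C := Subgroup.centralizer ((B : Subgroup G) : Set G) with hC
  set π := QuotientGroup.mk' (C.subgroupOf A) with hπ
  set P := pCore p (↥A ⧸ C.subgroupOf A) with hP
  have hPn : P.Normal := Cfsg.Agent.Lib.PCore.pCore_normal p
  have hPp : IsPGroup p P := Cfsg.Agent.Lib.PCore.isPGroup_pCore p
  set D : Subgroup G := (P.comap π).map A.subtype with hD
  have hD1 : D ≤ A := Subgroup.map_subtype_le _
  have hD2 : A ≤ Subgroup.normalizer (D : Set G) := by
    have hn2 : (P.comap π).Normal := hPn.comap π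
    intro a ha
    rw [Subgroup.mem_normalizer_iff]
    intro x
    constructor
    · rintro ⟨y, hy, rfl⟩
      exact ⟨⟨a, ha⟩ * y * (⟨a, ha⟩ : A)⁻¹, hn2.conj_mem y hy _, rfl⟩
    · rintro ⟨y, hy, he⟩
      have hxA : x ∈ A := by
        have h1 : a * x * a⁻¹ ∈ A := by rw [← he]; exact y.2
        have h2 : x = a⁻¹ * (a * x * a⁻¹) * a := by group
        rw [h2]
        exact A.mul_mem (A.mul_mem (A.inv_mem ha) h1) ha
      refine ⟨⟨x, hxA⟩, ?_, rfl⟩
      have h3 : (⟨a, ha⟩ : A)⁻¹ * y * ⟨a, ha⟩ = ⟨x, hxA⟩ := by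
        apply Subtype.ext
        show a⁻¹ * (y : G) * a = x
        have he' : (y : G) = a * x * a⁻¹ := he
        rw [he']
        group
      rw [← h3]
      have := hn2.conj_mem y hy (⟨a, ha⟩ : A)⁻¹
      simpa using this
  have hD3 : ∀ d ∈ D, ∃ k : ℕ, d ^ p ^ k ∈ C := by
    rintro _ ⟨y, hy, rfl⟩
    obtain ⟨k, hk⟩ := hPp ⟨π y, hy⟩
    refine ⟨k, ?_⟩
    have h1 : π (y ^ p ^ k) = 1 := by
      rw [map_pow]
      simpa using congrArg Subtype.val hk
    have h2 : y ^ p ^ k ∈ C.subgroupOf A := (QuotientGroup.eq_one_iff _).mp h1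
    have h3 : ((y ^ p ^ k : A) : G) ∈ C := Subgroup.mem_subgroupOf.mp h2
    simpa using h3
  have hDC : D ≤ C := h.red D hD1 hD2 hD3
  rw [eq_bot_iff]
  intro x hx
  obtain ⟨y, rfl⟩ := QuotientGroup.mk'_surjective (C.subgroupOf A) x
  have hy : (y : G) ∈ D := ⟨y, hx, rfl⟩
  have : y ∈ C.subgroupOf A := Subgroup.mem_subgroupOf.mpr (hDC hy)
  rw [Subgroup.mem_bot]
  exact (QuotientGroup.eq_one_iff _).mpr this

variable {S : Sylow p G} {M : Subgroup G}

/-- Subgroups of `M†` normalized by (the preimage of) `F*` which are `p`-groups modulo `C` lie in `C`. -/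
theorem le_C_of_normalized (h : FD p S M) [hn : ((CY p M).subgroupOf (MD p M)).Normal]
    {D : Subgroup G} (hDM : D ≤ MD p M)
    (hDF : ∀ f : MD p M, (QuotientGroup.mk' ((CY p M).subgroupOf (MD p M))) f ∈
      generalizedFittingSubgroup (↥(MD p M) ⧸ (CY p M).subgroupOf (MD p M)) →
      (f : G) ∈ Subgroup.normalizer (D : Set G))
    (hpw : ∀ d ∈ D, ∃ k : ℕ, d ^ p ^ k ∈ CY p M) : D ≤ CY p M := by
  have hred : IsPRed p (MD p M) (YM p M) := by
    have := isPRed_largest (p := p) (MD p M)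
    rw [← h.hM.2.2.2.1] at this
    exact this
  have hO := IsPRed.pCore_quot_eq_bot hred
  set π := QuotientGroup.mk' ((CY p M).subgroupOf (MD p M)) with hπ
  set W : Subgroup (↥(MD p M) ⧸ (CY p M).subgroupOf (MD p M)) := (D.subgroupOf (MD p M)).map π with hW
  have hWp : IsPGroup p W := by
    rintro ⟨_, x, hx, rfl⟩
    obtain ⟨k, hk⟩ := hpw x (Subgroup.mem_subgroupOf.mp hx)
    refine ⟨k, ?_⟩
    apply Subtype.ext
    simp only [Subgroup.coe_pow, MonoidHom.coe_coe, Subgroup.coe_one]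
    rw [← map_pow]
    refine (QuotientGroup.eq_one_iff _).mpr ?_
    rw [Subgroup.mem_subgroupOf]
    simpa using hk
  have hWF : generalizedFittingSubgroup (↥(MD p M) ⧸ (CY p M).subgroupOf (MD p M)) ≤
      Subgroup.normalizer (W : Set _) := by
    intro x hx
    obtain ⟨f, rfl⟩ := QuotientGroup.mk'_surjective _ x
    have hf := hDF f hx
    apply cj_le_self_iff.mp
    rintro _ ⟨_, ⟨y, hy, rfl⟩, rfl⟩
    refine ⟨f * y * f⁻¹, ?_, ?_⟩
    · have hy' : (y : G) ∈ D := Subgroup.mem_subgroupOf.mp hy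
      rw [SetLike.mem_coe, Subgroup.mem_subgroupOf]
      exact (Subgroup.mem_normalizer_iff.mp hf _).mp hy'
    · simp [hπ]
  have hW1 := eq_bot_of_normalized_by_fstar hO hWp hWF
  intro d hd
  have h1 : π ⟨d, hDM hd⟩ ∈ W := ⟨⟨d, hDM hd⟩, Subgroup.mem_subgroupOf.mpr hd, rfl⟩
  rw [hW1, Subgroup.mem_bot] at h1
  exact Subgroup.mem_subgroupOf.mp ((QuotientGroup.eq_one_iff _).mp h1)

/-- The main result on overgroups of the `F*`-preimage. -/
theorem le_largest_of_fstar (h : FD p S M) (hasym : ¬ IsSymmetricIn (YM p M))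
    [hn : ((CY p M).subgroupOf (MD p M)).Normal] {H : Subgroup G}
    (hFH : ∀ f : MD p M, (QuotientGroup.mk' ((CY p M).subgroupOf (MD p M))) f ∈
      generalizedFittingSubgroup (↥(MD p M) ⧸ (CY p M).subgroupOf (MD p M)) → (f : G) ∈ H)
    (hH : CT p H) : YM p M ≤ largestPReducedOf p H := by
  have hCH : CY p M ≤ H := by
    intro c hc
    have hcM : c ∈ MD p M := (le_sup_right : CY p M ≤ MD p M) hc
    refine hFH ⟨c, hcM⟩ ?_
    have : (QuotientGroup.mk' ((CY p M).subgroupOf (MD p M))) ⟨c, hcM⟩ = 1 :=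
      (QuotientGroup.eq_one_iff _).mpr (Subgroup.mem_subgroupOf.mpr hc)
    rw [this]
    exact Subgroup.one_mem _
  have hRH : Oc p M ≤ H := h.Oc_le_C.trans hCH
  have hYH : YM p M ≤ H := h.Y_le_Oc.trans hRH
  set V := Oc p H with hV
  have hHV : H ≤ Subgroup.normalizer ((V : Subgroup G) : Set G) := le_normalizer_Oc H
  have hVp : IsPGroup p V := isPGroup_Oc p H
  -- `V ≤ M†`
  have hVR : IsPGroup p ((Oc p M ⊔ V : Subgroup G) : Subgroup G) :=
    (isPGroup_Oc p M).to_sup_of_normal_right' hVp (hRH.trans hHV)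
  have hVM : V ≤ MD p M :=
    (le_sup_right : V ≤ Oc p M ⊔ V).trans
      ((h.le_normalizer_Oc hasym hVR le_sup_left).trans h.normalizer_Oc_le)
  -- `V ≤ C`
  have hVC : V ≤ CY p M := by
    refine le_C_of_normalized h hVM (fun f hf => hHV (hFH f hf)) ?_
    intro d hd
    obtain ⟨k, hk⟩ := hVp ⟨d, hd⟩
    refine ⟨k, ?_⟩
    have : d ^ p ^ k = 1 := by simpa using congrArg Subtype.val hk
    rw [this]
    exact Subgroup.one_mem _
  have hYV : YM p M ≤ V := by
    intro y hy
    refine hH y (hYH hy) ?_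
    intro v hv
    exact (Subgroup.mem_centralizer_iff.mp (hVC hv) y hy)
  -- the normal closure
  set A := YTheory.conjClosure H (YM p M) with hA
  have hYA : YM p M ≤ A := le_conjClosure H _
  have hAle : A ≤ YTheory.conjClosure (Subgroup.normalizer ((V : Subgroup G) : Set G)) (YM p M) :=
    conjClosure_le fun l hl => cj_le_conjClosure (hHV hl)
  obtain ⟨h1, h2⟩ := h.conjClosure_normalizer hasym hYV hVM
  have hAV : A ≤ V := by
    refine conjClosure_le fun l hl => ?_
    have := cj_mono (g := l) hYV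
    rwa [cj_eq_iff.mpr (hHV hl)] at this
  have hAred : IsPRed p H A := by
    refine ⟨hAV.trans (Cfsg.Agent.Lib.CharTwoLocal.Oc_le p H), le_normalizer_conjClosure H _,
      fun a ha b hb => h1 a (hAle ha) b (hAle hb), fun a ha => h2 a (hAle ha), ?_⟩
    intro D hDH hDn hD
    -- `D ≤ M†`
    set C₁ := Subgroup.centralizer ((A : Subgroup G) : Set G) with hC₁
    have hC₁C : C₁ ≤ CY p M := Subgroup.centralizer_le hYA
    have hHC₁ : H ≤ Subgroup.normalizer (C₁ : Set G) :=
      (le_normalizer_conjClosure H _).trans (normalizer_le_normalizer_centralizer A)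
    set C₀ := H ⊓ C₁ with hC₀
    have hC₀n : H ≤ Subgroup.normalizer (C₀ : Set G) := by
      intro l hl
      apply cj_eq_iff.mp
      rw [hC₀, cj_inf, cj_eq_self hl, cj_eq_iff.mpr (hHC₁ hl)]
    obtain ⟨T, hT, hRT⟩ := Cfsg.Agent.Lib.CoprimeInv.exists_isSylowIn_ge p hRH (isPGroup_Oc p M)
    have hTM : T ≤ MD p M := (h.le_normalizer_Oc hasym hT.2.1 hRT).trans h.normalizer_Oc_le
    have hpw : ∀ d ∈ D, ∃ k : ℕ, d ^ p ^ k ∈ C₀ := fun d hd => by
      obtain ⟨k, hk⟩ := hD d hd
      exact ⟨k, H.pow_mem (hDH hd) _, hk⟩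
    have hDM : D ≤ MD p M := by
      intro d hd
      obtain ⟨t, ht, c, hc, rfl⟩ := exists_sylow_mul hT inf_le_left hC₀n hDH hDn hpw d hd
      exact Subgroup.mul_mem _ (hTM ht) ((le_sup_right : CY p M ≤ MD p M) (hC₁C hc.2))
    have hDC : D ≤ CY p M := by
      refine le_C_of_normalized h hDM (fun f hf => hDn (hFH f hf)) ?_
      intro d hd
      obtain ⟨k, hk⟩ := hD d hd
      exact ⟨k, hC₁C hk⟩
    -- conjugate
    intro d hd
    rw [hC₁, Subgroup.mem_centralizer_iff]
    have hle : A ≤ Subgroup.centralizer ({d} : Set G) := by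
      refine conjClosure_le fun l hl => ?_
      rintro _ ⟨b, hb, rfl⟩
      show l * b * l⁻¹ ∈ _
      rw [Subgroup.mem_centralizer_iff]
      intro y hy
      rw [Set.mem_singleton_iff] at hy
      subst hy
      have h1 : l⁻¹ * y * l⁻¹⁻¹ ∈ D := (Subgroup.mem_normalizer_iff.mp (hDn (H.inv_mem hl)) y).mp hd
      have h2 := Subgroup.mem_centralizer_iff.mp (hDC h1) b hb
      simp only [inv_inv] at h2
      calc y * (l * b * l⁻¹) = l * ((l⁻¹ * y * l) * b) * l⁻¹ := by group
        _ = l * (b * (l⁻¹ * y * l)) * l⁻¹ := by rw [h2]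
        _ = l * b * l⁻¹ * y := by group
    intro v hv
    exact (Subgroup.mem_centralizer_iff.mp (hle hv) d rfl).symm
  exact hYA.trans (le_largest hAred)

end Cfsg.Agent.Lib.YTheory3
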