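/-
Chief sections inside `O_p(H)` and how a pair of conjugates of an abelian `p`-subgroup acts on them.
-/
import Mathlib
import Cfsg.Agent.Lib.YTheory5
import Cfsg.Agent.Lib.AmalgamIter

set_option autoImplicit false
set_option linter.unusedSectionVars false
set_option linter.unusedVariables false
set_option linter.style.haveILetI false
set_option linter.unusedSimpArgs false

namespace Cfsg.Agent.Lib.YTheory6

open Cfsg Cfsg.Agent.Lib.LocalLarge Cfsg.Agent.Lib.CharTwoLocal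
open Cfsg.Agent.Lib.YTheory4 (mem_of_coprime_of_sup)
open scoped commutatorElement

variable {G : Type*} [Group G] [Finite G] {p : ℕ} [hp : Fact p.Prime]

/-- The normalizer. -/
abbrev NN (K : Subgroup G) : Subgroup G := Subgroup.normalizer ((K : Subgroup G) : Set G)

omit [Finite G] in
theorem nc {K : Subgroup G} {g x : G} (hg : g ∈ NN K) (hx : x ∈ K) : g * x * g⁻¹ ∈ K :=
  (Subgroup.mem_normalizer_iff.mp hg x).mp hx

omit [Finite G] in
theorem cm_left {K : Subgroup G} {g x : G} (hg : g ∈ NN K) (hx : x ∈ K) : ⁅g, x⁆ ∈ K := by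
  rw [commutatorElement_def]
  exact K.mul_mem (nc hg hx) (K.inv_mem hx)

omit [Finite G] in
theorem cm_right {K : Subgroup G} {g x : G} (hg : g ∈ K) (hx : x ∈ NN K) : ⁅g, x⁆ ∈ K := by
  have e : ⁅g, x⁆ = g * (x * g⁻¹ * x⁻¹) := by
    rw [commutatorElement_def]
    group
  rw [e]
  exact K.mul_mem hg (nc hx (K.inv_mem hg))

theorem mem_norm_of_comm {K : Subgroup G} {a : G} (h : ∀ k ∈ K, ⁅a, k⁆ ∈ K) : a ∈ NN K := by
  apply cj_le_self_iff.mp
  rintro _ ⟨k, hk, rfl⟩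
  show a * k * a⁻¹ ∈ K
  have e : a * k * a⁻¹ = ⁅a, k⁆ * k := by
    rw [commutatorElement_def]
    group
  rw [e]
  exact K.mul_mem (h k hk) hk

theorem mem_NN_bot (x : G) : x ∈ NN (⊥ : Subgroup G) :=
  mem_norm_of_comm fun k hk => by
    rw [Subgroup.mem_bot] at hk
    rw [hk, commutatorElement_one_right]
    exact Subgroup.one_mem _

omit [Finite G] in
theorem comm_eq_one_of_comm {a b : G} (h : a * b = b * a) : ⁅a, b⁆ = 1 := by
  rw [commutatorElement_def, h]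
  group

omit [Finite G] in
theorem comm_conj (g a v : G) : g * ⁅a, v⁆ * g⁻¹ = ⁅g * a * g⁻¹, g * v * g⁻¹⁆ := by
  simp only [commutatorElement_def]
  group

omit [Finite G] in
/-- The elements fixing `v` modulo `W`. -/
def stabOf (W : Subgroup G) (v : G) : Subgroup G where
  carrier := {a | a ∈ NN W ∧ ⁅a, v⁆ ∈ W}
  one_mem' := ⟨Subgroup.one_mem _, by
    rw [commutatorElement_one_left]
    exact W.one_mem⟩
  mul_mem' := by
    rintro a b ⟨ha, ha'⟩ ⟨hb, hb'⟩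
    refine ⟨Subgroup.mul_mem _ ha hb, ?_⟩
    rw [commutatorElement_mul_left_eq_conj_mul]
    exact W.mul_mem (nc ha hb') ha'
  inv_mem' := by
    rintro a ⟨ha, ha'⟩
    refine ⟨Subgroup.inv_mem _ ha, ?_⟩
    have e : ⁅a⁻¹, v⁆ = a⁻¹ * (⁅a, v⁆)⁻¹ * a⁻¹⁻¹ := by
      simp only [commutatorElement_def]
      group
    rw [e]
    exact nc (Subgroup.inv_mem _ ha) (W.inv_mem ha')

/-- The centralizer of `A` in `V` modulo `W`. -/
def secC {V W : Subgroup G} (hVW : V ≤ NN W) (A : Subgroup G) : Subgroup G where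
  carrier := {v | v ∈ V ∧ ∀ a ∈ A, ⁅a, v⁆ ∈ W}
  one_mem' := ⟨V.one_mem, fun a _ => by
    rw [commutatorElement_one_right]
    exact W.one_mem⟩
  mul_mem' := by
    rintro v₁ v₂ ⟨h1, h1'⟩ ⟨h2, h2'⟩
    refine ⟨V.mul_mem h1 h2, fun a ha => ?_⟩
    have e : ⁅a, v₁ * v₂⁆ = ⁅a, v₁⁆ * (v₁ * ⁅a, v₂⁆ * v₁⁻¹) := by
      simp only [commutatorElement_def]
      group
    rw [e]
    exact W.mul_mem (h1' a ha) (nc (hVW h1) (h2' a ha))
  inv_mem' := by
    rintro v ⟨h1, h1'⟩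
    refine ⟨V.inv_mem h1, fun a ha => ?_⟩
    have e : ⁅a, v⁻¹⁆ = v⁻¹ * (⁅a, v⁆)⁻¹ * v⁻¹⁻¹ := by
      simp only [commutatorElement_def]
      group
    rw [e]
    exact nc (Subgroup.inv_mem _ (hVW h1)) (W.inv_mem (h1' a ha))

/-- `⁅A, V⁆ W`. -/
abbrev secS (V W A : Subgroup G) : Subgroup G := ⁅A, V⁆ ⊔ W

/-- Conjugation invariance of `modStab`. -/
theorem modStab_conj {C W : Subgroup G} {g a : G} (hC : g ∈ NN C) (hW : g ∈ NN W)
    (ha : a ∈ modStab C W) : g * a * g⁻¹ ∈ modStab C W := by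
  obtain ⟨h1, h2, h3⟩ := mem_modStab.mp ha
  refine mem_modStab.mpr ⟨?_, ?_, ?_⟩
  · exact Subgroup.mul_mem _ (Subgroup.mul_mem _ hC h1) (Subgroup.inv_mem _ hC)
  · exact Subgroup.mul_mem _ (Subgroup.mul_mem _ hW h2) (Subgroup.inv_mem _ hW)
  · intro c hc
    have hc' : g⁻¹ * c * g⁻¹⁻¹ ∈ C := nc (Subgroup.inv_mem _ hC) hc
    have h4 := nc hW (h3 _ hc')
    rw [comm_conj] at h4
    have e : g * (g⁻¹ * c * g⁻¹⁻¹) * g⁻¹ = c := by group
    rwa [e] at h4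

theorem le_normalizer_modStab {C W T : Subgroup G} (hC : T ≤ NN C) (hW : T ≤ NN W) :
    T ≤ NN (modStab C W) := by
  intro t ht
  apply cj_le_self_iff.mp
  rintro _ ⟨a, ha, rfl⟩
  exact modStab_conj (hC ht) (hW ht) ha

/-- The basic lemma on elements of order prime to `p` acting on a `p`-chain. -/
theorem comm_mem_of_coprime {P₁ P₂ W : Subgroup G} {z : G} (hP₁ : IsPGroup p P₁) (hz : (orderOf z).Coprime p)
    (hzP₁ : z ∈ NN W) (hW : P₁ ≤ NN W) (h1 : ∀ v ∈ P₁, ⁅z, v⁆ ∈ P₂) (h21 : P₂ ≤ P₁)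
    (h2 : ∀ u ∈ P₂, ⁅z, u⁆ ∈ W) {v : G} (hv : v ∈ P₁) : ⁅z, v⁆ ∈ W := by
  set u := ⁅z, v⁆ with hu
  have huP : u ∈ P₂ := h1 v hv
  have huN : u ∈ NN W := hW (h21 huP)
  have he : ⁅z, u⁆ ∈ W := h2 u huP
  -- powers of `e * u`
  have hpow : ∀ k : ℕ, ∃ w ∈ W, (⁅z, u⁆ * u) ^ k = w * u ^ k := by
    intro k
    induction k with
    | zero => exact ⟨1, W.one_mem, by simp⟩
    | succ k ih =>
      obtain ⟨w, hw, hk⟩ := ih
      refine ⟨w * (u ^ k * ⁅z, u⁆ * (u ^ k)⁻¹), W.mul_mem hw (nc (Subgroup.pow_mem _ huN k) he), ?_⟩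
      rw [pow_succ, hk]
      group
  have hkey : ∀ k : ℕ, ∃ w ∈ W, z ^ k * v * (z ^ k)⁻¹ = w * u ^ k * v := by
    intro k
    induction k with
    | zero => exact ⟨1, W.one_mem, by simp⟩
    | succ k ih =>
      obtain ⟨w, hw, hk⟩ := ih
      obtain ⟨w', hw', hk'⟩ := hpow k
      have e1 : z * v * z⁻¹ = u * v := by
        rw [hu, commutatorElement_def]
        group
      have e2 : z * u ^ k * z⁻¹ = (⁅z, u⁆ * u) ^ k := by
        have e3 : z * u * z⁻¹ = ⁅z, u⁆ * u := by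
          rw [commutatorElement_def]
          group
        rw [← e3, conj_pow]
      have hwz : z * w * z⁻¹ ∈ W := nc hzP₁ hw
      have hcalc : z ^ (k + 1) * v * (z ^ (k + 1))⁻¹ =
          (z * w * z⁻¹) * w' * (u ^ k * u * v) := by
        calc z ^ (k + 1) * v * (z ^ (k + 1))⁻¹ = z * (z ^ k * v * (z ^ k)⁻¹) * z⁻¹ := by
              rw [pow_succ']
              group
          _ = z * (w * u ^ k * v) * z⁻¹ := by rw [hk]
          _ = (z * w * z⁻¹) * (z * u ^ k * z⁻¹) * (z * v * z⁻¹) := by group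
          _ = (z * w * z⁻¹) * (w' * u ^ k) * (u * v) := by rw [e1, e2, hk']
          _ = (z * w * z⁻¹) * w' * (u ^ k * u * v) := by group
      refine ⟨(z * w * z⁻¹) * w', W.mul_mem hwz hw', ?_⟩
      rw [hcalc, pow_succ]
      group
  obtain ⟨w, hw, hfin⟩ := hkey (orderOf z)
  rw [pow_orderOf_eq_one] at hfin
  have h3 : u ^ orderOf z = w⁻¹ := by
    have h4 : v = w * u ^ orderOf z * v := by simpa using hfin
    have h5 : w * u ^ orderOf z = 1 := mul_eq_right.mp h4.symm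
    exact eq_inv_of_mul_eq_one_right h5
  have h6 : u ^ orderOf z ∈ W := by
    rw [h3]
    exact W.inv_mem hw
  -- `u` is a `p`-element
  obtain ⟨k, hk⟩ := hP₁ ⟨u, h21 huP⟩
  have hk' : u ^ p ^ k = 1 := by
    have := congrArg Subtype.val hk
    simpa using this
  have hcop : (orderOf u).Coprime (orderOf z) := by
    have h7 : orderOf u ∣ p ^ k := orderOf_dvd_of_pow_eq_one hk'
    exact Nat.Coprime.coprime_dvd_left h7 (Nat.Coprime.pow_left k hz.symm)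
  exact mem_of_pow_mem_of_coprime h6 hcop

/-- A chief section of `H` inside the normal `p`-subgroup `F`. -/
structure CS (p : ℕ) (H F V W : Subgroup G) : Prop where
  hFp : IsPGroup p F
  hFH : F ≤ H
  hFn : H ≤ NN F
  hVF : V ≤ F
  hVn : H ≤ NN V
  hWn : H ≤ NN W
  hWV : W < V
  hmin : ∀ Z : Subgroup G, H ≤ NN Z → W ≤ Z → Z ≤ V → Z = W ∨ Z = V

namespace CS

variable {H F V W : Subgroup G} (h : CS p H F V W)

include h

theorem VH : V ≤ H := h.hVF.trans h.hFH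

theorem VN : V ≤ NN W := h.VH.trans h.hWn

theorem Vp : IsPGroup p V := h.hFp.to_le h.hVF

theorem WleV : W ≤ V := h.hWV.le

theorem comm_le {T : Subgroup G} (hTH : T ≤ H) : ⁅T, V⁆ ≤ V := by
  rw [Subgroup.commutator_le]
  intro t ht v hv
  exact cm_left (h.hVn (hTH ht)) hv

theorem comm_sup_ne {T : Subgroup G} (hT : IsPGroup p T) (hTH : T ≤ H) : ⁅T, V⁆ ⊔ W ≠ V := by
  intro he
  have hP : IsPGroup p ↥(T ⊔ V) := hT.to_sup_of_normal_right' h.Vp (hTH.trans h.hVn)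
  have hle : V ≤ W := by
    refine Cfsg.Agent.Lib.AmalgamIter.le_of_le_sup_commutator hP le_sup_right h.WleV
      (sup_le (hTH.trans h.hWn) h.VN) ?_
    conv_lhs => rw [← he]
    rw [sup_comm]
    refine sup_le_sup le_rfl ?_
    rw [Subgroup.commutator_comm T V]
    exact Subgroup.commutator_mono le_rfl le_sup_left
  exact h.hWV.not_ge hle

theorem comm_le_of_norm {T : Subgroup G} (hT : IsPGroup p T) (hTH : T ≤ H)
    (hN : H ≤ NN (⁅T, V⁆ ⊔ W)) : ⁅T, V⁆ ≤ W := by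
  rcases h.hmin _ hN le_sup_right (sup_le (h.comm_le hTH) h.WleV) with e | e
  · rw [← e]
    exact le_sup_left
  · exact absurd e (h.comm_sup_ne hT hTH)

/-- `F` acts trivially. -/
theorem comm_F : ⁅F, V⁆ ≤ W := by
  refine h.comm_le_of_norm h.hFp h.hFH ?_
  intro l hl
  apply cj_eq_iff.mp
  rw [cj_sup, cj_eq_iff.mpr (h.hWn hl)]
  have e1 : Subgroup.map (MulAut.conj l).toMonoidHom F = F := cj_eq_iff.mpr (h.hFn hl)
  have e2 : Subgroup.map (MulAut.conj l).toMonoidHom V = V := cj_eq_iff.mpr (h.hVn hl)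
  show Subgroup.map (MulAut.conj l).toMonoidHom _ ⊔ W = _
  rw [Subgroup.map_commutator, e1, e2]

theorem comm_V {v₁ v₂ : G} (h1 : v₁ ∈ V) (h2 : v₂ ∈ V) : ⁅v₁, v₂⁆ ∈ W :=
  h.comm_F (Subgroup.commutator_mem_commutator (h.hVF h1) h2)

/-- The centralizer modulo `W`. -/
def C (A : Subgroup G) : Subgroup G := secC h.VN A

theorem mem_C {A : Subgroup G} {v : G} : v ∈ h.C A ↔ v ∈ V ∧ ∀ a ∈ A, ⁅a, v⁆ ∈ W := Iff.rfl

theorem C_le_V (A : Subgroup G) : h.C A ≤ V := fun _ hv => hv.1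

theorem C_anti {A B : Subgroup G} (hAB : A ≤ B) : h.C B ≤ h.C A :=
  fun _ hv => ⟨hv.1, fun a ha => hv.2 a (hAB ha)⟩

theorem W_le_C {A : Subgroup G} (hAH : A ≤ H) : W ≤ h.C A :=
  fun w hw => ⟨h.WleV hw, fun a ha => cm_left (h.hWn (hAH ha)) hw⟩

theorem C_sup {A B : Subgroup G} (hAH : A ≤ H) (hBH : B ≤ H) : h.C A ⊓ h.C B ≤ h.C (A ⊔ B) := by
  rintro v ⟨hv₁, hv₂⟩
  refine ⟨hv₁.1, fun a ha => ?_⟩
  have h1 : A ⊔ B ≤ stabOf W v :=
    sup_le (fun x hx => ⟨h.hWn (hAH hx), hv₁.2 x hx⟩) (fun x hx => ⟨h.hWn (hBH hx), hv₂.2 x hx⟩)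
  exact (h1 ha).2

theorem C_sup_of_eq {A B K : Subgroup G} (hAH : A ≤ H) (hBH : B ≤ H) (hK : A ⊔ B = K) :
    h.C A ⊓ h.C B ≤ h.C K := by
  subst hK
  exact h.C_sup hAH hBH

theorem C_norm {A : Subgroup G} {g : G} (hgH : g ∈ H) (hgA : g ∈ NN A) : g ∈ NN (h.C A) := by
  apply cj_le_self_iff.mp
  rintro _ ⟨v, hv, rfl⟩
  refine ⟨nc (h.hVn hgH) hv.1, fun a ha => ?_⟩
  have ha' : g⁻¹ * a * g⁻¹⁻¹ ∈ A := nc (Subgroup.inv_mem _ hgA) ha
  have h1 := nc (h.hWn hgH) (hv.2 _ ha')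
  rw [comm_conj] at h1
  have e : g * (g⁻¹ * a * g⁻¹⁻¹) * g⁻¹ = a := by group
  rw [e] at h1
  exact h1

theorem C_top_le (hNC : ¬ ⁅H, V⁆ ≤ W) : h.C H ≤ W := by
  have hn : H ≤ NN (h.C H) := fun l hl => h.C_norm hl (Subgroup.le_normalizer hl)
  rcases h.hmin _ hn (h.W_le_C le_rfl) (h.C_le_V H) with e | e
  · exact e.le
  · exfalso
    apply hNC
    rw [Subgroup.commutator_le]
    intro a ha v hv
    rw [← e] at hv
    exact hv.2 a ha

/-- The main trivial-action criterion. -/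
theorem comm_eq_of_sup {K₀ T : Subgroup G} (hT : IsPGroup p T) (hs : K₀ ⊔ T = H) (hk : ⁅K₀, V⁆ ≤ W) :
    ⁅H, V⁆ ≤ W := by
  have hK₀H : K₀ ≤ H := hs ▸ le_sup_left
  have hTH : T ≤ H := hs ▸ le_sup_right
  have hZV : ⁅T, V⁆ ⊔ W ≤ V := sup_le (h.comm_le hTH) h.WleV
  have h1 : ⁅T, V⁆ ≤ W := by
    refine h.comm_le_of_norm hT hTH ?_
    rw [← hs]
    refine sup_le ?_ ?_
    · intro k hk₀
      refine mem_norm_of_comm fun z hz => ?_
      exact (le_sup_right : W ≤ ⁅T, V⁆ ⊔ W) (hk (Subgroup.commutator_mem_commutator hk₀ (hZV hz)))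
    · intro t ht
      refine mem_norm_of_comm fun z hz => ?_
      exact (le_sup_left : ⁅T, V⁆ ≤ ⁅T, V⁆ ⊔ W) (Subgroup.commutator_mem_commutator ht (hZV hz))
  have h2 : H ≤ modStab V W := by
    rw [← hs]
    refine sup_le ?_ ?_
    · intro k hk₀
      exact ⟨h.hVn (hK₀H hk₀), h.hWn (hK₀H hk₀), fun v hv =>
        hk (Subgroup.commutator_mem_commutator hk₀ hv)⟩
    · intro t ht
      exact ⟨h.hVn (hTH ht), h.hWn (hTH ht), fun v hv =>
        h1 (Subgroup.commutator_mem_commutator ht hv)⟩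
  exact commutator_le_of_le_modStab h2

/-- All of `V` normalizes any subgroup between `W` and `V`. -/
theorem V_norm {Z : Subgroup G} (hWZ : W ≤ Z) (hZV : Z ≤ V) : V ≤ NN Z := fun v hv =>
  mem_norm_of_comm fun k hk => hWZ (h.comm_V hv (hZV hk))

/-- Membership of a single element. -/
theorem mem_C_zpowers {c t : G} (hc : c ∈ H) (ht : t ∈ V) (h1 : ⁅c, t⁆ ∈ W) :
    t ∈ h.C (Subgroup.zpowers c) := by
  refine ⟨ht, fun a ha => ?_⟩
  have h2 : Subgroup.zpowers c ≤ stabOf W t := by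
    rw [Subgroup.zpowers_le]
    exact ⟨h.hWn hc, h1⟩
  exact (h2 ha).2

end CS

/-- One side of the configuration. -/
structure Side (H F A Rr : Subgroup G) : Prop where
  hAR : A ≤ Rr
  hRH : Rr ≤ H
  hcomm : ∀ r ∈ Rr, ∀ a ∈ A, r * a = a * r
  hFA : F ≤ NN A

namespace CS

variable {H F V W A Rr : Subgroup G} (h : CS p H F V W) (s : Side H F A Rr)

include h s

theorem AH : A ≤ H := s.hAR.trans s.hRH

theorem comm_mem_A {a v : G} (ha : a ∈ A) (hv : v ∈ V) : ⁅a, v⁆ ∈ A :=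
  cm_right ha (s.hFA (h.hVF hv))

theorem comm_mem_V {a v : G} (ha : a ∈ A) (hv : v ∈ V) : ⁅a, v⁆ ∈ V :=
  cm_left (h.hVn (s.hAR.trans s.hRH ha)) hv

theorem S_le_V : secS V W A ≤ V := sup_le (h.comm_le (s.hAR.trans s.hRH)) h.WleV

/-- `R` acts trivially on `[V, A] W`. -/
theorem S_le_CR : secS V W A ≤ h.C Rr := by
  refine sup_le ?_ (h.W_le_C s.hRH)
  rw [Subgroup.commutator_le]
  intro a ha v hv
  refine ⟨h.comm_mem_V s ha hv, fun r hr => ?_⟩
  rw [comm_eq_one_of_comm (s.hcomm r hr _ (h.comm_mem_A s ha hv))]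
  exact W.one_mem

theorem S_le_C : secS V W A ≤ h.C A := (h.S_le_CR s).trans (h.C_anti s.hAR)

/-- The key commutator computation: an element commuting with `A` moves `V` into `C_V(A)`. -/
theorem comm_mem_C {r v : G} (hr : r ∈ H) (hcomm : ∀ a ∈ A, r * a = a * r) (hv : v ∈ V) :
    ⁅r, v⁆ ∈ h.C A := by
  refine ⟨cm_left (h.hVn hr) hv, fun a ha => ?_⟩
  set v' := r * v * r⁻¹ with hv'
  have hv'V : v' ∈ V := nc (h.hVn hr) hv
  set d := ⁅a, v⁆ with hd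
  have hdA : d ∈ A := h.comm_mem_A s ha hv
  have hdV : d ∈ V := h.comm_mem_V s ha hv
  have e1 : ⁅a, v'⁆ = d := by
    have h1 : r * ⁅a, v⁆ * r⁻¹ = ⁅r * a * r⁻¹, r * v * r⁻¹⁆ := comm_conj r a v
    have h2 : r * a * r⁻¹ = a := by rw [hcomm a ha]; group
    have h3 : r * d * r⁻¹ = d := by rw [hcomm d hdA]; group
    rw [h2, ← hd, h3] at h1
    exact h1.symm
  set u := ⁅r, v⁆ with hu
  have hu' : u = v' * v⁻¹ := by
    rw [hu, hv', commutatorElement_def]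
  have huV : u ∈ V := cm_left (h.hVn hr) hv
  have e2 : a * v * a⁻¹ = d * v := by
    rw [hd, commutatorElement_def]
    group
  have e3 : a * v' * a⁻¹ = d * v' := by
    rw [← e1, commutatorElement_def]
    group
  have e4 : a * u * a⁻¹ = d * u * d⁻¹ := by
    calc a * u * a⁻¹ = (a * v' * a⁻¹) * (a * v * a⁻¹)⁻¹ := by rw [hu']; group
      _ = (d * v') * (d * v)⁻¹ := by rw [e2, e3]
      _ = d * u * d⁻¹ := by rw [hu']; group
  have e5 : ⁅a, u⁆ = ⁅d, u⁆ := by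
    simp only [commutatorElement_def]
    rw [e4]
  rw [e5]
  exact h.comm_V hdV huV

theorem R_mem_modStab_V : Rr ≤ modStab V (h.C A) := by
  intro r hr
  have hrH := s.hRH hr
  refine ⟨h.hVn hrH, ?_, fun v hv => h.comm_mem_C s hrH (s.hcomm r hr) hv⟩
  exact mem_norm_of_comm fun k hk => h.comm_mem_C s hrH (s.hcomm r hr) (h.C_le_V A hk)

theorem R_norm_C : Rr ≤ NN (h.C A) := (h.R_mem_modStab_V s).trans (fun _ hx => hx.2.1)

theorem R_mem_modStab_S : Rr ≤ modStab (secS V W A) W := by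
  intro r hr
  have hrH := s.hRH hr
  refine ⟨mem_norm_of_comm fun k hk => ?_, h.hWn hrH, fun k hk => ((h.S_le_CR s) hk).2 r hr⟩
  exact (le_sup_right : W ≤ secS V W A) (((h.S_le_CR s) hk).2 r hr)

theorem R_norm_S : Rr ≤ NN (secS V W A) := (h.R_mem_modStab_S s).trans (fun _ hx => hx.1)

end CS

/-- A pair of conjugates generating `L`, with `H = ⟨L, R⟩`. -/
structure PD (p : ℕ) (H F L A B Ra Rb : Subgroup G) (g : G) : Prop where
  sa : Side H F A Ra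
  sb : Side H F B Rb
  hRa : IsPGroup p Ra
  hRb : IsPGroup p Rb
  hgL : g ∈ L
  hB : B = cj g A
  hsup : A ⊔ B = L
  hLa : L ⊔ Ra = H
  hLb : L ⊔ Rb = H

namespace PD

variable {H F L A B Ra Rb : Subgroup G} {g : G} (d : PD p H F L A B Ra Rb g)

include d

theorem swap : PD p H F L B A Rb Ra g⁻¹ where
  sa := d.sb
  sb := d.sa
  hRa := d.hRb
  hRb := d.hRa
  hgL := L.inv_mem d.hgL
  hB := by rw [d.hB, cj_inv_cj]
  hsup := by rw [sup_comm]; exact d.hsup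
  hLa := d.hLb
  hLb := d.hLa

theorem LH : L ≤ H := d.hLa ▸ le_sup_left

theorem AL : A ≤ L := d.hsup ▸ le_sup_left

theorem BL : B ≤ L := d.hsup ▸ le_sup_right

variable {V W : Subgroup G} (h : CS p H F V W) (hNC : ¬ ⁅H, V⁆ ≤ W)

include h

/-- An element of `[V, B] W` fixed by `A` is in `W`. -/
theorem mem_W_of_mem_S_B (hNC : ¬ ⁅H, V⁆ ≤ W) {t : G} (ht : t ∈ secS V W B) (htA : t ∈ h.C A) : t ∈ W := by
  have h1 : t ∈ h.C Rb := h.S_le_CR d.sb ht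
  have h2 : t ∈ h.C B := h.C_anti d.sb.hAR h1
  have h3 : t ∈ h.C L := by
    rw [← d.hsup]
    exact h.C_sup (h.AH d.sa) (h.AH d.sb) ⟨htA, h2⟩
  have h4 : t ∈ h.C H := h.C_sup_of_eq d.LH d.sb.hRH d.hLb ⟨h3, h1⟩
  exact h.C_top_le hNC h4

/-- `[V, A] ≰ W`. -/
theorem not_comm_le (hNC : ¬ ⁅H, V⁆ ≤ W) : ¬ ⁅A, V⁆ ≤ W := by
  intro h1
  have hgH : g ∈ H := d.LH d.hgL
  have h2 : ⁅B, V⁆ ≤ W := by
    rw [d.hB]
    have e1 : cj g W = W := cj_eq_iff.mpr (h.hWn hgH)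
    have e2 : Subgroup.map (MulAut.conj g).toMonoidHom V = V := cj_eq_iff.mpr (h.hVn hgH)
    rw [← e1]
    have h3 := Subgroup.map_mono (f := (MulAut.conj g).toMonoidHom) h1
    rw [Subgroup.map_commutator, e2] at h3
    exact h3
  apply hNC
  refine h.comm_eq_of_sup (K₀ := L) d.hRa d.hLa ?_
  rw [← d.hsup]
  have h3 : A ⊔ B ≤ modStab V W := by
    refine sup_le ?_ ?_
    · intro a ha
      exact ⟨h.hVn (h.AH d.sa ha), h.hWn (h.AH d.sa ha), fun v hv =>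
        h1 (Subgroup.commutator_mem_commutator ha hv)⟩
    · intro a ha
      exact ⟨h.hVn (h.AH d.sb ha), h.hWn (h.AH d.sb ha), fun v hv =>
        h2 (Subgroup.commutator_mem_commutator ha hv)⟩
  exact commutator_le_of_le_modStab h3

/-- `[V, L] ≤ [V, A] [V, B] W`. -/
theorem L_mem_modStab : L ≤ modStab V (secS V W A ⊔ secS V W B) := by
  set U := secS V W A ⊔ secS V W B with hU
  have hUV : U ≤ V := sup_le (h.S_le_V d.sa) (h.S_le_V d.sb)
  rw [← d.hsup]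
  refine sup_le ?_ ?_
  · intro a ha
    have h1 : ∀ v ∈ V, ⁅a, v⁆ ∈ U := fun v hv =>
      (le_sup_left : secS V W A ≤ U) ((le_sup_left : ⁅A, V⁆ ≤ secS V W A)
        (Subgroup.commutator_mem_commutator ha hv))
    exact ⟨h.hVn (h.AH d.sa ha), mem_norm_of_comm fun k hk => h1 k (hUV hk), h1⟩
  · intro a ha
    have h1 : ∀ v ∈ V, ⁅a, v⁆ ∈ U := fun v hv =>
      (le_sup_right : secS V W B ≤ U) ((le_sup_left : ⁅B, V⁆ ≤ secS V W B)
        (Subgroup.commutator_mem_commutator ha hv))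
    exact ⟨h.hVn (h.AH d.sb ha), mem_norm_of_comm fun k hk => h1 k (hUV hk), h1⟩

/-- `V = [V, B] C_V(A)` modulo `W`. -/
theorem V_le (hNC : ¬ ⁅H, V⁆ ≤ W) : V ≤ secS V W B ⊔ h.C A := by
  set U := secS V W A ⊔ secS V W B with hU
  set K := U ⊔ h.C A with hK
  have hUV : U ≤ V := sup_le (h.S_le_V d.sa) (h.S_le_V d.sb)
  have hKV : K ≤ V := sup_le hUV (h.C_le_V A)
  have hWK : W ≤ K := (h.W_le_C (h.AH d.sa)).trans le_sup_right
  have hn : H ≤ NN K := by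
    rw [← d.hLa]
    refine sup_le ?_ ?_
    · intro l hl
      refine mem_norm_of_comm fun k hk => ?_
      exact (le_sup_left : U ≤ K) ((d.L_mem_modStab h hl).2.2 k (hKV hk))
    · intro r hr
      refine mem_norm_of_comm fun k hk => ?_
      exact (le_sup_right : h.C A ≤ K) ((h.R_mem_modStab_V d.sa hr).2.2 k (hKV hk))
  have hKeq : K = V := by
    rcases h.hmin K hn hWK hKV with e | e
    · exfalso
      apply d.not_comm_le h hNC
      rw [← e]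
      exact le_sup_left.trans ((le_sup_left : secS V W A ≤ U).trans le_sup_left)
    · exact e
  refine hKeq.ge.trans ?_
  refine sup_le (sup_le ?_ le_sup_left) le_sup_right
  exact (h.S_le_C d.sa).trans le_sup_right

theorem exists_decomp (hNC : ¬ ⁅H, V⁆ ≤ W) {v : G} (hv : v ∈ V) :
    ∃ t ∈ secS V W B, ∃ c ∈ h.C A, v = t * c :=
  exists_mul_of_mem_sup ((h.S_le_V d.sb).trans (h.V_norm (h.W_le_C (h.AH d.sa)) (h.C_le_V A)))
    (d.V_le h hNC hv)

/-- `U ∩ C_V(A) = [V, A] W`. -/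
theorem mem_S_of_mem_U (hNC : ¬ ⁅H, V⁆ ≤ W) {u : G} (hu : u ∈ secS V W A ⊔ secS V W B)
    (huC : u ∈ h.C A) : u ∈ secS V W A := by
  obtain ⟨t₁, ht₁, t₂, ht₂, rfl⟩ := exists_mul_of_mem_sup
    ((h.S_le_V d.sa).trans (h.V_norm (le_sup_right : W ≤ secS V W B) (h.S_le_V d.sb))) hu
  have h1 : t₁ ∈ h.C A := h.S_le_C d.sa ht₁
  have h2 : t₂ ∈ h.C A := by
    have e : t₂ = t₁⁻¹ * (t₁ * t₂) := by group
    rw [e]
    exact (h.C A).mul_mem ((h.C A).inv_mem h1) huC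
  have h3 : t₂ ∈ W := d.mem_W_of_mem_S_B h hNC ht₂ h2
  exact (secS V W A).mul_mem ht₁ ((le_sup_right : W ≤ secS V W A) h3)

/-- `C_V(A) = [V, A] C_V(L)`. -/
theorem C_le (hNC : ¬ ⁅H, V⁆ ≤ W) : h.C A ≤ secS V W A ⊔ h.C L := by
  intro c hc
  obtain ⟨t, ht, e, he, rfl⟩ := d.swap.exists_decomp h hNC (h.C_le_V A hc)
  refine Subgroup.mul_mem_sup ht ?_
  have h1 : e ∈ h.C A := by
    have e' : e = t⁻¹ * (t * e) := by group
    rw [e']
    exact (h.C A).mul_mem ((h.C A).inv_mem (h.S_le_C d.sa ht)) hc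
  exact h.C_sup_of_eq (h.AH d.sa) (h.AH d.sb) d.hsup ⟨h1, he⟩

/-- An element of `A` normalizing `B` acts trivially on the section. -/
theorem comm_mem_W_of_norm (hNC : ¬ ⁅H, V⁆ ≤ W) {c v : G} (hcA : c ∈ A) (hcB : c ∈ NN B) (hv : v ∈ V) :
    ⁅c, v⁆ ∈ W := by
  have hcH : c ∈ H := h.AH d.sa hcA
  obtain ⟨t, ht, c₀, hc₀, rfl⟩ := d.exists_decomp h hNC hv
  have hsub : t ∈ h.C (Subgroup.zpowers c) ∧ c₀ ∈ h.C (Subgroup.zpowers c) := by
    refine ⟨?_, h.mem_C_zpowers hcH (h.C_le_V A hc₀) (hc₀.2 c hcA)⟩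
    have hle : secS V W B ≤ h.C (Subgroup.zpowers c) := by
      refine sup_le ?_ (h.W_le_C (by
        rw [Subgroup.zpowers_le]
        exact hcH))
      rw [Subgroup.commutator_le]
      intro b hb v' hv'
      have hdV : ⁅b, v'⁆ ∈ V := h.comm_mem_V d.sb hb hv'
      have hdB : ⁅b, v'⁆ ∈ B := h.comm_mem_A d.sb hb hv'
      refine h.mem_C_zpowers hcH hdV ?_
      set e := ⁅c, ⁅b, v'⁆⁆ with he
      have heB : e ∈ B := cm_left hcB hdB
      have heA : e ∈ A := cm_right hcA (d.sa.hFA (h.hVF hdV))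
      have heV : e ∈ V := cm_left (h.hVn hcH) hdV
      have h1 : e ∈ h.C A := ⟨heV, fun a ha => by
        rw [comm_eq_one_of_comm (d.sa.hcomm a (d.sa.hAR ha) e heA)]
        exact W.one_mem⟩
      have h2 : e ∈ h.C B := ⟨heV, fun a ha => by
        rw [comm_eq_one_of_comm (d.sb.hcomm a (d.sb.hAR ha) e heB)]
        exact W.one_mem⟩
      have h3 : e ∈ h.C L := h.C_sup_of_eq (h.AH d.sa) (h.AH d.sb) d.hsup ⟨h1, h2⟩
      have h4 : e ∈ h.C Ra := ⟨heV, fun r hr => by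
        rw [comm_eq_one_of_comm (d.sa.hcomm r hr e heA)]
        exact W.one_mem⟩
      have h5 : e ∈ h.C H := h.C_sup_of_eq d.LH d.sa.hRH d.hLa ⟨h3, h4⟩
      exact h.C_top_le hNC h5
    exact hle ht
  have h6 := (h.C (Subgroup.zpowers c)).mul_mem hsub.1 hsub.2
  exact h6.2 c (Subgroup.mem_zpowers c)

section Core

variable {x : G} (hxL : x ∈ L) (hcx : ∀ a' ∈ cj x A, ∀ a ∈ A, a' * a = a * a')

include hxL hcx

theorem x_norm_S (hNC : ¬ ⁅H, V⁆ ≤ W) : x ∈ NN (secS V W A) := by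
  apply cj_le_self_iff.mp
  have hxH : x ∈ H := d.LH hxL
  rw [cj_sup, cj_eq_iff.mpr (h.hWn hxH)]
  refine sup_le ?_ le_sup_right
  have e2 : Subgroup.map (MulAut.conj x).toMonoidHom V = V := cj_eq_iff.mpr (h.hVn hxH)
  have e3 : cj x ⁅A, V⁆ = ⁅cj x A, V⁆ := by
    show Subgroup.map (MulAut.conj x).toMonoidHom _ = _
    rw [Subgroup.map_commutator, e2]
  rw [e3, Subgroup.commutator_le]
  intro a' ha' v hv
  have haL : a' ∈ L := by
    have h1 := cj_mono (g := x) d.AL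
    rw [cj_eq_self hxL] at h1
    exact h1 ha'
  refine d.mem_S_of_mem_U h hNC ?_ ?_
  · exact (d.L_mem_modStab h haL).2.2 v hv
  · exact h.comm_mem_C d.sa (d.LH haL) (hcx a' ha') hv

theorem x_norm_C (hNC : ¬ ⁅H, V⁆ ≤ W) : x ∈ NN (h.C A) := by
  have hxH : x ∈ H := d.LH hxL
  have heq : h.C A = secS V W A ⊔ h.C L :=
    le_antisymm (d.C_le h hNC) (sup_le (h.S_le_C d.sa) (h.C_anti d.AL))
  apply cj_eq_iff.mp
  rw [heq, cj_sup, cj_eq_iff.mpr (d.x_norm_S h hxL hcx hNC),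
    cj_eq_iff.mpr (h.C_norm hxH (Subgroup.le_normalizer hxL))]

theorem x_mem_modStab (hNC : ¬ ⁅H, V⁆ ≤ W) : x ∈ modStab (h.C A) (secS V W A) := by
  refine ⟨d.x_norm_C h hxL hcx hNC, d.x_norm_S h hxL hcx hNC, fun c hc => ?_⟩
  refine d.mem_S_of_mem_U h hNC ?_ (cm_left (d.x_norm_C h hxL hcx hNC) hc)
  exact (d.L_mem_modStab h hxL).2.2 c (h.C_le_V A hc)

/-- Elements of order prime to `p` in `⟨R, R^x⟩` act trivially on the section. -/
theorem comm_mem_W_of_coprime {z : G} (hz : z ∈ Ra ⊔ cj x Ra) (hc : (orderOf z).Coprime p) {v : G}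
    (hv : v ∈ V) : ⁅z, v⁆ ∈ W := by
  have hxH : x ∈ H := d.LH hxL
  by_cases hNC : ⁅H, V⁆ ≤ W
  · refine hNC (Subgroup.commutator_mem_commutator ?_ hv)
    refine (sup_le d.sa.hRH ?_ : Ra ⊔ cj x Ra ≤ H) hz
    rintro _ ⟨r, hr, rfl⟩
    exact H.mul_mem (H.mul_mem hxH (d.sa.hRH hr)) (H.inv_mem hxH)
  set K₀ := modStab (h.C A) (secS V W A) with hK₀
  have hxK : x ∈ K₀ := d.x_mem_modStab h hxL hcx hNC
  have hRK : Ra ≤ NN K₀ := le_normalizer_modStab (h.R_norm_C d.sa) (h.R_norm_S d.sa)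
  have hz1 : Ra ⊔ cj x Ra ≤ Ra ⊔ K₀ := by
    refine sup_le le_sup_left ?_
    rintro _ ⟨r, hr, rfl⟩
    show x * r * x⁻¹ ∈ Ra ⊔ K₀
    have e : x * r * x⁻¹ = r * ((r⁻¹ * x * r⁻¹⁻¹) * x⁻¹) := by group
    rw [e]
    exact Subgroup.mul_mem_sup hr (K₀.mul_mem (nc (hRK (Ra.inv_mem hr)) hxK) (K₀.inv_mem hxK))
  have hz2 : z ∈ K₀ := mem_of_coprime_of_sup d.hRa hRK (hz1 hz) hc
  have hxN1 : x ∈ NN (h.C A) := d.x_norm_C h hxL hcx hNC
  have hxN2 : x ∈ NN (secS V W A) := d.x_norm_S h hxL hcx hNC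
  have hz3 : z ∈ modStab V (h.C A) := by
    refine (sup_le (h.R_mem_modStab_V d.sa) ?_ : Ra ⊔ cj x Ra ≤ modStab V (h.C A)) hz
    rintro _ ⟨r, hr, rfl⟩
    exact modStab_conj (h.hVn hxH) hxN1 (h.R_mem_modStab_V d.sa hr)
  have hz4 : z ∈ modStab (secS V W A) W := by
    refine (sup_le (h.R_mem_modStab_S d.sa) ?_ : Ra ⊔ cj x Ra ≤ modStab (secS V W A) W) hz
    rintro _ ⟨r, hr, rfl⟩
    exact modStab_conj hxN2 (h.hWn hxH) (h.R_mem_modStab_S d.sa hr)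
  have hs1 : h.C A ≤ V := h.C_le_V A
  have hstep1 : ∀ c ∈ h.C A, ⁅z, c⁆ ∈ W := fun c hc' =>
    comm_mem_of_coprime (h.Vp.to_le hs1) hc hz4.2.1 (hs1.trans h.VN) hz2.2.2
      (h.S_le_C d.sa) hz4.2.2 hc'
  exact comm_mem_of_coprime h.Vp hc hz4.2.1 h.VN hz3.2.2 hs1 hstep1 hv

end Core

end PD

/-- An element of order prime to `p` acting trivially on all chief sections inside `F` is trivial. -/
theorem eq_one_of_sections {H F : Subgroup G} (hFp : IsPGroup p F) (hFH : F ≤ H) (hFn : H ≤ NN F)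
    (hCF : ∀ z ∈ H, (∀ f ∈ F, z * f = f * z) → z ∈ F) {z : G} (hzH : z ∈ H) (hc : (orderOf z).Coprime p)
    (hz : ∀ V W : Subgroup G, CS p H F V W → ∀ v ∈ V, ⁅z, v⁆ ∈ W) : z = 1 := by
  classical
  set 𝒮 : Set (Subgroup G) := {M₀ | H ≤ NN M₀ ∧ M₀ ≤ F ∧ ∀ v ∈ M₀, ⁅z, v⁆ = 1} with h𝒮
  have hne : (⊥ : Subgroup G) ∈ 𝒮 := by
    refine ⟨?_, bot_le, ?_⟩
    · intro l _
      exact mem_norm_of_comm fun k hk => by
        rw [Subgroup.mem_bot] at hk
        rw [hk, commutatorElement_one_right]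
        exact Subgroup.one_mem _
    · intro v hv
      rw [Subgroup.mem_bot] at hv
      rw [hv, commutatorElement_one_right]
  obtain ⟨M₀, hM₀⟩ := (Set.toFinite 𝒮).exists_maximal ⟨_, hne⟩
  obtain ⟨hM₀n, hM₀F, hM₀z⟩ := hM₀.prop
  by_cases he : M₀ = F
  · subst he
    have hzF : z ∈ M₀ := hCF z hzH (fun f hf => by
      have h1 := hM₀z f hf
      rw [commutatorElement_eq_one_iff_mul_comm] at h1
      exact h1)
    exact eq_one_of_pow_eq_one_of_coprime hFp hzF hc (pow_orderOf_eq_one z)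
  exfalso
  set 𝒯 : Set (Subgroup G) := {U | H ≤ NN U ∧ M₀ < U ∧ U ≤ F} with h𝒯
  have hne2 : F ∈ 𝒯 := ⟨hFn, lt_of_le_of_ne hM₀F he, le_rfl⟩
  obtain ⟨U, hU⟩ := (Set.toFinite 𝒯).exists_minimal ⟨_, hne2⟩
  obtain ⟨hUn, hMU, hUF⟩ := hU.prop
  have hcs : CS p H F U M₀ := by
    refine ⟨hFp, hFH, hFn, hUF, hUn, hM₀n, hMU, ?_⟩
    intro Z hZn hMZ hZU
    by_cases h3 : Z = M₀
    · exact Or.inl h3
    · right
      exact le_antisymm hZU (hU.le_of_le ⟨hZn, lt_of_le_of_ne hMZ (Ne.symm h3), hZU.trans hUF⟩ hZU)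
  have hbot : ∀ x : G, x ∈ NN (⊥ : Subgroup G) := fun x =>
    mem_norm_of_comm fun k hk => by
      rw [Subgroup.mem_bot] at hk
      rw [hk, commutatorElement_one_right]
      exact Subgroup.one_mem _
  have hUz : ∀ v ∈ U, ⁅z, v⁆ = 1 := by
    intro v hv
    have h1 := comm_mem_of_coprime (P₁ := U) (P₂ := M₀) (W := ⊥) (hFp.to_le hUF) hc (hbot z)
      (fun x _ => hbot x) (hz U M₀ hcs) hMU.le
      (fun u hu => by
        rw [hM₀z u hu]
        exact Subgroup.one_mem _) hv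
    exact Subgroup.mem_bot.mp h1
  exact hMU.not_ge (hM₀.le_of_ge ⟨hUn, hUF, hUz⟩ hMU.le)

/-- The kernel of the action on all chief sections inside `F`. -/
def secKer (p : ℕ) (H F : Subgroup G) : Subgroup G :=
  H ⊓ ⨅ (V : Subgroup G) (W : Subgroup G) (_ : CS p H F V W), modStab V W

theorem mem_secKer {H F : Subgroup G} {x : G} :
    x ∈ secKer p H F ↔ x ∈ H ∧ ∀ V W : Subgroup G, CS p H F V W → ∀ v ∈ V, ⁅x, v⁆ ∈ W := by
  simp only [secKer, Subgroup.mem_inf, Subgroup.mem_iInf]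
  constructor
  · rintro ⟨h1, h2⟩
    exact ⟨h1, fun V W hc v hv => (h2 V W hc).2.2 v hv⟩
  · rintro ⟨h1, h2⟩
    exact ⟨h1, fun V W hc => ⟨hc.hVn h1, hc.hWn h1, h2 V W hc⟩⟩

theorem secKer_le_Oc {H : Subgroup G} (hCF : CT p H) : secKer p H (Oc p H) ≤ Oc p H := by
  have hFp := isPGroup_Oc p H
  have hFH := Cfsg.Agent.Lib.CharTwoLocal.Oc_le p H
  have hFn : H ≤ NN (Oc p H) := le_normalizer_Oc H
  refine le_Oc ((inf_le_left : secKer p H (Oc p H) ≤ H)) ?_ ?_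
  · refine isPGroup_of_coprime_trivial ?_
    intro y hy hc
    have hy' := mem_secKer.mp hy
    exact eq_one_of_sections hFp hFH hFn (fun z hz hf => hCF z hz hf) hy'.1 hc hy'.2
  · intro l hl a ha
    have ha' := mem_secKer.mp ha
    refine mem_secKer.mpr ⟨H.mul_mem (H.mul_mem hl ha'.1) (H.inv_mem hl), ?_⟩
    intro V W hcs v hv
    have hm : a ∈ modStab V W := ⟨hcs.hVn ha'.1, hcs.hWn ha'.1, ha'.2 V W hcs⟩
    exact (modStab_conj (hcs.hVn hl) (hcs.hWn hl) hm).2.2 v hv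

namespace PD

variable {H F L A B Ra Rb : Subgroup G} {g : G} (d : PD p H F L A B Ra Rb g)

include d

/-- The main theorem on `⟨R, R^x⟩`. -/
theorem isPGroup_sup (hFp : IsPGroup p F) (hFH : F ≤ H) (hFn : H ≤ NN F)
    (hCF : ∀ z ∈ H, (∀ f ∈ F, z * f = f * z) → z ∈ F) {x : G} (hxL : x ∈ L)
    (hcx : ∀ a' ∈ cj x A, ∀ a ∈ A, a' * a = a * a') : IsPGroup p ↥(Ra ⊔ cj x Ra) := by
  refine isPGroup_of_coprime_trivial ?_
  intro y hy hc
  have hxH : x ∈ H := d.LH hxL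
  have hyH : y ∈ H := by
    refine (sup_le d.sa.hRH ?_ : Ra ⊔ cj x Ra ≤ H) hy
    rintro _ ⟨r, hr, rfl⟩
    exact H.mul_mem (H.mul_mem hxH (d.sa.hRH hr)) (H.inv_mem hxH)
  exact eq_one_of_sections hFp hFH hFn hCF hyH hc fun V W hcs v hv =>
    d.comm_mem_W_of_coprime hcs hxL hcx hy hc hv

/-- An element of `A` normalizing `B` lies in `O_p(H)`. -/
theorem mem_Oc_of_norm (hF : F = Oc p H) (hCF : CT p H) {c : G} (hcA : c ∈ A) (hcB : c ∈ NN B) :
    c ∈ Oc p H := by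
  subst hF
  refine secKer_le_Oc hCF (mem_secKer.mpr ⟨d.sa.hAR.trans d.sa.hRH hcA, ?_⟩)
  intro V W hcs v hv
  by_cases hNC : ⁅H, V⁆ ≤ W
  · exact hNC (Subgroup.commutator_mem_commutator (d.sa.hAR.trans d.sa.hRH hcA) hv)
  · exact d.comm_mem_W_of_norm hcs hNC hcA hcB hv

end PD

end Cfsg.Agent.Lib.YTheory6
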