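/-
The structure of a subgroup `L` minimal subject to `Y_M ≰ O_p(L)` inside `H ∈ ℌ(O_p(M))`, when `Y_M` is asymmetric.
-/
import Mathlib
import Cfsg.Agent.Lib.YTheory6
import Cfsg.Agent.Lib.BaerSuzuki

set_option autoImplicit false
set_option linter.unusedSectionVars false
set_option linter.unusedVariables false
set_option linter.style.haveILetI false
set_option linter.unusedSimpArgs false

namespace Cfsg.Agent.Lib.YTheory7

open Cfsg Cfsg.Agent.Lib.LocalLarge Cfsg.Agent.Lib.CharTwoLocal Cfsg.Agent.Lib.YTheory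
open Cfsg.Agent.Lib.YTheory2 Cfsg.Agent.Lib.YTheory4 Cfsg.Agent.Lib.YTheory5 Cfsg.Agent.Lib.YTheory6
open scoped commutatorElement

variable {G : Type*} [Group G] [Finite G] {p : ℕ} [hp : Fact p.Prime]

variable {S : Sylow p G} {M H L : Subgroup G}

/-- `L` is minimal subject to `Y ≤ L ≤ H`, `Y ≰ O_p(L)`. -/
structure LMin (p : ℕ) (M H L : Subgroup G) : Prop where
  hLH : L ≤ H
  hYL : YM p M ≤ L
  hYO : ¬ YM p M ≤ Oc p L
  hmin : ∀ L' : Subgroup G, L' ≤ L → YM p M ≤ L' → ¬ YM p M ≤ Oc p L' → L' = L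

theorem Side_cj {H F A Rr : Subgroup G} (s : Side H F A Rr) {g : G} (hg : g ∈ H) (hF : g ∈ NN F) :
    Side H F (cj g A) (cj g Rr) where
  hAR := cj_mono s.hAR
  hRH := by
    have := cj_mono (g := g) s.hRH
    rwa [cj_eq_self hg] at this
  hcomm := by
    rintro _ ⟨r, hr, rfl⟩ _ ⟨a, ha, rfl⟩
    show g * r * g⁻¹ * (g * a * g⁻¹) = g * a * g⁻¹ * (g * r * g⁻¹)
    calc g * r * g⁻¹ * (g * a * g⁻¹) = g * (r * a) * g⁻¹ := by group
      _ = g * (a * r) * g⁻¹ := by rw [s.hcomm r hr a ha]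
      _ = g * a * g⁻¹ * (g * r * g⁻¹) := by group
  hFA := by
    show F ≤ Subgroup.normalizer ((cj g A : Subgroup G) : Set G)
    rw [cj_normalizer]
    have h1 : cj g F = F := cj_eq_iff.mpr hF
    have h2 := cj_mono (g := g) s.hFA
    rwa [h1] at h2

namespace LMin

variable (hl : LMin p M H L)

include hl

theorem le_Oc_of_ne {X : Subgroup G} (hXL : X ≤ L) (hYX : YM p M ≤ X) (hne : X ≠ L) :
    YM p M ≤ Oc p X := by
  by_contra hc
  exact hne (hl.hmin X hXL hYX hc)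

theorem sup_R (hH : IsInFrakH p M H) : L ⊔ Oc p M = H := by
  by_contra hne
  have hlt : L ⊔ Oc p M < H := lt_of_le_of_ne (sup_le hl.hLH (frakH_R_le hH)) hne
  have h1 : YM p M ≤ Oc p (L ⊔ Oc p M) := hH.2.2.2 _ le_sup_right hlt
  exact hl.hYO fun y hy => Oc_inf_le le_sup_left ⟨h1 hy, hl.hYL hy⟩

theorem cj_Y_le {g : G} (hg : g ∈ L) : cj g (YM p M) ≤ L := by
  have := cj_mono (g := g) hl.hYL
  rwa [cj_eq_self hg] at this

/-- Two conjugates of `Y` generate `L`. -/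
theorem exists_gen (h : FD p S M) : ∃ g ∈ L, YM p M ⊔ cj g (YM p M) = L := by
  by_contra hcon
  push Not at hcon
  have hp2 : ∀ g ∈ L, IsPGroup p ↥(YM p M ⊔ cj g (YM p M)) := by
    intro g hg
    set X := YM p M ⊔ cj g (YM p M) with hX
    have hXL : X ≤ L := sup_le hl.hYL (hl.cj_Y_le hg)
    have h1 : YM p M ≤ Oc p X := hl.le_Oc_of_ne hXL le_sup_left (hcon g hg)
    set X' := cj g⁻¹ X with hX'
    have hX'L : X' ≤ L := by
      have := cj_mono (g := g⁻¹) hXL
      rwa [cj_eq_self (L.inv_mem hg)] at this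
    have hYX' : YM p M ≤ X' := by
      have := cj_mono (g := g⁻¹) (le_sup_right : cj g (YM p M) ≤ X)
      rwa [cj_inv_cj] at this
    have hX'ne : X' ≠ L := by
      intro he
      apply hcon g hg
      have h2 : cj g X' = cj g L := by rw [he]
      rwa [hX', cj_cj_inv, cj_eq_self hg] at h2
    have h2 := hl.le_Oc_of_ne hX'L hYX' hX'ne
    have h3 : cj g (YM p M) ≤ Oc p X := by
      have h4 := cj_mono (g := g) h2
      rwa [← Oc_cj, hX', cj_cj_inv] at h4
    exact (isPGroup_Oc p X).to_le (sup_le h1 h3)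
  -- Baer-Suzuki in `L`
  have hpX : IsPGroup p ((YM p M).subgroupOf L) := h.pred.isPGroup.comap_subtype
  have hb : ∀ g : ↥L, IsPGroup p ↥((YM p M).subgroupOf L ⊔
      ((YM p M).subgroupOf L).map (MulAut.conj g).toMonoidHom) := by
    intro g
    have h1 : IsPGroup p ((YM p M ⊔ cj (g : G) (YM p M)).subgroupOf L) :=
      (hp2 g g.2).comap_subtype
    refine h1.to_le (sup_le ?_ ?_)
    · intro y hy
      exact (le_sup_left : YM p M ≤ YM p M ⊔ cj (g : G) (YM p M)) hy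
    · rintro _ ⟨y, hy, rfl⟩
      refine (le_sup_right : cj (g : G) (YM p M) ≤ YM p M ⊔ cj (g : G) (YM p M)) ?_
      exact ⟨(y : G), hy, rfl⟩
  obtain ⟨N, hNn, hNp, hYN⟩ := Cfsg.Agent.Lib.BaerSuzuki.baer_suzuki ((YM p M).subgroupOf L) hpX hb
  apply hl.hYO
  intro y hy
  have h1 : (⟨y, hl.hYL hy⟩ : L) ∈ N := hYN hy
  exact ⟨_, Cfsg.Agent.Lib.PCore.le_pCore hNn hNp h1, rfl⟩

/-- The configuration of `YTheory6`. -/
theorem mkPD (h : FD p S M) (hasym : ¬ IsSymmetricIn (YM p M)) (hH : IsInFrakH p M H) {g : G} (hg : g ∈ L)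
    (hs : YM p M ⊔ cj g (YM p M) = L) :
    PD p H (Oc p H) L (YM p M) (cj g (YM p M)) (Oc p M) (cj g (Oc p M)) g := by
  have hgH : g ∈ H := hl.hLH hg
  have hRH := frakH_R_le hH
  have sa : Side H (Oc p H) (YM p M) (Oc p M) :=
    { hAR := h.Y_le_Oc
      hRH := hRH
      hcomm := fun r hr a ha => (Subgroup.mem_centralizer_iff.mp (h.Oc_le_C hr) a ha).symm
      hFA := (Oc_le_normalizer_R h hasym hRH).trans (h.normalizer_Oc_le.trans h.MD_le_normalizer_Y) }
  have hLa := hl.sup_R hH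
  refine ⟨sa, Side_cj sa hgH (le_normalizer_Oc H hgH), isPGroup_Oc p M, isPGroup_cj (isPGroup_Oc p M), hg, rfl,
    hs, hLa, ?_⟩
  have h1 : cj g (L ⊔ Oc p M) = cj g H := by rw [hLa]
  rwa [cj_sup, cj_eq_self hg, cj_eq_self hgH] at h1

/-- The core computation: a conjugate of `Y` under `L` commuting with `Y` equals `Y`. -/
theorem core (h : FD p S M) (hasym : ¬ IsSymmetricIn (YM p M)) (hH : IsInFrakH p M H) {x : G} (hx : x ∈ L)
    (hc : YM p M ≤ Subgroup.centralizer ((cj x (YM p M) : Subgroup G) : Set G)) :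
    cj x (YM p M) = YM p M := by
  obtain ⟨g, hg, hs⟩ := hl.exists_gen h
  have d := hl.mkPD h hasym hH hg hs
  have hP := d.isPGroup_sup (isPGroup_Oc p H) (Cfsg.Agent.Lib.CharTwoLocal.Oc_le p H) (le_normalizer_Oc H)
    (frakH_CT hH) hx (fun a' ha' a ha => Subgroup.mem_centralizer_iff.mp (hc ha) a' ha')
  have e := h.conj_eq hasym hP le_sup_left le_sup_right
  exact cj_eq_iff.mpr (h.MD_le_normalizer_Y (h.normalizer_Oc_le (cj_eq_iff.mp e)))

/-- Proper overgroups of `Y` in `L` normalize `Y`. -/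
theorem le_normalizer_Y (h : FD p S M) (hasym : ¬ IsSymmetricIn (YM p M)) (hH : IsInFrakH p M H)
    {X : Subgroup G} (hYX : YM p M ≤ X) (hXL : X ≤ L) (hne : X ≠ L) : X ≤ NN (YM p M) := by
  set Wx := YTheory.conjClosure X (YM p M) with hWx
  have hYO : YM p M ≤ Oc p X := hl.le_Oc_of_ne hXL hYX hne
  have hWle : Wx ≤ Oc p X := conjClosure_le fun l hl' =>
    (cj_mono hYO).trans (cj_eq_iff.mpr (le_normalizer_Oc X hl')).le
  have hWp : IsPGroup p Wx := (isPGroup_Oc p X).to_le hWle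
  have hWX : Wx ≤ X := hWle.trans (Cfsg.Agent.Lib.CharTwoLocal.Oc_le p X)
  have hWN : Wx ≤ NN (YM p M) := by
    by_contra hne'
    set K₀ := Wx ⊓ NN (YM p M) with hK₀
    have hlt : K₀ < Wx := by
      refine lt_of_le_of_ne inf_le_left fun e => hne' ?_
      rw [← e]
      exact inf_le_right
    obtain ⟨t, ht, ht2, ht3⟩ := Cfsg.Agent.Lib.CharTwoLocal.exists_mem_normalizer_of_lt hWp hlt
    have hYK : YM p M ≤ K₀ := le_inf (le_conjClosure _ _) Subgroup.le_normalizer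
    have e : cj t K₀ = K₀ := cj_eq_iff.mpr ht3
    have h1 : cj t (YM p M) ≤ NN (YM p M) := (cj_mono hYK).trans (e.le.trans inf_le_right)
    have h2 : YM p M ≤ Subgroup.normalizer ((cj t (YM p M) : Subgroup G) : Set G) := by
      rw [cj_normalizer]
      refine hYK.trans ?_
      rw [← e]
      exact cj_mono inf_le_right
    have hcomm := commute_of_mutual hasym h2 h1
    have e2 := hl.core h hasym hH (hXL (hWX ht)) hcomm
    exact ht2 ⟨ht, cj_eq_iff.mp e2⟩
  intro x hx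
  have h1 : cj x (YM p M) ≤ NN (YM p M) := (cj_le_conjClosure hx).trans hWN
  have h2 : YM p M ≤ Subgroup.normalizer ((cj x (YM p M) : Subgroup G) : Set G) := by
    rw [cj_normalizer]
    have h3 := (cj_le_conjClosure (L := X) (X.inv_mem hx) (B := YM p M)).trans hWN
    have h4 := cj_mono (g := x) h3
    rwa [cj_cj_inv] at h4
  exact cj_eq_iff.mp (hl.core h hasym hH (hXL hx) (commute_of_mutual hasym h2 h1))

theorem not_le_normalizer (h : FD p S M) : ¬ L ≤ NN (YM p M) := fun hc =>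
  hl.hYO (le_Oc hl.hYL h.pred.isPGroup fun l hl' a ha => nc (hc hl') ha)

theorem not_isPGroup : ¬ IsPGroup p L := fun hc =>
  hl.hYO (hl.hYL.trans (le_Oc le_rfl hc fun l hl' a ha => L.mul_mem (L.mul_mem hl' ha) (L.inv_mem hl')))

theorem conj_sup_R (h : FD p S M) (hasym : ¬ IsSymmetricIn (YM p M)) (hH : IsInFrakH p M H) {x : G}
    (hx : x ∈ L) (hxn : x ∉ NN (YM p M)) : cj x (YM p M) ⊔ Oc p M = H := by
  by_contra hne
  have hxY := hl.cj_Y_le hx
  have hRH := frakH_R_le hH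
  have hlt : cj x (YM p M) ⊔ Oc p M < H := lt_of_le_of_ne (sup_le (hxY.trans hl.hLH) hRH) hne
  have h1 : YM p M ≤ Oc p (cj x (YM p M) ⊔ Oc p M) := hH.2.2.2 _ le_sup_right hlt
  set P := cj x (YM p M) ⊔ Oc p M with hP
  set E := YM p M ⊔ cj x (YM p M) with hE
  have hEp : IsPGroup p E := by
    have h2 : IsPGroup p ↥(cj x (YM p M) ⊔ Oc p P) :=
      (isPGroup_cj h.pred.isPGroup).to_sup_of_normal_right' (isPGroup_Oc p P)
        ((le_sup_left : cj x (YM p M) ≤ P).trans (le_normalizer_Oc P))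
    exact h2.to_le (sup_le (h1.trans le_sup_right) le_sup_left)
  have hEL : E ≤ L := sup_le hl.hYL hxY
  have hEne : E ≠ L := fun e => hl.not_isPGroup (e ▸ hEp)
  have h3 : E ≤ NN (YM p M) := hl.le_normalizer_Y h hasym hH le_sup_left hEL hEne
  have hE'1 : YM p M ≤ cj x⁻¹ E := by
    have := cj_mono (g := x⁻¹) (le_sup_right : cj x (YM p M) ≤ E)
    rwa [cj_inv_cj] at this
  have hE'2 : cj x⁻¹ E ≤ L := by
    have := cj_mono (g := x⁻¹) hEL
    rwa [cj_eq_self (L.inv_mem hx)] at this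
  have hE'3 : cj x⁻¹ E ≠ L := by
    intro he
    apply hEne
    have h2 : cj x (cj x⁻¹ E) = cj x L := by rw [he]
    rwa [cj_cj_inv, cj_eq_self hx] at h2
  have h4 : cj x⁻¹ E ≤ NN (YM p M) := hl.le_normalizer_Y h hasym hH hE'1 hE'2 hE'3
  have h5 : YM p M ≤ Subgroup.normalizer ((cj x (YM p M) : Subgroup G) : Set G) := by
    rw [cj_normalizer]
    have h6 := cj_mono (g := x) ((cj_mono (g := x⁻¹) (le_sup_left : YM p M ≤ E)).trans h4)
    rwa [cj_cj_inv] at h6
  have hc := commute_of_mutual hasym h5 ((le_sup_right : cj x (YM p M) ≤ E).trans h3)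
  exact hxn (cj_eq_iff.mp (hl.core h hasym hH hx hc))

theorem normalClosure_eq_top {g : G} (hg : g ∈ L) (hs : YM p M ⊔ cj g (YM p M) = L) :
    Subgroup.normalClosure (((YM p M).subgroupOf L : Subgroup L) : Set L) = ⊤ := by
  rw [eq_top_iff]
  intro x _
  have h1 : L ≤ YTheory.conjClosure L (YM p M) := by
    conv_lhs => rw [← hs]
    exact sup_le (le_conjClosure _ _) (cj_le_conjClosure hg)
  obtain ⟨y, hy, hyx⟩ := conjClosure_le_map_normalClosure hl.hYL (h1 x.2)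
  have : y = x := Subtype.ext hyx
  rwa [← this]

theorem isMinimalOver (h : FD p S M) (hasym : ¬ IsSymmetricIn (YM p M)) (hH : IsInFrakH p M H) :
    IsMinimalOver ((YM p M).subgroupOf L) := by
  obtain ⟨g, hg, hs⟩ := hl.exists_gen h
  refine ⟨hl.normalClosure_eq_top hg hs, ?_⟩
  set M' : Subgroup L := (NN (YM p M)).subgroupOf L with hM'
  have hYM' : (YM p M).subgroupOf L ≤ M' := by
    intro y hy
    exact Subgroup.le_normalizer hy
  have hle : ∀ K : Subgroup L, (YM p M).subgroupOf L ≤ K → K ≠ ⊤ → K ≤ M' := by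
    intro K hK hne x hx
    have hX : K.map L.subtype ≤ NN (YM p M) := by
      refine hl.le_normalizer_Y h hasym hH ?_ (Subgroup.map_subtype_le _) ?_
      · intro y hy
        exact ⟨⟨y, hl.hYL hy⟩, hK hy, rfl⟩
      · intro e
        apply hne
        rw [eq_top_iff]
        intro z _
        have hz : (z : G) ∈ K.map L.subtype := e.ge z.2
        obtain ⟨w, hw, hwz⟩ := hz
        have : w = z := Subtype.ext hwz
        rwa [← this]
    exact hX ⟨x, hx, rfl⟩
  have hM'ne : M' ≠ ⊤ := by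
    intro e
    apply hl.not_le_normalizer h
    intro x hx
    have : (⟨x, hx⟩ : L) ∈ M' := e ▸ Subgroup.mem_top _
    exact this
  have hcoat : IsCoatom M' := by
    refine ⟨hM'ne, fun b hb => ?_⟩
    by_contra hne
    exact hb.not_ge (hle b (hYM'.trans hb.le) hne)
  refine ⟨M', ⟨hcoat, hYM'⟩, ?_⟩
  rintro K ⟨hK, hKY⟩
  have h1 : K ≤ M' := hle K hKY hK.1
  exact ((hK.le_iff.mp h1).resolve_left hM'ne).symm

theorem CT_L (h : FD p S M) (hasym : ¬ IsSymmetricIn (YM p M)) (hH : IsInFrakH p M H) : CT p L := by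
  obtain ⟨g, hg, hs⟩ := hl.exists_gen h
  have d := hl.mkPD h hasym hH hg hs
  have hFL : Oc p H ≤ NN L := by
    intro f hf
    apply cj_eq_iff.mp
    rw [← hs, cj_sup, cj_eq_iff.mpr (d.sa.hFA hf), cj_eq_iff.mpr (d.sb.hFA hf)]
  have hFLO : Oc p H ⊓ L ≤ Oc p L := Oc_inf_le hl.hLH
  set X₀ := L ⊓ Subgroup.centralizer ((Oc p L : Subgroup G) : Set G) with hX₀
  have hX₀le : X₀ ≤ Oc p L := by
    refine le_Oc inf_le_left ?_ ?_
    · refine isPGroup_of_coprime_trivial ?_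
      intro y hy hc
      have hyH := hl.hLH hy.1
      have hyF : ∀ f ∈ Oc p H, ⁅y, f⁆ ∈ (⊥ : Subgroup G) := fun f hf =>
        comm_mem_of_coprime (P₁ := Oc p H) (P₂ := Oc p H ⊓ L) (W := ⊥) (isPGroup_Oc p H) hc (mem_NN_bot y)
          (fun x _ => mem_NN_bot x)
          (fun v hv => ⟨cm_left (le_normalizer_Oc H hyH) hv, cm_right hy.1 (hFL hv)⟩) inf_le_left
          (fun u hu => by
            have h1 := Subgroup.mem_centralizer_iff.mp hy.2 u (hFLO hu)
            rw [comm_eq_one_of_comm h1.symm]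
            exact Subgroup.one_mem _) hf
      have hyF2 : y ∈ Oc p H := frakH_CT hH y hyH fun f hf =>
        commutatorElement_eq_one_iff_mul_comm.mp (Subgroup.mem_bot.mp (hyF f hf))
      exact eq_one_of_pow_eq_one_of_coprime (isPGroup_Oc p H) hyF2 hc (pow_orderOf_eq_one y)
    · intro l hl' a ha
      refine ⟨L.mul_mem (L.mul_mem hl' ha.1) (L.inv_mem hl'), Subgroup.mem_centralizer_iff.mpr ?_⟩
      intro y hy
      have hy' : l⁻¹ * y * l⁻¹⁻¹ ∈ Oc p L := conj_mem_Oc (L.inv_mem hl') hy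
      have h1 := Subgroup.mem_centralizer_iff.mp ha.2 _ hy'
      simp only [inv_inv] at h1
      calc y * (l * a * l⁻¹) = l * ((l⁻¹ * y * l) * a) * l⁻¹ := by group
        _ = l * (a * (l⁻¹ * y * l)) * l⁻¹ := by rw [h1]
        _ = l * a * l⁻¹ * y := by group
  intro x hx hc
  refine hX₀le ⟨hx, Subgroup.mem_centralizer_iff.mpr ?_⟩
  intro y hy
  exact (hc y hy).symm

theorem Rz_sup_Y (h : FD p S M) : Rz p L ⊔ YM p M = L := by
  obtain ⟨g, hg, hs⟩ := hl.exists_gen h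
  refine le_antisymm (sup_le (Rz_le L) hl.hYL) ?_
  set K := (Rz p L ⊔ YM p M).subgroupOf L with hK
  have hKtop : K = ⊤ := by
    by_contra hne
    have h1 : pResidual p ↥L ≤ K := by
      intro x hx
      rw [hK, Subgroup.mem_subgroupOf]
      exact (le_sup_left : Rz p L ≤ Rz p L ⊔ YM p M) ⟨x, hx, rfl⟩
    obtain ⟨K₁, hKK₁, hK₁, hK₁n⟩ := exists_normal_of_ne_top h1 hne
    have h2 : Subgroup.normalClosure (((YM p M).subgroupOf L : Subgroup L) : Set L) ≤ K₁ := by
      apply Subgroup.normalClosure_le_normal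
      intro y hy
      apply hKK₁
      rw [hK, Subgroup.mem_subgroupOf]
      exact (le_sup_right : YM p M ≤ Rz p L ⊔ YM p M) hy
    rw [hl.normalClosure_eq_top hg hs] at h2
    exact hK₁ (top_le_iff.mp h2)
  intro x hx
  have : (⟨x, hx⟩ : L) ∈ K := by
    rw [hKtop]
    trivial
  exact this

theorem sections (h : FD p S M) (hH : IsInFrakH p M H) {V W : Subgroup G} (hVF : V ≤ Oc p H)
    (hVn : H ≤ NN V) (hWn : H ≤ NN W) (hWV : W < V)
    (hmin : ∀ Z : Subgroup G, H ≤ NN Z → W ≤ Z → Z ≤ V → Z = W ∨ Z = V)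
    (hNC : ¬ ⁅V, H⁆ ≤ W) : ¬ ⁅V, Rz p L⁆ ≤ W := by
  intro hc
  have hcs : CS p H (Oc p H) V W :=
    ⟨isPGroup_Oc p H, Cfsg.Agent.Lib.CharTwoLocal.Oc_le p H, le_normalizer_Oc H, hVF, hVn, hWn, hWV, hmin⟩
  apply hNC
  rw [Subgroup.commutator_comm] at hc ⊢
  refine hcs.comm_eq_of_sup (K₀ := Rz p L) (T := Oc p M) (isPGroup_Oc p M) ?_ hc
  refine le_antisymm (sup_le ((Rz_le L).trans hl.hLH) (frakH_R_le hH)) ?_
  have h1 : L ≤ Rz p L ⊔ Oc p M := by
    conv_lhs => rw [← hl.Rz_sup_Y h]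
    exact sup_le_sup le_rfl h.Y_le_Oc
  rw [← hl.sup_R hH]
  exact sup_le h1 le_sup_right

theorem normalClosure_le (h : FD p S M) (hasym : ¬ IsSymmetricIn (YM p M)) (hH : IsInFrakH p M H) :
    (Subgroup.normalClosure (((Oc p L ⊓ YM p M).subgroupOf L : Subgroup L) : Set L)).map L.subtype ≤ Oc p H := by
  obtain ⟨g, hg, hs⟩ := hl.exists_gen h
  have d := hl.mkPD h hasym hH hg hs
  set O := Oc p L with hO
  have hOL : O ≤ L := Cfsg.Agent.Lib.CharTwoLocal.Oc_le p L
  have hLO : L ≤ NN O := le_normalizer_Oc L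
  have hXp : IsPGroup p ↥(YM p M ⊔ O) :=
    h.pred.isPGroup.to_sup_of_normal_right' (isPGroup_Oc p L) (hl.hYL.trans hLO)
  have hXL : YM p M ⊔ O ≤ L := sup_le hl.hYL hOL
  have hXne : YM p M ⊔ O ≠ L := fun e => hl.not_isPGroup (e ▸ hXp)
  have hON : O ≤ NN (YM p M) :=
    le_sup_right.trans (hl.le_normalizer_Y h hasym hH le_sup_left hXL hXne)
  have hOB : O ≤ NN (cj g (YM p M)) := by
    show O ≤ Subgroup.normalizer ((cj g (YM p M) : Subgroup G) : Set G)
    rw [cj_normalizer]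
    have h1 := cj_mono (g := g) hON
    rwa [cj_eq_iff.mpr (hLO hg)] at h1
  have hmem : ∀ c ∈ O ⊓ YM p M, c ∈ Oc p H := fun c hc =>
    d.mem_Oc_of_norm rfl (frakH_CT hH) hc.2 (hOB hc.1)
  haveI hn : ((Oc p H).subgroupOf L).Normal := by
    constructor
    intro n hn l
    rw [Subgroup.mem_subgroupOf] at hn ⊢
    exact conj_mem_Oc (hl.hLH l.2) hn
  have h2 : Subgroup.normalClosure (((O ⊓ YM p M).subgroupOf L : Subgroup L) : Set L) ≤ (Oc p H).subgroupOf L :=
    Subgroup.normalClosure_le_normal fun y hy => hmem _ hy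
  rintro _ ⟨y, hy, rfl⟩
  exact h2 hy

end LMin

end Cfsg.Agent.Lib.YTheory7
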