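import Mathlib
import Cfsg.Agent.Lib.ZStruct

/-!
# The insoluble groups regular on the non-zero vectors
-/

set_option autoImplicit false
set_option linter.style.haveILetI false
set_option linter.unusedSectionVars false
set_option linter.unusedSimpArgs false
set_option linter.unusedVariables false

namespace Cfsg.Agent.Lib.ZInsol

open Subgroup Cfsg.Agent.Lib.FpfNorm Cfsg.Agent.Lib.ZPerfLin Cfsg.Agent.Lib.RegLin Cfsg.Agent.Lib.ZStruct
open Cfsg.Agent.S3378 (X Y Z SL5_gen SL5_card)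

variable {p : ℕ} [Fact p.Prime] {V : Type*} [AddCommGroup V] [Module (ZMod p) V] [Finite V]

/-- A quaternion module over the prime field splits in two halves of the same size. -/
theorem exists_half (h2 : (2 : ZMod p) ≠ 0) (I J : V →ₗ[ZMod p] V) (hII : ∀ v, I (I v) = -v) (hJJ : ∀ v, J (J v) = -v)
    (hJI : ∀ v, J (I v) = -I (J v)) :
    ∃ E : Submodule (ZMod p) V, Nat.card V = Nat.card E * Nat.card E ∧
      ∀ T : V →ₗ[ZMod p] V, (∀ v, T (I v) = I (T v)) → (∀ v, T (J v) = J (T v)) → ∀ v ∈ E, T v ∈ E := by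
  classical
  obtain ⟨a, b, hab⟩ := ZMod.sq_add_sq p (-1 : ZMod p)
  let u : V →ₗ[ZMod p] V := a • I + b • J
  have hu : ∀ v, u v = a • I v + b • J v := fun v => rfl
  have huu : ∀ v, u (u v) = v := by
    intro v
    have e1 : u (u v) = (-(a ^ 2 + b ^ 2)) • v := by
      simp only [hu, map_add, map_smul, hII, hJJ, hJI]
      module
    rw [e1, hab]
    simp
  let t : V →ₗ[ZMod p] V := I ∘ₗ J
  have ht : ∀ v, t v = I (J v) := fun v => rfl
  have htt : ∀ v, t (t v) = -v := by
    intro v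
    rw [ht, ht, hJI, map_neg, hII, hJJ]
    simp
  have hut : ∀ v, u (t v) = - t (u v) := by
    intro v
    simp only [hu, ht, map_add, map_smul, hII, hJJ, hJI, map_neg]
    module
  let E : Submodule (ZMod p) V := LinearMap.ker (u - LinearMap.id)
  let E' : Submodule (ZMod p) V := LinearMap.ker (u + LinearMap.id)
  have hE : ∀ v, v ∈ E ↔ u v = v := by
    intro v
    simp [E, sub_eq_zero]
  have hE' : ∀ v, v ∈ E' ↔ u v = -v := by
    intro v
    simp [E', add_eq_zero_iff_eq_neg]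
  -- `E` and `E'` have the same size
  have hcard : Nat.card E = Nat.card E' := by
    refine Nat.card_congr
      { toFun := fun v => ⟨t v, ?_⟩
        invFun := fun w => ⟨- t w, ?_⟩
        left_inv := ?_
        right_inv := ?_ }
    · rw [hE', hut, (hE v).mp v.2]
    · rw [hE, map_neg, hut, (hE' w).mp w.2, map_neg]
      simp
    · intro v
      apply Subtype.ext
      simp [htt]
    · intro w
      apply Subtype.ext
      simp [htt]
  -- the decomposition
  have hsplit : Nat.card V = Nat.card E * Nat.card E' := by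
    rw [← Nat.card_prod]
    let f : E × E' → V := fun x => (x.1 : V) + (x.2 : V)
    have hf : Function.Bijective f := by
      constructor
      · rintro ⟨⟨x, hx⟩, ⟨y, hy⟩⟩ ⟨⟨x', hx'⟩, ⟨y', hy'⟩⟩ h
        have h1 : x + y = x' + y' := h
        have h3 := congrArg u h1
        rw [map_add, map_add, (hE x).mp hx, (hE' y).mp hy, (hE x').mp hx', (hE' y').mp hy'] at h3
        have h4 : (2 : ZMod p) • x = (2 : ZMod p) • x' := by
          have : (2 : ZMod p) • x = (x + y) + (x + -y) := by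
            rw [two_smul]; abel
          rw [this, h1, h3, two_smul]
          abel
        have h5 : x = x' := smul_right_injective V h2 h4
        subst h5
        have h6 : y = y' := add_left_cancel h1
        subst h6
        rfl
      · intro v
        let hi : ZMod p := (2 : ZMod p)⁻¹
        have hhi : (2 : ZMod p) * hi = 1 := mul_inv_cancel₀ h2
        have a1 : hi • (v + u v) ∈ E := by
          rw [hE, map_smul, map_add, huu, add_comm]
        have a2 : hi • (v - u v) ∈ E' := by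
          rw [hE', map_smul, map_sub, huu, ← smul_neg, neg_sub]
        refine ⟨⟨⟨_, a1⟩, ⟨_, a2⟩⟩, ?_⟩
        show hi • (v + u v) + hi • (v - u v) = v
        rw [← smul_add]
        have : v + u v + (v - u v) = (2 : ZMod p) • v := by
          rw [two_smul]; abel
        rw [this, smul_smul, mul_comm, hhi, one_smul]
    exact (Nat.card_eq_of_bijective f hf).symm
  refine ⟨E, by rw [hsplit, hcard], ?_⟩
  intro T hTI hTJ v hv
  rw [hE]
  have h1 : T (u v) = u (T v) := by
    simp only [hu, map_add, map_smul, hTI, hTJ]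
  rw [← h1, (hE v).mp hv]

theorem arith_dec : ∀ N : Fin 240, ∀ e : Fin 3, (e.val = 1 ∨ e.val = 2) → 2 ≤ N.val →
    (N.val * N.val - 1) % (120 * e.val) = 0 → Nat.Coprime ((N.val * N.val - 1) / (120 * e.val)) 30 →
    ((N.val * N.val - 1) / (120 * e.val)) ∣ N.val - 1 →
    (N.val = 11 ∧ e.val = 1) ∨ (N.val = 29 ∧ e.val = 1) ∨ (N.val = 59 ∧ e.val = 1) ∨ (N.val = 119 ∧ e.val = 2) := by
  decide +kernel

theorem arith {N e m : ℕ} (hN : N * N = 1 + 120 * e * m) (he : e = 1 ∨ e = 2) (hd : m ∣ N - 1)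
    (hc : m.Coprime 30) (hN2 : 2 ≤ N) (hm : 0 < m) :
    (N = 11 ∧ e = 1 ∧ m = 1) ∨ (N = 29 ∧ e = 1 ∧ m = 7) ∨ (N = 59 ∧ e = 1 ∧ m = 29) ∨ (N = 119 ∧ e = 2 ∧ m = 59) := by
  obtain ⟨k, hk⟩ := hd
  have hk0 : 0 < k := by
    rcases Nat.eq_zero_or_pos k with h | h
    · rw [h, mul_zero] at hk
      omega
    · exact h
  have hN' : N = m * k + 1 := by omega
  have h1 : m * (k * (N + 1)) = m * (120 * e) := by
    have h2 : N * N = (N - 1) * (N + 1) + 1 := by
      obtain ⟨n, rfl⟩ : ∃ n, N = n + 1 := ⟨N - 1, by omega⟩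
      simp only [Nat.add_sub_cancel]
      ring
    rw [h2, hk] at hN
    nlinarith
  have h3 : k * (N + 1) = 120 * e := Nat.eq_of_mul_eq_mul_left hm h1
  have hNlt : N < 240 := by
    have h4 : N + 1 ≤ k * (N + 1) := Nat.le_mul_of_pos_left _ hk0
    rcases he with rfl | rfl <;> omega
  have he0 : 0 < e := by rcases he with rfl | rfl <;> norm_num
  have hmod : (N * N - 1) = 120 * e * m := by omega
  have hm' : (N * N - 1) / (120 * e) = m := by
    rw [hmod]
    exact Nat.mul_div_cancel_left _ (by omega)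
  have he3 : e < 3 := by rcases he with rfl | rfl <;> norm_num
  have := arith_dec ⟨N, hNlt⟩ ⟨e, he3⟩ he hN2 (by
    show (N * N - 1) % (120 * e) = 0
    rw [hmod]
    exact Nat.mul_mod_right _ _) (by
    show Nat.Coprime ((N * N - 1) / (120 * e)) 30
    rw [hm']; exact hc) (by
    show ((N * N - 1) / (120 * e)) ∣ N - 1
    rw [hm']; exact ⟨k, hk⟩)
  simp only at this
  rcases this with ⟨rfl, rfl⟩ | ⟨rfl, rfl⟩ | ⟨rfl, rfl⟩ | ⟨rfl, rfl⟩
  · left; exact ⟨rfl, rfl, by omega⟩
  · right; left; exact ⟨rfl, rfl, by omega⟩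
  · right; right; left; exact ⟨rfl, rfl, by omega⟩
  · right; right; right; exact ⟨rfl, rfl, by omega⟩

theorem not_119 {d : ℕ} (hp : p.Prime) (h : p ^ d = 119) : False := by
  have h7 : (7 : ℕ) ∣ p ^ d := by rw [h]; norm_num
  have h17 : (17 : ℕ) ∣ p ^ d := by rw [h]; norm_num
  have e1 := (Nat.prime_dvd_prime_iff_eq (by norm_num) hp).mp (Nat.Prime.dvd_of_dvd_pow (by norm_num) h7)
  have e2 := (Nat.prime_dvd_prime_iff_eq (by norm_num) hp).mp (Nat.Prime.dvd_of_dvd_pow (by norm_num) h17)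
  omega

theorem Q_extra : Qj * Qi = Z * (Qi * Qj) := by decide +kernel

/-- **Zassenhaus**: the insoluble sharply doubly transitive groups. -/
theorem insol (H : Subgroup (V ≃ₗ[ZMod p] V)) (hreg : Reg H) (hsolv : ¬ Group.IsSolvable H) :
    (Nat.card V = 121 ∧ Nonempty (H ≃* Γ)) ∨
      (Nat.card V = 841 ∧ Nonempty (H ≃* Γ × Multiplicative (ZMod 7))) ∨
      (Nat.card V = 3481 ∧ Nonempty (H ≃* Γ × Multiplicative (ZMod 29))) := by
  classical
  have hV : Nontrivial V := by
    by_contra hc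
    rw [not_nontrivial_iff_subsingleton] at hc
    apply hsolv
    haveI : Subsingleton H := ⟨fun a b => Subtype.ext (LinearEquiv.ext (fun v => Subsingleton.elim _ _))⟩
    infer_instance
  haveI : Nontrivial (Multiplicative V) := hV
  obtain ⟨G₀, hG₀n, hidx, S, M, hSM, hinf, hcomm, ⟨e⟩, hSyl, hcop⟩ :=
    nonsolv_struct (V := Multiplicative V) (φ := actLin H) hsolv (actLin_fpf hreg)
  let f : Γ →* H := S.subtype.comp e.symm.toMonoidHom
  have hfinj : Function.Injective f := by
    intro u v h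
    exact e.symm.injective (Subtype.ext h)
  have hfS : ∀ m, f m ∈ S := fun m => (e.symm m).2
  obtain ⟨hZZ, hZ1⟩ := Z_facts
  obtain ⟨hQ1, hQ2, -, -, -⟩ := Q_facts
  set z := f Z with hz
  set i := f Qi with hi
  set j := f Qj with hj
  have hzz : z * z = 1 := by rw [hz, ← map_mul, hZZ, map_one]
  have hz1 : z ≠ 1 := by
    intro h
    apply hZ1
    apply hfinj
    rw [map_one]; exact h
  have hzneg := hreg.involution_neg hzz hz1
  have h2 := hreg.two_ne_zero hV hzz hz1
  have hii : i * i = z := by rw [hi, ← map_mul, hQ1]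
  have hjj : j * j = z := by rw [hj, ← map_mul, hQ2]
  have hji : j * i = z * (i * j) := by rw [hi, hj, hz, ← map_mul, Q_extra, map_mul, map_mul]
  let I : V →ₗ[ZMod p] V := ((i : V ≃ₗ[ZMod p] V) : V →ₗ[ZMod p] V)
  let J : V →ₗ[ZMod p] V := ((j : V ≃ₗ[ZMod p] V) : V →ₗ[ZMod p] V)
  have hII : ∀ v, I (I v) = -v := by
    intro v
    show (i : V ≃ₗ[ZMod p] V) ((i : V ≃ₗ[ZMod p] V) v) = -v
    rw [← coe_mul_apply, hii, hzneg]
  have hJJ : ∀ v, J (J v) = -v := by
    intro v
    show (j : V ≃ₗ[ZMod p] V) ((j : V ≃ₗ[ZMod p] V) v) = -v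
    rw [← coe_mul_apply, hjj, hzneg]
  have hJI : ∀ v, J (I v) = -I (J v) := by
    intro v
    show (j : V ≃ₗ[ZMod p] V) ((i : V ≃ₗ[ZMod p] V) v) = -(i : V ≃ₗ[ZMod p] V) ((j : V ≃ₗ[ZMod p] V) v)
    rw [← coe_mul_apply, hji, coe_mul_apply, hzneg, coe_mul_apply]
  obtain ⟨E, hE, hEinv⟩ := exists_half h2 I J hII hJJ hJI
  -- `M` acts freely on the non-zero vectors of `E`
  have hMinv : ∀ x ∈ M, ∀ v ∈ E, (x : V ≃ₗ[ZMod p] V) v ∈ E := by
    intro x hx v hv
    apply hEinv (((x : V ≃ₗ[ZMod p] V) : V →ₗ[ZMod p] V)) _ _ v hv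
    · intro w
      show (x : V ≃ₗ[ZMod p] V) ((i : V ≃ₗ[ZMod p] V) w) = (i : V ≃ₗ[ZMod p] V) ((x : V ≃ₗ[ZMod p] V) w)
      rw [← coe_mul_apply, ← coe_mul_apply, ← hcomm i (hfS _) x hx]
    · intro w
      show (x : V ≃ₗ[ZMod p] V) ((j : V ≃ₗ[ZMod p] V) w) = (j : V ≃ₗ[ZMod p] V) ((x : V ≃ₗ[ZMod p] V) w)
      rw [← coe_mul_apply, ← coe_mul_apply, ← hcomm j (hfS _) x hx]
  letI act : MulAction M {v : E // v ≠ 0} :=
    { smul := fun x v => ⟨⟨((x : H) : V ≃ₗ[ZMod p] V) (v : E), hMinv x x.2 _ (v : E).2⟩, fun h => by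
        have h1 : ((x : H) : V ≃ₗ[ZMod p] V) ((v : E) : V) = 0 := congrArg Subtype.val h
        have h3 : ((v : E) : V) = 0 := by simpa using h1
        exact v.2 (Subtype.ext h3)⟩
      one_smul := fun v => Subtype.ext (Subtype.ext rfl)
      mul_smul := fun a b v => Subtype.ext (Subtype.ext rfl) }
  have hdvd := Cfsg.Agent.Lib.DicksonStruct.card_dvd_of_free (G := M) (X := {v : E // v ≠ 0}) (by
    rintro ⟨⟨v, hv⟩, hv0⟩ x hx
    have h1 : ((x : H) : V ≃ₗ[ZMod p] V) v = v := congrArg (fun y : {v : E // v ≠ 0} => ((y : E) : V)) hx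
    have h3 : v ≠ 0 := fun h => hv0 (Subtype.ext h)
    exact Subtype.ext (hreg.fpf _ h3 h1))
  have hcardX : Nat.card {v : E // v ≠ 0} = Nat.card E - 1 := by
    have := Fintype.ofFinite E
    rw [Nat.card_eq_fintype_card, Nat.card_eq_fintype_card, Fintype.card_subtype_compl,
      Fintype.card_subtype_eq]
  rw [hcardX] at hdvd
  set N := Nat.card E with hN
  set m := Nat.card M with hm
  have hNp : ∃ d : ℕ, N = p ^ d := by
    refine ⟨Module.finrank (ZMod p) E, ?_⟩
    rw [hN, Module.natCard_eq_pow_finrank (K := ZMod p), Nat.card_zmod]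
  -- the product decomposition
  have hcomm' : ∀ (a : S) (b : M), Commute (S.subtype a) (M.subtype b) := fun a b => hcomm a a.2 b b.2
  let π : S × M →* H := MonoidHom.noncommCoprod S.subtype M.subtype hcomm'
  have hπ : ∀ a b, π (a, b) = (a : H) * (b : H) := fun a b => rfl
  have hπinj : Function.Injective π := by
    rintro ⟨a, b⟩ ⟨c, d⟩ h
    rw [hπ, hπ] at h
    have h1 : (c : H)⁻¹ * a = d * (b : H)⁻¹ := by
      rw [inv_mul_eq_iff_eq_mul, ← mul_assoc, eq_mul_inv_iff_mul_eq]
      exact h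
    have h3 : (c : H)⁻¹ * a ∈ S ⊓ M := by
      refine Subgroup.mem_inf.mpr ⟨S.mul_mem (S.inv_mem c.2) a.2, ?_⟩
      rw [h1]
      exact M.mul_mem d.2 (M.inv_mem b.2)
    rw [hinf] at h3
    have h4 : (c : H)⁻¹ * a = 1 := Subgroup.mem_bot.mp h3
    have h5 : (a : H) = c := (inv_mul_eq_one.mp h4).symm
    have h6 : a = c := Subtype.ext h5
    subst h6
    have h7 : (b : H) = d := mul_left_cancel h
    rw [Subtype.ext h7]
  have hπr : π.range = G₀ := by
    rw [← hSM]
    apply le_antisymm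
    · rintro _ ⟨⟨a, b⟩, rfl⟩
      rw [hπ]
      exact mul_mem ((le_sup_left : S ≤ _) a.2) ((le_sup_right : M ≤ _) b.2)
    · apply sup_le
      · intro a ha
        exact ⟨(⟨a, ha⟩, 1), by rw [hπ]; simp⟩
      · intro b hb
        exact ⟨(1, ⟨b, hb⟩), by rw [hπ]; simp⟩
  have hcG₀ : Nat.card G₀ = 120 * m := by
    rw [← hπr, ← Nat.card_congr (MonoidHom.ofInjective hπinj).toEquiv, Nat.card_prod, Nat.card_congr e.toEquiv, SL5_card]
  have hcH : Nat.card H + 1 = Nat.card V := hreg.card_add_one hV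
  have hcH' : Nat.card H = G₀.index * (120 * m) := by
    rw [← hcG₀, Subgroup.index_mul_card]
  have hVN : Nat.card V = N * N := hE
  have hmpos : 0 < m := Nat.card_pos
  have hNN : N * N = 1 + 120 * G₀.index * m := by
    rw [← hVN, ← hcH, hcH']
    ring
  have hN2 : 2 ≤ N := by
    by_contra hlt
    have hNpos : 0 < N := Nat.card_pos
    have h1 : N = 1 := by omega
    rw [h1] at hNN
    have : 0 < 120 * G₀.index * m := by
      have h3 : 0 < G₀.index := by rcases hidx with h | h <;> omega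
      positivity
    omega
  have hfin : ∀ q : ℕ, q.Prime → m = q → G₀.index = 1 → Nonempty (H ≃* Γ × Multiplicative (ZMod q)) := by
    intro q hq hmq h1
    haveI : Fact q.Prime := ⟨hq⟩
    have htop : G₀ = ⊤ := Subgroup.index_eq_one.mp h1
    have hbij : Function.Bijective π := by
      refine ⟨hπinj, ?_⟩
      rw [← MonoidHom.range_eq_top, hπr, htop]
    let e₁ : S × M ≃* H := MulEquiv.ofBijective π hbij
    have hc1 : Nat.card M = q := hmq
    have hc2 : Nat.card (Multiplicative (ZMod q)) = q := by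
      rw [Nat.card_congr (Multiplicative.toAdd (α := ZMod q)), Nat.card_zmod]
    let e₂ : M ≃* Multiplicative (ZMod q) := mulEquivOfPrimeCardEq hc1 hc2
    exact ⟨e₁.symm.trans (MulEquiv.prodCongr e e₂)⟩
  rcases arith hNN hidx hdvd hcop hN2 hmpos with ⟨a, b, c⟩ | ⟨a, b, c⟩ | ⟨a, b, c⟩ | ⟨a, b, c⟩
  · left
    refine ⟨by rw [hVN, a], ?_⟩
    have htop : G₀ = ⊤ := Subgroup.index_eq_one.mp b
    have hbij : Function.Bijective π := by
      refine ⟨hπinj, ?_⟩
      rw [← MonoidHom.range_eq_top, hπr, htop]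
    let e₁ : S × M ≃* H := MulEquiv.ofBijective π hbij
    haveI : Unique M := by
      have := (Nat.card_eq_one_iff_unique.mp c)
      exact @Unique.mk' _ ⟨1⟩ this.1
    exact ⟨e₁.symm.trans (MulEquiv.prodUnique.trans e)⟩
  · right; left
    exact ⟨by rw [hVN, a], hfin 7 (by norm_num) c b⟩
  · right; right
    exact ⟨by rw [hVN, a], hfin 29 (by norm_num) c b⟩
  · exfalso
    obtain ⟨d, hd⟩ := hNp
    rw [a] at hd
    exact not_119 (d := d) (Fact.out) hd.symm

end Cfsg.Agent.Lib.ZInsol
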